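import Mathlib.GroupTheory.GroupAction.Jordan
import Mathlib.GroupTheory.Perm.Subgroup
import Mathlib.GroupTheory.Sylow

/-!
Basic facts about permutation actions: centralizers of transitive groups, normal subgroups.
-/

open MulAction

namespace Cfsg.Agent.Lib.Perm

variable {α : Type*}

/-- A permutation commuting with a transitive group and fixing a point is trivial. -/
theorem eq_one_of_mem_centralizer_of_fixed {G : Subgroup (Equiv.Perm α)} [IsPretransitive G α]
    {c : Equiv.Perm α} (hc : c ∈ Subgroup.centralizer (G : Set (Equiv.Perm α))) {a : α}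
    (ha : c a = a) : c = 1 := by
  ext x
  obtain ⟨g, hg⟩ := exists_smul_eq G a x
  have h := hc (g : Equiv.Perm α) g.2
  have h' : (g : Equiv.Perm α) (c a) = c ((g : Equiv.Perm α) a) := by
    rw [← Equiv.Perm.mul_apply, h, Equiv.Perm.mul_apply]
  rw [ha] at h'
  change c x = x
  have hgx : (g : Equiv.Perm α) a = x := hg
  rw [← hgx, ← h']

/-- A non-trivial normal subgroup of a primitive permutation group is transitive. -/
theorem isPretransitive_of_normal {G : Type*} [Group G] [MulAction G α] [FaithfulSMul G α]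
    [IsPreprimitive G α] (N : Subgroup G) [N.Normal] (hN : N ≠ ⊥) : IsPretransitive N α := by
  apply IsQuasiPreprimitive.isPretransitive_of_normal
  intro h
  apply hN
  rw [Subgroup.eq_bot_iff_forall]
  intro n hn
  apply eq_of_smul_eq_smul (α := α)
  intro x
  have : x ∈ fixedPoints N α := by rw [h]; exact Set.mem_univ x
  rw [one_smul]
  exact this ⟨n, hn⟩

/-- `2`-transitivity in terms of elements. -/
theorem exists_smul_eq_pair {G : Type*} [Group G] [MulAction G α]
    (h : IsMultiplyPretransitive G α 2) {a b c d : α} (hab : a ≠ b) (hcd : c ≠ d) :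
    ∃ g : G, g • a = c ∧ g • b = d := by
  rw [is_two_pretransitive_iff] at h
  exact h hab hcd

/-- The image in `Equiv.Perm α` of a transitive subgroup is transitive. -/
theorem isPretransitive_map_subtype {G : Subgroup (Equiv.Perm α)} (M : Subgroup G)
    (h : IsPretransitive M α) : IsPretransitive (M.map G.subtype : Subgroup (Equiv.Perm α)) α := by
  refine ⟨fun a b => ?_⟩
  obtain ⟨m, hm⟩ := h.exists_smul_eq a b
  exact ⟨⟨_, Subgroup.mem_map_of_mem G.subtype m.2⟩, hm⟩

/-- If the centralizer of a transitive subgroup meets `G` then its members have no fixed points. -/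
theorem stabilizer_eq_bot_of_commute {G : Subgroup (Equiv.Perm α)} (M N : Subgroup G)
    (hMt : IsPretransitive M α) (h : ∀ m ∈ M, ∀ n ∈ N, m * n = n * m) (a : α) :
    stabilizer N a = ⊥ := by
  rw [Subgroup.eq_bot_iff_forall]
  intro n hn
  haveI := isPretransitive_map_subtype M hMt
  have hc : ((n : G) : Equiv.Perm α) ∈
      Subgroup.centralizer ((M.map G.subtype : Subgroup (Equiv.Perm α)) : Set (Equiv.Perm α)) := by
    rintro _ ⟨m, hm, rfl⟩
    exact congrArg Subtype.val (h m hm n n.2)
  apply Subtype.ext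
  apply Subtype.ext
  exact eq_one_of_mem_centralizer_of_fixed hc hn

/-- Building up multiple transitivity from the pointwise stabilizer of a finite set. -/
theorem isMultiplyPretransitive_add {G : Type*} [Group G] [MulAction G α] {m r : ℕ}
    (hm : IsMultiplyPretransitive G α m) {s : Set α} [Finite s] (hs : s.ncard = m)
    (h : IsMultiplyPretransitive (fixingSubgroup G s) (SubMulAction.ofFixingSubgroup G s) r) :
    IsMultiplyPretransitive G α (m + r) := by
  refine ⟨fun x y => ?_⟩
  obtain ⟨e'⟩ : Nonempty (Fin m ≃ s) :=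
    Finite.card_eq.mp (by simp [Nat.card_coe_set_eq, hs])
  let e : Fin m ↪ α := ⟨fun i => (e' i : α), Subtype.val_injective.comp e'.injective⟩
  have key : ∀ x : Fin (m + r) ↪ α, ∃ g : G, (∀ i, g • x (Fin.castAdd r i) = e i) ∧
      ∀ j, g • x (Fin.natAdd m j) ∈ SubMulAction.ofFixingSubgroup G s := by
    intro x
    obtain ⟨g, hg⟩ := hm.exists_smul_eq ((Fin.castAddEmb r).trans x) e
    have hg' : ∀ i, g • x (Fin.castAdd r i) = e i := fun i => DFunLike.congr_fun hg i
    refine ⟨g, hg', fun j hj => ?_⟩
    obtain ⟨i, hi⟩ := e'.surjective ⟨_, hj⟩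
    have h1 : e i = g • x (Fin.natAdd m j) := congrArg Subtype.val hi
    rw [← hg' i, smul_left_cancel_iff, x.injective.eq_iff] at h1
    have h2 := congrArg Fin.val h1
    simp at h2
    omega
  obtain ⟨g₁, h₁, h₁'⟩ := key x
  obtain ⟨g₂, h₂, h₂'⟩ := key y
  let u : Fin r ↪ SubMulAction.ofFixingSubgroup G s :=
    ⟨fun j => ⟨_, h₁' j⟩, fun j k hjk => by
      simpa [smul_left_cancel_iff, Fin.ext_iff] using congrArg Subtype.val hjk⟩
  let v : Fin r ↪ SubMulAction.ofFixingSubgroup G s :=
    ⟨fun j => ⟨_, h₂' j⟩, fun j k hjk => by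
      simpa [smul_left_cancel_iff, Fin.ext_iff] using congrArg Subtype.val hjk⟩
  obtain ⟨k, hk⟩ := h.exists_smul_eq u v
  refine ⟨g₂⁻¹ * (k : G) * g₁, ?_⟩
  ext i
  change (g₂⁻¹ * (k : G) * g₁) • x i = y i
  rw [mul_smul, mul_smul, inv_smul_eq_iff]
  refine Fin.addCases (fun i => ?_) (fun j => ?_) i
  · rw [h₁, h₂]
    exact (mem_fixingSubgroup_iff G).mp k.2 (e i) (e' i).2
  · exact congrArg Subtype.val (DFunLike.congr_fun hk j)

end Cfsg.Agent.Lib.Perm
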