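import Cfsg.Prelude.Def_LieExceptional
import Cfsg.Agent.Lib.Perm.Basic
import Mathlib.GroupTheory.PGroup
import Mathlib.GroupTheory.Perm.Cycle.Type
import Mathlib.GroupTheory.GroupAction.ConjAct

/-!
Zassenhaus groups: the two-point stabiliser and the regular normal subgroup of a point stabiliser.
-/

open MulAction

namespace Cfsg.Agent.Lib.Perm

variable {G Ω : Type*} [Group G] [MulAction G Ω]

/-- The kernel is elementary abelian when the two-point stabilisers are large. -/
theorem kernel_elementary [Finite G] [Fintype Ω] (hZ : Cfsg.IsZassenhausGroup G Ω) {a b : Ω}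
    (hab : a ≠ b)
    (hd : Fintype.card Ω - 2 ≤ 2 * Nat.card ↥(stabilizer G a ⊓ stabilizer G b))
    (F : Subgroup G) (hFle : F ≤ stabilizer G a) (hFn : (F.subgroupOf (stabilizer G a)).Normal)
    (hreg : ∀ y z : Ω, y ≠ a → z ≠ a → ∃! u : F, (u : G) • y = z) :
    IsMulCommutative F ∧ ∃ p f : ℕ, p.Prime ∧ (∀ u ∈ F, u ^ p = 1) ∧ Fintype.card Ω = p ^ f + 1 := by
  classical
  obtain ⟨hfaith, h2, hthree, ⟨g₀, hg₀, x₀, y₀, hxy₀, hgx, hgy⟩, -⟩ := hZ
  haveI := hfaith
  set H := stabilizer G a ⊓ stabilizer G b with hH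
  have hba : b ≠ a := hab.symm
  let ψ : F → {z : Ω // z ≠ a} := fun u => ⟨(u : G) • b, fun h => hba (by
    have : (u : G) • a = a := hFle u.2
    exact smul_left_cancel (u : G) (h.trans this.symm))⟩
  have hψ : Function.Bijective ψ := by
    constructor
    · intro u v huv
      obtain ⟨w, -, hw⟩ := hreg b ((v : G) • b) hba (ψ v).2
      exact (hw u (congrArg Subtype.val huv)).trans (hw v rfl).symm
    · rintro ⟨z, hz⟩
      obtain ⟨u, hu, -⟩ := hreg b z hba hz
      exact ⟨u, Subtype.ext hu⟩
  set n := Nat.card F with hn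
  have hΩ : Fintype.card Ω = n + 1 := by
    rw [hn, Nat.card_congr (Equiv.ofBijective ψ hψ), Nat.card_eq_fintype_card,
      Fintype.card_subtype_compl, Fintype.card_subtype_eq]
    have : 0 < Fintype.card Ω := Fintype.card_pos_iff.mpr ⟨a⟩
    omega
  haveI : Nontrivial F := by
    obtain ⟨z, hz⟩ : ∃ z, z ∉ ({a, b} : Finset Ω) := by
      by_contra hh
      push Not at hh
      apply hg₀
      apply eq_of_smul_eq_smul (α := Ω)
      intro w
      rw [one_smul]
      have hx := hh x₀
      have hy := hh y₀
      have hw := hh w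
      simp only [Finset.mem_insert, Finset.mem_singleton] at hx hy hw
      by_cases hwx : w = x₀
      · rw [hwx, hgx]
      · by_cases hwy : w = y₀
        · rw [hwy, hgy]
        · rcases hx with rfl | rfl <;> rcases hy with rfl | rfl <;> rcases hw with rfl | rfl <;> simp_all
    simp only [Finset.mem_insert, Finset.mem_singleton, not_or] at hz
    obtain ⟨u, hu, -⟩ := hreg b z hba hz.1
    exact ⟨⟨u, 1, fun h => hz.2 (by rw [← hu, h, Subgroup.coe_one, one_smul])⟩⟩
  have hconj : ∀ h : H, ∀ u ∈ F, (h : G) * u * (h : G)⁻¹ ∈ F := by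
    intro h u hu
    have := hFn.conj_mem ⟨u, hFle hu⟩ (Subgroup.mem_subgroupOf.mpr hu)
      ⟨(h : G), (Subgroup.mem_inf.mp h.2).1⟩
    exact Subgroup.mem_subgroupOf.mp this
  have hsemi : ∀ h : H, ∀ u ∈ F, u ≠ 1 → (h : G) * u * (h : G)⁻¹ = u → h = 1 := by
    intro h u hu hu1 hc
    obtain ⟨ha', hb'⟩ := Subgroup.mem_inf.mp h.2
    have hua : u • b ≠ a := (ψ ⟨u, hu⟩).2
    have hub : b ≠ u • b := by
      intro he
      obtain ⟨w, -, hw⟩ := hreg b b hba hba
      have h1 := (hw ⟨u, hu⟩ he.symm).trans (hw 1 (one_smul G b)).symm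
      exact hu1 (congrArg Subtype.val h1)
    have hfix : (h : G) • u • b = u • b := by
      rw [← mul_smul, mul_inv_eq_iff_eq_mul.mp hc, mul_smul]
      congr 1
    exact Subtype.ext (hthree _ a b (u • b) hab hub hua.symm ha' hb' hfix)
  set d := Nat.card H with hd'
  have hdn : n - 1 ≤ 2 * d := by omega
  -- an invariant subgroup is trivial or the whole of `F`
  haveI : Fintype F := Fintype.ofFinite F
  haveI : Fintype H := Fintype.ofFinite H
  let cls : F → Finset F := fun u => Finset.univ.filter fun v =>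
    ∃ h : H, (h : G) * (u : G) * (h : G)⁻¹ = (v : G)
  have hcls : ∀ u : F, u ≠ 1 → (cls u).card = d := by
    intro u hu
    rw [hd', Nat.card_eq_fintype_card, ← Finset.card_univ]
    symm
    refine Finset.card_bij (fun h _ => ⟨_, hconj h u u.2⟩) ?_ ?_ ?_
    · intro h _
      exact Finset.mem_filter.mpr ⟨Finset.mem_univ _, h, rfl⟩
    · intro h₁ _ h₂ _ he
      have he' : (h₁ : G) * u * (h₁ : G)⁻¹ = (h₂ : G) * u * (h₂ : G)⁻¹ := congrArg Subtype.val he
      have : (h₂⁻¹ * h₁ : H) = 1 := hsemi _ u u.2 (fun e => hu (Subtype.ext e)) (by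
        rw [Subgroup.coe_mul, Subgroup.coe_inv]
        calc (h₂ : G)⁻¹ * h₁ * u * ((h₂ : G)⁻¹ * h₁)⁻¹
            = (h₂ : G)⁻¹ * ((h₁ : G) * u * (h₁ : G)⁻¹) * h₂ := by group
          _ = u := by rw [he']; group)
      exact (inv_mul_eq_one.mp this).symm
    · intro v hv
      obtain ⟨h, hh⟩ := (Finset.mem_filter.mp hv).2
      exact ⟨h, Finset.mem_univ _, Subtype.ext hh⟩
  have hinv : ∀ K : Subgroup F, (∀ h : H, ∀ u : F, u ∈ K → (⟨_, hconj h u u.2⟩ : F) ∈ K) →
      ∀ u : F, u ∈ K → u ≠ 1 → K = ⊤ := by
    intro K hK u huK hu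
    rw [← Subgroup.card_eq_iff_eq_top]
    have h1 : cls u ⊆ (Finset.univ.filter fun v => v ∈ K).erase 1 := by
      intro v hv
      obtain ⟨h, hh⟩ := (Finset.mem_filter.mp hv).2
      have : v = ⟨_, hconj h u u.2⟩ := Subtype.ext hh.symm
      refine Finset.mem_erase.mpr ⟨fun e => hu ?_, Finset.mem_filter.mpr ⟨Finset.mem_univ _, this ▸ hK h u huK⟩⟩
      have he := congrArg Subtype.val e
      rw [this] at he
      change (h : G) * u * (h : G)⁻¹ = 1 at he
      rw [mul_inv_eq_one, mul_eq_left] at he
      exact Subtype.ext he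
    have h2 := Finset.card_le_card h1
    rw [hcls u hu, Finset.card_erase_of_mem (by simp), ← Fintype.card_subtype] at h2
    rw [← Nat.card_eq_fintype_card] at h2
    obtain ⟨c, hc⟩ := Subgroup.card_subgroup_dvd_card K
    have hKpos : 0 < Nat.card K := Nat.card_pos
    have hFpos : 0 < Nat.card F := Nat.card_pos
    have hdpos : 0 < d := Nat.card_pos
    by_contra hne
    have hne' : Nat.card K ≠ Nat.card F := hne
    rw [← hn] at hc hne'
    have hc2 : 2 ≤ c := by
      rcases c with _ | _ | c
      · omega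
      · omega
      · omega
    have hc3 : Nat.card K * 2 ≤ n := hc ▸ Nat.mul_le_mul_left _ hc2
    omega
  -- all elements have prime order
  obtain ⟨p, hp, hpn⟩ := Nat.exists_prime_and_dvd (n := n) (Finite.one_lt_card (α := F)).ne'
  haveI := Fact.mk hp
  obtain ⟨x, hx⟩ := exists_prime_orderOf_dvd_card' p hpn
  have hx1 : x ≠ 1 := fun e => by rw [e, orderOf_one] at hx; exact hp.one_lt.ne hx
  have hordconj : ∀ (u v : F), v ∈ cls u → orderOf v = orderOf u := by
    intro u v hv
    obtain ⟨h, hh⟩ := (Finset.mem_filter.mp hv).2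
    rw [← Subgroup.orderOf_coe v, ← hh, ← Subgroup.orderOf_coe u]
    exact (MulAut.conj (h : G)).orderOf_eq (u : G)
  have hpg : IsPGroup p F := by
    by_contra hnp
    obtain ⟨q, hq, hqn, hqp⟩ : ∃ q, q.Prime ∧ q ∣ n ∧ q ≠ p := by
      by_contra hh
      push Not at hh
      exact hnp (IsPGroup.of_card (n := n.primeFactorsList.length)
        ((Nat.eq_prime_pow_of_unique_prime_dvd Nat.card_pos.ne' fun {q} hq hqn => hh q hq hqn)))
    haveI := Fact.mk hq
    obtain ⟨y, hy⟩ := exists_prime_orderOf_dvd_card' q hqn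
    have hy1 : y ≠ 1 := fun e => by rw [e, orderOf_one] at hy; exact hq.one_lt.ne hy
    have hdisj : Disjoint (cls x) (cls y) := by
      rw [Finset.disjoint_left]
      intro v hv hv'
      exact hqp ((hy.symm.trans ((hordconj y v hv').symm.trans (hordconj x v hv))).trans hx)
    have hsub : cls x ∪ cls y ⊆ (Finset.univ : Finset F).erase 1 := by
      intro v hv
      refine Finset.mem_erase.mpr ⟨fun e => ?_, Finset.mem_univ _⟩
      subst e
      rcases Finset.mem_union.mp hv with hv | hv <;> have := hordconj _ _ hv <;>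
        rw [orderOf_one] at this
      · exact hp.one_lt.ne (this.trans hx)
      · exact hq.one_lt.ne (this.trans hy)
    have hunion : cls x ∪ cls y = (Finset.univ : Finset F).erase 1 := by
      refine Finset.eq_of_subset_of_card_le hsub ?_
      rw [Finset.card_union_of_disjoint hdisj, hcls x hx1, hcls y hy1,
        Finset.card_erase_of_mem (Finset.mem_univ _), Finset.card_univ, ← Nat.card_eq_fintype_card, ← hn]
      omega
    have hn2d : n = 2 * d + 1 := by
      have h1 := congrArg Finset.card hunion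
      rw [Finset.card_union_of_disjoint hdisj, hcls x hx1, hcls y hy1,
        Finset.card_erase_of_mem (Finset.mem_univ _), Finset.card_univ, ← Nat.card_eq_fintype_card, ← hn] at h1
      have : 0 < n := Nat.card_pos
      omega
    have hord : ∀ v : F, v ≠ 1 → orderOf v = p ∨ orderOf v = q := by
      intro v hv
      have hm : v ∈ cls x ∪ cls y := hunion ▸ Finset.mem_erase.mpr ⟨hv, Finset.mem_univ _⟩
      rcases Finset.mem_union.mp hm with h | h
      · exact Or.inl ((hordconj x v h).trans hx)
      · exact Or.inr ((hordconj y v h).trans hy)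
    -- the `F`-classes inside the `H`-orbit of `x` all have `[F : C(x)]` elements
    have hclassdvd : Nat.card (MulAction.orbit (ConjAct F) x) ∣ d := by
      rw [← hcls x hx1, Finset.card_eq_sum_card_image (fun v => (Quotient.mk'' v :
        MulAction.orbitRel.Quotient (ConjAct F) F)) (cls x)]
      refine Finset.dvd_sum fun c hc => ?_
      obtain ⟨v, hv, rfl⟩ := Finset.mem_image.mp hc
      apply dvd_of_eq
      obtain ⟨h, hh⟩ := (Finset.mem_filter.mp hv).2
      let e : F ≃* F :=
        { toFun := fun u => ⟨_, hconj h u u.2⟩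
          invFun := fun u => ⟨_, hconj h⁻¹ u u.2⟩
          left_inv := fun u => Subtype.ext (by simp [mul_assoc])
          right_inv := fun u => Subtype.ext (by simp [mul_assoc])
          map_mul' := fun u w => Subtype.ext (by simp [mul_assoc]) }
      have hev : e x = v := Subtype.ext hh
      have hblock : (cls x).filter (fun w => (Quotient.mk'' w : MulAction.orbitRel.Quotient (ConjAct F) F) =
          Quotient.mk'' v) = Finset.univ.filter fun w => w ∈ MulAction.orbit (ConjAct F) v := by
        ext w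
        simp only [Finset.mem_filter, Quotient.eq'', Finset.mem_univ, true_and]
        refine ⟨fun hw => hw.2, fun hw => ⟨?_, hw⟩⟩
        obtain ⟨c, rfl⟩ := hw
        have hmem : c • v ∈ cls x ∪ cls y := by
          rw [hunion]
          refine Finset.mem_erase.mpr ⟨fun e' => ?_, Finset.mem_univ _⟩
          have hv1 : v = 1 := by
            have h0 := congrArg (c⁻¹ • ·) e'
            simp only [inv_smul_smul, smul_one] at h0
            exact h0
          exact hx1 (e.injective (hev.trans (hv1.trans (map_one e).symm)))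
        rcases Finset.mem_union.mp hmem with h' | h'
        · exact h'
        · exfalso
          have h1 : orderOf (c • v) = orderOf v := (MulDistribMulAction.toMulEquiv F c).orderOf_eq v
          exact hqp ((hy.symm.trans ((hordconj y _ h').symm.trans (h1.trans (hordconj x v hv)))).trans hx)
      rw [hblock, ← hev, ← Fintype.card_subtype, ← Nat.card_eq_fintype_card]
      refine Nat.card_congr
        { toFun := fun w => ⟨e w.1, ?_⟩
          invFun := fun w => ⟨e.symm w.1, ?_⟩
          left_inv := fun w => Subtype.ext (e.symm_apply_apply _)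
          right_inv := fun w => Subtype.ext (e.apply_symm_apply _) }
      · obtain ⟨c, hc⟩ := w.2
        refine ⟨ConjAct.toConjAct (e (ConjAct.ofConjAct c)), ?_⟩
        rw [← hc]
        simp only [ConjAct.smul_def, ConjAct.ofConjAct_toConjAct, map_mul, map_inv]
      · obtain ⟨c, hc⟩ := w.2
        refine ⟨ConjAct.toConjAct (e.symm (ConjAct.ofConjAct c)), ?_⟩
        rw [← hc]
        simp only [ConjAct.smul_def, ConjAct.ofConjAct_toConjAct, map_mul, map_inv,
          MulEquiv.symm_apply_apply]
    have hclassn : Nat.card (MulAction.orbit (ConjAct F) x) ∣ n := by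
      rw [Nat.card_coe_set_eq, ← MulAction.index_stabilizer]
      exact Subgroup.index_dvd_card _
    have hcop : Nat.Coprime d n := by
      rw [hn2d, Nat.coprime_mul_right_add_right]
      exact Nat.coprime_one_right d
    have h1 : Nat.card (MulAction.orbit (ConjAct F) x) = 1 :=
      Nat.eq_one_of_dvd_coprimes hcop hclassdvd hclassn
    have hcomm : x * y = y * x := by
      rw [Nat.card_eq_one_iff_unique] at h1
      have hs := congrArg Subtype.val (h1.1.elim
        ⟨ConjAct.toConjAct y • x, ⟨_, rfl⟩⟩ ⟨x, MulAction.mem_orbit_self x⟩)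
      simp only [ConjAct.smul_def, ConjAct.ofConjAct_toConjAct] at hs
      exact (mul_inv_eq_iff_eq_mul.mp hs).symm
    have hxy : orderOf (x * y) = p * q := by
      rw [(Commute.orderOf_mul_eq_mul_orderOf_of_coprime hcomm), hx, hy]
      rw [hx, hy]
      exact (Nat.coprime_primes hp hq).mpr hqp.symm
    have hxy1 : x * y ≠ 1 := fun e => by
      rw [e, orderOf_one] at hxy
      exact absurd (Nat.dvd_one.mp (Dvd.intro _ hxy.symm)) hp.one_lt.ne'
    rcases hord _ hxy1 with h | h <;> rw [hxy] at h
    · exact hq.one_lt.ne' (Nat.eq_of_mul_eq_mul_left hp.pos (by rw [h, mul_one]))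
    · exact hp.one_lt.ne' (Nat.eq_of_mul_eq_mul_right hq.pos (by rw [h, one_mul]))
  obtain ⟨f, hf⟩ := IsPGroup.iff_card.mp hpg
  haveI := hpg.center_nontrivial
  obtain ⟨⟨z, hz⟩, hz1⟩ := exists_ne (1 : Subgroup.center F)
  have hcenter : Subgroup.center F = ⊤ := by
    refine hinv _ (fun h u hu => ?_) z hz (fun e => hz1 (Subtype.ext e))
    rw [Subgroup.mem_center_iff] at hu ⊢
    intro w
    have h1 := congrArg Subtype.val (hu ⟨_, hconj h⁻¹ w w.2⟩)
    simp only [Subgroup.coe_mul, Subgroup.coe_inv, inv_inv] at h1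
    apply Subtype.ext
    change (w : G) * ((h : G) * u * (h : G)⁻¹) = (h : G) * u * (h : G)⁻¹ * w
    calc (w : G) * ((h : G) * u * (h : G)⁻¹)
        = (h : G) * (((h : G)⁻¹ * w * h) * u) * (h : G)⁻¹ := by group
      _ = (h : G) * ((u : G) * ((h : G)⁻¹ * w * h)) * (h : G)⁻¹ := by rw [h1]
      _ = _ := by group
  have hcomm : ∀ u v : F, u * v = v * u := fun u v => by
    have : v ∈ Subgroup.center F := hcenter ▸ Subgroup.mem_top v
    exact Subgroup.mem_center_iff.mp this u
  refine ⟨⟨⟨hcomm⟩⟩, p, f, hp, fun u hu => ?_, by rw [hΩ, hn, hf]⟩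
  let K : Subgroup F :=
    { carrier := {u | u ^ p = 1}
      one_mem' := one_pow p
      mul_mem' := fun {s t} hs ht => by
        change (s * t) ^ p = 1
        rw [(show Commute s t from hcomm s t).mul_pow, hs, ht, one_mul]
      inv_mem' := fun {s} hs => by
        change s⁻¹ ^ p = 1
        rw [inv_pow, hs, inv_one] }
  have hK : K = ⊤ := by
    refine hinv K (fun h u hu => ?_) x (by change x ^ p = 1; rw [← hx]; exact pow_orderOf_eq_one x) hx1
    have hu' : (u : G) ^ p = 1 := by
      have := congrArg Subtype.val (show u ^ p = 1 from hu)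
      simpa using this
    apply Subtype.ext
    change ((h : G) * u * (h : G)⁻¹) ^ p = 1
    rw [conj_pow, hu', mul_one, mul_inv_cancel]
  have : (⟨u, hu⟩ : F) ∈ K := hK ▸ Subgroup.mem_top _
  exact congrArg Subtype.val this

end Cfsg.Agent.Lib.Perm
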