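import Cfsg.Agent.Lib.Perm.PrimeTriple
import Mathlib.GroupTheory.GroupAction.Jordan

/-!
Jordan's theorem on primitive groups containing a cycle of prime length.
-/

open MulAction Equiv.Perm

namespace Cfsg.Agent.Lib.Perm

variable {α : Type*} [Fintype α] [DecidableEq α]

theorem exists_normalizing {G : Subgroup (Equiv.Perm α)} {p : ℕ} (hp : p.Prime) {g : Equiv.Perm α}
    (hgc : g.IsCycle) (hgp : g.support.card = p) (hg : g ∈ G)
    (htr : IsMultiplyPretransitive G α (Fintype.card α - p)) (σ : Equiv.Perm α)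
    (hσ : ∀ w, g w = w → g (σ w) = σ w) :
    ∃ a ∈ G, (∃ i : ℤ, a * g * a⁻¹ = g ^ i) ∧ ∀ w, g w = w → a w = σ w := by
  classical
  haveI := Fact.mk hp
  have hcard : (g.supportᶜ).card = Fintype.card α - p := by rw [Finset.card_compl, hgp]
  let e : Fin (Fintype.card α - p) ↪ α :=
    ((Finset.equivFinOfCardEq hcard).symm.toEmbedding).trans (Function.Embedding.subtype _)
  obtain ⟨⟨h, hhG⟩, hh⟩ := htr.exists_smul_eq e (e.trans σ.toEmbedding)
  have hh' : ∀ w, g w = w → h w = σ w := by
    intro w hw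
    obtain ⟨i, hi⟩ : ∃ i, e i = w :=
      ⟨Finset.equivFinOfCardEq hcard ⟨w, by simp [hw]⟩, by simp [e]⟩
    rw [← hi]
    exact DFunLike.congr_fun hh i
  let K : Subgroup (Equiv.Perm α) :=
    { carrier := {k | k ∈ G ∧ ∀ w, g w = w → k w = w}
      one_mem' := ⟨G.one_mem, fun _ _ => rfl⟩
      mul_mem' := fun {s t} hs ht => ⟨G.mul_mem hs.1 ht.1, fun w hw => by
        rw [mul_apply, ht.2 w hw, hs.2 w hw]⟩
      inv_mem' := fun {s} hs => ⟨G.inv_mem hs.1, fun w hw => by
        conv_lhs => rw [← hs.2 w hw]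
        exact s.symm_apply_apply w⟩ }
  have hgK : g ∈ K := ⟨hg, fun _ hw => hw⟩
  have hhK : h * g * h⁻¹ ∈ K := by
    refine ⟨G.mul_mem (G.mul_mem hhG hg) (G.inv_mem hhG), fun w hw => ?_⟩
    -- `h` permutes the fixed points of `g`
    have hmaps : ∀ v, g v = v → g (h v) = h v := fun v hv => by rw [hh' v hv]; exact hσ v hv
    have himg : (g.supportᶜ).image h = g.supportᶜ := by
      refine Finset.eq_of_subset_of_card_le (fun u hu => ?_) ?_
      · obtain ⟨v, hv, rfl⟩ := Finset.mem_image.mp hu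
        simp only [Finset.mem_compl, notMem_support] at hv ⊢
        exact hmaps v hv
      · rw [Finset.card_image_of_injective _ h.injective]
    obtain ⟨v, hv, hvw⟩ := Finset.mem_image.mp
      (himg.symm ▸ (by simp [hw] : w ∈ g.supportᶜ))
    simp only [Finset.mem_compl, notMem_support] at hv
    rw [← hvw]
    simp [mul_apply, hv]
  have hKdvd : Nat.card K ∣ p.factorial := by
    let φ : K →* Equiv.Perm {x // x ∈ g.support} :=
      { toFun := fun k => Equiv.Perm.subtypePerm (k : Equiv.Perm α) (fun x => by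
          simp only [mem_support]
          refine ⟨fun hne hgx => hne ?_, fun hne hgx => ?_⟩
          · rw [k.2.2 x hgx]; exact hgx
          · have := k.1.injective (k.2.2 _ hgx)
            rw [this] at hgx
            exact hne hgx)
        map_one' := by ext; rfl
        map_mul' := fun _ _ => by ext; rfl }
    have hinj : Function.Injective φ := by
      intro k l hkl
      apply Subtype.ext
      ext x
      by_cases hx : g x = x
      · rw [k.2.2 x hx, l.2.2 x hx]
      · exact congrArg Subtype.val (DFunLike.congr_fun hkl ⟨x, mem_support.mpr hx⟩)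
    have := Subgroup.card_dvd_of_injective φ hinj
    rwa [Nat.card_perm, Nat.card_eq_fintype_card (α := {x // x ∈ g.support}), Fintype.card_coe,
      hgp] at this
  have hgord : orderOf g = p := by rw [hgc.orderOf, hgp]
  let g₁ : K := ⟨g, hgK⟩
  let g₂ : K := ⟨h * g * h⁻¹, hhK⟩
  have hg₁ : orderOf g₁ = p := by rw [← Subgroup.orderOf_coe]; exact hgord
  have hg₂ : orderOf g₂ = p := by
    rw [← Subgroup.orderOf_coe]
    exact ((MulAut.conj h).orderOf_eq g).trans hgord
  have hfac : (Nat.card K).factorization p = 1 := by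
    refine le_antisymm ?_ ?_
    · by_contra hlt
      push Not at hlt
      exact not_sq_dvd_factorial (p := p) (((hp.pow_dvd_iff_le_factorization Nat.card_pos.ne').mpr hlt).trans hKdvd)
    · exact hp.factorization_pos_of_dvd Nat.card_pos.ne' (hg₁ ▸ orderOf_dvd_natCard g₁)
  let P₁ : Sylow p K := Sylow.ofCard (Subgroup.zpowers g₁) (by rw [Nat.card_zpowers, hg₁, hfac, pow_one])
  let P₂ : Sylow p K := Sylow.ofCard (Subgroup.zpowers g₂) (by rw [Nat.card_zpowers, hg₂, hfac, pow_one])
  obtain ⟨k, hk⟩ := MulAction.exists_smul_eq K P₂ P₁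
  have hmem : k * g₂ * k⁻¹ ∈ Subgroup.zpowers g₁ := by
    have : k * g₂ * k⁻¹ ∈ ((k • P₂ : Sylow p K) : Subgroup K) := by
      rw [Sylow.smul_def]
      exact Subgroup.smul_mem_pointwise_smul g₂ (MulAut.conj k) _
        (by simp [P₂, Subgroup.mem_zpowers g₂])
    rw [hk] at this
    simpa [P₁] using this
  obtain ⟨i, hi⟩ := Subgroup.mem_zpowers_iff.mp hmem
  refine ⟨(k : Equiv.Perm α) * h, G.mul_mem k.2.1 hhG, ⟨i, ?_⟩, fun w hw => ?_⟩
  · have h1 := congrArg Subtype.val hi
    simp only [SubgroupClass.coe_zpow, Subgroup.coe_mul, Subgroup.coe_inv, g₁, g₂] at h1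
    rw [h1]
    group
  · rw [mul_apply, hh' w hw, k.2.2 _ (hσ w hw)]

theorem alternatingGroup_le_of_prime_cycle (G : Subgroup (Equiv.Perm α))
    (hG : IsPreprimitive G α) {p : ℕ} (hp : p.Prime) (hpn : p + 3 ≤ Fintype.card α)
    {g : Equiv.Perm α} (hgc : g.IsCycle) (hgp : g.support.card = p) (hg : g ∈ G) :
    alternatingGroup α ≤ G := by
  classical
  obtain ⟨m, hm⟩ : ∃ m, Fintype.card α = p + (m + 3) := ⟨Fintype.card α - p - 3, by omega⟩
  have hsc : ((g.support : Set α)ᶜ).ncard = (m + 2) + 1 := by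
    rw [← Finset.coe_compl, Set.ncard_coe_finset, Finset.card_compl, hgp]
    omega
  have hp2 := hp.two_le
  have htr := isPretransitive_of_isCycle_mem hgc hg
  have hprim : IsPreprimitive (fixingSubgroup G (g.support : Set α)ᶜ)
      (SubMulAction.ofFixingSubgroup G (g.support : Set α)ᶜ) := by
    apply IsPreprimitive.of_prime_card
    convert! hp
    rw [Nat.card_eq_fintype_card, Fintype.card_subtype, ← hgp]
    apply congr_arg
    ext x
    simp [SubMulAction.mem_ofFixingSubgroup_iff]
  have hmp := hG.isMultiplyPreprimitive (n := m + 2) hsc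
    (by rw [Nat.card_eq_fintype_card]; omega) hprim
  have hmt : IsMultiplyPretransitive G α (Fintype.card α - p) := by
    haveI := hmp.isMultiplyPretransitive
    exact isMultiplyPretransitive_of_le' (n := m + 2 + 2) (by omega)
      (by rw [ENat.card_eq_coe_fintype_card]; exact_mod_cast (by omega : m + 2 + 2 ≤ Fintype.card α))
  obtain ⟨x, hx, y, hy, z, hz, hxy, hxz, hyz⟩ := Finset.two_lt_card.mp
    (show 2 < (g.supportᶜ).card by rw [Finset.card_compl, hgp]; omega)
  simp only [Finset.mem_compl, notMem_support] at hx hy hz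
  have hswap : ∀ u v, g u = u → g v = v → ∀ w, g w = w →
      g (Equiv.swap u v w) = Equiv.swap u v w := by
    intro u v hu hv w hw
    rcases eq_or_ne w u with rfl | h1
    · rw [Equiv.swap_apply_left]; exact hv
    rcases eq_or_ne w v with rfl | h2
    · rw [Equiv.swap_apply_right]; exact hu
    rw [Equiv.swap_apply_of_ne_of_ne h1 h2]; exact hw
  obtain ⟨a, haG, ⟨i, hai⟩, ha⟩ := exists_normalizing hp hgc hgp hg hmt _ (hswap x y hx hy)
  obtain ⟨b, hbG, ⟨j, hbj⟩, hb⟩ := exists_normalizing hp hgc hgp hg hmt _ (hswap y z hy hz)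
  have hinv : ∀ (c : Equiv.Perm α) (u v : α), g u = u → g v = v →
      (∀ w, g w = w → c w = Equiv.swap u v w) → ∀ w, g w = w → c⁻¹ w = Equiv.swap u v w := by
    intro c u v hu hv hc w hw
    rw [inv_eq_iff_eq, hc _ (hswap u v hu hv w hw), Equiv.swap_apply_self]
  set c := a⁻¹ * b⁻¹ * a * b with hc
  set d := Equiv.swap z x * Equiv.swap z y with hd
  have hcs : ∀ w, g w = w → c w = d w := by
    intro w hw
    have h1 := hswap y z hy hz w hw
    have h2 := hswap x y hx hy _ h1
    have h3 := hswap y z hy hz _ h2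
    rw [hc, mul_apply, mul_apply, mul_apply, hb w hw, ha _ h1, hinv b y z hy hz hb _ h2,
      hinv a x y hx hy ha _ h3]
    have : Equiv.swap x y * Equiv.swap y z * Equiv.swap x y * Equiv.swap y z = d := by
      rw [hd, Equiv.swap_comm x y, Equiv.swap_comm y z,
        Equiv.swap_mul_swap_mul_swap hyz.symm hxz.symm, Equiv.swap_comm x z]
    exact DFunLike.congr_fun this w
  have hcomm : Commute c g := by
    have h1 : ∀ n : ℤ, a * g ^ n * a⁻¹ = g ^ (i * n) := fun n => by
      rw [← conj_zpow, hai, ← zpow_mul]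
    have h2 : ∀ n : ℤ, b * g ^ n * b⁻¹ = g ^ (j * n) := fun n => by
      rw [← conj_zpow, hbj, ← zpow_mul]
    have h3 : (a * b) * g * (a * b)⁻¹ = (b * a) * g * (b * a)⁻¹ :=
      calc (a * b) * g * (a * b)⁻¹ = a * (b * g * b⁻¹) * a⁻¹ := by group
        _ = g ^ (j * i) := by rw [hbj, h1, mul_comm]
        _ = b * (a * g * a⁻¹) * b⁻¹ := by rw [hai, h2]
        _ = _ := by group
    calc c * g = (b * a)⁻¹ * ((a * b) * g * (a * b)⁻¹) * (a * b) := by rw [hc]; group
      _ = g * c := by rw [h3, hc]; group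
  obtain ⟨v, hv⟩ := Finset.card_pos.mp (show 0 < g.support.card by rw [hgp]; omega)
  have hcv : g (c v) ≠ c v := by
    intro h
    have : c (g v) = c v := (DFunLike.congr_fun hcomm.eq v).trans h
    exact mem_support.mp hv (c.injective this)
  obtain ⟨l, hl⟩ := hgc.sameCycle (mem_support.mp hv) hcv
  have hcsupp : ∀ w, g w ≠ w → c w = (g ^ l) w := by
    intro w hw
    obtain ⟨n, rfl⟩ := hgc.sameCycle (mem_support.mp hv) hw
    rw [← mul_apply, (hcomm.zpow_right n).eq, mul_apply, ← hl, ← mul_apply, ← mul_apply,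
      ← zpow_add, ← zpow_add, add_comm]
  have hfix : ∀ w, g w = w → (g ^ (-l)) w = w := fun w hw =>
    notMem_support.mp fun h => (mem_support.mp (support_zpow_le g _ h)) hw
  have heq : c * g ^ (-l) = d := by
    ext w
    rw [mul_apply]
    by_cases hw : g w = w
    · rw [hfix w hw, hcs w hw]
    · have hw' : g ((g ^ (-l)) w) ≠ (g ^ (-l)) w := by
        intro h
        apply hw
        rw [← mul_apply, ← zpow_one g, ← zpow_mul, ← zpow_add, add_comm, zpow_add] at h
        simpa using h
      rw [hcsupp _ hw', ← mul_apply, ← zpow_add, add_neg_cancel, zpow_zero, one_apply, hd,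
        mul_apply]
      have hne : ∀ u, g u = u → w ≠ u := fun u hu h => hw (h ▸ hu)
      rw [Equiv.swap_apply_of_ne_of_ne (hne z hz) (hne y hy),
        Equiv.swap_apply_of_ne_of_ne (hne z hz) (hne x hx)]
  have hdG : d ∈ G := heq ▸ G.mul_mem (G.mul_mem (G.mul_mem (G.mul_mem (G.inv_mem haG) (G.inv_mem hbG))
    haG) hbG) (G.zpow_mem hg _)
  exact alternatingGroup_le_of_isPreprimitive_of_isThreeCycle_mem hG
    (isThreeCycle_swap_mul_swap_same hxz.symm hyz.symm hxy) hdG

end Cfsg.Agent.Lib.Perm
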