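import Mathlib.Algebra.Polynomial.Taylor
import Mathlib.Algebra.Polynomial.Roots
import Mathlib.LinearAlgebra.FiniteDimensional.Lemmas
import Mathlib.RingTheory.Polynomial.Basic
import Mathlib.Algebra.CharP.Lemmas
import Mathlib.Algebra.Field.ZMod

/-!
Functions on `ZMod p` in characteristic `p`: translation invariant subspaces are the spaces of
polynomial functions of bounded degree.
-/

open Polynomial

namespace Cfsg.Agent.Lib.Perm

variable {p : ℕ} [hp : Fact p.Prime] {K : Type*} [Field K] [CharP K p]

/-- Evaluation of a polynomial at all elements of the prime field. -/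
noncomputable def evalPrime (p : ℕ) [CharP K p] : K[X] →ₗ[K] (ZMod p → K) where
  toFun P j := P.eval (ZMod.castHom (dvd_refl p) K j)
  map_add' P Q := by funext j; simp
  map_smul' c P := by funext j; simp

theorem evalPrime_apply (P : K[X]) (j : ZMod p) :
    evalPrime p P j = P.eval (ZMod.castHom (dvd_refl p) K j) := rfl

/-- The polynomial functions of degree less than `r`. -/
noncomputable def polyFun (p : ℕ) [CharP K p] (r : ℕ) : Submodule K (ZMod p → K) :=
  (degreeLT K r).map (evalPrime p)

theorem mem_polyFun {r : ℕ} {f : ZMod p → K} :
    f ∈ polyFun (K := K) p r ↔ ∃ P : K[X], P.degree < r ∧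
      ∀ j, f j = P.eval (ZMod.castHom (dvd_refl p) K j) := by
  simp only [polyFun, Submodule.mem_map, mem_degreeLT, funext_iff, evalPrime_apply]
  exact exists_congr fun P => and_congr_right fun _ => forall_congr' fun j => eq_comm

theorem eq_zero_of_evalPrime_eq_zero {P : K[X]} (hd : P.degree < p) (h : evalPrime p P = 0) :
    P = 0 := by
  refine eq_zero_of_natDegree_lt_card_of_eval_eq_zero P
    (ι := ZMod p) (f := ZMod.castHom (dvd_refl p) K)
    (ZMod.castHom (dvd_refl p) K).injective (fun j => congrFun h j) ?_
  rw [ZMod.card]
  rcases eq_or_ne P 0 with rfl | hP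
  · simpa using hp.out.pos
  · exact (natDegree_lt_iff_degree_lt hP).mpr hd

theorem finrank_polyFun {r : ℕ} (hr : r ≤ p) : Module.finrank K (polyFun (K := K) p r) = r := by
  have hinj : Function.Injective ((evalPrime (K := K) p).domRestrict (degreeLT K r)) := by
    rw [← LinearMap.ker_eq_bot, LinearMap.ker_eq_bot']
    rintro ⟨P, hP⟩ h
    exact Subtype.ext (eq_zero_of_evalPrime_eq_zero
      ((mem_degreeLT.mp hP).trans_le (by exact_mod_cast hr)) h)
  have h1 : Module.finrank K (degreeLT K r) = r := by
    rw [(degreeLTEquiv K r).finrank_eq, Module.finrank_fin_fun]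
  conv_rhs => rw [← h1]
  have h2 : polyFun (K := K) p r = LinearMap.range ((evalPrime (K := K) p).domRestrict (degreeLT K r)) := by
    rw [LinearMap.range_domRestrict]
    rfl
  rw [h2]
  exact (LinearEquiv.ofInjective _ hinj).symm.finrank_eq

theorem polyFun_top : polyFun (K := K) p p = ⊤ :=
  Submodule.eq_top_of_finrank_eq (by
    rw [finrank_polyFun le_rfl, Module.finrank_fintype_fun_eq_card, ZMod.card])

/-- The difference operator of the translation. -/
def diffOp (p : ℕ) (K : Type*) [Field K] : (ZMod p → K) →ₗ[K] (ZMod p → K) where
  toFun f j := f (j - 1) - f j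
  map_add' f g := by funext j; simp; ring
  map_smul' c f := by funext j; simp [mul_sub]

theorem diffOp_apply (f : ZMod p → K) (j : ZMod p) : diffOp p K f j = f (j - 1) - f j := rfl

theorem diffOp_pow_polyFun (r : ℕ) : ∀ f ∈ polyFun (K := K) p r, (diffOp p K ^ r) f = 0 := by
  induction r with
  | zero =>
    intro f hf
    obtain ⟨P, hP, hf⟩ := mem_polyFun.mp hf
    have : P = 0 := degree_eq_bot.mp (Nat.WithBot.lt_zero_iff.mp (by simpa using hP))
    funext j
    simp [hf, this]
  | succ r ih =>
    intro f hf
    rw [pow_succ, Module.End.mul_apply]
    apply ih
    obtain ⟨P, hP, hf⟩ := mem_polyFun.mp hf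
    refine mem_polyFun.mpr ⟨taylor (-1) P - P, ?_, fun j => ?_⟩
    · rcases eq_or_ne P 0 with rfl | hP0
      · simpa using WithBot.bot_lt_coe r
      · have hlt : (taylor (-1) P - P).degree < P.degree := by
          have hne : taylor (-1) P ≠ 0 := fun h => hP0 (taylor_injective (-1) (by simpa using h))
          have hd : (taylor (-1 : K) P).degree = P.degree := by
            rw [degree_eq_natDegree hne, degree_eq_natDegree hP0, natDegree_taylor]
          rw [← hd]
          exact degree_sub_lt_left hd hne (leadingCoeff_taylor ..)
        rw [degree_eq_natDegree hP0] at hP hlt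
        exact lt_of_lt_of_le hlt (by
          norm_cast at hP ⊢
          exact Nat.lt_succ_iff.mp hP)
    · rw [diffOp_apply, hf, hf, eval_sub, taylor_eval, map_sub, map_one, ← sub_eq_add_neg]

theorem finrank_ker_diffOp_pow (r : ℕ) :
    Module.finrank K (LinearMap.ker (diffOp p K ^ r)) ≤ r := by
  induction r with
  | zero => simp [LinearMap.ker_id, Module.End.one_eq_id]
  | succ r ih =>
    have h1 : Module.finrank K (LinearMap.ker (diffOp p K)) ≤ 1 := by
      have : LinearMap.ker (diffOp p K) ≤ Submodule.span K {fun _ => (1 : K)} := by
        intro f hf
        rw [LinearMap.mem_ker] at hf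
        have hc : ∀ n : ℕ, f (n : ZMod p) = f 0 := by
          intro n
          induction n with
          | zero => simp
          | succ n hn =>
            have h2 := congrFun hf ((n + 1 : ℕ) : ZMod p)
            rw [diffOp_apply, Pi.zero_apply, sub_eq_zero] at h2
            rw [← h2, ← hn]
            simp
        refine Submodule.mem_span_singleton.mpr ⟨f 0, funext fun j => ?_⟩
        rw [← ZMod.natCast_zmod_val j, hc]
        simp
      exact (Submodule.finrank_mono this).trans
        ((finrank_span_le_card _).trans (by simp))
    rw [pow_succ', Module.End.mul_eq_comp, LinearMap.ker_comp]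
    set D := diffOp p K ^ r with hD
    have h2 : Module.finrank K ((LinearMap.ker (diffOp p K)).comap D) ≤
        Module.finrank K (LinearMap.ker (diffOp p K)) + Module.finrank K (LinearMap.ker D) := by
      set S := (LinearMap.ker (diffOp p K)).comap D
      rw [← LinearMap.finrank_range_add_finrank_ker (D.domRestrict S)]
      apply Nat.add_le_add
      · apply Submodule.finrank_mono
        rintro _ ⟨⟨v, hv⟩, rfl⟩
        exact hv
      · refine LinearMap.finrank_le_finrank_of_injective
          (f := ((S.subtype).comp (LinearMap.ker (D.domRestrict S)).subtype).codRestrict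
            (LinearMap.ker D) (fun v => v.2)) ?_
        intro a b hab
        exact Subtype.ext (Subtype.ext (congrArg Subtype.val hab :))
    exact h2.trans (by omega)

/-- The translation invariant subspaces are the spaces of polynomial functions of bounded degree. -/
theorem eq_polyFun_of_translation_invariant (W : Submodule K (ZMod p → K))
    (hW : ∀ f ∈ W, (fun j => f (j - 1)) ∈ W) :
    W = polyFun p (Module.finrank K W) ∧ Module.finrank K W ≤ p := by
  have hr : Module.finrank K W ≤ p := by
    calc Module.finrank K W ≤ Module.finrank K (ZMod p → K) := Submodule.finrank_le W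
      _ = p := by rw [Module.finrank_fintype_fun_eq_card, ZMod.card]
  refine ⟨?_, hr⟩
  set r := Module.finrank K W
  set D := diffOp p K
  have hDW : ∀ f ∈ W, D f ∈ W := fun f hf => W.sub_mem (hW f hf) hf
  have hnil : ∀ f : ZMod p → K, (D ^ p) f = 0 := fun f =>
    diffOp_pow_polyFun p f (by rw [polyFun_top]; trivial)
  have hker : W ≤ LinearMap.ker (D ^ r) := by
    -- the dimensions of `W ⊓ ker D^i` increase strictly until they reach `W`
    have step : ∀ i, W ≤ LinearMap.ker (D ^ i) ∨
        i ≤ Module.finrank K (W ⊓ LinearMap.ker (D ^ i) : Submodule K (ZMod p → K)) := by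
      intro i
      induction i with
      | zero => exact Or.inr (Nat.zero_le _)
      | succ i ih =>
        rcases ih with h | h
        · left
          intro f hf
          have := h hf
          rw [LinearMap.mem_ker] at this ⊢
          rw [pow_succ', Module.End.mul_apply, this, map_zero]
        · by_cases hle : W ≤ LinearMap.ker (D ^ (i + 1))
          · exact Or.inl hle
          · right
            refine Nat.lt_of_le_of_lt h (Submodule.finrank_lt_finrank_of_lt
              (lt_of_le_of_ne (inf_le_inf_left W ?_) ?_))
            · intro f hf
              rw [LinearMap.mem_ker] at hf ⊢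
              rw [pow_succ', Module.End.mul_apply, hf, map_zero]
            · intro heq
              apply hle
              have key : ∀ k, ∀ f ∈ W, (D ^ (i + 1 + k)) f = 0 → (D ^ (i + 1)) f = 0 := by
                intro k
                induction k with
                | zero => intro f _ h; exact h
                | succ k ihk =>
                  intro f hf h
                  apply ihk f hf
                  have h1 : D f ∈ W := hDW f hf
                  have hk : ∀ (n : ℕ) g, g ∈ W → (D ^ n) g ∈ W := by
                    intro n
                    induction n with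
                    | zero => intro g hg; exact hg
                    | succ n ihn =>
                      intro g hg
                      rw [pow_succ', Module.End.mul_apply]
                      exact hDW _ (ihn g hg)
                  have h2 : (D ^ k) f ∈ W ⊓ LinearMap.ker (D ^ (i + 1 + 1)) := by
                    refine ⟨hk k f hf, ?_⟩
                    rw [SetLike.mem_coe, LinearMap.mem_ker, ← Module.End.mul_apply, ← pow_add]
                    rw [show i + 1 + 1 + k = i + 1 + (k + 1) by ring]
                    exact h
                  have h3 : D ((D ^ k) f) ∈ W ⊓ LinearMap.ker (D ^ (i + 1)) := by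
                    refine ⟨hDW _ h2.1, ?_⟩
                    have := h2.2
                    rw [SetLike.mem_coe, LinearMap.mem_ker, pow_succ, Module.End.mul_apply] at this
                    exact this
                  rw [← heq] at h3
                  have h4 := h3.2
                  rw [SetLike.mem_coe, LinearMap.mem_ker, ← Module.End.mul_apply, ← pow_succ,
                    ← Module.End.mul_apply, ← pow_add] at h4
                  exact h4
              intro f hf
              exact key p f hf (by rw [pow_add, Module.End.mul_apply, hnil, map_zero])
    rcases step r with h | h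
    · exact h
    · have h1 : (W ⊓ LinearMap.ker (D ^ r) : Submodule K (ZMod p → K)) = W :=
        Submodule.eq_of_le_of_finrank_le inf_le_left h
      exact inf_eq_left.mp h1
  have hP : polyFun p r = LinearMap.ker (D ^ r) := by
    refine Submodule.eq_of_le_of_finrank_le (fun f hf => diffOp_pow_polyFun r f hf) ?_
    rw [finrank_polyFun hr]
    exact finrank_ker_diffOp_pow r
  rw [hP]
  refine Submodule.eq_of_le_of_finrank_le hker ?_
  exact finrank_ker_diffOp_pow r

end Cfsg.Agent.Lib.Perm
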