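import Cfsg.Agent.Lib.Perm.Heart
import Cfsg.Agent.Lib.Perm.Translation
import Mathlib.GroupTheory.Solvable
import Mathlib.GroupTheory.Perm.Cycle.Type
import Mathlib.RingTheory.ZMod.UnitsCyclic
import Mathlib.FieldTheory.Finite.Basic

/-!
Transitive groups of prime degree: coordinates, the affine alternative, irreducibility of the
heart of the permutation module, Burnside's theorem.
-/

open MulAction

namespace Cfsg.Agent.Lib.Perm

variable {α : Type*} [Fintype α] [DecidableEq α] {p : ℕ} [hp : Fact p.Prime]

/-- A permutation of order `p` of a set of size `p` is a translation in suitable coordinates. -/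
theorem exists_coord_of_orderOf (hα : Fintype.card α = p) (τ : Equiv.Perm α) (hτ' : orderOf τ = p) :
    ∃ e : ZMod p ≃ α, ∀ i, τ (e i) = e (i + 1) := by
  obtain ⟨a⟩ : Nonempty α := Fintype.card_pos_iff.mp (hα ▸ hp.out.pos)
  have hcyc : τ.IsCycle :=
    Equiv.Perm.isCycle_of_prime_order' (hτ'.symm ▸ hp.out) (by rw [hτ', hα]; linarith [hp.out.pos])
  have hsupp : τ.support = Finset.univ := by
    apply Finset.eq_univ_of_card
    rw [← hcyc.orderOf, hτ', hα]
  have hbij : Function.Bijective fun i : ZMod p => (τ ^ i.val) a := by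
    have hsurj : Function.Surjective fun i : ZMod p => (τ ^ i.val) a := by
      intro y
      obtain ⟨n, hn⟩ := hcyc.exists_pow_eq
        (Equiv.Perm.mem_support.mp (hsupp ▸ Finset.mem_univ a))
        (Equiv.Perm.mem_support.mp (hsupp ▸ Finset.mem_univ y))
      refine ⟨(n : ZMod p), ?_⟩
      dsimp only
      rw [ZMod.val_natCast, ← hn]
      conv_lhs => rw [← hτ', pow_mod_orderOf]
    exact ⟨(Fintype.bijective_iff_surjective_and_card _).mpr ⟨hsurj, by rw [ZMod.card, hα]⟩ |>.1,
      hsurj⟩
  refine ⟨Equiv.ofBijective _ hbij, fun i => ?_⟩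
  simp only [Equiv.ofBijective_apply]
  rw [← Equiv.Perm.mul_apply, ← pow_succ']
  congr 1
  rw [ZMod.val_add, ZMod.val_one p, pow_eq_pow_iff_modEq, hτ']
  exact (Nat.mod_modEq _ _).symm


/-- A transitive group of prime degree contains a translation. -/
theorem exists_coord (hα : Fintype.card α = p) (G : Subgroup (Equiv.Perm α))
    [IsPretransitive G α] :
    ∃ (τ : G) (e : ZMod p ≃ α), ∀ i, (τ : Equiv.Perm α) (e i) = e (i + 1) := by
  obtain ⟨a⟩ : Nonempty α := Fintype.card_pos_iff.mp (hα ▸ hp.out.pos)
  have hdvd : p ∣ Nat.card G := by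
    rw [← hα, ← Nat.card_eq_fintype_card, ← index_stabilizer_of_transitive G a]
    exact Subgroup.index_dvd_card _
  obtain ⟨τ, hτ⟩ := exists_prime_orderOf_dvd_card' p hdvd
  have hτ' : orderOf (τ : Equiv.Perm α) = p := by rw [Subgroup.orderOf_coe, hτ]
  obtain ⟨e, he⟩ := exists_coord_of_orderOf hα (τ : Equiv.Perm α) hτ'
  exact ⟨τ, e, he⟩

theorem affine_small_two : ∀ γ : ZMod 2 → ZMod 2, Function.Injective γ →
    ∃ a b : ZMod 2, ∀ j, γ j = a * j + b := by decide +kernel

theorem affine_small_three : ∀ γ : ZMod 3 → ZMod 3, Function.Injective γ →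
    ∃ a b : ZMod 3, ∀ j, γ j = a * j + b := by decide +kernel

/-- A group all of whose members are affine maps in some coordinates is solvable. -/
theorem isSolvable_of_affine (G : Subgroup (Equiv.Perm α)) (e : ZMod p ≃ α)
    (h : ∀ g : G, ∃ a b : ZMod p, ∀ j, e.symm ((g : Equiv.Perm α) (e j)) = a * j + b) :
    Group.IsSolvable G := by
  choose s b hs using h
  have hmul : ∀ g k : G, s (g * k) = s g * s k ∧ b (g * k) = s g * b k + b g := by
    intro g k
    have hj : ∀ j, s (g * k) * j + b (g * k) = s g * (s k * j + b k) + b g := by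
      intro j
      rw [← hs, ← hs, ← hs, Equiv.apply_symm_apply]
      rfl
    have h0 := hj 0
    have h1 := hj 1
    simp at h0 h1
    exact ⟨by linear_combination h1 - h0, h0⟩
  have hone : s (1 : G) = 1 ∧ b (1 : G) = 0 := by
    have hj : ∀ j, s (1 : G) * j + b (1 : G) = j := fun j => by rw [← hs]; simp
    have h0 := hj 0
    have h1 := hj 1
    simp at h0 h1
    exact ⟨by linear_combination h1 - h0, h0⟩
  let φ : G →* ZMod p := { toFun := s, map_one' := hone.1, map_mul' := fun g k => (hmul g k).1 }
  have hker : IsMulCommutative φ.toHomUnits.ker := by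
    refine ⟨⟨fun x y => ?_⟩⟩
    apply Subtype.ext
    apply Subtype.ext
    ext z
    obtain ⟨j, rfl⟩ := e.surjective z
    apply e.symm.injective
    have hx : s (x : G) = 1 := congrArg Units.val x.2
    have hy : s (y : G) = 1 := congrArg Units.val y.2
    rw [hs, hs, Subgroup.coe_mul, Subgroup.coe_mul,
      (hmul _ _).1, (hmul _ _).1, (hmul _ _).2, (hmul _ _).2, hx, hy]
    ring
  haveI : Group.IsSolvable φ.toHomUnits.ker := Group.isSolvable_of_comm fun x y => hker.is_comm.comm x y
  exact Group.isSolvable_of_ker_le_range (φ.toHomUnits.ker.subtype) φ.toHomUnits (by simp)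

omit [DecidableEq α] in
theorem castHom_pow_sum {K : Type*} [Field K] [CharP K p] (i : ℕ) :
    ∑ j : ZMod p, (ZMod.castHom (dvd_refl p) K j) ^ i =
      if i ≠ 0 ∧ p - 1 ∣ i then -1 else 0 := by
  simp only [← map_pow, ← map_sum]
  by_cases hi : i = 0
  · subst hi
    simp [ZMod.card]
  by_cases hd : p - 1 ∣ i
  · rw [if_pos ⟨hi, hd⟩]
    have h1 : ∀ j : ZMod p, j ^ i = if j = 0 then 0 else 1 := by
      intro j
      split_ifs with hj
      · rw [hj, zero_pow hi]
      · obtain ⟨m, rfl⟩ := hd
        rw [pow_mul, ZMod.pow_card_sub_one_eq_one hj, one_pow]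
    simp only [h1]
    rw [Finset.sum_ite, Finset.sum_const_zero, zero_add, Finset.sum_const,
      Finset.filter_ne' Finset.univ (0 : ZMod p), Finset.card_erase_of_mem (Finset.mem_univ _),
      Finset.card_univ, ZMod.card, nsmul_eq_mul, mul_one, Nat.cast_sub hp.out.one_le,
      ZMod.natCast_self]
    simp
  · rw [if_neg (fun h => hd h.2)]
    have h0 : ∑ j : ZMod p, j ^ i = 0 := by
      rw [← Finset.sum_erase_add Finset.univ _ (Finset.mem_univ (0 : ZMod p)), zero_pow hi, add_zero]
      have h1 : ∑ j ∈ (Finset.univ : Finset (ZMod p)).erase 0, j ^ i = ∑ u : (ZMod p)ˣ, (u : ZMod p) ^ i := by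
        refine (Finset.sum_bij (s := (Finset.univ : Finset (ZMod p)ˣ)) (fun u _ => (u : ZMod p))
          (fun u _ => by simp) (fun a _ b _ h => Units.ext h)
          (fun j hj => ⟨Units.mk0 j (Finset.ne_of_mem_erase hj), Finset.mem_univ _, rfl⟩)
          (fun u _ => rfl)).symm
      rw [h1, FiniteField.sum_pow_units, if_neg]
      rwa [ZMod.card]
    rw [h0, map_zero]

/-- If the polynomial functions of degree `< r` form an invariant subspace, `2 ≤ r` and `2 r < p + 2`
then the group consists of affine maps. -/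
theorem affine_of_polyFun_invariant {K : Type*} [Field K] [CharP K p] (γ : ZMod p → ZMod p) {r : ℕ}
    (hr : 2 ≤ r) (hr2 : 2 * r < p + 2)
    (hinv : ∀ f ∈ polyFun (K := K) p r, (fun j => f (γ j)) ∈ polyFun (K := K) p r) :
    ∃ a b : ZMod p, ∀ j, γ j = a * j + b := by
  set ι := ZMod.castHom (dvd_refl p) K with hι
  have hX : (fun j => ι j) ∈ polyFun (K := K) p r :=
    mem_polyFun.mpr ⟨Polynomial.X, by
      rw [Polynomial.degree_X]; exact_mod_cast (by omega : 1 < r), fun j => by simp [hι]⟩
  obtain ⟨Q, hQ, hQj⟩ := mem_polyFun.mp (hinv _ hX)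
  have hQ' : Q.natDegree ≤ 1 := by
    by_contra he
    push Not at he
    have hQ0 : Q ≠ 0 := fun h => by simp [h] at he
    rw [Polynomial.degree_eq_natDegree hQ0, Nat.cast_lt] at hQ
    have hlt := Nat.lt_div_mul_add (a := r - 1) (b := Q.natDegree) (by omega)
    set e := Q.natDegree with hedef
    set j := (r - 1) / e + 1 with hj
    have h1 : r - 1 < j * e := by rw [hj, add_mul, one_mul]; exact hlt
    have h2 : j * e ≤ r - 1 + e := by
      rw [hj, add_mul, one_mul]
      have := Nat.div_mul_le_self (r - 1) e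
      omega
    have h3 : j ≤ r - 1 := by
      rw [hj]
      have h5 : (r - 1) / e * 2 ≤ r - 1 :=
        le_trans (Nat.mul_le_mul_left _ he) (Nat.div_mul_le_self _ _)
      omega
    obtain ⟨R, hR, hRj⟩ := mem_polyFun.mp (hinv (fun x => ι x ^ j) (mem_polyFun.mpr
      ⟨Polynomial.X ^ j, by
        rw [Polynomial.degree_X_pow]; exact_mod_cast (by omega : j < r), fun x => by simp [hι]⟩))
    have heq : Q ^ j - R = 0 := by
      apply eq_zero_of_evalPrime_eq_zero (p := p)
      · refine (Polynomial.degree_sub_le _ _).trans_lt (max_lt ?_ ?_)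
        · refine Polynomial.degree_le_natDegree.trans_lt ?_
          rw [Polynomial.natDegree_pow]
          exact_mod_cast (by omega : j * e < p)
        · exact hR.trans (by exact_mod_cast (by omega : r < p))
      · funext x
        rw [evalPrime_apply, Polynomial.eval_sub, Polynomial.eval_pow, ← hQj, ← hRj, sub_self]
        rfl
    rw [sub_eq_zero] at heq
    rw [← heq, Polynomial.degree_eq_natDegree (pow_ne_zero _ hQ0), Polynomial.natDegree_pow,
      Nat.cast_lt] at hR
    change j * e < r at hR
    omega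
  obtain ⟨c, d, rfl⟩ := Polynomial.exists_eq_X_add_C_of_natDegree_le_one hQ'
  refine ⟨γ 1 - γ 0, γ 0, fun x => ι.injective ?_⟩
  have e0 : ι (γ 0) = d := by
    have h := hQj 0
    simpa using h
  have e1 : ι (γ 1) = c + d := by
    have h := hQj 1
    simpa using h
  rw [map_add, map_mul, map_sub, e0, e1]
  have h := hQj x
  simp only [Polynomial.eval_add, Polynomial.eval_mul, Polynomial.eval_C, Polynomial.eval_X] at h
  rw [h]
  ring

/-- The heart of the permutation module of a non-solvable group of prime degree is irreducible. -/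
theorem heart_irreducible (hα : Fintype.card α = p) (G : Subgroup (Equiv.Perm α))
    [IsPretransitive G α] (hG : ¬ Group.IsSolvable G) {K : Type*} [Field K] [CharP K p]
    (W : Subrepresentation (Cfsg.permRep K G α))
    (h₁ : (Cfsg.permConstants K G α).toSubmodule ≤ W.toSubmodule)
    (h₂ : W.toSubmodule ≤ (Cfsg.permSumZero K G α).toSubmodule) :
    W.toSubmodule = (Cfsg.permConstants K G α).toSubmodule ∨
      W.toSubmodule = (Cfsg.permSumZero K G α).toSubmodule := by
  obtain ⟨τ, e, he⟩ := exists_coord hα G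
  set ι := ZMod.castHom (dvd_refl p) K with hι
  let pb : (α → K) →ₗ[K] (ZMod p → K) := LinearMap.funLeft K K e
  have hpb : ∀ (v : α → K) j, pb v j = v (e j) := fun v j => rfl
  have hpbinj : Function.Injective pb := LinearMap.funLeft_injective_of_surjective _ _ _ e.surjective
  let U := W.toSubmodule.map pb
  have hU : ∀ (g : G), ∀ f ∈ U, (fun j => f (e.symm ((g : Equiv.Perm α) (e j)))) ∈ U := by
    rintro g _ ⟨v, hv, rfl⟩
    refine ⟨_, W.apply_mem_toSubmodule g⁻¹ hv, funext fun j => ?_⟩
    rw [hpb, permRep_apply, inv_inv, hpb, Equiv.apply_symm_apply]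
    rfl
  have htr : ∀ f ∈ U, (fun j => f (j - 1)) ∈ U := by
    intro f hf
    convert hU τ⁻¹ f hf using 1
    funext j
    congr 1
    apply e.injective
    rw [Equiv.apply_symm_apply]
    apply (τ : Equiv.Perm α).injective
    rw [he, sub_add_cancel]
    simp
  obtain ⟨hUeq, hrp⟩ := eq_polyFun_of_translation_invariant U htr
  set r := Module.finrank K U with hr
  have hsum : ∀ f ∈ U, ∑ j, f j = 0 := by
    rintro _ ⟨v, hv, rfl⟩
    rw [← mem_permSumZero.mp (h₂ hv)]
    exact Fintype.sum_equiv e _ _ fun j => hpb v j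
  have hr1 : 1 ≤ r := by
    by_contra hlt
    have hr0 : r = 0 := by omega
    have h1 : pb (fun _ => 1) ∈ U := Submodule.mem_map_of_mem (h₁ (mem_permConstants.mpr ⟨1, rfl⟩))
    rw [hUeq, hr0] at h1
    obtain ⟨P, hP, hPj⟩ := mem_polyFun.mp h1
    have hP0 : P = 0 := Polynomial.degree_eq_bot.mp (Nat.WithBot.lt_zero_iff.mp (by simpa using hP))
    have h2 := hPj 0
    rw [hpb, hP0, Polynomial.eval_zero] at h2
    exact one_ne_zero h2
  have hpow : ∀ i < r, (fun j => ι j ^ i) ∈ U := fun i hi => by
    rw [hUeq]
    exact mem_polyFun.mpr ⟨Polynomial.X ^ i, by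
      rw [Polynomial.degree_X_pow]; exact_mod_cast hi, fun j => by simp [hι]⟩
  have hrlt : r < p := by
    by_contra hge
    have h := hsum _ (hpow (p - 1) (by have := hp.out.two_le; omega))
    rw [castHom_pow_sum, if_pos ⟨by have := hp.out.two_le; omega, dvd_rfl⟩] at h
    simp at h
  rcases Nat.eq_or_lt_of_le hr1 with hr1 | hr2
  · left
    refine le_antisymm (fun v hv => ?_) h₁
    have h : pb v ∈ U := Submodule.mem_map_of_mem hv
    rw [hUeq, ← hr1] at h
    obtain ⟨P, hP, hPj⟩ := mem_polyFun.mp h
    refine mem_permConstants.mpr ⟨P.coeff 0, funext fun x => ?_⟩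
    obtain ⟨j, rfl⟩ := e.surjective x
    rw [← hpb v j, hPj, Polynomial.eq_C_of_degree_le_zero (p := P) ?_]
    · simp
    · exact Nat.WithBot.lt_one_iff_le_zero.mp (by simpa using hP)
  by_cases hrtop : r = p - 1
  · right
    refine le_antisymm h₂ ?_
    intro v hv
    have hv' : pb v ∈ U := by
      have h := (mem_polyFun (K := K) (p := p) (r := p) (f := pb v)).mp
        (by rw [polyFun_top]; trivial)
      obtain ⟨P, hP, hPj⟩ := h
      rw [hUeq, hrtop]
      refine mem_polyFun.mpr ⟨P, ?_, hPj⟩
      have h0 : ∑ j, pb v j = 0 := by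
        rw [← mem_permSumZero.mp hv]
        exact Fintype.sum_equiv e _ _ fun j => hpb v j
      simp only [hPj, ← hι] at h0
      rw [Finset.sum_congr rfl (fun j _ => Polynomial.eval_eq_sum_range' (n := p) ?_ (ι j)),
        Finset.sum_comm] at h0
      · simp only [← Finset.mul_sum, hι, castHom_pow_sum] at h0
        rw [Finset.sum_eq_single (p - 1), if_pos ⟨by omega, dvd_rfl⟩] at h0
        · rw [mul_neg_one, neg_eq_zero] at h0
          rw [Polynomial.degree_lt_iff_coeff_zero]
          intro m hm
          rcases Nat.eq_or_lt_of_le hm with rfl | hm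
          · exact h0
          · exact (Polynomial.degree_lt_iff_coeff_zero P p).mp hP m (by omega)
        · intro i hi hne
          rw [Finset.mem_range] at hi
          rw [if_neg, mul_zero]
          rintro ⟨hi0, hdvd⟩
          have := Nat.le_of_dvd (by omega) hdvd
          omega
        · intro h
          simp [hp.out.pos] at h
      · rcases eq_or_ne P 0 with rfl | hP0
        · simpa using hp.out.pos
        · exact (Polynomial.natDegree_lt_iff_degree_lt hP0).mpr hP
    obtain ⟨w, hw, hwv⟩ := hv'
    exact hpbinj hwv ▸ hw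
  exfalso
  apply hG
  apply isSolvable_of_affine G e
  intro g
  by_cases hsmall : 2 * r < p + 2
  · exact affine_of_polyFun_invariant (K := K) _ hr2 hsmall (fun f hf => by
      rw [← hUeq] at hf ⊢; exact hU g f hf)
  -- pass to the orthogonal complement
  let V : Submodule K (ZMod p → K) :=
    { carrier := {u | ∀ w ∈ U, ∑ j, u j * w j = 0}
      zero_mem' := fun w _ => by simp
      add_mem' := fun {a b} ha hb w hw => by
        simp [add_mul, Finset.sum_add_distrib, ha w hw, hb w hw]
      smul_mem' := fun c u hu w hw => by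
        simp [mul_assoc, ← Finset.mul_sum, hu w hw] }
  have hV : ∀ (g : G), ∀ u ∈ V, (fun j => u (e.symm ((g : Equiv.Perm α) (e j)))) ∈ V := by
    intro g u hu w hw
    rw [← hu _ (hU g⁻¹ w hw)]
    refine Fintype.sum_equiv ((e.trans (g : Equiv.Perm α)).trans e.symm) _ _ fun j => ?_
    simp
  obtain ⟨hVeq, hVp⟩ := eq_polyFun_of_translation_invariant V (fun u hu => by
    convert hV τ⁻¹ u hu using 1
    funext j
    congr 1
    apply e.injective
    rw [Equiv.apply_symm_apply]
    apply (τ : Equiv.Perm α).injective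
    rw [he, sub_add_cancel]
    simp)
  set r' := Module.finrank K V with hr'
  have hXV : (fun j => ι j) ∈ V := by
    intro w hw
    rw [hUeq] at hw
    obtain ⟨P, hP, hPj⟩ := mem_polyFun.mp hw
    simp only [hPj, ← hι]
    rcases eq_or_ne P 0 with rfl | hP0
    · simp
    rw [Finset.sum_congr rfl (fun j _ => by
      rw [Polynomial.eval_eq_sum_range' (n := r) ((Polynomial.natDegree_lt_iff_degree_lt hP0).mpr hP),
        Finset.mul_sum]), Finset.sum_comm]
    refine Finset.sum_eq_zero fun i hi => ?_
    rw [Finset.sum_congr rfl (fun j _ => (by ring : ι j * (P.coeff i * ι j ^ i) =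
      P.coeff i * ι j ^ (i + 1))), ← Finset.mul_sum, hι, castHom_pow_sum, if_neg, mul_zero]
    rintro ⟨_, hdvd⟩
    rw [Finset.mem_range] at hi
    have := Nat.le_of_dvd (by omega) hdvd
    omega
  have hr'2 : 2 ≤ r' := by
    by_contra hlt
    rw [hVeq] at hXV
    obtain ⟨P, hP, hPj⟩ := mem_polyFun.mp hXV
    have hP' : P.degree ≤ 0 := by
      refine Nat.WithBot.lt_one_iff_le_zero.mp (hP.trans_le ?_)
      exact_mod_cast (by omega : r' ≤ 1)
    have h0 := hPj 0
    have h1 := hPj 1
    rw [Polynomial.eq_C_of_degree_le_zero hP', Polynomial.eval_C] at h0 h1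
    exact zero_ne_one (α := ZMod p) (ι.injective (h0.trans h1.symm))
  have hr'r : r' + r ≤ p := by
    by_contra hgt
    have hu : (fun j => ι j ^ (r' - 1)) ∈ V := by
      rw [hVeq]
      exact mem_polyFun.mpr ⟨Polynomial.X ^ (r' - 1), by
        rw [Polynomial.degree_X_pow]; exact_mod_cast (by omega : r' - 1 < r'),
        fun j => by simp [hι]⟩
    have h := hu _ (hpow (p - r') (by omega))
    simp only [← pow_add] at h
    rw [castHom_pow_sum, show r' - 1 + (p - r') = p - 1 by omega,
      if_pos ⟨by omega, dvd_rfl⟩] at h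
    simp at h
  exact affine_of_polyFun_invariant (K := K) _ hr'2 (by omega) (fun f hf => by
    rw [← hVeq] at hf ⊢; exact hV g f hf)

/-- Burnside: a non-solvable transitive group of prime degree is doubly transitive. -/
theorem two_transitive_of_not_solvable (hα : Fintype.card α = p) (G : Subgroup (Equiv.Perm α))
    [IsPretransitive G α] (hG : ¬ Group.IsSolvable G) : IsMultiplyPretransitive G α 2 := by
  by_contra h2
  obtain ⟨W, W', h₁, hlt, h₂, htriv⟩ := exists_trivial_factor (K := ZMod p) (p := p) (f := 1)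
    (by rw [pow_one, hα]) h2
  have hC : W.toSubmodule = (Cfsg.permConstants (ZMod p) G α).toSubmodule := by
    rcases heart_irreducible hα G hG W h₁ (hlt.le.trans h₂) with h | h
    · exact h
    · exact absurd (h ▸ h₂) (not_le_of_gt hlt)
  have hS : W'.toSubmodule = (Cfsg.permSumZero (ZMod p) G α).toSubmodule := by
    rcases heart_irreducible hα G hG W' (h₁.trans hlt.le) h₂ with h | h
    · exact absurd (h.trans hC.symm ▸ hlt) (lt_irrefl _)
    · exact h
  have hp5 : 5 ≤ p := by
    by_contra hlt5
    apply hG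
    obtain ⟨τ, e, he⟩ := exists_coord hα G
    apply isSolvable_of_affine G e
    intro g
    have key : ∀ γ : ZMod p → ZMod p, Function.Injective γ → ∃ a b : ZMod p, ∀ j, γ j = a * j + b := by
      have h2 := hp.out.two_le
      interval_cases p
      · exact affine_small_two
      · exact affine_small_three
      · exact absurd hp.out (by decide)
    exact key _ (fun x y h => e.injective ((g : Equiv.Perm α).injective (e.symm.injective h)))
  obtain ⟨a, b, hab⟩ : ∃ a b : α, a ≠ b := by
    apply Fintype.exists_pair_of_one_lt_card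
    omega
  have hfix : ∀ g : G, g • a = a := by
    intro g
    have hv : (Pi.single a 1 - Pi.single b 1 : α → ZMod p) ∈ W'.toSubmodule := by
      rw [hS, mem_permSumZero]
      simp [Finset.sum_sub_distrib]
    have h := htriv g _ hv
    rw [hC, map_sub, permRep_pi_single, permRep_pi_single] at h
    obtain ⟨c, hc⟩ := mem_permConstants.mp h
    obtain ⟨z, -, hz⟩ := Finset.exists_mem_notMem_of_card_lt_card
      (s := ({g • a, g • b, a, b} : Finset α)) (t := Finset.univ) (by
        rw [Finset.card_univ]
        exact Finset.card_le_four.trans_lt (by omega))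
    simp only [Finset.mem_insert, Finset.mem_singleton, not_or] at hz
    have hz' := congrFun hc z
    simp [hz.1, hz.2.1, hz.2.2.1, hz.2.2.2] at hz'
    have ha' := congrFun hc a
    simp [← hz', hab] at ha'
    by_contra hne
    by_cases hgb : g • b = a
    · simp [Ne.symm hne, hgb] at ha'
      have h2 : ((2 : ℕ) : ZMod p) = 0 := by push_cast; linear_combination -ha'
      rw [ZMod.natCast_eq_zero_iff] at h2
      exact absurd (Nat.le_of_dvd two_pos h2) (by omega)
    · simp [Ne.symm hne, Ne.symm hgb] at ha'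
  obtain ⟨g, hg⟩ := exists_smul_eq G a b
  exact hab ((hfix g).symm.trans hg)

end Cfsg.Agent.Lib.Perm
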