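import Mathlib

/-!
Elements of small support in a multiply transitive group give three-cycles.
-/

set_option autoImplicit false

namespace Cfsg.Agent.Lib.Perm.SmallSupport

open MulAction Equiv

variable {α : Type*} [Fintype α] [DecidableEq α]

/-- A group which is `t`-fold transitive and contains a nontrivial permutation moving at most
`t` points, but not all of them, contains the alternating group. -/
theorem alternatingGroup_le_of_support (G : Subgroup (Equiv.Perm α)) (hprim : IsPreprimitive G α)
    {t : ℕ} (hG : IsMultiplyPretransitive G α t) (ht : t ≤ Fintype.card α)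
    {x : Equiv.Perm α} (hx : x ∈ G) (hx1 : x ≠ 1) (hs : x.support.card ≤ t)
    (hlt : x.support.card < Fintype.card α) : alternatingGroup α ≤ G := by
  classical
  haveI := hG
  haveI hGs : IsMultiplyPretransitive G α x.support.card :=
    isMultiplyPretransitive_of_le' (n := t) hs
      (by rw [ENat.card_eq_coe_fintype_card]; exact_mod_cast ht)
  obtain ⟨d, hd⟩ : ∃ d, d ∈ x.support := by
    rw [← Finset.nonempty_def, Finset.nonempty_iff_ne_empty]
    exact fun e => hx1 (Equiv.Perm.support_eq_empty_iff.mp e)
  obtain ⟨e, he⟩ : ∃ e, e ∉ x.support := by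
    by_contra h
    push Not at h
    rw [Finset.eq_univ_iff_forall.mpr h, Finset.card_univ] at hlt
    exact lt_irrefl _ hlt
  let a : Fin x.support.card ↪ α :=
    x.support.equivFin.symm.toEmbedding.trans (Function.Embedding.subtype _)
  have ha : ∀ i, a i ∈ x.support := fun i => (x.support.equivFin.symm i).2
  have hne : ∀ w ∈ x.support, w ≠ e := fun w hw h => he (h ▸ hw)
  let b : Fin x.support.card ↪ α := ⟨fun i => if a i = d then e else a i, fun i j h => by
    dsimp only at h
    by_cases hi : a i = d <;> by_cases hj : a j = d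
    · exact a.injective (hi.trans hj.symm)
    · rw [if_pos hi, if_neg hj] at h; exact absurd h.symm (hne _ (ha j))
    · rw [if_neg hi, if_pos hj] at h; exact absurd h (hne _ (ha i))
    · rw [if_neg hi, if_neg hj] at h; exact a.injective h⟩
  obtain ⟨⟨g, hgG⟩, hg⟩ := hGs.exists_smul_eq a b
  have hg' : ∀ w ∈ x.support, g w = if w = d then e else w := by
    intro w hw
    obtain ⟨i, hi⟩ : ∃ i, a i = w := ⟨x.support.equivFin ⟨w, hw⟩, by simp [a]⟩
    rw [← hi]
    exact DFunLike.congr_fun hg i
  have hgd : g d = e := by rw [hg' d hd, if_pos rfl]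
  have hgf : ∀ w ∈ x.support, w ≠ d → g w = w := fun w hw h => by rw [hg' w hw, if_neg h]
  set y := g * x * g⁻¹ with hy
  set z := x⁻¹ * y with hz
  have hygw : ∀ w, y (g w) = g (x w) := fun w => by simp [hy]
  set w0 := x⁻¹ d with hw0
  have hxw0 : x w0 = d := by simp [hw0]
  have hw0s : w0 ∈ x.support := by
    rw [← Equiv.Perm.apply_mem_support, hxw0]; exact hd
  have hw0d : w0 ≠ d := fun h => Equiv.Perm.mem_support.mp hd (by rw [← h, hxw0, h])
  have hxe : x e = e := Equiv.Perm.notMem_support.mp he
  have hxd : x d ≠ d := Equiv.Perm.mem_support.mp hd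
  have hze : z e = d := by
    have h1 : y e = x d := by
      rw [← hgd, hygw, hgf _ (Equiv.Perm.apply_mem_support.mpr hd) hxd]
    simp [hz, h1]
  have hzd : z d = w0 := by
    have h1 : y d = d := by
      obtain ⟨v, hv⟩ := g.surjective d
      have hvs : v ∉ x.support := by
        intro hvs
        rw [hg' v hvs] at hv
        split_ifs at hv with h
        · exact hne d hd hv.symm
        · exact h hv
      rw [← hv, hygw, Equiv.Perm.notMem_support.mp hvs]
    simp [hz, h1, hw0]
  have hzw0 : z w0 = e := by
    have h1 : y w0 = e := by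
      rw [← hgf w0 hw0s hw0d, hygw, hxw0, hgd]
    have h2 : x⁻¹ e = e := by
      rw [Equiv.Perm.inv_eq_iff_eq]; exact hxe.symm
    simpa [hz, h1] using h2
  have hzf : ∀ w, w ≠ e → w ≠ d → w ≠ w0 → z w = w := by
    intro w hwe hwd hww
    have h1 : y w = x w := by
      obtain ⟨v, hv⟩ := g.surjective w
      by_cases hvs : v ∈ x.support
      · have h2 := hg' v hvs
        split_ifs at h2 with h
        · exact absurd (hv.symm.trans h2) hwe
        · have hvw : v = w := h2.symm.trans hv
          subst hvw
          have hxv : x v ≠ d := fun h' => hww (x.injective (h'.trans hxw0.symm))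
          rw [← hv, hygw, hv, hgf _ (Equiv.Perm.apply_mem_support.mpr hvs) hxv]
      · have hxv := Equiv.Perm.notMem_support.mp hvs
        have hws : w ∉ x.support := by
          intro hws
          have := hgf w hws hwd
          exact hvs (g.injective (hv.trans this.symm) ▸ hws)
        rw [← hv, hygw, hxv, hv, Equiv.Perm.notMem_support.mp hws]
    simp [hz, h1]
  have hsupp : z.support = {e, d, w0} := by
    ext w
    simp only [Equiv.Perm.mem_support, Finset.mem_insert, Finset.mem_singleton]
    constructor
    · intro h
      by_contra hc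
      push Not at hc
      exact h (hzf w hc.1 hc.2.1 hc.2.2)
    · rintro (rfl | rfl | rfl)
      · rw [hze]; exact hne d hd
      · rw [hzd]; exact hw0d
      · rw [hzw0]; exact (hne w0 hw0s).symm
  have h3 : z.IsThreeCycle := by
    rw [← card_support_eq_three_iff, hsupp, Finset.card_eq_three]
    exact ⟨e, d, w0, (hne d hd).symm, (hne w0 hw0s).symm, hw0d.symm, rfl⟩
  exact Equiv.Perm.alternatingGroup_le_of_isPreprimitive_of_isThreeCycle_mem hprim h3
    (G.mul_mem (G.inv_mem hx) (G.mul_mem (G.mul_mem hgG hx) (G.inv_mem hgG)))

end Cfsg.Agent.Lib.Perm.SmallSupport
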