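import Cfsg.Agent.Lib.Perm.PrimeTriple
import Mathlib.Combinatorics.Enumerative.DoubleCounting
import Mathlib.LinearAlgebra.Dimension.Constructions

/-!
Subgroups of index `p` in groups of degree `p`.
-/

open MulAction

namespace Cfsg.Agent.Lib.Perm

variable {α : Type*} [Fintype α] [DecidableEq α] {p : ℕ} [hp : Fact p.Prime]

/-- In a transitive group of degree `p`, a subgroup of index `p` has order prime to `p`. -/
theorem not_dvd_card_of_index (hα : Fintype.card α = p) (G : Subgroup (Equiv.Perm α))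
    (H : Subgroup G) (hH : H.index = p) : ¬ p ∣ Nat.card H := by
  intro h
  apply not_sq_dvd_factorial (p := p)
  have h1 : p ^ 2 ∣ Nat.card G := by
    rw [pow_two, ← Subgroup.card_mul_index H, hH]
    exact Nat.mul_dvd_mul_right h p
  have h2 : Nat.card G ∣ Nat.card (Equiv.Perm α) := Subgroup.card_subgroup_dvd_card G
  rw [Nat.card_eq_fintype_card (α := Equiv.Perm α), Fintype.card_perm] at h2
  simpa only [hα] using h1.trans h2

/-- A solvable transitive group of prime degree has a regular normal subgroup of order `p` which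
is its own centralizer. -/
theorem exists_regular_normal_of_solvable (hα : Fintype.card α = p) (G : Subgroup (Equiv.Perm α))
    [IsPretransitive G α] (hG : Group.IsSolvable G) :
    ∃ A : Subgroup G, A.Normal ∧ IsMulCommutative A ∧ Nat.card A = p ∧ IsPretransitive A α ∧
      (∀ a : α, stabilizer A a = ⊥) ∧ Subgroup.centralizer (A : Set G) = A := by
  classical
  haveI : IsPreprimitive G α :=
    IsPreprimitive.of_prime_card (by rw [Nat.card_eq_fintype_card, hα]; exact hp.out)
  obtain ⟨a, b, hab⟩ := Fintype.exists_pair_of_one_lt_card (α := α) (hα ▸ hp.out.one_lt)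
  have hne : derivedSeries G 0 ≠ ⊥ := by
    rw [derivedSeries_zero]
    intro htop
    obtain ⟨g, hg⟩ := exists_smul_eq G a b
    have h1 : g = 1 := by
      rw [← Subgroup.mem_bot, ← htop]
      exact Subgroup.mem_top g
    exact hab (by rw [← hg, h1, one_smul])
  obtain ⟨n, hn⟩ := (Group.isSolvable_def G).mp hG
  obtain ⟨m, hm, hm'⟩ : ∃ m, derivedSeries G m ≠ ⊥ ∧ derivedSeries G (m + 1) = ⊥ := by
    by_contra hh
    push Not at hh
    exact (Nat.rec hne (fun m hm => hh m hm) n : derivedSeries G n ≠ ⊥) hn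
  set A := derivedSeries G m with hA
  haveI : A.Normal := derivedSeries_normal G m
  have hc : ∀ x ∈ A, ∀ y ∈ A, x * y = y * x := by
    rw [derivedSeries_succ] at hm'
    intro x hx y hy
    exact Subgroup.mem_centralizer_iff.mp
      ((Subgroup.commutator_eq_bot_iff_le_centralizer.mp hm') hy) x hx
  have hAt : IsPretransitive A α := isPretransitive_of_normal A hm
  have hs : ∀ a : α, stabilizer A a = ⊥ := stabilizer_eq_bot_of_commute A A hAt hc
  have hcard : Nat.card A = p := by
    rw [← Subgroup.card_mul_index (stabilizer A a), index_stabilizer_of_transitive, hs,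
      Subgroup.card_bot, one_mul, Nat.card_eq_fintype_card, hα]
  refine ⟨A, inferInstance, ⟨⟨fun x y => Subtype.ext (hc x x.2 y y.2)⟩⟩, hcard, hAt, hs, ?_⟩
  refine le_antisymm (fun c hcc => ?_) fun x hx y hy => hc y hy x hx
  obtain ⟨w, hw⟩ := hAt.exists_smul_eq a (c • a)
  haveI := isPretransitive_map_subtype A hAt
  have hcen : ((w : G)⁻¹ * c : G) ∈ Subgroup.centralizer (A : Set G) :=
    Subgroup.mul_mem _ (Subgroup.inv_mem _ fun y hy => hc y hy w w.2) hcc
  have := eq_one_of_mem_centralizer_of_fixed (G := A.map G.subtype)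
    (c := (((w : G)⁻¹ * c : G) : Equiv.Perm α)) (a := a) (by
      rintro _ ⟨x, hx, rfl⟩
      exact congrArg Subtype.val (hcen x hx)) (by
      change ((w : G)⁻¹ * c) • a = a
      rw [mul_smul, inv_smul_eq_iff]
      exact hw.symm)
  have : (w : G)⁻¹ * c = 1 := Subtype.ext this
  rw [inv_mul_eq_one] at this
  exact this ▸ w.2

theorem index_p_solvable (hα : Fintype.card α = p) (G : Subgroup (Equiv.Perm α))
    [IsPretransitive G α] (hG : Group.IsSolvable G) (H : Subgroup G) (hH : H.index = p) :
    ∃ a : α, H = stabilizer G a := by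
  classical
  have hcardH := not_dvd_card_of_index hα G H hH
  obtain ⟨A, hAn, hAc, hAcard, hAt, hAs, hAcen⟩ := exists_regular_normal_of_solvable hα G hG
  suffices ∃ a : α, H ≤ stabilizer G a by
    obtain ⟨a, ha⟩ := this
    refine ⟨a, Subgroup.eq_of_le_of_card_ge ha (le_of_eq ?_)⟩
    have h1 := Subgroup.card_mul_index H
    rw [hH, ← Subgroup.card_mul_index (stabilizer G a), index_stabilizer_of_transitive,
      Nat.card_eq_fintype_card (α := α), hα] at h1
    exact (Nat.eq_of_mul_eq_mul_right hp.out.pos h1).symm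
  have hHA : ∀ g, g ∈ H → g ∈ A → g = 1 := by
    intro g hg hgA
    have hd : Disjoint H A := Subgroup.disjoint_of_coprime_natCard
      (by rw [hAcard]; exact (hp.out.coprime_iff_not_dvd.mpr hcardH).symm)
    exact Subgroup.mem_bot.mp ((disjoint_iff.mp hd) ▸ ⟨hg, hgA⟩)
  by_cases hHbot : H = ⊥
  · obtain ⟨a⟩ : Nonempty α := Fintype.card_pos_iff.mp (hα ▸ hp.out.pos)
    exact ⟨a, hHbot ▸ bot_le⟩
  haveI : IsCyclic A := isCyclic_of_prime_card (p := p) hAcard
  let φ : G →* MulAut A := MulAut.conjNormal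
  have hφ : ∀ x y : G, φ x * φ y = φ y * φ x := by
    intro x y
    apply (IsCyclic.mulAutMulEquiv A).injective
    rw [map_mul, map_mul, mul_comm]
  have hinj : ∀ x ∈ H, φ x = 1 → x = 1 := by
    intro x hx h1
    refine hHA x hx (hAcen ▸ fun y hy => ?_)
    have h2 := congrArg (fun f : MulAut A => ((f ⟨y, hy⟩ : A) : G)) h1
    simp only [φ, MulAut.conjNormal_apply, MulAut.one_apply] at h2
    exact (mul_inv_eq_iff_eq_mul.mp h2).symm
  have hcomm : ∀ x ∈ H, ∀ y ∈ H, x * y = y * x := by
    intro x hx y hy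
    have := hinj (x * y * x⁻¹ * y⁻¹)
      (H.mul_mem (H.mul_mem (H.mul_mem hx hy) (H.inv_mem hx)) (H.inv_mem hy))
      (by rw [map_mul, map_mul, map_mul, map_inv, map_inv, hφ x y]; group)
    rwa [mul_inv_eq_one, mul_inv_eq_iff_eq_mul] at this
  haveI : Nontrivial H := (Subgroup.nontrivial_iff_ne_bot H).mpr hHbot
  obtain ⟨q, hq, hqd⟩ := Nat.exists_prime_and_dvd (n := Nat.card H) Finite.one_lt_card.ne'
  haveI := Fact.mk hq
  obtain ⟨⟨h, hhH⟩, hh⟩ := exists_prime_orderOf_dvd_card' q hqd
  rw [Subgroup.orderOf_mk] at hh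
  have hh1 : h ≠ 1 := fun e => by rw [e, orderOf_one] at hh; exact hq.one_lt.ne hh
  have hqp : ¬ q ∣ Nat.card α := by
    rw [Nat.card_eq_fintype_card, hα]
    intro hd
    exact hcardH ((Nat.prime_dvd_prime_iff_eq hq hp.out).mp hd ▸ hqd)
  have hzp : IsPGroup q (Subgroup.zpowers h) :=
    IsPGroup.of_card (n := 1) (by rw [Nat.card_zpowers, hh, pow_one])
  obtain ⟨a, ha⟩ := hzp.nonempty_fixed_point_of_prime_not_dvd_card α hqp
  have hfix : h • a = a := ha ⟨h, Subgroup.mem_zpowers h⟩
  refine ⟨a, fun x hx => ?_⟩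
  obtain ⟨w, hw⟩ := hAt.exists_smul_eq a (x • a)
  by_cases hw1 : w = 1
  · rw [hw1, one_smul] at hw
    exact hw.symm
  exfalso
  -- `h` would centralize the regular normal subgroup
  have hxa : h • (w : G) • a = (w : G) • a := by
    change h • (w • a) = w • a
    rw [hw, ← mul_smul, hcomm h hhH x hx, mul_smul, hfix]
  have hconj : h * (w : G) * h⁻¹ = w := by
    have h1 : (⟨h * (w : G) * h⁻¹, hAn.conj_mem w w.2 h⟩ : A) • a = w • a := by
      change (h * (w : G) * h⁻¹) • a = (w : G) • a
      rw [mul_smul, mul_smul, show h⁻¹ • a = a by rw [inv_smul_eq_iff, hfix], hxa]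
    have h2 : w⁻¹ * (⟨h * (w : G) * h⁻¹, hAn.conj_mem w w.2 h⟩ : A) ∈ stabilizer A a := by
      rw [mem_stabilizer_iff, mul_smul, h1, inv_smul_smul]
    rw [hAs, Subgroup.mem_bot, inv_mul_eq_one] at h2
    exact (congrArg Subtype.val h2).symm
  refine hh1 (hHA h hhH (hAcen ▸ fun y hy => ?_))
  have hgen : (⟨y, hy⟩ : A) ∈ Subgroup.zpowers w := mem_zpowers_of_prime_card hAcard hw1
  obtain ⟨k, hk⟩ := hgen
  have hy' : (w : G) ^ k = y := by
    have := congrArg Subtype.val hk
    simpa using this
  rw [← hy']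
  exact (Commute.zpow_left (show Commute (w : G) h from (mul_inv_eq_iff_eq_mul.mp hconj).symm) k).eq

theorem index_p_three_transitive (hα : Fintype.card α = p) (G : Subgroup (Equiv.Perm α))
    (h3 : IsMultiplyPretransitive G α 3) [IsPretransitive G α] (H : Subgroup G)
    (hH : H.index = p) : ∃ a : α, H = stabilizer G a := by
  classical
  have hcardH := not_dvd_card_of_index hα G H hH
  suffices ∃ a : α, H ≤ stabilizer G a by
    obtain ⟨a, ha⟩ := this
    refine ⟨a, Subgroup.eq_of_le_of_card_ge ha (le_of_eq ?_)⟩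
    have h1 := Subgroup.card_mul_index H
    rw [hH, ← Subgroup.card_mul_index (stabilizer G a), index_stabilizer_of_transitive,
      Nat.card_eq_fintype_card (α := α), hα] at h1
    exact (Nat.eq_of_mul_eq_mul_right hp.out.pos h1).symm
  by_contra hno
  push Not at hno
  obtain ⟨a⟩ : Nonempty α := Fintype.card_pos_iff.mp (hα ▸ hp.out.pos)
  let Δ : Finset α := Finset.univ.filter fun z => z ∈ orbit H a
  have hΔ : ∀ (h : G), h ∈ H → ∀ z, h • z ∈ Δ ↔ z ∈ Δ := by
    intro h hh z
    simp only [Δ, Finset.mem_filter, Finset.mem_univ, true_and]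
    exact ⟨fun hz => by
      have h1 := mem_orbit_of_mem_orbit (⟨h, hh⟩⁻¹ : H) hz
      rwa [show h • z = (⟨h, hh⟩ : H) • z from rfl, inv_smul_smul] at h1, fun hz => mem_orbit_of_mem_orbit (⟨h, hh⟩ : H) hz⟩
  have haΔ : a ∈ Δ := by simp [Δ, mem_orbit_self]
  have hk2 : 2 ≤ Δ.card := by
    by_contra hlt
    apply hno a
    intro h hh
    exact Finset.card_le_one.mp (by omega) _ ((hΔ h hh a).mpr haΔ) a haΔ
  have hkp : Δ.card < p := by
    rcases lt_or_eq_of_le (hα ▸ Finset.card_le_univ Δ) with h | h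
    · exact h
    · exfalso
      apply hcardH
      have h1 : (orbit H a).ncard = p := by
        rw [← h, ← Set.ncard_coe_finset]
        congr 1
        simp [Δ]
      rw [← h1, ← index_stabilizer]
      exact Subgroup.index_dvd_card _
  haveI : Fintype (G ⧸ H) := Fintype.ofFinite _
  let inc : α → G ⧸ H → Prop := fun y q => ∃ g : G, QuotientGroup.mk g = q ∧ g⁻¹ • y ∈ Δ
  have hinc : ∀ (g : G) y, inc y (QuotientGroup.mk g) ↔ g⁻¹ • y ∈ Δ := by
    intro g y
    refine ⟨?_, fun h => ⟨g, rfl, h⟩⟩
    rintro ⟨g', hg', hy⟩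
    rw [QuotientGroup.eq] at hg'
    have h1 := (hΔ _ (H.inv_mem hg') (g'⁻¹ • y)).mpr hy
    rwa [mul_inv_rev, inv_inv, mul_smul, smul_inv_smul] at h1
  have hequiv : ∀ (g : G) y (q : G ⧸ H), inc (g • y) (g • q) ↔ inc y q := by
    intro g y q
    induction q using QuotientGroup.induction_on with
    | H g' =>
      rw [MulAction.Quotient.smul_mk, hinc, hinc, smul_eq_mul, mul_inv_rev, mul_smul, inv_smul_smul]
  let cnt : Finset α → ℕ := fun T => (Finset.univ.filter fun q => ∀ y ∈ T, inc y q).card
  have hcnt : ∀ (g : G) (T : Finset α), cnt (T.image (g • ·)) = cnt T := by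
    intro g T
    refine Finset.card_bij (fun q _ => g⁻¹ • q) ?_ ?_ ?_
    · intro q hq
      simp only [Finset.mem_filter, Finset.mem_univ, true_and, Finset.forall_mem_image] at hq ⊢
      intro y hy
      rw [← hequiv g, smul_inv_smul]
      exact hq hy
    · intro _ _ _ _ h
      exact smul_left_cancel _ h
    · intro q hq
      refine ⟨g • q, ?_, inv_smul_smul _ _⟩
      simp only [Finset.mem_filter, Finset.mem_univ, true_and, Finset.forall_mem_image] at hq ⊢
      intro y hy
      exact (hequiv g y q).mpr (hq y hy)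
  have hp3 : 3 ≤ p := by omega
  have htriple : ∀ a b c a' b' c' : α, a ≠ b → a ≠ c → b ≠ c → a' ≠ b' → a' ≠ c' → b' ≠ c' →
      ∃ g : G, g • a = a' ∧ g • b = b' ∧ g • c = c' := by
    intro a b c a' b' c' h1 h2 h3' h4 h5 h6
    obtain ⟨g, hg⟩ := h3.exists_smul_eq
      ⟨![a, b, c], by intro i j; fin_cases i <;> fin_cases j <;> simp_all [Ne.symm h1, Ne.symm h2, Ne.symm h3']⟩
      ⟨![a', b', c'], by intro i j; fin_cases i <;> fin_cases j <;> simp_all [Ne.symm h4, Ne.symm h5, Ne.symm h6]⟩
    exact ⟨g, DFunLike.congr_fun hg 0, DFunLike.congr_fun hg 1, DFunLike.congr_fun hg 2⟩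
  have h2 : ∀ a b a' b' : α, a ≠ b → a' ≠ b' → ∃ g : G, g • a = a' ∧ g • b = b' := by
    intro a b a' b' h1 h4
    obtain ⟨c, -, hc⟩ := Finset.exists_mem_notMem_of_card_lt_card (s := ({a, b} : Finset α))
      (t := Finset.univ) (by rw [Finset.card_univ, Finset.card_pair h1, hα]; omega)
    obtain ⟨c', -, hc'⟩ := Finset.exists_mem_notMem_of_card_lt_card (s := ({a', b'} : Finset α))
      (t := Finset.univ) (by rw [Finset.card_univ, Finset.card_pair h4, hα]; omega)
    simp only [Finset.mem_insert, Finset.mem_singleton, not_or] at hc hc'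
    obtain ⟨g, hga, hgb, -⟩ := htriple a b c a' b' c' h1 (Ne.symm hc.1) (Ne.symm hc.2) h4
      (Ne.symm hc'.1) (Ne.symm hc'.2)
    exact ⟨g, hga, hgb⟩
  obtain ⟨b, hbΔ, hba⟩ := Finset.exists_mem_ne (s := Δ) (by omega) a
  obtain ⟨c, -, hcΔ⟩ := Finset.exists_mem_notMem_of_card_lt_card (s := Δ) (t := Finset.univ)
    (by rw [Finset.card_univ, hα]; exact hkp)
  have hca : c ≠ a := fun e => hcΔ (e ▸ haΔ)
  have hcb : c ≠ b := fun e => hcΔ (e ▸ hbΔ)
  have hlt : cnt {a, b, c} < cnt {a, b} := by
    refine Finset.card_lt_card (Finset.ssubset_iff_subset_ne.mpr ⟨?_, ?_⟩)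
    · intro q hq
      simp only [Finset.mem_filter, Finset.mem_univ, true_and] at hq ⊢
      intro y hy
      apply hq
      simp only [Finset.mem_insert, Finset.mem_singleton] at hy ⊢
      tauto
    · intro heq
      have hmem : (QuotientGroup.mk (1 : G) : G ⧸ H) ∈
          Finset.univ.filter fun q => ∀ y ∈ ({a, b} : Finset α), inc y q := by
        simp only [Finset.mem_filter, Finset.mem_univ, true_and, Finset.mem_insert,
          Finset.mem_singleton]
        rintro y (rfl | rfl) <;> rw [hinc, inv_one, one_smul] <;> assumption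
      rw [← heq] at hmem
      have := (Finset.mem_filter.mp hmem).2 c (by simp)
      rw [hinc, inv_one, one_smul] at this
      exact hcΔ this
  have hr : cnt {a} = Δ.card := by
    have hall : ∀ y, cnt {y} = cnt {a} := by
      intro y
      obtain ⟨g, rfl⟩ := exists_smul_eq G a y
      rw [← hcnt g {a}, Finset.image_singleton]
    have hblock : ∀ q : G ⧸ H, (Finset.univ.filter fun y => inc y q).card = Δ.card := by
      intro q
      induction q using QuotientGroup.induction_on with
      | H g =>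
        refine Finset.card_bij (fun y _ => g⁻¹ • y) ?_ ?_ ?_
        · intro y hy
          exact (hinc g y).mp (Finset.mem_filter.mp hy).2
        · intro _ _ _ _ h
          exact smul_left_cancel _ h
        · intro z hz
          exact ⟨g • z, Finset.mem_filter.mpr ⟨Finset.mem_univ _, (hinc g _).mpr
            (by rwa [inv_smul_smul])⟩, inv_smul_smul _ _⟩
    have h1 := Finset.sum_card_bipartiteAbove_eq_sum_card_bipartiteBelow (fun y q => inc y q)
      (s := (Finset.univ : Finset α)) (t := (Finset.univ : Finset (G ⧸ H)))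
    simp only [Finset.bipartiteAbove, Finset.bipartiteBelow, hblock] at h1
    have hall' : ∀ y, (Finset.univ.filter fun q => inc y q).card = cnt {a} := fun y => by
      rw [← hall y]
      congr 1
      ext q
      simp
    simp only [hall', Finset.sum_const, Finset.card_univ, smul_eq_mul] at h1
    rw [hα, ← Nat.card_eq_fintype_card (α := G ⧸ H), ← Subgroup.index_eq_card, hH] at h1
    exact Nat.eq_of_mul_eq_mul_left hp.out.pos h1
  -- Fisher's inequality for the derived design at `a`
  let Y := {y : α // y ≠ a}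
  let X := {q : G ⧸ H // inc a q}
  let v : Y → X → ℚ := fun y q => if inc y.1 q.1 then 1 else 0
  have hgram : ∀ y z : Y, ∑ q, v y q * v z q =
      ((cnt {a, y.1, z.1} : ℕ) : ℚ) := by
    intro y z
    have e1 : ∀ q : X, v y q * v z q = if inc y.1 q.1 ∧ inc z.1 q.1 then 1 else 0 := by
      intro q
      by_cases h1 : inc y.1 q.1 <;> by_cases h2 : inc z.1 q.1 <;> simp [v, h1, h2]
    rw [Finset.sum_congr rfl (fun q _ => e1 q),
      ← Finset.sum_subtype (Finset.univ.filter fun q => inc a q) (by simp)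
        (fun q => if inc y.1 q ∧ inc z.1 q then (1 : ℚ) else 0), Finset.sum_boole,
      Finset.filter_filter]
    congr 2
    ext q
    simp
  set l : ℕ := cnt {a, b} with hl
  set μ : ℕ := cnt {a, b, c} with hμ
  have hdiag : ∀ y : Y, cnt {a, y.1, y.1} = l := by
    intro y
    obtain ⟨g, hga, hgb⟩ := h2 a b a y.1 hba.symm y.2.symm
    rw [hl, ← hcnt g {a, b}]
    congr 1
    simp [Finset.image_insert, hga, hgb]
  have hoff : ∀ y z : Y, y ≠ z → cnt {a, y.1, z.1} = μ := by
    intro y z hyz
    obtain ⟨g, hga, hgb, hgc⟩ := htriple a b c a y.1 z.1 hba.symm hca.symm hcb.symm y.2.symm z.2.symm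
      (fun e => hyz (Subtype.ext e))
    rw [hμ, ← hcnt g {a, b, c}]
    congr 1
    simp [Finset.image_insert, hga, hgb, hgc]
  have hind : LinearIndependent ℚ v := by
    rw [Fintype.linearIndependent_iff]
    intro w hw
    have hsum : ∀ z, ((l : ℚ) - μ) * w z + μ * ∑ y, w y = 0 := by
      intro z
      have h0 : ∑ y, w y * ((cnt {a, y.1, z.1} : ℕ) : ℚ) = 0 := by
        simp only [← hgram, Finset.mul_sum]
        rw [Finset.sum_comm]
        refine Finset.sum_eq_zero fun q _ => ?_
        have h1 := congrFun hw q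
        simp only [Finset.sum_apply, Pi.smul_apply, smul_eq_mul, Pi.zero_apply] at h1
        simp only [← mul_assoc, ← Finset.sum_mul, h1, zero_mul]
      have e : ∀ y, w y * ((cnt {a, y.1, z.1} : ℕ) : ℚ) =
          (μ : ℚ) * w y + (if y = z then ((l : ℚ) - μ) * w y else 0) := by
        intro y
        by_cases hy : y = z
        · subst hy; rw [hdiag, if_pos rfl]; ring
        · rw [hoff y z hy, if_neg hy]; ring
      rw [Finset.sum_congr rfl (fun y _ => e y), Finset.sum_add_distrib, ← Finset.mul_sum,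
        Finset.sum_ite_eq' Finset.univ z, if_pos (Finset.mem_univ z)] at h0
      linear_combination h0
    have hlμ : (0 : ℚ) < (l : ℚ) - μ := by
      rw [sub_pos]
      exact_mod_cast hlt
    have hS : ∑ y, w y = 0 := by
      have h1 : ((l : ℚ) - μ + (μ : ℚ) * (Fintype.card Y : ℚ)) * ∑ y, w y = 0 := by
        have h2' := Finset.sum_eq_zero (s := Finset.univ) fun z _ => hsum z
        rw [Finset.sum_add_distrib, ← Finset.mul_sum, Finset.sum_const, Finset.card_univ,
          nsmul_eq_mul] at h2'
        linear_combination h2'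
      refine (mul_eq_zero.mp h1).resolve_left (ne_of_gt ?_)
      positivity
    intro z
    have := hsum z
    rw [hS, mul_zero, add_zero] at this
    exact (mul_eq_zero.mp this).resolve_left hlμ.ne'
  have hle := hind.fintype_card_le_finrank
  rw [Module.finrank_fintype_fun_eq_card] at hle
  have hX : Fintype.card X = Δ.card := by
    rw [← hr, Fintype.card_subtype]
    congr 1
    ext q
    simp
  have hY : Fintype.card Y = p - 1 := by
    rw [Fintype.card_subtype_compl, Fintype.card_subtype_eq, hα]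
  rw [hX, hY] at hle
  have hcompl : (Δᶜ).card ≤ 1 := by rw [Finset.card_compl, hα]; omega
  apply hno c
  intro h hh
  exact Finset.card_le_one.mp hcompl _ (Finset.mem_compl.mpr fun hmem => hcΔ ((hΔ h hh c).mp hmem))
    c (Finset.mem_compl.mpr hcΔ)

end Cfsg.Agent.Lib.Perm
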