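import Mathlib

/-!
# Blocks of the 3-cycles of a permutation group
-/

set_option autoImplicit false

namespace Cfsg.Agent.Lib.Perm.ThreeBlocks

open Equiv

variable {α : Type*} [Fintype α] [DecidableEq α]

/-- The 3-cycle `a → b → c → a`. -/
def cyc (a b c : α) : Equiv.Perm α := Equiv.swap a b * Equiv.swap b c

theorem cyc_left {a b c : α} (h₁ : a ≠ b) (h₂ : a ≠ c) : cyc a b c a = b := by
  simp [cyc, Equiv.swap_apply_of_ne_of_ne h₁ h₂]

theorem cyc_mid {a b c : α} (h₁ : c ≠ a) (h₂ : c ≠ b) : cyc a b c b = c := by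
  simp [cyc, Equiv.swap_apply_of_ne_of_ne h₁ h₂]

theorem cyc_right {a b c : α} : cyc a b c c = a := by
  simp [cyc]

theorem cyc_other {a b c x : α} (h₁ : x ≠ a) (h₂ : x ≠ b) (h₃ : x ≠ c) : cyc a b c x = x := by
  simp [cyc, Equiv.swap_apply_of_ne_of_ne h₂ h₃, Equiv.swap_apply_of_ne_of_ne h₁ h₂]

theorem cyc_rot {a b c : α} (hab : a ≠ b) (hbc : b ≠ c) (hac : a ≠ c) : cyc a b c = cyc b c a := by
  ext x
  by_cases h1 : x = a
  · subst h1; rw [cyc_left hab hac, cyc_right]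
  by_cases h2 : x = b
  · subst h2; rw [cyc_mid hac.symm hbc.symm, cyc_left hbc hab.symm]
  by_cases h3 : x = c
  · subst h3; rw [cyc_right, cyc_mid hab hac]
  rw [cyc_other h1 h2 h3, cyc_other h2 h3 h1]

theorem cyc_inv (a b c : α) : (cyc a b c)⁻¹ = cyc c b a := by
  simp [cyc, Equiv.swap_comm]

theorem cyc_inv' {a b c : α} (hab : a ≠ b) (hbc : b ≠ c) (hac : a ≠ c) :
    (cyc a b c)⁻¹ = cyc b a c := by
  rw [cyc_inv, cyc_rot hbc.symm hab.symm hac.symm]

theorem cyc_conj (g : Equiv.Perm α) (a b c : α) : g * cyc a b c * g⁻¹ = cyc (g a) (g b) (g c) := by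
  simp [cyc, Equiv.swap_apply_apply, mul_assoc]

theorem cyc_mem_conj {H : Subgroup (Equiv.Perm α)} {g : Equiv.Perm α} {a b c : α} (hg : g ∈ H)
    (h : cyc a b c ∈ H) : cyc (g a) (g b) (g c) ∈ H := by
  rw [← cyc_conj]; exact mul_mem (mul_mem hg h) (inv_mem hg)

theorem exists_cyc {t : Equiv.Perm α} (ht : t.IsThreeCycle) :
    ∃ a b c, a ≠ b ∧ b ≠ c ∧ a ≠ c ∧ t = cyc a b c := by
  obtain ⟨a, ha⟩ := ht.isCycle.nonempty_support
  have hn := ht.nodup_iff_mem_support.mpr ha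
  have he := ht.eq_swap_mul_swap_iff_mem_support.mpr ha
  simp only [List.nodup_cons, List.mem_cons, List.not_mem_nil, or_false, not_or] at hn
  exact ⟨a, t a, t (t a), hn.1.1, hn.2.1, hn.1.2, he⟩

theorem cyc_isThreeCycle {a b c : α} (hab : a ≠ b) (hbc : b ≠ c) (hac : a ≠ c) :
    (cyc a b c).IsThreeCycle := by
  have : cyc a b c = Equiv.swap b a * Equiv.swap b c := by rw [cyc, Equiv.swap_comm a b]
  rw [this]
  exact Equiv.Perm.isThreeCycle_swap_mul_swap_same hab.symm hbc hac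

variable (H : Subgroup (Equiv.Perm α))

/-- `H` contains every 3-cycle on `B`. -/
def Full (B : Finset α) : Prop :=
  ∀ a ∈ B, ∀ b ∈ B, ∀ c ∈ B, a ≠ b → b ≠ c → a ≠ c → cyc a b c ∈ H

/-- A block: `H` contains every 3-cycle on `B` and no 3-cycle leading out of `B`. -/
def IsBlk (B : Finset α) : Prop :=
  3 ≤ B.card ∧ Full H B ∧
    ∀ a ∈ B, ∀ b c, a ≠ b → b ≠ c → a ≠ c → cyc a b c ∈ H → b ∈ B ∧ c ∈ B

variable {H}

theorem full_insert {B : Finset α} (hB : Full H B) {a b c : α} (ha : a ∈ B) (hb : b ∈ B)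
    (hab : a ≠ b) (hc : c ∉ B) (ht : cyc a b c ∈ H) : Full H (insert c B) := by
  have ne : ∀ {x : α}, x ∈ B → x ≠ c := fun hx e => hc (e ▸ hx)
  have hsymm : ∀ {p q : α}, p ∈ B → q ∈ B → p ≠ q → cyc p q c ∈ H → cyc q p c ∈ H := by
    intro p q hp hq hpq h
    rw [← cyc_inv' hpq (ne hq) (ne hp)]
    exact inv_mem h
  have hstep : ∀ {p q r : α}, p ∈ B → q ∈ B → r ∈ B → p ≠ q → q ≠ r → cyc p q c ∈ H → r ≠ p →
      cyc q r c ∈ H := by
    intro p q r hp hq hr hpq hqr h hrp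
    have := cyc_mem_conj (hB p hp q hq r hr hpq hqr hrp.symm) h
    rwa [cyc_left hpq hrp.symm, cyc_mid hrp hqr.symm,
      cyc_other (ne hp).symm (ne hq).symm (ne hr).symm] at this
  have hshift : ∀ {p q r : α}, p ∈ B → q ∈ B → r ∈ B → p ≠ q → q ≠ r → cyc p q c ∈ H →
      cyc q r c ∈ H := by
    intro p q r hp hq hr hpq hqr h
    by_cases hrp : r = p
    · subst hrp; exact hsymm hp hq hpq h
    · exact hstep hp hq hr hpq hqr h hrp
  have key : ∀ {x y : α}, x ∈ B → y ∈ B → x ≠ y → cyc x y c ∈ H := by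
    intro x y hx hy hxy
    by_cases hxb : x = b
    · subst hxb; exact hshift ha hx hy hab hxy ht
    · have h1 := hshift ha hb hx hab (Ne.symm hxb) ht
      exact hshift hb hx hy (Ne.symm hxb) hxy h1
  intro x hx y hy z hz hxy hyz hxz
  rw [Finset.mem_insert] at hx hy hz
  rcases hx with rfl | hx <;> rcases hy with rfl | hy <;> rcases hz with rfl | hz
  all_goals first
    | exact absurd rfl hxy
    | exact absurd rfl hyz
    | exact absurd rfl hxz
    | exact hB _ hx _ hy _ hz hxy hyz hxz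
    | exact key hx hy hxy
    | (rw [cyc_rot hxy hyz hxz]; exact key hy hz hyz)
    | (rw [cyc_rot hxy hyz hxz, cyc_rot hyz hxz.symm hxy.symm]; exact key hz hx hxz.symm)

theorem full_absorb {B : Finset α} (h3 : 3 ≤ B.card) (hB : Full H B) {a c d : α} (ha : a ∈ B)
    (hac : a ≠ c) (hcd : c ≠ d) (had : a ≠ d) (ht : cyc a c d ∈ H) :
    ∃ B', B ⊆ B' ∧ Full H B' ∧ c ∈ B' ∧ d ∈ B' := by
  by_cases hc : c ∈ B
  · by_cases hd : d ∈ B
    · exact ⟨B, subset_rfl, hB, hc, hd⟩
    · exact ⟨insert d B, Finset.subset_insert _ _, full_insert hB ha hc hac hd ht,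
        Finset.mem_insert_of_mem hc, Finset.mem_insert_self _ _⟩
  by_cases hd : d ∈ B
  · rw [cyc_rot hac hcd had, cyc_rot hcd had.symm hac.symm] at ht
    exact ⟨insert c B, Finset.subset_insert _ _, full_insert hB hd ha had.symm hc ht,
      Finset.mem_insert_self _ _, Finset.mem_insert_of_mem hd⟩
  obtain ⟨b, hb, e, he, hbe⟩ := Finset.one_lt_card.mp
    (show 1 < (B.erase a).card by rw [Finset.card_erase_of_mem ha]; omega)
  obtain ⟨hba, hb⟩ := Finset.mem_erase.mp hb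
  obtain ⟨hea, he⟩ := Finset.mem_erase.mp he
  have ne : ∀ {x y : α}, x ∈ B → y ∉ B → y ≠ x := fun hx hy e => hy (e ▸ hx)
  have hu : cyc b c d ∈ H := by
    have := cyc_mem_conj (hB a ha b hb e he hba.symm hbe hea.symm) ht
    rwa [cyc_left hba.symm hea.symm, cyc_other (ne ha hc) (ne hb hc) (ne he hc),
      cyc_other (ne ha hd) (ne hb hd) (ne he hd)] at this
  have hp : cyc b a c ∈ H := by
    have hcb := ne hb hc
    have hdb := ne hb hd
    have e1 : cyc b a c = cyc a c d * (cyc b c d)⁻¹ := by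
      rw [cyc_inv]
      ext x
      simp only [Equiv.Perm.mul_apply]
      by_cases h1 : x = b
      · subst h1; rw [cyc_left hba hcb.symm, cyc_right, cyc_right]
      by_cases h2 : x = a
      · subst h2
        rw [cyc_mid hcb hac.symm, cyc_other had hac hba.symm, cyc_left hac had]
      by_cases h3 : x = c
      · subst h3; rw [cyc_right, cyc_mid hdb.symm hcb.symm, cyc_other hba hcb.symm hdb.symm]
      by_cases h4 : x = d
      · subst h4; rw [cyc_other h1 h2 h3, cyc_left hcd.symm hdb, cyc_mid had.symm hcd.symm]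
      rw [cyc_other h1 h2 h3, cyc_other h4 h3 h1, cyc_other h2 h3 h4]
    rw [e1]; exact mul_mem ht (inv_mem hu)
  have h1 := full_insert hB hb ha hba hc hp
  exact ⟨insert d (insert c B),
    (Finset.subset_insert _ _).trans (Finset.subset_insert _ _),
    full_insert h1 (Finset.mem_insert_of_mem ha) (Finset.mem_insert_self _ _) hac
      (by simp [hd, hcd.symm]) ht,
    Finset.mem_insert_of_mem (Finset.mem_insert_self _ _), Finset.mem_insert_self _ _⟩

theorem exists_blk {a b c : α} (hab : a ≠ b) (hbc : b ≠ c) (hac : a ≠ c) (h : cyc a b c ∈ H) :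
    ∃ B, IsBlk H B ∧ a ∈ B := by
  classical
  have h0 : Full H ({a, b, c} : Finset α) := by
    intro x hx y hy z hz hxy hyz hxz
    simp only [Finset.mem_insert, Finset.mem_singleton] at hx hy hz
    have h' : cyc b a c ∈ H := by rw [← cyc_inv' hab hbc hac]; exact inv_mem h
    rcases hx with rfl | rfl | rfl <;> rcases hy with rfl | rfl | rfl <;>
      rcases hz with rfl | rfl | rfl
    all_goals first
      | exact absurd rfl hxy
      | exact absurd rfl hyz
      | exact absurd rfl hxz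
      | exact h
      | exact h'
      | (rw [cyc_rot hxy hyz hxz]; first | exact h | exact h')
      | (rw [cyc_rot hxy hyz hxz, cyc_rot hyz hxz.symm hxy.symm]; first | exact h | exact h')
  obtain ⟨B, hle, hmax⟩ := Finite.exists_le_maximal
    (p := fun B : Finset α => Full H B) h0
  have h3 : 3 ≤ B.card :=
    le_trans (by simp [hab, hbc, hac]) (Finset.card_le_card hle)
  refine ⟨B, ⟨h3, hmax.1, fun x hx y z hxy hyz hxz ht => ?_⟩, hle (by simp)⟩
  obtain ⟨B', hBB', hB', hy, hz⟩ := full_absorb h3 hmax.1 hx hxy hyz hxz ht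
  have hle' : B' ⊆ B := hmax.2 hB' hBB'
  exact ⟨hle' hy, hle' hz⟩

theorem exists_two_others {B : Finset α} (h3 : 3 ≤ B.card) (a : α) (ha : a ∈ B) :
    ∃ b ∈ B, ∃ c ∈ B, a ≠ b ∧ b ≠ c ∧ a ≠ c := by
  obtain ⟨b, hb, e, he, hbe⟩ := Finset.one_lt_card.mp
    (show 1 < (B.erase a).card by rw [Finset.card_erase_of_mem ha]; omega)
  obtain ⟨hba, hb⟩ := Finset.mem_erase.mp hb
  obtain ⟨hea, he⟩ := Finset.mem_erase.mp he
  exact ⟨b, hb, e, he, hba.symm, hbe, hea.symm⟩

theorem blk_eq {B B' : Finset α} (hB : IsBlk H B) (hB' : IsBlk H B') {a : α} (ha : a ∈ B)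
    (ha' : a ∈ B') : B = B' := by
  suffices key : ∀ {B B' : Finset α}, IsBlk H B → IsBlk H B' → a ∈ B → a ∈ B' → B' ⊆ B from
    (key hB' hB ha' ha).antisymm (key hB hB' ha ha')
  intro B B' hB hB' ha ha' x hx
  by_cases hxa : x = a
  · exact hxa ▸ ha
  obtain ⟨y, hy, hy'⟩ : ∃ y ∈ B', y ≠ a ∧ y ≠ x := by
    obtain ⟨b, hb, c, hc, hab, hbc, hac⟩ := exists_two_others hB'.1 a ha'
    by_cases hbx : b = x
    · exact ⟨c, hc, hac.symm, fun e => hbc (hbx.trans e.symm)⟩
    · exact ⟨b, hb, hab.symm, hbx⟩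
  exact (hB.2.2 a ha x y (Ne.symm hxa) hy'.2.symm hy'.1.symm
    (hB'.2.1 a ha' x hx y hy (Ne.symm hxa) hy'.2.symm hy'.1.symm)).1

theorem blk_image {B : Finset α} (hB : IsBlk H B) {g : Equiv.Perm α} (hg : g ∈ H) :
    IsBlk H (B.image g) := by
  refine ⟨by rw [Finset.card_image_of_injective _ g.injective]; exact hB.1, ?_, ?_⟩
  · intro a ha b hb c hc hab hbc hac
    obtain ⟨a', ha', rfl⟩ := Finset.mem_image.mp ha
    obtain ⟨b', hb', rfl⟩ := Finset.mem_image.mp hb
    obtain ⟨c', hc', rfl⟩ := Finset.mem_image.mp hc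
    exact cyc_mem_conj hg (hB.2.1 a' ha' b' hb' c' hc' (fun e => hab (congrArg g e))
      (fun e => hbc (congrArg g e)) (fun e => hac (congrArg g e)))
  · intro a ha b c hab hbc hac ht
    obtain ⟨a', ha', rfl⟩ := Finset.mem_image.mp ha
    have h1 := cyc_mem_conj (inv_mem hg) ht
    simp only [Equiv.Perm.coe_inv, Equiv.symm_apply_apply] at h1
    have := hB.2.2 a' ha' (g⁻¹ b) (g⁻¹ c) (fun e => hab (by rw [e]; simp)) (fun e => hbc (g⁻¹.injective e))
      (fun e => hac (by rw [e]; simp)) h1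
    exact ⟨Finset.mem_image.mpr ⟨_, this.1, by simp⟩, Finset.mem_image.mpr ⟨_, this.2, by simp⟩⟩

variable (H)

/-- The subgroup generated by the 3-cycles of `H`. -/
def cycGroup : Subgroup (Equiv.Perm α) :=
  Subgroup.closure {t | t ∈ H ∧ t.IsThreeCycle}

/-- The alternating group on `B`. -/
def altOn (B : Finset α) : Subgroup (Equiv.Perm α) :=
  Subgroup.closure {t | ∃ a ∈ B, ∃ b ∈ B, ∃ c ∈ B, a ≠ b ∧ b ≠ c ∧ a ≠ c ∧ t = cyc a b c}

variable {H}

theorem cycGroup_le : cycGroup H ≤ H := (Subgroup.closure_le _).mpr fun _ h => h.1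

theorem cycGroup_normalized : H ≤ Subgroup.normalizer (cycGroup H : Set (Equiv.Perm α)) := by
  intro g hg
  rw [Subgroup.mem_normalizer_iff_map_conj_eq]
  refine le_antisymm ?_ ?_
  · show (cycGroup H).map (MulAut.conj g).toMonoidHom ≤ cycGroup H
    rw [cycGroup, MonoidHom.map_closure, Subgroup.closure_le]
    rintro _ ⟨t, ⟨ht, h3⟩, rfl⟩
    obtain ⟨a, b, c, hab, hbc, hac, rfl⟩ := exists_cyc h3
    refine Subgroup.subset_closure ⟨mul_mem (mul_mem hg ht) (inv_mem hg), ?_⟩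
    show Equiv.Perm.IsThreeCycle (g * cyc a b c * g⁻¹)
    rw [cyc_conj]
    exact cyc_isThreeCycle (g.injective.ne hab) (g.injective.ne hbc) (g.injective.ne hac)
  · show cycGroup H ≤ (cycGroup H).map (MulAut.conj g).toMonoidHom
    refine (Subgroup.closure_le _).mpr fun t ⟨ht, h3⟩ => ⟨g⁻¹ * t * g, ?_, ?_⟩
    · obtain ⟨a, b, c, hab, hbc, hac, rfl⟩ := exists_cyc h3
      refine Subgroup.subset_closure ⟨mul_mem (mul_mem (inv_mem hg) ht) hg, ?_⟩
      have := cyc_conj g⁻¹ a b c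
      rw [inv_inv] at this
      rw [this]
      exact cyc_isThreeCycle (g⁻¹.injective.ne hab) (g⁻¹.injective.ne hbc) (g⁻¹.injective.ne hac)
    · simp [mul_assoc]

theorem cyc_preserves {B : Finset α} (hB : IsBlk H B) {a b c : α} (hab : a ≠ b) (hbc : b ≠ c)
    (hac : a ≠ c) (ht : cyc a b c ∈ H) {x : α} (hx : x ∈ B) : cyc a b c x ∈ B := by
  by_cases h1 : x = a
  · subst h1; rw [cyc_left hab hac]; exact (hB.2.2 x hx b c hab hbc hac ht).1
  by_cases h2 : x = b
  · subst h2; rw [cyc_mid hac.symm hbc.symm]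
    rw [cyc_rot hab hbc hac] at ht
    exact (hB.2.2 x hx c a hbc hac.symm hab.symm ht).1
  by_cases h3 : x = c
  · subst h3; rw [cyc_right]
    rw [cyc_rot hab hbc hac, cyc_rot hbc hac.symm hab.symm] at ht
    exact (hB.2.2 x hx a b hac.symm hab hbc.symm ht).1
  rw [cyc_other h1 h2 h3]; exact hx

theorem cycGroup_preserves {B : Finset α} (hB : IsBlk H B) {g : Equiv.Perm α}
    (hg : g ∈ cycGroup H) {x : α} (hx : x ∈ B) : g x ∈ B := by
  induction hg using Subgroup.closure_induction generalizing x with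
  | mem t ht =>
    obtain ⟨a, b, c, hab, hbc, hac, rfl⟩ := exists_cyc ht.2
    exact cyc_preserves hB hab hbc hac ht.1 hx
  | one => simpa
  | mul g h _ _ ih1 ih2 => exact ih1 (ih2 hx)
  | inv g _ ih =>
    obtain ⟨y, hy, hyx⟩ := Finset.surj_on_of_inj_on_of_card_le (s := B) (t := B)
      (fun y _ => g y) (fun y hy => ih hy) (fun _ _ _ _ h => g.injective h) le_rfl x hx
    rw [show g⁻¹ x = y by rw [hyx]; simp]; exact hy

theorem altOn_le {B : Finset α} (hB : Full H B) : altOn B ≤ cycGroup H := by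
  refine (Subgroup.closure_le _).mpr ?_
  rintro _ ⟨a, ha, b, hb, c, hc, hab, hbc, hac, rfl⟩
  exact Subgroup.subset_closure ⟨hB a ha b hb c hc hab hbc hac, cyc_isThreeCycle hab hbc hac⟩

theorem altOn_normalized {B : Finset α} {g : Equiv.Perm α} (hg : ∀ x ∈ B, g x ∈ B) :
    g ∈ Subgroup.normalizer (altOn B : Set (Equiv.Perm α)) := by
  rw [Subgroup.mem_normalizer_iff_map_conj_eq]
  refine Subgroup.eq_of_le_of_card_ge ?_ ?_
  · show (altOn B).map (MulAut.conj g).toMonoidHom ≤ altOn B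
    rw [altOn, MonoidHom.map_closure, Subgroup.closure_le]
    rintro _ ⟨_, ⟨a, ha, b, hb, c, hc, hab, hbc, hac, rfl⟩, rfl⟩
    refine Subgroup.subset_closure ⟨g a, hg a ha, g b, hg b hb, g c, hg c hc,
      g.injective.ne hab, g.injective.ne hbc, g.injective.ne hac, ?_⟩
    show g * cyc a b c * g⁻¹ = _
    exact cyc_conj g a b c
  · exact le_of_eq (Subgroup.card_map_of_injective (MulAut.conj g).injective).symm

theorem altOn_eq_map (B : Finset α) :
    altOn B = (alternatingGroup {x // x ∈ B}).map (Equiv.Perm.ofSubtype) := by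
  rw [← Equiv.Perm.closure_three_cycles_eq_alternating, MonoidHom.map_closure, altOn]
  congr 1
  ext t
  constructor
  · rintro ⟨a, ha, b, hb, c, hc, hab, hbc, hac, rfl⟩
    refine ⟨cyc ⟨a, ha⟩ ⟨b, hb⟩ ⟨c, hc⟩, cyc_isThreeCycle (by simpa) (by simpa) (by simpa), ?_⟩
    simp [cyc, Equiv.Perm.ofSubtype_swap_eq]
  · rintro ⟨u, hu, rfl⟩
    obtain ⟨a, b, c, hab, hbc, hac, rfl⟩ := exists_cyc hu
    exact ⟨a, a.2, b, b.2, c, c.2, fun e => hab (Subtype.ext e), fun e => hbc (Subtype.ext e),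
      fun e => hac (Subtype.ext e), by simp [cyc, Equiv.Perm.ofSubtype_swap_eq]⟩

end Cfsg.Agent.Lib.Perm.ThreeBlocks
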