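import Mathlib
import Cfsg.Agent.Lib.Coprime.Basic

/-!
Sylow subgroups of symmetric groups, built one level at a time: on `p m + r` points (`r < p`) they are
`(C_p)^m ⋊ P_m`, with `P_m` a Sylow subgroup on `m` points permuting the blocks.
-/

set_option autoImplicit false

namespace Cfsg.Agent.Lib.Perm.SymSylow

open Equiv

variable {p m r : ℕ}

/-- The points. -/
abbrev Pts (p m r : ℕ) := Fin m × ZMod p ⊕ Fin r

/-- The base group. -/
def base : (Fin m → Multiplicative (ZMod p)) →* Perm (Pts p m r) where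
  toFun v := Equiv.sumCongr
    { toFun := fun x => (x.1, x.2 + (v x.1).toAdd)
      invFun := fun x => (x.1, x.2 - (v x.1).toAdd)
      left_inv := fun x => by simp
      right_inv := fun x => by simp } (Equiv.refl _)
  map_one' := by
    refine Equiv.ext fun x => ?_
    rcases x with x | x <;> simp
  map_mul' v w := by
    refine Equiv.ext fun x => ?_
    rcases x with x | x <;> simp [Perm.mul_apply]
    abel

/-- Permutations of the blocks. -/
def lift : Perm (Fin m) →* Perm (Pts p m r) where
  toFun σ := Equiv.sumCongr (Equiv.prodCongrLeft fun _ => σ) (Equiv.refl _)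
  map_one' := by
    refine Equiv.ext fun x => ?_
    rcases x with x | x <;> simp [Prod.ext_iff]
  map_mul' σ τ := by
    refine Equiv.ext fun x => ?_
    rcases x with x | x <;> simp [Perm.mul_apply, Prod.ext_iff]

theorem base_injective : Function.Injective (base : (Fin m → Multiplicative (ZMod p)) →* Perm (Pts p m r)) := by
  intro v w h
  funext i
  have := Equiv.congr_fun h (Sum.inl (i, 0))
  simpa [base] using this

theorem lift_injective [NeZero p] : Function.Injective (lift : Perm (Fin m) →* Perm (Pts p m r)) := by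
  intro σ τ h
  refine Equiv.ext fun i => ?_
  have := Equiv.congr_fun h (Sum.inl (i, 0))
  simpa [lift] using this

theorem conj_base (σ : Perm (Fin m)) (v : Fin m → Multiplicative (ZMod p)) :
    lift σ * base v * (lift σ)⁻¹ = (base fun i => v (σ⁻¹ i) : Perm (Pts p m r)) := by
  rw [mul_inv_eq_iff_eq_mul]
  refine Equiv.ext fun x => ?_
  rcases x with x | x <;> simp [Perm.mul_apply, base, lift]

theorem lift_le_normalizer (P : Subgroup (Perm (Fin m))) [NeZero p] :
    P.map (lift : Perm (Fin m) →* Perm (Pts p m r)) ≤ Subgroup.normalizer ((base : (Fin m → Multiplicative (ZMod p)) →* Perm (Pts p m r)).range : Set (Perm (Pts p m r))) := by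
  rintro _ ⟨σ, -, rfl⟩
  refine Subgroup.mem_normalizer_fintype ?_
  rintro _ ⟨v, rfl⟩
  exact ⟨_, (conj_base σ v).symm⟩

theorem base_inf_lift (P : Subgroup (Perm (Fin m))) [NeZero p] :
    (base : (Fin m → Multiplicative (ZMod p)) →* Perm (Pts p m r)).range ⊓ P.map lift = ⊥ := by
  rw [eq_bot_iff]
  rintro _ ⟨⟨v, rfl⟩, σ, -, hσ⟩
  rw [Subgroup.mem_bot, ← hσ]
  have : σ = 1 := Equiv.ext fun i => by
    have := Equiv.congr_fun hσ (Sum.inl (i, 0))
    simp [base, lift] at this
    simpa using this.1
  rw [this, map_one]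

theorem sign_lift [NeZero p] (σ : Perm (Fin m)) : Perm.sign (lift σ : Perm (Pts p m r)) = Perm.sign σ ^ p := by
  show Perm.sign (Equiv.sumCongr (Equiv.prodCongrLeft fun _ : ZMod p => σ) (Equiv.refl (Fin r))) = _
  rw [Perm.sign_sumCongr, Perm.sign_prodCongrLeft, Perm.sign_refl, mul_one, Finset.prod_const, Finset.card_univ, ZMod.card]

/-- In a `p`-group of permutations of the blocks every lift is even. -/
theorem sign_lift_eq_one [hp : Fact p.Prime] {P : Subgroup (Perm (Fin m))} (hP : IsPGroup p P) {σ : Perm (Fin m)} (hσ : σ ∈ P) :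
    Perm.sign (lift σ : Perm (Pts p m r)) = 1 := by
  rw [sign_lift]
  rcases Int.units_eq_one_or (Perm.sign σ) with h | h
  · rw [h, one_pow]
  rcases hp.out.eq_two_or_odd with rfl | hodd
  · rw [h]; rfl
  exfalso
  obtain ⟨k, hk⟩ := hP ⟨σ, hσ⟩
  have h1 := congrArg (fun t : P => Perm.sign (t : Perm (Fin m))) hk
  simp only [SubgroupClass.coe_pow, map_pow, h, Subgroup.coe_one, map_one] at h1
  rw [(Nat.odd_iff.mpr hodd).pow.neg_one_pow] at h1
  exact absurd h1 (by decide)

/-- One more level: a Sylow subgroup on `p m + r` points. -/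
theorem exists_sylow_succ [hp : Fact p.Prime] (hr : r < p) (Pm : Sylow p (Perm (Fin m))) :
    ∃ P : Sylow p (Perm (Pts p m r)),
      (P : Subgroup (Perm (Pts p m r))) = (base : (Fin m → Multiplicative (ZMod p)) →* Perm (Pts p m r)).range ⊔
        (Pm : Subgroup (Perm (Fin m))).map lift := by
  set B := (base : (Fin m → Multiplicative (ZMod p)) →* Perm (Pts p m r)).range with hB
  set L := (Pm : Subgroup (Perm (Fin m))).map (lift : Perm (Fin m) →* Perm (Pts p m r)) with hL
  have hc : Nat.card (B ⊔ L : Subgroup (Perm (Pts p m r))) = p ^ (Nat.card (Perm (Pts p m r))).factorization p := by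
    have hB' : Nat.card B = p ^ m := by
      rw [hB, Nat.card_congr (MonoidHom.ofInjective base_injective).toEquiv.symm, Nat.card_fun, Nat.card_eq_fintype_card,
        Nat.card_eq_fintype_card, Fintype.card_multiplicative, ZMod.card, Fintype.card_fin]
    have hL' : Nat.card L = p ^ (m.factorial).factorization p := by
      rw [hL, Subgroup.card_map_of_injective lift_injective, Pm.card_eq_multiplicity, Nat.card_perm, Nat.card_eq_fintype_card, Fintype.card_fin]
    have h1 : Nat.card (B ⊔ L : Subgroup (Perm (Pts p m r))) = Nat.card B * Nat.card L := by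
      have := Coprime.card_sup_mul_card_inf (lift_le_normalizer (p := p) (r := r) (Pm : Subgroup (Perm (Fin m))))
      rwa [base_inf_lift, Subgroup.card_bot, mul_one] at this
    rw [h1, hB', hL', ← pow_add]
    congr 1
    rw [Nat.card_perm, Nat.card_eq_fintype_card, Fintype.card_sum, Fintype.card_prod, ZMod.card, Fintype.card_fin, Fintype.card_fin,
      Nat.factorization_def _ hp.out, Nat.factorization_def _ hp.out, mul_comm m p, padicValNat_factorial_mul_add _ hr, padicValNat_factorial_mul]
    ring
  exact ⟨Sylow.ofCard _ hc, rfl⟩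

/-- Some Sylow subgroup of `S_n` is generated by elements of order dividing `p`, and so is its even part. -/
theorem exists_sylow_gen [hp : Fact p.Prime] (n : ℕ) :
    ∃ (P : Sylow p (Perm (Fin n))) (S T : Set (Perm (Fin n))),
      (∀ s ∈ S, s ^ p = 1) ∧ (∀ s ∈ T, s ^ p = 1) ∧ (P : Subgroup (Perm (Fin n))) = Subgroup.closure S ∧
      (P : Subgroup (Perm (Fin n))) ⊓ alternatingGroup (Fin n) = Subgroup.closure T := by
  induction n using Nat.strong_induction_on with
  | _ n ih =>
    by_cases hn : n < p
    · refine ⟨default, ∅, ∅, by simp, by simp, ?_, ?_⟩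
      all_goals
        have h1 : ((default : Sylow p (Perm (Fin n))) : Subgroup (Perm (Fin n))) = ⊥ := Subgroup.eq_bot_of_card_eq _ (by
          rw [Sylow.card_eq_multiplicity, Nat.card_perm, Nat.card_eq_fintype_card, Fintype.card_fin,
            Nat.factorization_factorial_eq_zero_of_lt hn, pow_zero])
        rw [h1, Subgroup.closure_empty]
      rw [bot_inf_eq]
    push Not at hn
    obtain ⟨Pm, S, T, hS, -, hPm, -⟩ := ih (n / p) (Nat.div_lt_self (lt_of_lt_of_le hp.out.pos hn) hp.out.one_lt)
    obtain ⟨P, hP⟩ := exists_sylow_succ (r := n % p) (Nat.mod_lt n hp.out.pos) Pm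
    have hcard : Fintype.card (Pts p (n / p) (n % p)) = Fintype.card (Fin n) := by
      rw [Fintype.card_sum, Fintype.card_prod, ZMod.card, Fintype.card_fin, Fintype.card_fin, Fintype.card_fin]
      exact Nat.div_add_mod' n p
    set e : Pts p (n / p) (n % p) ≃ Fin n := Fintype.equivOfCardEq hcard with he
    set E : Perm (Pts p (n / p) (n % p)) ≃* Perm (Fin n) := e.permCongrHom with hE
    set bv : (Fin (n / p) → Multiplicative (ZMod p)) →* Perm (Fin n) := E.toMonoidHom.comp base with hbv
    set lv : Perm (Fin (n / p)) →* Perm (Fin n) := E.toMonoidHom.comp lift with hlv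
    have hbp : ∀ v, bv v ^ p = 1 := fun v => by
      rw [← map_pow, show v ^ p = 1 from funext fun i => (Pi.pow_apply _ _ _).trans
        (Multiplicative.toAdd.injective (by rw [toAdd_pow, nsmul_eq_mul, ZMod.natCast_self, zero_mul]; rfl)), map_one]
    have hls : ∀ σ ∈ (Pm : Subgroup (Perm (Fin (n / p)))), Perm.sign (lv σ) = 1 := fun σ hσ =>
      (Perm.sign_permCongr e _).trans (sign_lift_eq_one Pm.isPGroup' hσ)
    have hlp : ∀ σ ∈ S, lv σ ^ p = 1 := fun σ hσ => by rw [← map_pow, hS σ hσ, map_one]
    have hP' : (P : Subgroup (Perm (Pts p (n / p) (n % p)))).map E.toMonoidHom =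
        bv.range ⊔ (Pm : Subgroup (Perm (Fin (n / p)))).map lv := by
      rw [hP, Subgroup.map_sup, MonoidHom.map_range, Subgroup.map_map]
    have hln : (Pm : Subgroup (Perm (Fin (n / p)))).map lv ≤ Subgroup.normalizer (bv.range : Set (Perm (Fin n))) := by
      rintro _ ⟨σ, -, rfl⟩
      refine Subgroup.mem_normalizer_fintype ?_
      rintro _ ⟨v, rfl⟩
      exact ⟨fun i => v (σ⁻¹ i), by
        rw [hbv, hlv, MonoidHom.comp_apply, MonoidHom.comp_apply, MonoidHom.comp_apply, ← conj_base σ v, map_mul, map_mul, map_inv]⟩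
    let T' : Set (Perm (Fin n)) := {x | x ∈ bv.range ∧ Perm.sign x = 1} ∪ lv '' S
    have hS' : (Pm : Subgroup (Perm (Fin (n / p)))).map lv = Subgroup.closure (lv '' S) := by
      rw [hPm, MonoidHom.map_closure]
    refine ⟨Sylow.ofCard ((P : Subgroup (Perm (Pts p (n / p) (n % p)))).map E.toMonoidHom) (by
        rw [Subgroup.card_map_of_injective E.injective, P.card_eq_multiplicity, Nat.card_congr E.toEquiv]),
      Set.range bv ∪ lv '' S, T', ?_, ?_, ?_, ?_⟩
    · rintro s (⟨v, rfl⟩ | ⟨σ, hσ, rfl⟩)
      exacts [hbp v, hlp σ hσ]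
    · rintro s (⟨⟨v, rfl⟩, -⟩ | ⟨σ, hσ, rfl⟩)
      exacts [hbp v, hlp σ hσ]
    · rw [Sylow.coe_ofCard, hP', Subgroup.closure_union, ← hS', ← MonoidHom.coe_range, Subgroup.closure_eq]
    · rw [Sylow.coe_ofCard, hP']
      refine le_antisymm ?_ ((Subgroup.closure_le _).mpr ?_)
      · rintro x ⟨hx, hxA⟩
        replace hx : x ∈ ((bv.range ⊔ (Pm : Subgroup (Perm (Fin (n / p)))).map lv : Subgroup (Perm (Fin n))) : Set (Perm (Fin n))) := hx
        rw [Subgroup.coe_mul_of_right_le_normalizer_left _ _ hln] at hx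
        obtain ⟨a, ha, b, hb, rfl⟩ := hx
        obtain ⟨σ, hσ, rfl⟩ := hb
        have h2 : Perm.sign (a * lv σ) = 1 := Perm.mem_alternatingGroup.mp hxA
        rw [map_mul, hls σ hσ, mul_one] at h2
        refine mul_mem (Subgroup.subset_closure (Or.inl ⟨ha, h2⟩)) ?_
        exact Subgroup.closure_mono Set.subset_union_right (hS' ▸ Subgroup.mem_map_of_mem lv hσ)
      · rintro s (⟨hs, hs1⟩ | ⟨σ, hσ, rfl⟩)
        · exact ⟨Subgroup.mem_sup_left hs, Perm.mem_alternatingGroup.mpr hs1⟩
        · have hσP : σ ∈ (Pm : Subgroup (Perm (Fin (n / p)))) := hPm ▸ Subgroup.subset_closure hσ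
          exact ⟨Subgroup.mem_sup_right (Subgroup.mem_map_of_mem lv hσP), Perm.mem_alternatingGroup.mpr (hls σ hσP)⟩

/-- A group generated by elements killed by `p` has abelianization of exponent `p`. -/
theorem pow_mem_commutator {X : Type*} [Group X] (K : Subgroup X) (S : Set X) (hK : K = Subgroup.closure S)
    (hS : ∀ s ∈ S, s ^ p = 1) (x : K) : x ^ p ∈ commutator K := by
  set R : Subgroup K := ((powMonoidHom p : Abelianization K →* Abelianization K).comp Abelianization.of).ker with hR
  have hle : K ≤ R.map K.subtype := by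
    conv_lhs => rw [hK]
    rw [Subgroup.closure_le]
    intro s hs
    refine ⟨⟨s, hK ▸ Subgroup.subset_closure hs⟩, ?_, rfl⟩
    show Abelianization.of _ ^ p = 1
    rw [← map_pow]
    exact (congrArg _ (Subtype.ext (hS s hs))).trans (map_one _)
  obtain ⟨y, hy, hyx⟩ := hle x.2
  obtain rfl := Subtype.ext hyx
  have h1 : Abelianization.of (y ^ p) = 1 := by rw [map_pow]; exact hy
  exact (QuotientGroup.eq_one_iff _).mp h1

end Cfsg.Agent.Lib.Perm.SymSylow
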