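import Cfsg.Agent.Lib.Perm.ZassenhausRegular
import Mathlib.GroupTheory.NoncommCoprod

/-!
The degree of an exceptional regular linear group is two.
-/

set_option autoImplicit false
set_option linter.style.haveILetI false
set_option linter.unusedSectionVars false

namespace Cfsg.Agent.Lib.Perm.Zassenhaus

open Cfsg.Agent.Lib.Frobenius.Zassenhaus
open Cfsg.Agent.Lib.SylowCounting.RegularLinear (Inv)

theorem q8_pairs : ((Finset.univ : Finset (QuaternionGroup 2 × QuaternionGroup 2)).filter fun uv =>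
    (∀ s t, qmap uv.1 uv.2 (s * t) = qmap uv.1 uv.2 s * qmap uv.1 uv.2 t) ∧
      ∀ s t, qmap uv.1 uv.2 s = qmap uv.1 uv.2 t → s = t).card = 24 := by decide +kernel

theorem q8_qmap_gen : ∀ u v : QuaternionGroup 2,
    (∀ s t, qmap u v (s * t) = qmap u v s * qmap u v t) →
    qmap u v (.a 1) = u ∧ qmap u v (.xa 0) = v := by decide +kernel

theorem mulAut_eq_qmap (σ : MulAut (QuaternionGroup 2)) :
    ∀ s, qmap (σ (.a 1)) (σ (.xa 0)) s = σ s := by
  rintro (i | i)
  · show σ (.a 1) ^ i.val = _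
    rw [← map_pow, QuaternionGroup.a_one_pow, ZMod.natCast_zmod_val]
  · show σ (.xa 0) * σ (.a 1) ^ i.val = _
    rw [← map_pow, ← map_mul, QuaternionGroup.a_one_pow, ZMod.natCast_zmod_val,
      QuaternionGroup.xa_mul_a, zero_add]

theorem card_mulAut_q8 : Nat.card (MulAut (QuaternionGroup 2)) = 24 := by
  refine Eq.trans ?_ q8_pairs
  rw [← Fintype.card_coe, ← Nat.card_eq_fintype_card]
  refine Nat.card_eq_of_bijective
    (fun σ => ⟨(σ (.a 1), σ (.xa 0)), by
      simp only [Finset.mem_filter, Finset.mem_univ, true_and, mulAut_eq_qmap]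
      exact ⟨map_mul σ, fun s t e => σ.injective e⟩⟩) ⟨fun σ τ e => ?_, fun w => ?_⟩
  · have e' := congrArg Subtype.val e
    simp only [Prod.mk.injEq] at e'
    exact MulEquiv.ext fun s => by rw [← mulAut_eq_qmap σ, ← mulAut_eq_qmap τ, e'.1, e'.2]
  · obtain ⟨⟨u, v⟩, hw⟩ := w
    simp only [Finset.mem_filter, Finset.mem_univ, true_and] at hw
    refine ⟨MulEquiv.ofBijective (MonoidHom.mk' (qmap u v) hw.1)
      (Finite.injective_iff_bijective.mp hw.2), Subtype.ext ?_⟩
    obtain ⟨h1, h2⟩ := q8_qmap_gen u v hw.1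
    exact Prod.ext h1 h2

/-! ### Arithmetic -/

theorem q_table' : ((List.range 5).all fun m => (List.range 5).all fun h => (List.range 9).all fun n =>
    (List.range 96).all fun p => !(decide (1 ≤ m ∧ 1 ≤ h ∧ h ≤ m ∧ 2 * m ≤ n ∧ 3 ≤ p ∧ p % 2 = 1 ∧
      (p ^ n - 1) ∣ 24 * h * (p ^ m - 1))) || (n == 2 && m == 1)) = true := by decide +kernel

theorem q_table {m h n p : ℕ} (a1 : m < 5) (a2 : h < 5) (a3 : n < 9) (a4 : p < 96) (b1 : 1 ≤ m)
    (b2 : 1 ≤ h) (b3 : h ≤ m) (b4 : 2 * m ≤ n) (b5 : 3 ≤ p) (b6 : p % 2 = 1)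
    (b7 : (p ^ n - 1) ∣ 24 * h * (p ^ m - 1)) : n = 2 ∧ m = 1 := by
  have := q_table'
  simp only [List.all_eq_true, List.mem_range] at this
  simpa [b1, b2, b3, b4, b5, b6, b7] using this m a1 h a2 n a3 p a4

theorem sl_table' : ((List.range 4).all fun m => (List.range 4).all fun h => (List.range 7).all fun n =>
    (List.range 240).all fun p => !(decide (1 ≤ m ∧ 1 ≤ h ∧ h ≤ m ∧ 2 * m ≤ n ∧ 7 ≤ p ∧ p % 2 = 1 ∧
      (p ^ n - 1) ∣ 240 * h * (p ^ m - 1))) || (n == 2 && m == 1)) = true := by decide +kernel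

theorem sl_table {m h n p : ℕ} (a1 : m < 4) (a2 : h < 4) (a3 : n < 7) (a4 : p < 240) (b1 : 1 ≤ m)
    (b2 : 1 ≤ h) (b3 : h ≤ m) (b4 : 2 * m ≤ n) (b5 : 7 ≤ p) (b6 : p % 2 = 1)
    (b7 : (p ^ n - 1) ∣ 240 * h * (p ^ m - 1)) : n = 2 ∧ m = 1 := by
  have := sl_table'
  simp only [List.all_eq_true, List.mem_range] at this
  simpa [b1, b2, b3, b4, b5, b6, b7] using this m a1 h a2 n a3 p a4

theorem bounds {p n m h c : ℕ} (hp : 2 ≤ p) (hm : 1 ≤ m) (hh : 1 ≤ h) (hhm : h ≤ m) (hn : 2 * m ≤ n)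
    (hc : 0 < c) (hd : (p ^ n - 1) ∣ c * h * (p ^ m - 1)) :
    p ^ m + 1 ≤ c * m ∧ p ^ (n - m) ≤ c * m := by
  have h2 : 2 ≤ p ^ m := le_trans hp (Nat.le_self_pow (by omega) p)
  have hle : p ^ n - 1 ≤ c * h * (p ^ m - 1) :=
    Nat.le_of_dvd (Nat.mul_pos (Nat.mul_pos hc hh) (by omega)) hd
  have hle' : p ^ n - 1 ≤ c * m * (p ^ m - 1) :=
    hle.trans (Nat.mul_le_mul_right _ (Nat.mul_le_mul_left _ hhm))
  have hsq : (p ^ m + 1) * (p ^ m - 1) ≤ p ^ n - 1 := by
    have : p ^ m * p ^ m ≤ p ^ n := by rw [← pow_add]; exact Nat.pow_le_pow_right (by omega) (by omega)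
    rw [← Nat.sq_sub_sq, one_pow, pow_two]
    omega
  refine ⟨Nat.le_of_mul_le_mul_right (hsq.trans hle') (by omega), ?_⟩
  by_contra hlt
  have h3 : (c * m + 1) * p ^ m ≤ p ^ n := by
    rw [show p ^ n = p ^ (n - m) * p ^ m by rw [← pow_add]; congr 1; omega]
    exact Nat.mul_le_mul_right _ (by omega)
  have h4 : c * m * (p ^ m - 1) + c * m = c * m * p ^ m := by
    rw [Nat.mul_sub, mul_one, Nat.sub_add_cancel (Nat.le_mul_of_pos_right _ (by omega))]
  rw [add_mul, one_mul] at h3
  omega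

theorem q_degree {p n m h : ℕ} (hp : 3 ≤ p) (ho : p % 2 = 1) (hm : 1 ≤ m) (hh : 1 ≤ h) (hhm : h ≤ m)
    (hn : 2 * m ≤ n) (hd : (p ^ n - 1) ∣ 24 * h * (p ^ m - 1)) : n = 2 ∧ m = 1 := by
  obtain ⟨h1, h2⟩ := bounds (by omega) hm hh hhm hn (by norm_num) hd
  have hm5 : m < 5 := by
    by_contra hlt
    have : ∀ k, 5 ≤ k → 24 * k ≤ 3 ^ k := fun k hk => by
      induction k, hk using Nat.le_induction with
      | base => norm_num
      | succ k hk ih => rw [pow_succ]; omega
    have := (this m (by omega)).trans (Nat.pow_le_pow_left hp m)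
    omega
  have hn9 : n < 9 := by
    by_contra hlt
    have := (Nat.pow_le_pow_left hp (n - m)).trans' (Nat.pow_le_pow_right (show 1 ≤ 3 by norm_num)
      (show 5 ≤ n - m by omega))
    omega
  exact q_table hm5 (h := h) (by omega) hn9 (p := p) (by have := Nat.le_self_pow (show m ≠ 0 by omega) p; omega)
    hm hh hhm hn hp ho hd

theorem sl_degree {p n m h : ℕ} (hp : 7 ≤ p) (ho : p % 2 = 1) (hm : 1 ≤ m) (hh : 1 ≤ h) (hhm : h ≤ m)
    (hn : 2 * m ≤ n) (hd : (p ^ n - 1) ∣ 240 * h * (p ^ m - 1)) : n = 2 ∧ m = 1 := by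
  obtain ⟨h1, h2⟩ := bounds (by omega) hm hh hhm hn (by norm_num) hd
  have hm4 : m < 4 := by
    by_contra hlt
    have : ∀ k, 4 ≤ k → 240 * k ≤ 7 ^ k := fun k hk => by
      induction k, hk using Nat.le_induction with
      | base => norm_num
      | succ k hk ih => rw [pow_succ]; omega
    have := (this m (by omega)).trans (Nat.pow_le_pow_left hp m)
    omega
  have hn7 : n < 7 := by
    by_contra hlt
    have := (Nat.pow_le_pow_left hp (n - m)).trans' (Nat.pow_le_pow_right (show 1 ≤ 7 by norm_num)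
      (show 4 ≤ n - m by omega))
    omega
  have hp240 : p < 240 := by
    by_contra hlt
    have : 240 * m ≤ p ^ m := by
      rcases (show m = 1 ∨ m = 2 ∨ m = 3 by omega) with rfl | rfl | rfl
      · rw [pow_one]; omega
      · rw [pow_two]; nlinarith
      · rw [show p ^ 3 = p * p * p by ring]; nlinarith
    omega
  exact sl_table hm4 (h := h) (by omega) hn7 hp240 hm hh hhm hn hp ho hd

/-! ### The group -/

variable {p : ℕ} [Fact p.Prime] {V : Type*} [AddCommGroup V] [Module (ZMod p) V] [Finite V]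
  {H : Subgroup (V ≃ₗ[ZMod p] V)}

theorem irreducible_of_finrank_two (hreg : Reg H) (hn : Module.finrank (ZMod p) V = 2)
    (N : Subgroup H) (hNna : ¬ IsMulCommutative N) :
    ∀ W : Submodule (ZMod p) V, Inv H N W → W = ⊥ ∨ W = ⊤ := by
  intro W hW
  by_contra hne
  rw [not_or] at hne
  haveI : Module.Finite (ZMod p) V := Module.Finite.of_finite
  have h1 : Module.finrank (ZMod p) W = 1 := by
    have := Submodule.finrank_lt hne.2
    have h0 : 0 < Module.finrank (ZMod p) W :=
      Module.finrank_pos_iff.2 (Submodule.nontrivial_iff_ne_bot.2 hne.1)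
    omega
  obtain ⟨⟨v, hv⟩, hv0, hspan⟩ := finrank_eq_one_iff'.mp h1
  have hv' : v ≠ 0 := fun e => hv0 (Subtype.ext e)
  have heig : ∀ g : N, ∃ c : ZMod p, ((g : H) : V ≃ₗ[ZMod p] V) v = c • v := fun g => by
    obtain ⟨c, hc⟩ := hspan ⟨_, hW g g.2 v hv⟩
    exact ⟨c, (congrArg Subtype.val hc).symm⟩
  refine hNna ⟨⟨fun a b => Subtype.ext ?_⟩⟩
  obtain ⟨α, ha⟩ := heig a
  obtain ⟨β, hb⟩ := heig b
  refine (hreg v _ hv' ?_).unique rfl ?_
  · intro e
    exact hv' ((((a * b : N) : H) : V ≃ₗ[ZMod p] V).map_eq_zero_iff.mp e)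
  · show ((b : H) : V ≃ₗ[ZMod p] V) (((a : H) : V ≃ₗ[ZMod p] V) v) =
      ((a : H) : V ≃ₗ[ZMod p] V) (((b : H) : V ≃ₗ[ZMod p] V) v)
    rw [ha, hb, map_smul, map_smul, ha, hb, smul_smul, smul_smul, mul_comm]

theorem exists_field_degree (hreg : Reg H) (hI : Red H) (A : Subgroup H) (hAn : A.Normal)
    (hAc : IsMulCommutative A) :
    IsCyclic A ∧ ∃ m, 1 ≤ m ∧ 2 * m ≤ Module.finrank (ZMod p) V ∧ Nat.card A ∣ p ^ m - 1 ∧
      (Subgroup.centralizer (A : Set H)).index ≤ m := by
  classical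
  haveI := hAn
  haveI := hAc
  haveI := finite_of H
  have hred : ∃ W : Submodule (ZMod p) V, W ≠ ⊥ ∧ W ≠ ⊤ ∧ Inv H A W := by
    by_contra hno
    refine hno (hI A hAn ?_)
    exact Cfsg.Agent.Lib.SylowCounting.RegularLinear.cyclic_of_irreducible A hreg (fun W hW => by
      by_contra h
      simp only [not_or] at h
      exact hno ⟨W, h.1, h.2, hW⟩)
  obtain ⟨hcyc, W, h1, h2, h3, h4, h5, h6, h7, h8⟩ :=
    Cfsg.Agent.Lib.SylowCounting.RegularLinear.main A hreg hred
  haveI : Module.Finite (ZMod p) V := Module.Finite.of_finite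
  refine ⟨hcyc, _, Module.finrank_pos_iff.2 (Submodule.nontrivial_iff_ne_bot.2 h1), h6, h5, ?_⟩
  rw [← (Subgroup.centralizer (A : Set H)).card_mul_index] at h7
  exact Nat.le_of_mul_le_mul_left h7 Nat.card_pos

theorem card_centralizer_dvd {G : Type*} [Group G] [Finite G] (A N : Subgroup G) [A.Normal] [N.Normal]
    (hA : Subgroup.centralizer (N : Set G) ⊓ Subgroup.centralizer (A : Set G) = A) :
    Nat.card (Subgroup.centralizer (A : Set G)) ∣ Nat.card A * Nat.card (MulAut N) := by
  set C := Subgroup.centralizer (A : Set G)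
  set r : C →* MulAut N := MulAut.conjNormal.comp C.subtype
  have hk : r.ker.map C.subtype = A := by
    rw [← hA]
    ext g
    constructor
    · rintro ⟨c, hc, rfl⟩
      refine ⟨fun n hn => ?_, c.2⟩
      have := congrArg Subtype.val (DFunLike.congr_fun (MonoidHom.mem_ker.mp hc) (⟨n, hn⟩ : N))
      change ((MulAut.conjNormal (c : G)) (⟨n, hn⟩ : N) : G) = n at this
      rw [MulAut.conjNormal_apply] at this
      exact (mul_inv_eq_iff_eq_mul.mp this).symm
    · rintro ⟨h1, h2⟩
      refine ⟨⟨g, h2⟩, MonoidHom.mem_ker.mpr (MulEquiv.ext fun n => Subtype.ext ?_), rfl⟩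
      show ((MulAut.conjNormal g) n : G) = n
      rw [MulAut.conjNormal_apply, ← h1 n n.2, mul_inv_cancel_right]
  have h := r.ker.card_mul_index
  rw [Subgroup.index_ker, ← Subgroup.card_map_of_injective C.subtype_injective, hk] at h
  rw [← h]
  exact Nat.mul_dvd_mul_left _ (Subgroup.card_subgroup_dvd_card _)

/-- The structure available when the minimal normal subgroup is `SL(2,5)`. -/
theorem sl_structure {G : Type*} [Group G] [Finite G] (hG : IsFPF G) (A : Subgroup G) (hAn : A.Normal)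
    (hAc : IsMulCommutative A) (hAmax : ∀ B : Subgroup G, B.Normal → IsMulCommutative B → A ≤ B → B = A)
    (N : Subgroup G) (hNn : N.Normal) (hNle : N ≤ Subgroup.centralizer (A : Set G))
    (hNmin : ∀ M : Subgroup G, M.Normal → M ≤ N → ¬ IsMulCommutative M → M = N)
    (e : N ≃* Matrix.SpecialLinearGroup (Fin 2) (ZMod 5)) :
    ∃ M : Subgroup G, (Nat.card M).Coprime 30 ∧ IsZGroup M ∧ N ⊓ M = ⊥ ∧
      (∀ c ∈ Subgroup.centralizer (N : Set G), Odd (orderOf c) → c ∈ M) ∧
      M ≤ Subgroup.centralizer (N : Set G) ∧ Nat.card (N ⊔ M : Subgroup G) = 120 * Nat.card M ∧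
      ((N ⊔ M).index = 1 ∨ (N ⊔ M).index = 2) ∧
      ∃ Θ : G →* MulAut (alternatingGroup (Fin 5)), Θ.ker = Subgroup.centralizer (N : Set G) := by
  haveI := hNn
  have hns : ¬ Group.IsSolvable G := fun h => by
    haveI : Group.IsSolvable (Matrix.SpecialLinearGroup (Fin 2) (ZMod 5)) :=
      Group.isSolvable_of_surjective (f := e.toMonoidHom) e.surjective
    exact Ico.not_isSolvable ico_sl25 inferInstance
  obtain ⟨U, M, hUn, hMn, hU, -, hcop, hZ, hdisj, hcomm, hi, Θ, hΘ, hodd⟩ := hG.nonsolvable hns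
  haveI := hUn
  haveI := hMn
  -- `U` and `N` coincide
  have hUN : U = N := by
    haveI := hZ
    have hsolvQ : Group.IsSolvable (G ⧸ U) := by
      set K := (U ⊔ M).map (QuotientGroup.mk' U)
      haveI : K.Normal := Subgroup.Normal.map inferInstance _ (QuotientGroup.mk'_surjective U)
      haveI : Group.IsSolvable K := by
        have hK : K = M.map (QuotientGroup.mk' U) := by
          simp only [K, Subgroup.map_sup, QuotientGroup.map_mk'_self, bot_sup_eq]
        rw [hK]
        exact Group.isSolvable_of_surjective (MonoidHom.subgroupMap_surjective (QuotientGroup.mk' U) M)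
      have hKi : K.index ∣ 2 := by
        refine (Subgroup.index_map_dvd _ (QuotientGroup.mk'_surjective U)).trans ?_
        rcases hi with hi | hi <;> rw [hi] <;> norm_num
      haveI : Group.IsSolvable ((G ⧸ U) ⧸ K) := by
        haveI : Fact (Nat.Prime 2) := ⟨Nat.prime_two⟩
        refine Group.isSolvable_of_comm fun a b => ?_
        rcases (Nat.dvd_prime Nat.prime_two).mp hKi with hk | hk
        · haveI := (Nat.card_eq_one_iff_unique.mp hk).1
          exact Subsingleton.elim _ _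
        · haveI : IsCyclic ((G ⧸ U) ⧸ K) := isCyclic_of_prime_card (p := 2) hk
          letI := IsCyclic.commGroup (α := (G ⧸ U) ⧸ K)
          exact mul_comm a b
      exact Group.isSolvable_of_ker_le_range (f := K.subtype) (g := QuotientGroup.mk' K)
        (by rw [QuotientGroup.ker_mk', Subgroup.range_subtype])
    have hle : N ≤ U := by
      by_contra hle
      have hne : U ⊓ N ≠ N := fun h => hle (inf_eq_right.mp h)
      have hab : IsMulCommutative (U ⊓ N : Subgroup G) := by
        by_contra h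
        exact hne (hNmin _ inferInstance inf_le_right h)
      haveI : Group.IsSolvable (U ⊓ N : Subgroup G) :=
        Group.isSolvable_of_comm fun a b => hab.is_comm.comm a b
      haveI : Group.IsSolvable N := Group.isSolvable_of_ker_le_range
        (f := Subgroup.inclusion (inf_le_right : U ⊓ N ≤ N)) (g := (QuotientGroup.mk' U).comp N.subtype)
        (fun x hx => ⟨⟨x, (QuotientGroup.eq_one_iff _).mp hx, x.2⟩, rfl⟩)
      exact Ico.not_isSolvable ico_sl25
        (Group.isSolvable_of_surjective (f := e.toMonoidHom) e.surjective)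
    refine (Subgroup.eq_of_le_of_card_ge hle (le_of_eq ?_)).symm
    rw [hU.1, Nat.card_congr e.toEquiv, ico_sl25.1]
  subst hUN
  refine ⟨M, hcop, hZ, hdisj, hodd, fun x hx s hs => hcomm s hs x hx, ?_, hi, Θ, hΘ⟩
  have hc : ∀ (s : U) (x : M), Commute (U.subtype s) (M.subtype x) := fun s x => hcomm s s.2 x x.2
  have hinj : Function.Injective (U.subtype.noncommCoprod M.subtype hc) := by
    rw [MonoidHom.noncommCoprod_injective]
    exact ⟨U.subtype_injective, M.subtype_injective,
      by rw [Subgroup.range_subtype, Subgroup.range_subtype, disjoint_iff]; exact hdisj⟩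
  have := Nat.card_congr (MonoidHom.ofInjective hinj).toEquiv
  rw [MonoidHom.noncommCoprod_range, Subgroup.range_subtype, Subgroup.range_subtype, Nat.card_prod, hU.1] at this
  exact this.symm

theorem finrank_eq_two (hreg : Reg H) (hI : Red H) (A : Subgroup H) (hAn : A.Normal)
    (hAc : IsMulCommutative A) (hAmax : ∀ B : Subgroup H, B.Normal → IsMulCommutative B → A ≤ B → B = A)
    (N : Subgroup H) (hNn : N.Normal) (hNle : N ≤ Subgroup.centralizer (A : Set H))
    (hNna : ¬ IsMulCommutative N)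
    (hNmin : ∀ M : Subgroup H, M.Normal → M ≤ N → ¬ IsMulCommutative M → M = N) :
    Module.finrank (ZMod p) V = 2 ∧ Nat.card A ∣ p - 1 ∧
      (Subgroup.centralizer (A : Set H)) = ⊤ := by
  haveI := finite_of H
  haveI := hAn
  haveI := hNn
  haveI : Nontrivial V := nontrivial_of_red hI
  have hG := isFPF hreg
  have hN := shape_of_minimal hG A hAn hAc hAmax N hNn hNle hNna hNmin
  have hD := centralizer_inf_eq hG A hAn hAc hAmax N hNn hNle hN
  have hcard := card_add_one hreg
  obtain ⟨-, m, hm1, hm2, hm3, hm4⟩ := exists_field_degree hreg hI A hAn hAc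
  set C := Subgroup.centralizer (A : Set H)
  have hp := (Fact.out : p.Prime)
  have hndvd := not_dvd_card hreg
  have hHpn : Nat.card H = p ^ Module.finrank (ZMod p) V - 1 := by omega
  have hC0 : 1 ≤ C.index := Nat.one_le_iff_ne_zero.mpr Subgroup.index_ne_zero_of_finite
  obtain ⟨h2, h3⟩ : Module.finrank (ZMod p) V = 2 ∧ m = 1 := by
    rcases id hN with ⟨⟨e⟩⟩ | ⟨⟨e⟩⟩
    · have h8 : 8 ∣ Nat.card H := by
        have := Subgroup.card_subgroup_dvd_card N
        rwa [Nat.card_congr e.toEquiv, Nat.card_eq_fintype_card, QuaternionGroup.card] at this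
      have hp2 : p ≠ 2 := fun e2 => hndvd ((show p ∣ 8 from e2.symm ▸ (by norm_num : 2 ∣ 8)).trans h8)
      have hodd : p % 2 = 1 := hp.odd_of_ne_two hp2 |> Nat.odd_iff.mp
      refine q_degree (by have := hp.two_le; omega) hodd hm1 hC0 hm4 hm2 ?_
      have hd := card_centralizer_dvd A N hD
      rw [Nat.card_congr (MulAut.congr e).toEquiv, card_mulAut_q8] at hd
      rw [← hHpn, ← C.card_mul_index]
      calc Nat.card C * C.index ∣ Nat.card A * 24 * C.index := Nat.mul_dvd_mul_right hd _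
        _ ∣ (p ^ m - 1) * 24 * C.index := Nat.mul_dvd_mul_right (Nat.mul_dvd_mul_right hm3 _) _
        _ = 24 * C.index * (p ^ m - 1) := by ring
    · obtain ⟨M, hcop, -, hdisj, -, hMN, hsup, hi, -⟩ := sl_structure hG A hAn hAc hAmax N hNn hNle hNmin e
      have hle : M ⊓ C ≤ A := fun x hx => hD.le ⟨hMN hx.1, hx.2⟩
      have hMcard : Nat.card M = Nat.card (M ⊓ C : Subgroup H) * C.relIndex M := by
        rw [← Subgroup.inf_relIndex_left, ← Subgroup.relIndex_bot_left, ← Subgroup.relIndex_bot_left,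
          Subgroup.relIndex_mul_relIndex _ _ _ bot_le inf_le_left]
      have hrel : C.relIndex M ∣ C.index := Subgroup.relIndex_dvd_index_of_normal C M
      have h120 : 120 ∣ Nat.card H := by
        rw [← (N ⊔ M).card_mul_index, hsup]
        exact Dvd.dvd.mul_right (dvd_mul_right _ _) _
      have hp7 : 7 ≤ p := by
        by_contra hlt
        have h2 := hp.two_le
        interval_cases p
        · exact hndvd (Dvd.dvd.trans (by norm_num) h120)
        · exact hndvd (Dvd.dvd.trans (by norm_num) h120)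
        · norm_num at hp
        · exact hndvd (Dvd.dvd.trans (by norm_num) h120)
        · norm_num at hp
      refine sl_degree hp7 (Nat.odd_iff.mp (hp.odd_of_ne_two (by omega))) hm1 hC0 hm4 hm2 ?_
      rw [← hHpn, ← (N ⊔ M).card_mul_index, hsup, hMcard]
      have h2i : (N ⊔ M).index ∣ 2 := by rcases hi with h | h <;> rw [h] <;> norm_num
      calc 120 * (Nat.card (M ⊓ C : Subgroup H) * C.relIndex M) * (N ⊔ M).index
            ∣ 120 * ((p ^ m - 1) * C.index) * 2 := Nat.mul_dvd_mul (Nat.mul_dvd_mul_left _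
              (Nat.mul_dvd_mul ((Subgroup.card_dvd_of_le hle).trans hm3) hrel)) h2i
        _ = 240 * C.index * (p ^ m - 1) := by ring
  refine ⟨h2, by rwa [h3, pow_one] at hm3, Subgroup.index_eq_one.mp (by omega)⟩

theorem centralizer_eq (hreg : Reg H) (hI : Red H) (A : Subgroup H) (hAn : A.Normal)
    (hAc : IsMulCommutative A) (hAmax : ∀ B : Subgroup H, B.Normal → IsMulCommutative B → A ≤ B → B = A)
    (N : Subgroup H) (hNn : N.Normal) (hNle : N ≤ Subgroup.centralizer (A : Set H))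
    (hNna : ¬ IsMulCommutative N)
    (hNmin : ∀ M : Subgroup H, M.Normal → M ≤ N → ¬ IsMulCommutative M → M = N) :
    (∀ W : Submodule (ZMod p) V, Inv H N W → W = ⊥ ∨ W = ⊤) ∧
      Subgroup.centralizer (N : Set H) = A := by
  haveI := hAn
  haveI := hNn
  obtain ⟨h2, -, -⟩ := finrank_eq_two hreg hI A hAn hAc hAmax N hNn hNle hNna hNmin
  have hirr := irreducible_of_finrank_two hreg h2 N hNna
  exact ⟨hirr, hAmax _ inferInstance (comm_centralizer N hirr) (Subgroup.le_centralizer_iff.mp hNle)⟩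

end Cfsg.Agent.Lib.Perm.Zassenhaus
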