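import Mathlib
import Cfsg.Agent.Lib.Characters.Brauer

/-!
An elementary exponential bound on the number of conjugacy classes of a permutation group.
-/

set_option autoImplicit false
set_option linter.unusedSectionVars false

namespace Cfsg.Agent.Lib.Perm.ClassBound

open Equiv

/-- Number of cycles, fixed points included. -/
noncomputable def cyc {Ω : Type*} (f : Perm Ω) : ℕ := Nat.card (Quotient (Perm.SameCycle.setoid f))

theorem exists_mem_fibre {S : Type*} [Group S] {Ω : Type*} [MulAction S Ω] {M : Subgroup S} [M.Normal] {p : ℕ}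
    [hp : Fact p.Prime] (hM : M.index = p) {π : Ω → S ⧸ M} (hπ : ∀ (t : S) α, π (t • α) = (t : S ⧸ M) * π α)
    {x : S} (hx : x ∉ M) (α : Ω) : ∃ i : ℤ, π (x ^ i • α) = 1 := by
  have hx1 : (x : S ⧸ M) ≠ 1 := fun h => hx ((QuotientGroup.eq_one_iff x).1 h)
  have hcard : Nat.card (S ⧸ M) = p := hM
  obtain ⟨i, hi⟩ := Subgroup.mem_zpowers_iff.1
    (mem_zpowers_of_prime_card hcard hx1 : (π α)⁻¹ ∈ Subgroup.zpowers (x : S ⧸ M))
  exact ⟨i, by rw [hπ, QuotientGroup.mk_zpow, hi, inv_mul_cancel]⟩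

/-- Cycles of a restriction as cycles of the permutation. -/
def subMap {Ω : Type*} {f : Perm Ω} {q : Ω → Prop} {h : ∀ β, q (f β) ↔ q β}
    (g : Perm {β // q β}) (hg : g = f.subtypePerm h) :
    Quotient (Perm.SameCycle.setoid g) → Quotient (Perm.SameCycle.setoid f) :=
  Quotient.map' Subtype.val fun β γ hh => by
    subst hg
    exact Perm.sameCycle_subtypePerm.1 hh

/-- Orbit count of a group of permutations. -/
noncomputable def orbN {Ω : Type*} (S : Subgroup (Perm Ω)) : ℕ := Nat.card (MulAction.orbitRel.Quotient ↥S Ω)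

theorem cycle_sum_bound {p : ℕ} [hp : Fact p.Prime] {a b c : ℝ} (ha : 1 ≤ a) (hab : a ≤ b) (hc : 1 ≤ c)
    (hpc : (p : ℝ) ≤ c ^ (p - 1)) (h1 : ((p : ℝ) - 1) + a ^ (p - 1) ≤ b ^ (p - 1)) (h2 : c ^ p * a ≤ b ^ p) :
    ∀ (n : ℕ) (Ω : Type) [Fintype Ω], Fintype.card Ω = n → ∀ (S : Subgroup (Perm Ω)) [Fintype ↥S], IsPGroup p ↥S →
      orbN S ≤ n ∧ ∑ x : ↥S, a ^ cyc (x : Perm Ω) ≤ a ^ orbN S * b ^ (n - orbN S) ∧
        (Fintype.card ↥S : ℝ) ≤ c ^ (n - orbN S) := by
  intro n
  induction n using Nat.strong_induction_on with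
  | _ n ih =>
  intro Ω _ hn S _ hS
  classical
  have hb0 : (0 : ℝ) ≤ b := by linarith
  have hp1 := hp.out.one_lt
  have hle : orbN S ≤ n := by
    rw [orbN, ← hn, ← Nat.card_eq_fintype_card]
    exact Nat.card_le_card_of_surjective _ Quotient.mk''_surjective
  refine ⟨hle, ?_⟩
  by_cases hn1 : n ≤ 1
  · haveI hsub : Subsingleton Ω := Fintype.card_le_one_iff_subsingleton.1 (by omega)
    have hsS : Subsingleton ↥S := ⟨fun x y => Subtype.ext (Equiv.ext fun α => Subsingleton.elim _ _)⟩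
    have ho : orbN S = n := by
      rw [orbN, ← hn, ← Nat.card_eq_fintype_card]
      exact (Nat.card_eq_of_bijective _ ⟨fun x y _ => Subsingleton.elim x y, Quotient.mk''_surjective⟩).symm
    have hcy : cyc ((1 : ↥S) : Perm Ω) = n := by
      rw [cyc, ← hn, ← Nat.card_eq_fintype_card]
      exact (Nat.card_eq_of_bijective (Quotient.mk (Perm.SameCycle.setoid _))
        ⟨fun x y _ => Subsingleton.elim x y, Quotient.mk_surjective⟩).symm
    rw [ho, Nat.sub_self, pow_zero, mul_one, pow_zero, Fintype.sum_subsingleton _ (1 : ↥S), hcy]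
    exact ⟨le_rfl, by exact_mod_cast Fintype.card_le_one_iff_subsingleton.2 hsS⟩
  obtain ⟨ω⟩ : Nonempty Ω := Fintype.card_pos_iff.1 (by omega)
  by_cases hint : ∃ α, α ∉ MulAction.orbit ↥S ω
  · -- split off the orbit of `ω`
    obtain ⟨α, hα⟩ := hint
    let q : Ω → Prop := fun β => β ∈ MulAction.orbit ↥S ω
    have hq : ∀ (x : ↥S) β, q ((x : Perm Ω) β) ↔ q β := fun x β => by
      show x • β ∈ MulAction.orbit ↥S ω ↔ _
      rw [← MulAction.orbit_eq_iff, MulAction.orbit_smul, MulAction.orbit_eq_iff]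
    let r1 : ↥S →* Perm {β // q β} :=
      { toFun := fun x => (x : Perm Ω).subtypePerm fun β => hq x β
        map_one' := by ext; rfl
        map_mul' := fun x y => by ext; rfl }
    let r2 : ↥S →* Perm {β // ¬ q β} :=
      { toFun := fun x => (x : Perm Ω).subtypePerm fun β => not_congr (hq x β)
        map_one' := by ext; rfl
        map_mul' := fun x y => by ext; rfl }
    have hlt1 : Fintype.card {β // q β} < n := hn ▸ Fintype.card_subtype_lt (p := q) hα
    have hlt2 : Fintype.card {β // ¬ q β} < n :=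
      hn ▸ Fintype.card_subtype_lt (p := fun β => ¬ q β) (x := ω) (fun h => h (MulAction.mem_orbit_self ω))
    obtain ⟨g1, f1, e1⟩ := ih _ hlt1 {β // q β} rfl r1.range (hS.of_surjective _ r1.rangeRestrict_surjective)
    obtain ⟨g2, f2, e2⟩ := ih _ hlt2 {β // ¬ q β} rfl r2.range (hS.of_surjective _ r2.rangeRestrict_surjective)
    have hsum : n = Fintype.card {β // q β} + Fintype.card {β // ¬ q β} := by
      rw [← Fintype.card_sum, ← hn]; exact Fintype.card_congr (Equiv.sumCompl q).symm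
    set n1 := Fintype.card {β // q β}
    set n2 := Fintype.card {β // ¬ q β}
    set o1 := orbN r1.range
    set o2 := orbN r2.range
    have horb : orbN S ≤ o1 + o2 := by
      show Nat.card _ ≤ Nat.card _ + Nat.card _
      rw [← Nat.card_sum]
      refine Nat.card_le_card_of_surjective (Sum.elim
        (Quotient.map' Subtype.val ?_) (Quotient.map' Subtype.val ?_)) ?_
      · rintro β γ ⟨⟨_, x, rfl⟩, h⟩
        exact ⟨x, congrArg Subtype.val h⟩
      · rintro β γ ⟨⟨_, x, rfl⟩, h⟩
        exact ⟨x, congrArg Subtype.val h⟩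
      · intro Q
        induction Q using Quotient.inductionOn' with
        | h β =>
          by_cases hβ : q β
          · exact ⟨Sum.inl (Quotient.mk'' ⟨β, hβ⟩), rfl⟩
          · exact ⟨Sum.inr (Quotient.mk'' ⟨β, hβ⟩), rfl⟩
    have hcyc : ∀ x : ↥S, cyc (x : Perm Ω) = cyc (r1 x) + cyc (r2 x) := by
      intro x
      rw [cyc, cyc, cyc, ← Nat.card_sum]
      refine (Nat.card_eq_of_bijective (Sum.elim (subMap (f := (x : Perm Ω)) (h := fun β => hq x β) (r1 x) rfl)
        (subMap (f := (x : Perm Ω)) (h := fun β => not_congr (hq x β)) (r2 x) rfl)) ⟨?_, ?_⟩).symm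
      · have hqq : ∀ {β γ}, (x : Perm Ω).SameCycle β γ → (q β ↔ q γ) := by
          rintro β γ ⟨i, rfl⟩
          rw [← SubgroupClass.coe_zpow]
          exact (hq (x ^ i) β).symm
        rintro (Q | Q) (R | R) h <;> obtain ⟨β, rfl⟩ := Quotient.exists_rep Q <;>
          obtain ⟨γ, rfl⟩ := Quotient.exists_rep R <;>
          have h' : (x : Perm Ω).SameCycle β.1 γ.1 := Quotient.exact h
        · exact congrArg Sum.inl (Quotient.sound ((Perm.sameCycle_subtypePerm (f := (x : Perm Ω)) (p := q) (h := fun β => hq x β)).2 h'))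
        · exact absurd ((hqq h').1 β.2) γ.2
        · exact absurd ((hqq h').2 γ.2) β.2
        · exact congrArg Sum.inr (Quotient.sound ((Perm.sameCycle_subtypePerm (f := (x : Perm Ω)) (p := fun β => ¬ q β) (h := fun β => not_congr (hq x β))).2 h'))
      · intro Q
        induction Q using Quotient.inductionOn with
        | h β =>
          by_cases hβ : q β
          · exact ⟨Sum.inl ⟦⟨β, hβ⟩⟧, rfl⟩
          · exact ⟨Sum.inr ⟦⟨β, hβ⟩⟧, rfl⟩
    let f : ↥S → ↥r1.range × ↥r2.range := fun x => (r1.rangeRestrict x, r2.rangeRestrict x)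
    have hf : Function.Injective f := by
      intro x y h
      refine Subtype.ext (Equiv.ext fun β => ?_)
      by_cases hβ : q β
      · exact congrArg Subtype.val (Equiv.congr_fun (congrArg (fun z => (z.1 : Perm {β // q β})) h) ⟨β, hβ⟩)
      · exact congrArg Subtype.val (Equiv.congr_fun (congrArg (fun z => (z.2 : Perm {β // ¬ q β})) h) ⟨β, hβ⟩)
    have ha0 : (0 : ℝ) ≤ a := by linarith
    constructor
    · calc ∑ x : ↥S, a ^ cyc (x : Perm Ω) = ∑ z ∈ Finset.univ.image f, a ^ cyc (z.1 : Perm {β // q β}) * a ^ cyc (z.2 : Perm {β // ¬ q β}) := by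
            rw [Finset.sum_image fun x _ y _ h => hf h]
            exact Finset.sum_congr rfl fun x _ => by rw [hcyc, pow_add]; rfl
        _ ≤ ∑ z : ↥r1.range × ↥r2.range, a ^ cyc (z.1 : Perm {β // q β}) * a ^ cyc (z.2 : Perm {β // ¬ q β}) :=
            Finset.sum_le_sum_of_subset_of_nonneg (Finset.subset_univ _) fun z _ _ => by positivity
        _ = (∑ u : ↥r1.range, a ^ cyc (u : Perm {β // q β})) * ∑ v : ↥r2.range, a ^ cyc (v : Perm {β // ¬ q β}) := by
            rw [Fintype.sum_prod_type, Finset.sum_mul_sum]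
        _ ≤ (a ^ o1 * b ^ (n1 - o1)) * (a ^ o2 * b ^ (n2 - o2)) :=
            mul_le_mul f1 f2 (Finset.sum_nonneg fun _ _ => by positivity) (by positivity)
        _ = a ^ orbN S * a ^ (o1 + o2 - orbN S) * b ^ (n - (o1 + o2)) := by
            rw [← pow_add, Nat.add_sub_cancel' horb, pow_add, show n - (o1 + o2) = (n1 - o1) + (n2 - o2) by omega, pow_add]
            ring
        _ ≤ a ^ orbN S * b ^ (o1 + o2 - orbN S) * b ^ (n - (o1 + o2)) := by gcongr
        _ = _ := by rw [mul_assoc, ← pow_add]; congr 2; omega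
    · calc (Fintype.card ↥S : ℝ) ≤ (Fintype.card (↥r1.range × ↥r2.range) : ℝ) := by
            exact_mod_cast Fintype.card_le_of_injective f hf
        _ ≤ c ^ (n1 - o1) * c ^ (n2 - o2) := by
            rw [Fintype.card_prod, Nat.cast_mul]
            exact mul_le_mul e1 e2 (Nat.cast_nonneg _) (by positivity)
        _ ≤ c ^ (n - orbN S) := by
            rw [← pow_add]
            exact pow_le_pow_right₀ hc (by omega)
  · -- transitive
    push Not at hint
    have ho : orbN S = 1 := by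
      refine Nat.card_eq_one_iff_unique.2 ⟨⟨fun Q R => ?_⟩, ⟨Quotient.mk'' ω⟩⟩
      induction Q using Quotient.inductionOn' with
      | h β => induction R using Quotient.inductionOn' with
        | h γ => exact Quotient.sound' ((MulAction.orbitRel_apply).2 (by
            rw [MulAction.orbit_eq_iff.2 (hint γ)]; exact hint β))
    obtain ⟨e, he⟩ := hS.exists_card_eq
    have hstab : MulAction.stabilizer ↥S ω ≠ ⊤ := by
      intro htop
      have : Fintype.card Ω ≤ 1 := Fintype.card_le_one_iff.2 fun β γ => by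
        obtain ⟨x, rfl⟩ := hint β
        obtain ⟨y, rfl⟩ := hint γ
        have hfix : ∀ z : ↥S, z • ω = ω := fun z => MulAction.mem_stabilizer_iff.1 (htop ▸ Subgroup.mem_top z)
        simp only [hfix]
      omega
    obtain ⟨s, hs⟩ := (hS.to_subgroup (MulAction.stabilizer ↥S ω)).exists_card_eq
    have hse : s < e := by
      rcases Nat.lt_or_ge s e with h | h
      · exact h
      · exact absurd ((MulAction.stabilizer ↥S ω).eq_top_of_le_card
          (by rw [he, hs]; exact Nat.pow_le_pow_right hp1.le h)) hstab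
    obtain ⟨M, hMc, hstM⟩ := Sylow.exists_subgroup_card_pow_prime_le p (m := e - 1)
      (by rw [he]; exact pow_dvd_pow p (by omega)) (MulAction.stabilizer ↥S ω) hs (by omega)
    have hMi : M.index = p := by
      have h := M.card_mul_index
      rw [hMc, he, show e = e - 1 + 1 by omega, pow_succ, Nat.add_sub_cancel] at h
      exact Nat.eq_of_mul_eq_mul_left (pow_pos hp.out.pos _) h
    haveI hMn : M.Normal := Subgroup.normal_of_index_eq_minFac_card (by
      rw [hMi, he, Nat.Prime.pow_minFac hp.out (by omega)])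
    choose t ht using hint
    let π : Ω → ↥S ⧸ M := fun β => (t β : ↥S)
    have hπ : ∀ (z : ↥S) β, π (z • β) = (z : ↥S ⧸ M) * π β := by
      intro z β
      show ((t (z • β) : ↥S) : ↥S ⧸ M) = _ * ((t β : ↥S) : ↥S ⧸ M)
      rw [← QuotientGroup.mk_mul, QuotientGroup.eq]
      refine hstM (MulAction.mem_stabilizer_iff.2 ?_)
      rw [mul_smul, mul_smul, show t β • ω = β from ht β, inv_smul_eq_iff,
      show t (z • β) • ω = z • β from ht (z • β)]
    let U := {β : Ω // π β = 1}
    have hout : ∀ Q : ↥S ⧸ M, ((Q.out : ↥S) : ↥S ⧸ M) = Q := fun Q => Quotient.out_eq' Q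
    let E : Ω ≃ (↥S ⧸ M) × U :=
      { toFun := fun β => (π β, ⟨(π β).out⁻¹ • β, by rw [hπ, QuotientGroup.mk_inv, hout, inv_mul_cancel]⟩)
        invFun := fun z => z.1.out • z.2.1
        left_inv := fun β => smul_inv_smul _ β
        right_inv := fun z => by
          have h : π (z.1.out • z.2.1) = z.1 := by rw [hπ, hout, z.2.2, mul_one]
          exact Prod.ext h (Subtype.ext (by simp only [h, inv_smul_smul])) }
    have hnU : n = p * Nat.card U := by
      rw [← hn, ← Nat.card_eq_fintype_card, Nat.card_congr E, Nat.card_prod]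
      exact congrArg (· * _) hMi
    set m := Nat.card U
    have hm : 1 ≤ m := Nat.one_le_iff_ne_zero.2 fun h => by rw [h, Nat.mul_zero] at hnU; omega
    have hcy : ∀ x : ↥S, x ∉ M → cyc (x : Perm Ω) ≤ m := by
      intro x hx
      refine Nat.card_le_card_of_surjective (fun u : U => (⟦u.1⟧ : Quotient (Perm.SameCycle.setoid _))) fun Q => ?_
      induction Q using Quotient.inductionOn with
      | h β =>
        obtain ⟨i, hi⟩ := exists_mem_fibre hMi hπ hx β
        refine ⟨⟨x ^ i • β, hi⟩, Quotient.sound ⟨-i, ?_⟩⟩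
        show ((x : Perm Ω) ^ (-i)) (((x ^ i : ↥S) : Perm Ω) β) = β
        rw [SubgroupClass.coe_zpow, ← Perm.mul_apply, ← zpow_add, neg_add_cancel, zpow_zero, Perm.one_apply]
    let M' : Subgroup (Perm Ω) := M.map S.subtype
    let eM : ↥M ≃* ↥M' := M.equivMapOfInjective _ S.subtype_injective
    have hpM : p ≤ orbN M' := by
      rw [← hMi]
      refine Nat.card_le_card_of_surjective (Quotient.lift π ?_) fun Q => ⟨Quotient.mk'' (Q.out • ω), ?_⟩
      · rintro β γ ⟨⟨_, z, hz, rfl⟩, rfl⟩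
        show π (z • γ) = π γ
        rw [hπ, (QuotientGroup.eq_one_iff z).2 hz, one_mul]
      · show π (Q.out • ω) = Q
        rw [hπ, hout, show π ω = 1 from (QuotientGroup.eq_one_iff _).2 (hstM (ht ω)), mul_one]
    have hoM : orbN M' ≤ n := by
      rw [orbN, ← hn, ← Nat.card_eq_fintype_card]
      exact Nat.card_le_card_of_surjective _ Quotient.mk''_surjective
    have hM'p : IsPGroup p ↥M' := (hS.to_subgroup M).of_equiv eM
    -- split `M'` through the induction on its orbits
    have hM' : ∑ x : ↥M', a ^ cyc (x : Perm Ω) ≤ a ^ p * b ^ (n - p) ∧ (Fintype.card ↥M' : ℝ) ≤ c ^ (n - p) := by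
      have hqM : ∀ (Q : ↥S ⧸ M) (z : ↥M) β, π (((z : ↥S) : Perm Ω) β) = Q ↔ π β = Q := fun Q z β => by
        show π ((z : ↥S) • β) = Q ↔ π β = Q
        rw [hπ, (QuotientGroup.eq_one_iff _).2 z.2, one_mul]
      let r : (Q : ↥S ⧸ M) → ↥M →* Perm {β // π β = Q} := fun Q =>
        { toFun := fun z => ((z : ↥S) : Perm Ω).subtypePerm (hqM Q z)
          map_one' := by ext; rfl
          map_mul' := fun x y => by ext; rfl }
      have hcardQ : ∀ Q, Fintype.card {β // π β = Q} = m := fun Q => by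
        rw [← Nat.card_eq_fintype_card]
        refine Nat.card_congr
          { toFun := fun β => ⟨Q.out⁻¹ • β.1, by rw [hπ, QuotientGroup.mk_inv, hout, β.2, inv_mul_cancel]⟩
            invFun := fun u => ⟨Q.out • u.1, by rw [hπ, hout, u.2, mul_one]⟩
            left_inv := fun β => Subtype.ext (smul_inv_smul _ _)
            right_inv := fun u => Subtype.ext (inv_smul_smul _ _) }
      have hQ : ∀ Q, ∑ u : ↥(r Q).range, a ^ cyc (u : Perm {β // π β = Q}) ≤ a * b ^ (m - 1) ∧
          (Fintype.card ↥(r Q).range : ℝ) ≤ c ^ (m - 1) := fun Q => by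
        have hmn : m < n := by rw [hnU]; exact lt_mul_left hm hp1
        obtain ⟨g, f, e'⟩ := ih m hmn _ (hcardQ Q) (r Q).range ((hS.to_subgroup M).of_surjective _ (r Q).rangeRestrict_surjective)
        have h1o : 1 ≤ orbN (r Q).range := by
          have hne : Nonempty {β // π β = Q} := Fintype.card_pos_iff.1 (by rw [hcardQ]; omega)
          exact Nat.one_le_iff_ne_zero.2 (Nat.card_ne_zero.2 ⟨hne.map Quotient.mk'', inferInstance⟩)
        set o := orbN (r Q).range
        refine ⟨f.trans ?_, e'.trans (pow_le_pow_right₀ hc (by omega))⟩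
        calc a ^ o * b ^ (m - o) = a * a ^ (o - 1) * b ^ (m - o) := by
              rw [← pow_succ', show o - 1 + 1 = o by omega]
          _ ≤ a * b ^ (o - 1) * b ^ (m - o) := by gcongr
          _ = a * b ^ (m - 1) := by rw [mul_assoc, ← pow_add]; congr 2; omega
      let F : ↥M → ((Q : ↥S ⧸ M) → ↥(r Q).range) := fun z Q => (r Q).rangeRestrict z
      have hF : Function.Injective F := by
        intro x y h
        refine Subtype.ext (Subtype.ext (Equiv.ext fun β => ?_))
        exact congrArg Subtype.val (Equiv.congr_fun (congrArg Subtype.val (congrFun h (π β))) ⟨β, rfl⟩)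
      have hcycM : ∀ z : ↥M, cyc (((z : ↥S) : Perm Ω)) = ∑ Q, cyc (r Q z) := by
        intro z
        simp only [cyc]
        rw [← Nat.card_sigma]
        refine (Nat.card_eq_of_bijective (fun W : (Q : ↥S ⧸ M) × Quotient (Perm.SameCycle.setoid (r Q z)) =>
          (subMap (f := ((z : ↥S) : Perm Ω)) (h := hqM W.1 z) (r W.1 z) rfl W.2)) ⟨?_, ?_⟩).symm
        · rintro ⟨Q, A⟩ ⟨R, B⟩ h
          induction A using Quotient.inductionOn with
          | h β => induction B using Quotient.inductionOn with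
            | h γ =>
              have h' : ((z : ↥S) : Perm Ω).SameCycle β.1 γ.1 := Quotient.exact h
              obtain rfl : Q = R := by
                obtain ⟨i, hi⟩ := h'
                rw [← β.2, ← γ.2, ← hi, ← SubgroupClass.coe_zpow]
                show π β.1 = π ((z : ↥S) ^ i • β.1)
                rw [hπ, (QuotientGroup.eq_one_iff _).2 (zpow_mem z.2 i), one_mul]
              exact congrArg (Sigma.mk Q) (Quotient.sound ((Perm.sameCycle_subtypePerm (h := hqM Q z)).2 h'))
        · intro A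
          induction A using Quotient.inductionOn with
          | h β => exact ⟨⟨π β, ⟦⟨β, rfl⟩⟧⟩, rfl⟩
      have hcQ : Fintype.card (↥S ⧸ M) = p := by rw [← Nat.card_eq_fintype_card]; exact hMi
      have hnp : n - p = p * (m - 1) := by rw [Nat.mul_sub, mul_one, ← hnU]
      constructor
      · calc ∑ x : ↥M', a ^ cyc (x : Perm Ω) = ∑ z : ↥M, a ^ cyc (((z : ↥S) : Perm Ω)) :=
              (Equiv.sum_comp eM.toEquiv fun x : ↥M' => a ^ cyc (x : Perm Ω)).symm
          _ = ∑ z : ↥M, ∏ Q, a ^ cyc (F z Q : Perm {β // π β = Q}) := by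
              refine Finset.sum_congr rfl fun z _ => ?_
              rw [hcycM, ← Finset.prod_pow_eq_pow_sum]; rfl
          _ = ∑ w ∈ Finset.univ.image F, ∏ Q, a ^ cyc (w Q : Perm {β // π β = Q}) := by
              rw [Finset.sum_image fun x _ y _ h => hF h]
          _ ≤ ∑ w : (Q : ↥S ⧸ M) → ↥(r Q).range, ∏ Q, a ^ cyc (w Q : Perm {β // π β = Q}) :=
              Finset.sum_le_sum_of_subset_of_nonneg (Finset.subset_univ _) fun z _ _ =>
                Finset.prod_nonneg fun _ _ => pow_nonneg (by linarith) _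
          _ = ∏ Q, ∑ u : ↥(r Q).range, a ^ cyc (u : Perm {β // π β = Q}) :=
              (Fintype.prod_sum fun Q (u : ↥(r Q).range) => a ^ cyc (u : Perm {β // π β = Q})).symm
          _ ≤ ∏ _Q : ↥S ⧸ M, a * b ^ (m - 1) := Finset.prod_le_prod
              (fun Q _ => Finset.sum_nonneg fun _ _ => pow_nonneg (by linarith) _) fun Q _ => (hQ Q).1
          _ = a ^ p * b ^ (n - p) := by
              rw [Finset.prod_const, Finset.card_univ, hcQ, mul_pow, ← pow_mul, hnp, mul_comm (m - 1)]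
      · calc (Fintype.card ↥M' : ℝ) = (Fintype.card ↥M : ℝ) := by rw [Fintype.card_congr eM.toEquiv]
          _ ≤ ((Fintype.card ((Q : ↥S ⧸ M) → ↥(r Q).range) : ℕ) : ℝ) := by
              exact_mod_cast Fintype.card_le_of_injective F hF
          _ = ∏ Q, (Fintype.card ↥(r Q).range : ℝ) := by rw [Fintype.card_pi, Nat.cast_prod]
          _ ≤ ∏ _Q : ↥S ⧸ M, c ^ (m - 1) := Finset.prod_le_prod (fun Q _ => Nat.cast_nonneg _) fun Q _ => (hQ Q).2
          _ = c ^ (n - p) := by rw [Finset.prod_const, Finset.card_univ, hcQ, ← pow_mul, hnp, mul_comm (m - 1)]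
    obtain ⟨hMs, hMcard⟩ := hM'
    have hcS : (Fintype.card ↥S : ℝ) = p * Fintype.card ↥M' := by
      rw [← Fintype.card_congr eM.toEquiv, ← Nat.card_eq_fintype_card, ← Nat.card_eq_fintype_card,
        ← M.card_mul_index, hMi, Nat.cast_mul, mul_comm]
    have hpR : (1 : ℝ) ≤ (p : ℝ) := by exact_mod_cast hp1.le
    rw [ho, pow_one]
    constructor
    · rw [← Finset.sum_filter_add_sum_filter_not Finset.univ (fun x : ↥S => x ∈ M)]
      have e1 : ∑ x ∈ Finset.univ.filter (fun x : ↥S => x ∈ M), a ^ cyc (x : Perm Ω) = ∑ x : ↥M', a ^ cyc (x : Perm Ω) := by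
        rw [← Equiv.sum_comp eM.toEquiv fun x : ↥M' => a ^ cyc (x : Perm Ω)]
        exact Finset.sum_subtype _ (fun x => by simp) _
      have e2 : ∑ x ∈ Finset.univ.filter (fun x : ↥S => ¬ x ∈ M), a ^ cyc (x : Perm Ω) ≤
          (((p : ℝ) - 1) * c ^ (n - p)) * a ^ m := by
        refine (Finset.sum_le_card_nsmul _ _ (a ^ m) fun x hx =>
          pow_le_pow_right₀ ha (hcy x (Finset.mem_filter.1 hx).2)).trans ?_
        rw [nsmul_eq_mul]
        refine mul_le_mul_of_nonneg_right ?_ (pow_nonneg (by linarith) _)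
        have h3 := Finset.card_filter_add_card_filter_not (s := (Finset.univ : Finset ↥S)) (p := fun x => x ∈ M)
        rw [Finset.card_univ, ← Fintype.card_subtype, Fintype.card_congr eM.toEquiv] at h3
        have h4 : ((Finset.univ.filter fun x : ↥S => ¬ x ∈ M).card : ℝ) = ((p : ℝ) - 1) * Fintype.card ↥M' := by
          have h5 : (Fintype.card ↥M' : ℝ) + ((Finset.univ.filter fun x : ↥S => ¬ x ∈ M).card : ℝ) = Fintype.card ↥S := by
            exact_mod_cast h3
          linarith
        rw [h4]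
        exact mul_le_mul_of_nonneg_left hMcard (by linarith)
      rw [e1]
      refine (add_le_add hMs e2).trans ?_
      obtain ⟨k, hk⟩ : ∃ k, m = k + 1 := ⟨m - 1, by omega⟩
      rw [hk] at hnU ⊢
      have hnp : n - p = p * k := by rw [hnU, Nat.mul_succ, Nat.add_sub_cancel]
      have hn1 : n - 1 = p * k + (p - 1) := by rw [hnU, Nat.mul_succ]; omega
      have hpa : a ^ p = a * a ^ (p - 1) := by rw [← pow_succ', show p - 1 + 1 = p by omega]
      have h2k : c ^ (p * k) * a ^ k ≤ b ^ (p * k) := by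
        rw [pow_mul, ← mul_pow, pow_mul]
        exact pow_le_pow_left₀ (mul_nonneg (pow_nonneg (by linarith) _) (by linarith)) h2 k
      rw [hnp, hn1]
      calc a ^ p * b ^ (p * k) + ((p : ℝ) - 1) * c ^ (p * k) * a ^ (k + 1)
          = a * (a ^ (p - 1) * b ^ (p * k) + ((p : ℝ) - 1) * (c ^ (p * k) * a ^ k)) := by rw [hpa]; ring
        _ ≤ a * (a ^ (p - 1) * b ^ (p * k) + ((p : ℝ) - 1) * b ^ (p * k)) := by
            refine mul_le_mul_of_nonneg_left ?_ (by linarith)
            have := mul_le_mul_of_nonneg_left h2k (show (0 : ℝ) ≤ (p : ℝ) - 1 by linarith)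
            linarith
        _ ≤ a * (b ^ (p * k) * b ^ (p - 1)) := by
            refine mul_le_mul_of_nonneg_left ?_ (by linarith)
            have := mul_le_mul_of_nonneg_right h1 (pow_nonneg hb0 (p * k))
            linarith
        _ = _ := by rw [← pow_add]
    · rw [hcS]
      calc (p : ℝ) * Fintype.card ↥M' ≤ c ^ (p - 1) * c ^ (n - p) :=
            mul_le_mul hpc hMcard (Nat.cast_nonneg _) (pow_nonneg (by linarith) _)
        _ = c ^ (n - 1) := by
            rw [← pow_add]; congr 1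
            have : p ≤ n := hnU ▸ Nat.le_mul_of_pos_right p hm
            omega

/-- Every prime divisor of the order is less than `P`. -/
def Small {G : Type*} [Monoid G] (P : ℕ) (g : G) : Prop := ∀ q : ℕ, q.Prime → q ∣ orderOf g → q < P

/-- The classes of elements with small prime divisors. -/
def SmallClasses (G : Type*) [Group G] (P : ℕ) : Type _ :=
  {C : ConjClasses G // ∃ g : G, ConjClasses.mk g = C ∧ Small P g}

noncomputable instance (G : Type*) [Group G] [Finite G] (P : ℕ) : Finite (SmallClasses G P) :=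
  inferInstanceAs (Finite {C : ConjClasses G // _})

theorem isConj_of_ker {C D : Type*} [Group C] [Group D] (φ : C →* D) (p : ℕ)
    (hcomm : ∀ k l, φ k = 1 → φ l = 1 → Commute k l) (hpk : ∀ k, φ k = 1 → ∃ e : ℕ, k ^ p ^ e = 1)
    {y y' : C} (hy : (orderOf y).Coprime p) (hy' : (orderOf y').Coprime p) (h : φ y = φ y') : IsConj y y' := by
  obtain ⟨k, hk⟩ : ∃ k, k = y' * y⁻¹ := ⟨_, rfl⟩
  have hkk : φ k = 1 := by rw [hk, map_mul, map_inv, h, mul_inv_cancel]
  obtain ⟨r, hr⟩ : ∃ r, r = orderOf y := ⟨_, rfl⟩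
  have hr1 : φ (y' ^ r) = 1 := by rw [map_pow, ← h, ← map_pow, hr, pow_orderOf_eq_one, map_one]
  have hy'r : y' ^ r = 1 := by
    obtain ⟨e, he⟩ := hpk _ hr1
    have h1 : orderOf (y' ^ r) ∣ p ^ e := orderOf_dvd_of_pow_eq_one he
    have h2 : orderOf (y' ^ r) ∣ orderOf y' := orderOf_pow_dvd r
    exact orderOf_eq_one_iff.1 (Nat.eq_one_of_dvd_coprimes (hy'.pow_right e) h2 h1)
  let es : ℕ → C := fun n => y' ^ n * (y ^ n)⁻¹
  have hes : ∀ n, φ (es n) = 1 := fun n => by
    simp only [es, map_mul, map_inv, map_pow, h, mul_inv_cancel]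
  have hrec : ∀ n, es (n + 1) = k * (y * es n * y⁻¹) := fun n => by
    simp only [es, hk, pow_succ']
    group
  let Ls : ℕ → C := fun n => Nat.rec 1 (fun i L => L * es i) n
  have hLs : ∀ n, φ (Ls n) = 1 := fun n => by
    induction n with
    | zero => exact map_one φ
    | succ n ih => show φ (Ls n * es n) = 1; rw [map_mul, ih, hes, one_mul]
  have hconj : ∀ n, y * Ls n * y⁻¹ = (k ^ n)⁻¹ * Ls n * es n := by
    intro n
    induction n with
    | zero => simp [es, Ls]
    | succ n ih =>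
      show y * (Ls n * es n) * y⁻¹ = (k ^ (n + 1))⁻¹ * (Ls n * es n) * es (n + 1)
      have e1 : y * es n * y⁻¹ = k⁻¹ * es (n + 1) := by rw [hrec]; group
      have c1 : Commute (Ls n * es n) k⁻¹ :=
        (hcomm _ _ (by rw [map_mul, hLs, hes, one_mul]) (by rw [map_inv, hkk, inv_one]))
      calc y * (Ls n * es n) * y⁻¹ = (y * Ls n * y⁻¹) * (y * es n * y⁻¹) := by group
        _ = (k ^ n)⁻¹ * ((Ls n * es n) * k⁻¹) * es (n + 1) := by rw [ih, e1]; group
        _ = (k ^ n)⁻¹ * (k⁻¹ * (Ls n * es n)) * es (n + 1) := by rw [c1.eq]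
        _ = _ := by rw [pow_succ', mul_inv_rev]; group
  have hL := hconj r
  rw [show es r = 1 by simp only [es]; rw [hy'r, hr, pow_orderOf_eq_one, inv_one, one_mul], mul_one] at hL
  obtain ⟨e, he⟩ := hpk k hkk
  obtain ⟨u, v, huv⟩ := Nat.isCoprime_iff_coprime.2 ((hr ▸ hy : r.Coprime p).pow_right e)
  have hLu : y * Ls r ^ u * y⁻¹ = k⁻¹ * Ls r ^ u := by
    rw [← conj_zpow, hL]
    have hc : Commute (k ^ r)⁻¹ (Ls r) := hcomm _ _ (by rw [map_inv, map_pow, hkk, one_pow, inv_one]) (hLs r)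
    rw [hc.mul_zpow, inv_zpow, ← zpow_natCast, ← zpow_mul]
    congr 2
    rw [show (r : ℤ) * u = 1 - v * ((p ^ e : ℕ) : ℤ) by linear_combination huv, zpow_sub, zpow_one,
      mul_comm v, zpow_mul, zpow_natCast, he, one_zpow, inv_one, mul_one]
  refine isConj_iff.2 ⟨Ls r ^ u, ?_⟩
  have hc : Commute (Ls r ^ u) k := (hcomm _ _ (hLs r) hkk).zpow_left u
  have e1 : Ls r ^ u * y = k * (y * Ls r ^ u) := by
    rw [mul_inv_eq_iff_eq_mul.1 hLu]
    group
  rw [e1, mul_assoc, mul_assoc y, mul_inv_cancel, mul_one, hk, inv_mul_cancel_right]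

/-- The action of the centralizer of `f` on the cycles of `f`. -/
def cycleHom {Ω : Type*} {G : Subgroup (Perm Ω)} (x : ↥G) :
    ↥(Subgroup.centralizer ({x} : Set ↥G)) →* Perm (Quotient (Perm.SameCycle.setoid (x : Perm Ω))) where
  toFun c := Quotient.congr ((c : ↥G) : Perm Ω) fun β γ => by
    have hc : ∀ i : ℤ, Commute ((c : ↥G) : Perm Ω) ((x : Perm Ω) ^ i) := fun i =>
      Commute.zpow_right (by
        have h := Subgroup.mem_centralizer_singleton_iff.1 c.2
        show _ = _
        exact congrArg Subtype.val h) i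
    constructor
    · rintro ⟨i, rfl⟩
      exact ⟨i, by rw [← Perm.mul_apply, ← (hc i).eq, Perm.mul_apply]⟩
    · rintro ⟨i, hi⟩
      refine ⟨i, ((c : ↥G) : Perm Ω).injective ?_⟩
      rw [← hi, ← Perm.mul_apply, (hc i).eq, Perm.mul_apply]
  map_one' := Equiv.ext fun Q => by induction Q using Quotient.inductionOn with | h β => rfl
  map_mul' c c' := Equiv.ext fun Q => by induction Q using Quotient.inductionOn with | h β => rfl

theorem cycleHom_ker {Ω : Type*} {G : Subgroup (Perm Ω)} (x : ↥G) :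
    (∀ k l, cycleHom x k = 1 → cycleHom x l = 1 → Commute k l) ∧
      ∀ k, cycleHom x k = 1 → k ^ orderOf (x : Perm Ω) = 1 := by
  have hpt : ∀ k, cycleHom x k = 1 → ∀ β, ∃ i : ℤ, ((x : Perm Ω) ^ i) β = ((k : ↥G) : Perm Ω) β := fun k hk β => by
    have h := Equiv.congr_fun hk ⟦β⟧
    exact ((Quotient.exact h : (x : Perm Ω).SameCycle _ β)).symm
  have hcx : ∀ (k : ↥(Subgroup.centralizer ({x} : Set ↥G))) (i : ℤ) β,
      ((k : ↥G) : Perm Ω) (((x : Perm Ω) ^ i) β) = ((x : Perm Ω) ^ i) (((k : ↥G) : Perm Ω) β) := fun k i β => by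
    rw [← Perm.mul_apply, ← Perm.mul_apply]
    congr 1
    have h := Subgroup.mem_centralizer_singleton_iff.1 k.2
    exact (show Commute ((k : ↥G) : Perm Ω) (x : Perm Ω) from congrArg Subtype.val h).zpow_right i
  refine ⟨fun k l hk hl => Subtype.ext (Subtype.ext (Equiv.ext fun β => ?_)), fun k hk => ?_⟩
  · obtain ⟨i, hi⟩ := hpt k hk β
    obtain ⟨j, hj⟩ := hpt l hl β
    show ((k : ↥G) : Perm Ω) (((l : ↥G) : Perm Ω) β) = ((l : ↥G) : Perm Ω) (((k : ↥G) : Perm Ω) β)
    rw [← hj, hcx, ← hi, hcx, ← hj, ← Perm.mul_apply, ← Perm.mul_apply, ← zpow_add, ← zpow_add, add_comm]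
  · refine Subtype.ext (Subtype.ext (Equiv.ext fun β => ?_))
    rw [SubmonoidClass.coe_pow, SubmonoidClass.coe_pow]
    obtain ⟨i, hi⟩ := hpt k hk β
    have h : ∀ n : ℕ, ((((k : ↥G) : Perm Ω)) ^ n) β = ((x : Perm Ω) ^ (i * n)) β := by
      intro n
      induction n with
      | zero => simp
      | succ n ih =>
        rw [pow_succ', Perm.mul_apply, ih, hcx, ← hi, ← Perm.mul_apply, ← zpow_add]
        congr 2
        push_cast
        ring
    rw [h, mul_comm, zpow_mul, zpow_natCast, pow_orderOf_eq_one, one_zpow]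
    rfl

/-- The bound after the primes below `P` are treated. -/
noncomputable def A (P : ℕ) : ℝ := if P ≤ 2 then 1 else 4 - 6 / P

theorem one_le_A (P : ℕ) : 1 ≤ A P ∧ A P < 4 := by
  rw [A]
  split_ifs with h
  · norm_num
  · have h3 : (3 : ℝ) ≤ P := by exact_mod_cast (show 3 ≤ P by omega)
    have e1 : (6 : ℝ) / P ≤ 2 := by rw [div_le_iff₀ (by linarith)]; linarith
    have e2 : (0 : ℝ) < 6 / P := by positivity
    constructor <;> linarith

theorem A_mono (P : ℕ) : A P ≤ A (P + 1) := by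
  by_cases h : P ≤ 2
  · rw [A, if_pos h]; exact (one_le_A _).1
  · rw [A, A, if_neg h, if_neg (by omega)]
    have h3 : (3 : ℝ) ≤ P := by exact_mod_cast (show 3 ≤ P by omega)
    have : (6 : ℝ) / ((P + 1 : ℕ) : ℝ) ≤ 6 / P :=
      div_le_div_of_nonneg_left (by norm_num) (by linarith) (by push_cast; linarith)
    linarith

theorem pow_add_ge {a h : ℝ} (ha : 0 ≤ a) (hh : 0 ≤ h) : ∀ n : ℕ, a ^ (n + 1) + (n + 1) * a ^ n * h ≤ (a + h) ^ (n + 1) := by
  intro n
  induction n with
  | zero => simp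
  | succ n ih =>
    have h1 : (a ^ (n + 1) + (n + 1) * a ^ n * h) * (a + h) ≤ (a + h) ^ (n + 2) := by
      rw [pow_succ _ (n + 1)]; exact mul_le_mul_of_nonneg_right ih (by linarith)
    have h2 : 0 ≤ ((n : ℝ) + 1) * a ^ n * h * h := by positivity
    push_cast
    rw [pow_succ a (n + 1), pow_succ a n] at *
    nlinarith

theorem exists_const {p : ℕ} (hp : p.Prime) :
    ∃ c : ℝ, 1 ≤ c ∧ (p : ℝ) ≤ c ^ (p - 1) ∧ ((p : ℝ) - 1) + A p ^ (p - 1) ≤ A (p + 1) ^ (p - 1) ∧
      c ^ p * A p ≤ A (p + 1) ^ p := by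
  have h2 := hp.two_le
  rcases Nat.lt_or_ge p 4 with h4 | h4
  · interval_cases p
    · exact ⟨2, by norm_num, by norm_num, by norm_num [A], by norm_num [A]⟩
    · exact ⟨7 / 4, by norm_num, by norm_num, by norm_num [A], by norm_num [A]⟩
  obtain ⟨k, rfl⟩ : ∃ k, p = k + 4 := ⟨p - 4, by omega⟩
  clear hp h2 h4
  have hk : (0 : ℝ) ≤ k := Nat.cast_nonneg k
  have ha : A (k + 4) = 4 - 6 / ((k : ℝ) + 4) := by rw [A, if_neg (by omega)]; push_cast; rfl
  have hb : A (k + 4 + 1) = 4 - 6 / ((k : ℝ) + 5) := by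
    rw [A, if_neg (by omega)]; push_cast; ring
  have ha1 : (5 / 2 : ℝ) ≤ A (k + 4) := by
    rw [ha]; linarith [(div_le_iff₀ (show (0 : ℝ) < k + 4 by linarith)).2 (show (6 : ℝ) ≤ 3 / 2 * (k + 4) by linarith)]
  have hb1 : (14 / 5 : ℝ) ≤ A (k + 4 + 1) := by
    rw [hb]; linarith [(div_le_iff₀ (show (0 : ℝ) < k + 5 by linarith)).2 (show (6 : ℝ) ≤ 6 / 5 * (k + 5) by linarith)]
  refine ⟨7 / 4, by norm_num, ?_, ?_, ?_⟩
  · have : ∀ j : ℕ, ((j : ℝ) + 4) ≤ (7 / 4 : ℝ) ^ (j + 3) := fun j => by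
      induction j with
      | zero => norm_num
      | succ j ih => push_cast; rw [pow_succ]; nlinarith [Nat.cast_nonneg (α := ℝ) j]
    rw [show k + 4 - 1 = k + 3 by omega]
    push_cast
    exact this k
  · obtain ⟨h, hh⟩ : ∃ h, h = A (k + 4 + 1) - A (k + 4) := ⟨_, rfl⟩
    have hh' : h * (((k : ℝ) + 4) * ((k : ℝ) + 5)) = 6 := by
      rw [hh, ha, hb]; field_simp; ring
    have hh0 : 0 ≤ h := by linarith [A_mono (k + 4)]
    have hpow : ∀ j : ℕ, ((j : ℝ) + 4) * ((j : ℝ) + 5) ≤ 6 * (5 / 2 : ℝ) ^ (j + 2) := fun j => by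
      induction j with
      | zero => norm_num
      | succ j ih => push_cast; rw [pow_succ]; nlinarith [Nat.cast_nonneg (α := ℝ) j]
    have h1 : 1 ≤ A (k + 4) ^ (k + 2) * h := by
      have e := pow_le_pow_left₀ (by norm_num) ha1 (k + 2)
      nlinarith [hpow k, mul_le_mul_of_nonneg_right e hh0]
    have h3 := pow_add_ge (by linarith : (0 : ℝ) ≤ A (k + 4)) hh0 (k + 2)
    rw [show A (k + 4) + h = A (k + 4 + 1) by linarith, show k + 2 + 1 = k + 3 by omega] at h3
    rw [show k + 4 - 1 = k + 3 by omega]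
    push_cast at h3 ⊢
    nlinarith [mul_le_mul_of_nonneg_left h1 (show (0 : ℝ) ≤ k + 3 by linarith)]
  · have e0 : ∀ j : ℕ, (7 / 4 : ℝ) ^ (j + 4) * 4 ≤ (14 / 5 : ℝ) ^ (j + 4) := fun j => by
      induction j with
      | zero => norm_num
      | succ j ih =>
        rw [show j + 1 + 4 = j + 4 + 1 by omega, pow_succ (7 / 4 : ℝ), pow_succ (14 / 5 : ℝ)]
        nlinarith [pow_nonneg (show (0 : ℝ) ≤ 7 / 4 by norm_num) (j + 4)]
    have e1 := e0 k
    have e2 := pow_le_pow_left₀ (by norm_num) hb1 (k + 4)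
    nlinarith [(one_le_A (k + 4)).2, pow_nonneg (show (0 : ℝ) ≤ 7 / 4 by norm_num) (k + 4)]

theorem smallClasses_bound : ∀ (P : ℕ) (Ω : Type) [Fintype Ω], 1 ≤ Fintype.card Ω → ∀ G : Subgroup (Perm Ω),
    (Nat.card (SmallClasses ↥G P) : ℝ) ≤ A P ^ (Fintype.card Ω - 1) := by
  intro P
  induction P with
  | zero =>
    intro Ω _ _ G
    have h : Nat.card (SmallClasses ↥G 0) ≤ 1 := by
      refine Finite.card_le_one_iff_subsingleton.2 ⟨?_⟩
      rintro ⟨C, g, rfl, hs⟩ ⟨C', g', rfl, hs'⟩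
      apply Subtype.ext
      have e : ∀ u : ↥G, Small 0 u → u = 1 := fun u hu => orderOf_eq_one_iff.1 (by
        by_contra hne
        obtain ⟨q, hq, hqd⟩ := Nat.exists_prime_and_dvd hne
        exact Nat.not_lt_zero _ (hu q hq hqd))
      show ConjClasses.mk g = ConjClasses.mk g'
      rw [e g hs, e g' hs']
    exact le_trans (by exact_mod_cast h) (one_le_pow₀ (one_le_A 0).1)
  | succ P ih =>
    intro Ω _ hΩ G
    classical
    by_cases hP : P.Prime
    swap
    · have h : Nat.card (SmallClasses ↥G (P + 1)) ≤ Nat.card (SmallClasses ↥G P) := by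
        refine Nat.card_le_card_of_injective (fun C => ⟨C.1, ?_⟩) fun C C' h => Subtype.ext (congrArg Subtype.val h :)
        obtain ⟨g, hg, hs⟩ := C.2
        refine ⟨g, hg, fun q hq hqd => ?_⟩
        have := hs q hq hqd
        have : q ≠ P := fun e => hP (e ▸ hq)
        omega
      exact le_trans (by exact_mod_cast h) ((ih Ω hΩ G).trans
        (pow_le_pow_left₀ (by linarith [(one_le_A P).1]) (A_mono P) _))
    haveI : Fact P.Prime := ⟨hP⟩
    obtain ⟨c, hc1, hc2, hc3, hc4⟩ := exists_const hP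
    obtain ⟨S⟩ : Nonempty (Sylow P ↥G) := inferInstance
    let S' : Subgroup (Perm Ω) := (S : Subgroup ↥G).map G.subtype
    obtain ⟨hle, hsum, -⟩ := cycle_sum_bound (one_le_A P).1 (A_mono P) hc1 hc2 hc3 hc4 _ Ω rfl S'
      (S.isPGroup'.map _)
    let eS : ↥(S : Subgroup ↥G) ≃* ↥S' := (S : Subgroup ↥G).equivMapOfInjective _ G.subtype_injective
    let Cx : ↥(S : Subgroup ↥G) → Subgroup ↥G := fun x => Subgroup.centralizer ({(x : ↥G)} : Set ↥G)
    -- classes are covered by the classes of the centralizers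
    have hsur : Nat.card (SmallClasses ↥G (P + 1)) ≤
        ∑ x : ↥(S : Subgroup ↥G), Nat.card (SmallClasses ↥(Cx x) P) := by
      rw [← Nat.card_sigma]
      have hsP : ∀ (x : ↥(S : Subgroup ↥G)) (y : ↥(Cx x)), Small P y → Small (P + 1) ((x : ↥G) * (y : ↥G)) := by
        intro x y hy q hq hqd
        have hxy : Commute (x : ↥G) (y : ↥G) := (Subgroup.mem_centralizer_singleton_iff.1 y.2).symm
        rcases (Nat.Prime.dvd_mul hq).1 (hqd.trans (hxy.orderOf_mul_dvd_mul_orderOf)) with h | h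
        · obtain ⟨e, he⟩ := IsPGroup.iff_orderOf.1 S.isPGroup' x
          rw [Subgroup.orderOf_coe, he] at h
          have := (Nat.prime_dvd_prime_iff_eq hq hP).1 (hq.dvd_of_dvd_pow h)
          omega
        · rw [Subgroup.orderOf_coe] at h
          have := hy q hq h
          omega
      let Φ : (x : ↥(S : Subgroup ↥G)) × SmallClasses ↥(Cx x) P → SmallClasses ↥G (P + 1) := fun z =>
        ⟨ConjClasses.mk ((z.1 : ↥G) * (Classical.choose z.2.2 : ↥(Cx z.1))),
          _, rfl, hsP z.1 _ (Classical.choose_spec z.2.2).2⟩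
      refine Nat.card_le_card_of_surjective Φ ?_
      rintro ⟨C, g, rfl, hg⟩
      obtain ⟨u, v, huv, hcomm, ⟨e, hu⟩, hv, hug, hvg⟩ :=
        Cfsg.Agent.Lib.Characters.exists_pPart_decomp hP g
      obtain ⟨T, hT⟩ := (IsPGroup.of_card (p := P) (n := e) (by rw [Nat.card_zpowers, hu]) :
        IsPGroup P ↥(Subgroup.zpowers u)).exists_le_sylow
      obtain ⟨w, hw⟩ := MulAction.exists_smul_eq ↥G T S
      have hu' : w * u * w⁻¹ ∈ (S : Subgroup ↥G) := by
        rw [← hw, Sylow.coe_subgroup_smul]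
        exact ⟨u, hT (Subgroup.mem_zpowers u), rfl⟩
      obtain ⟨x, hx⟩ : ∃ x : ↥(S : Subgroup ↥G), (x : ↥G) = w * u * w⁻¹ := ⟨⟨_, hu'⟩, rfl⟩
      have hy : w * v * w⁻¹ ∈ Cx x := by
        rw [Subgroup.mem_centralizer_singleton_iff, hx, conj_mul, conj_mul, hcomm.eq]
      have hys : Small P (⟨_, hy⟩ : ↥(Cx x)) := by
        intro q hq hqd
        rw [← Subgroup.orderOf_coe] at hqd
        change q ∣ orderOf (w * v * w⁻¹) at hqd
        rw [show w * v * w⁻¹ = MulAut.conj w v from rfl, MulEquiv.orderOf_eq] at hqd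
        have h1 := hg q hq (hqd.trans (orderOf_dvd_of_mem_zpowers hvg))
        have : q ≠ P := fun e' => by
          subst e'
          exact hq.ne_one (Nat.eq_one_of_dvd_coprimes hv hqd (dvd_refl q))
        omega
      refine ⟨⟨x, ConjClasses.mk ⟨_, hy⟩, _, rfl, hys⟩, Subtype.ext ?_⟩
      show ConjClasses.mk ((x : ↥G) * _) = ConjClasses.mk g
      obtain ⟨d, hd⟩ := isConj_iff.1 (ConjClasses.mk_eq_mk_iff_isConj.1
        (Classical.choose_spec (⟨_, rfl, hys⟩ : ∃ y : ↥(Cx x), ConjClasses.mk y = ConjClasses.mk ⟨_, hy⟩ ∧ Small P y)).1)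
      rw [ConjClasses.mk_eq_mk_iff_isConj]
      refine IsConj.trans (b := (x : ↥G) * (w * v * w⁻¹)) (isConj_iff.2 ⟨(d : ↥G), ?_⟩) (isConj_iff.2 ⟨w⁻¹, ?_⟩)
      · have hd' := congrArg Subtype.val hd
        simp only [Subgroup.coe_mul, Subgroup.coe_inv] at hd'
        rw [← conj_mul, hd']
        congr 1
        rw [Subgroup.mem_centralizer_singleton_iff.1 d.2, mul_inv_cancel_right]
      · rw [hx, inv_inv, huv]; group
    have hxle : ∀ x : ↥(S : Subgroup ↥G),
        A P * (Nat.card (SmallClasses ↥(Cx x) P) : ℝ) ≤ A P ^ cyc ((x : ↥G) : Perm Ω) := by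
      intro x
      obtain ⟨e, he⟩ := IsPGroup.iff_orderOf.1 S.isPGroup' x
      have he' : orderOf ((x : ↥G) : Perm Ω) = P ^ e := by rw [Subgroup.orderOf_coe, Subgroup.orderOf_coe, he]
      obtain ⟨hk1, hk2⟩ := cycleHom_ker (x : ↥G)
      let φ := cycleHom (x : ↥G)
      have hmap : ∀ y : ↥(Cx x), Small P y → Small P (φ.rangeRestrict y) := fun y hy q hq hqd =>
        hy q hq (hqd.trans (orderOf_map_dvd _ y))
      have hle' : Nat.card (SmallClasses ↥(Cx x) P) ≤ Nat.card (SmallClasses ↥φ.range P) := by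
        refine Nat.card_le_card_of_injective
          (fun C => ⟨C.1.map φ.rangeRestrict, by obtain ⟨y, hy, hs⟩ := C.2; exact ⟨_, by rw [← hy]; rfl, hmap y hs⟩⟩) ?_
        rintro ⟨C, y, rfl, hy⟩ ⟨C', y', rfl, hy'⟩ h
        have h' : ConjClasses.mk (φ.rangeRestrict y) = ConjClasses.mk (φ.rangeRestrict y') := congrArg Subtype.val h
        obtain ⟨d, hd⟩ := isConj_iff.1 (ConjClasses.mk_eq_mk_iff_isConj.1 h')
        obtain ⟨c', rfl⟩ := φ.rangeRestrict_surjective d
        apply Subtype.ext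
        rw [ConjClasses.mk_eq_mk_iff_isConj]
        have hco : ∀ u : ↥(Cx x), Small P u → (orderOf u).Coprime P := fun u hu =>
          Nat.Coprime.symm ((hP.coprime_iff_not_dvd).2 fun hd' => lt_irrefl _ (hu P hP hd'))
        refine (isConj_iff.2 ⟨c', rfl⟩).trans
          (isConj_of_ker φ P hk1 (fun k hk => ⟨e, by rw [← he']; exact hk2 k hk⟩) ?_ (hco y' hy') ?_)
        · rw [show c' * y * c'⁻¹ = MulAut.conj c' y from rfl, MulEquiv.orderOf_eq]; exact hco y hy
        · have := congrArg Subtype.val hd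
          simpa using this
      have hq1 : 1 ≤ cyc ((x : ↥G) : Perm Ω) := by
        have hne : Nonempty Ω := Fintype.card_pos_iff.1 (by omega)
        exact Nat.one_le_iff_ne_zero.2 (Nat.card_ne_zero.2 ⟨hne.map (Quotient.mk _), inferInstance⟩)
      letI : Fintype (Quotient (Perm.SameCycle.setoid ((x : ↥G) : Perm Ω))) := Fintype.ofFinite _
      have hIH := ih _ (by rw [← Nat.card_eq_fintype_card]; exact hq1) φ.range
      rw [← Nat.card_eq_fintype_card] at hIH
      change _ ≤ A P ^ (cyc _ - 1) at hIH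
      calc A P * (Nat.card (SmallClasses ↥(Cx x) P) : ℝ) ≤ A P * A P ^ (cyc ((x : ↥G) : Perm Ω) - 1) :=
            mul_le_mul_of_nonneg_left ((Nat.cast_le.2 hle').trans hIH) (by linarith [(one_le_A P).1])
        _ = _ := by rw [← pow_succ', Nat.sub_add_cancel hq1]
    have ho : 1 ≤ orbN S' := by
      have hne : Nonempty Ω := Fintype.card_pos_iff.1 (by omega)
      exact Nat.one_le_iff_ne_zero.2 (Nat.card_ne_zero.2 ⟨hne.map Quotient.mk'', inferInstance⟩)
    have hA1 := (one_le_A P).1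
    refine le_of_mul_le_mul_left ?_ (show (0 : ℝ) < A P by linarith)
    calc A P * (Nat.card (SmallClasses ↥G (P + 1)) : ℝ)
        ≤ A P * ∑ x : ↥(S : Subgroup ↥G), (Nat.card (SmallClasses ↥(Cx x) P) : ℝ) :=
          mul_le_mul_of_nonneg_left (by exact_mod_cast hsur) (by linarith)
      _ ≤ ∑ x : ↥(S : Subgroup ↥G), A P ^ cyc ((x : ↥G) : Perm Ω) := by
          rw [Finset.mul_sum]; exact Finset.sum_le_sum fun x _ => hxle x
      _ = ∑ x : ↥S', A P ^ cyc (x : Perm Ω) := Equiv.sum_comp eS.toEquiv fun x : ↥S' => A P ^ cyc (x : Perm Ω)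
      _ ≤ A P ^ orbN S' * A (P + 1) ^ (Fintype.card Ω - orbN S') := hsum
      _ = A P * A P ^ (orbN S' - 1) * A (P + 1) ^ (Fintype.card Ω - orbN S') := by
          rw [← pow_succ', Nat.sub_add_cancel ho]
      _ ≤ A P * A (P + 1) ^ (orbN S' - 1) * A (P + 1) ^ (Fintype.card Ω - orbN S') := by
          gcongr
          · exact pow_nonneg (by linarith [(one_le_A (P + 1)).1]) _
          · exact A_mono P
      _ = A P * A (P + 1) ^ (Fintype.card Ω - 1) := by
          rw [mul_assoc, ← pow_add]; congr 2; omega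

/-- A permutation group of degree `d` has at most `4 ^ (d - 1)` conjugacy classes. -/
theorem card_conjClasses_le {Ω : Type} [Fintype Ω] (h : 1 ≤ Fintype.card Ω) (G : Subgroup (Perm Ω)) :
    Nat.card (ConjClasses ↥G) ≤ 4 ^ (Fintype.card Ω - 1) := by
  have h1 := smallClasses_bound (Nat.card ↥G + 1) Ω h G
  have h2 : Nat.card (ConjClasses ↥G) ≤ Nat.card (SmallClasses ↥G (Nat.card ↥G + 1)) := by
    refine Nat.card_le_card_of_injective (fun C => ⟨C, ?_⟩) fun C C' e => (congrArg Subtype.val e :)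
    obtain ⟨g, rfl⟩ := ConjClasses.mk_surjective C
    exact ⟨g, rfl, fun q _ hqd => Nat.lt_succ_of_le (Nat.le_of_dvd Nat.card_pos (hqd.trans (orderOf_dvd_natCard g)))⟩
  have h3 : (Nat.card (ConjClasses ↥G) : ℝ) ≤ ((4 ^ (Fintype.card Ω - 1) : ℕ) : ℝ) := by
    push_cast
    exact ((Nat.cast_le.2 h2).trans h1).trans
      (pow_le_pow_left₀ (by linarith [(one_le_A (Nat.card ↥G + 1)).1]) (one_le_A _).2.le _)
  exact_mod_cast h3

end Cfsg.Agent.Lib.Perm.ClassBound
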