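import Mathlib
import Cfsg.Prelude

/-!
# Transitive groups of degree `p + 1` and order `(p + 1) p d` with `d < p`

Such a group is doubly transitive with two-point stabilisers semiregular on the remaining points.
A regular normal subgroup makes it a group of semi-affine maps of a field with `p + 1` elements.
-/

set_option autoImplicit false
set_option linter.unusedSectionVars false
set_option linter.style.haveILetI false

namespace Cfsg.Agent.Lib.Perm.DegreePrimeSucc

open MulAction
open scoped Pointwise

universe v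

variable {α : Type v} [Fintype α] [DecidableEq α] {p d : ℕ} [hp : Fact p.Prime]
  {G : Subgroup (Equiv.Perm α)}

/-- The structure forced by the order. -/
structure Data (G : Subgroup (Equiv.Perm α)) (p d : ℕ) : Prop where
  card_points : Fintype.card α = p + 1
  lt : d < p
  two : IsMultiplyPretransitive G α 2
  cycle : ∀ a : α, ∃ x : G, x • a = a ∧ x ^ p = 1 ∧
    (∀ b c : α, b ≠ a → c ≠ a → ∃ i : ℕ, x ^ i • b = c) ∧
    ∀ g : G, g • a = a → ∃ i : ℕ, g * x * g⁻¹ = x ^ i
  three : ∀ g : G, ∀ a b c : α, a ≠ b → b ≠ c → a ≠ c → g • a = a → g • b = b → g • c = c → g = 1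
  card_pair : ∀ a b : α, a ≠ b → Nat.card ↥(stabilizer G a ⊓ stabilizer G b) = d

theorem pos_of_card (hG : Nat.card G = (p + 1) * p * d) : 0 < d := by
  rcases Nat.eq_zero_or_pos d with h | h
  · have := Nat.card_pos (α := G)
    rw [hG, h, mul_zero] at this
    exact absurd this (lt_irrefl 0)
  · exact h

theorem data [IsPretransitive G α] (hα : Fintype.card α = p + 1)
    (hG : Nat.card G = (p + 1) * p * d) (hd : d < p) : Data G p d := by
  classical
  have hp2 := hp.out.two_le
  have hd0 := pos_of_card hG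
  have hstab : ∀ a : α, Nat.card (stabilizer G a) = p * d := by
    intro a
    have h := (stabilizer G a).index_mul_card
    rw [index_stabilizer_of_transitive, Nat.card_eq_fintype_card (α := α), hα, hG, mul_assoc] at h
    exact Nat.eq_of_mul_eq_mul_left (by omega) h
  -- a cycle of length `p` in each point stabiliser
  have hcyc : ∀ a : α, ∃ x : G, x • a = a ∧ orderOf x = p ∧
      ∀ b c : α, b ≠ a → c ≠ a → ∃ i : ℕ, x ^ i • b = c := by
    intro a
    obtain ⟨x, hx⟩ := exists_prime_orderOf_dvd_card' (G := stabilizer G a) p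
      ⟨d, hstab a⟩
    have hx' : orderOf ((x : G) : Equiv.Perm α) = p := by
      rw [Subgroup.orderOf_coe, Subgroup.orderOf_coe, hx]
    have hle : ((x : G) : Equiv.Perm α).support.card ≤ p := by
      have ha : a ∉ ((x : G) : Equiv.Perm α).support := by
        rw [Equiv.Perm.mem_support, not_not]; exact x.2
      have hne : ((x : G) : Equiv.Perm α).support ≠ Finset.univ := fun e =>
        ha (by rw [e]; exact Finset.mem_univ a)
      have h := Finset.card_lt_card (Finset.ssubset_univ_iff.2 hne)
      rw [Finset.card_univ, hα] at h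
      omega
    have hc : ((x : G) : Equiv.Perm α).IsCycle :=
      Equiv.Perm.isCycle_of_prime_order (hx'.symm ▸ hp.out) (by rw [hx']; omega)
    have hsupp : ((x : G) : Equiv.Perm α).support = Finset.univ.erase a := by
      refine Finset.eq_of_subset_of_card_le (fun c hc => Finset.mem_erase.2 ⟨?_, Finset.mem_univ _⟩) ?_
      · rintro rfl
        exact (Equiv.Perm.mem_support.1 hc) x.2
      · rw [Finset.card_erase_of_mem (Finset.mem_univ _), Finset.card_univ, hα, ← hc.orderOf, hx']
        omega
    refine ⟨x, x.2, by rw [Subgroup.orderOf_coe]; exact hx, fun b c hb hc' => ?_⟩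
    have hb' : ((x : G) : Equiv.Perm α) b ≠ b := Equiv.Perm.mem_support.1
      (hsupp ▸ Finset.mem_erase.2 ⟨hb, Finset.mem_univ _⟩)
    have hc'' : ((x : G) : Equiv.Perm α) c ≠ c := Equiv.Perm.mem_support.1
      (hsupp ▸ Finset.mem_erase.2 ⟨hc', Finset.mem_univ _⟩)
    obtain ⟨i, hi⟩ := hc.exists_pow_eq hb' hc''
    exact ⟨i, by rw [Subgroup.smul_def, Subgroup.coe_pow, Equiv.Perm.smul_def, hi]⟩
  have hmove : ∀ a b c : α, b ≠ a → c ≠ a → ∃ g : G, g • a = a ∧ g • b = c := by
    intro a b c hb hc
    obtain ⟨x, hxa, -, hx⟩ := hcyc a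
    obtain ⟨i, hi⟩ := hx b c hb hc
    exact ⟨x ^ i, (stabilizer G a).pow_mem hxa i, hi⟩
  have h2 : IsMultiplyPretransitive G α 2 := by
    rw [is_two_pretransitive_iff]
    intro a b c d hab hcd
    obtain ⟨g, hg⟩ := MulAction.exists_smul_eq G a c
    have hgb : g • b ≠ c := fun h => hab (MulAction.injective g (hg.trans h.symm))
    obtain ⟨k, hk1, hk2⟩ := hmove c (g • b) d hgb (Ne.symm hcd)
    exact ⟨k * g, by rw [mul_smul, hg, hk1], by rw [mul_smul, hk2]⟩
  -- the cycle is normalised
  have hnorm : ∀ a : α, ∀ x : G, x • a = a → orderOf x = p → ∀ g : G, g • a = a →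
      g * x * g⁻¹ ∈ Subgroup.zpowers x := by
    intro a x hxa hx g hga
    by_contra hno
    set y : stabilizer G a := ⟨g * x * g⁻¹, (stabilizer G a).mul_mem
      ((stabilizer G a).mul_mem hga hxa) ((stabilizer G a).inv_mem hga)⟩
    set P : Subgroup (stabilizer G a) := Subgroup.zpowers ⟨x, hxa⟩ with hP
    have hPc : Nat.card P = p := by
      rw [hP, Nat.card_zpowers, ← Subgroup.orderOf_coe]; exact hx
    have hy : orderOf y = p := by
      rw [← Subgroup.orderOf_coe]
      show orderOf (g * x * g⁻¹) = p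
      rw [← MulAut.conj_apply, MulEquiv.orderOf_eq, hx]
    have hidx : P.index = d := by
      have h := P.index_mul_card
      rw [hPc, hstab, mul_comm p] at h
      exact Nat.eq_of_mul_eq_mul_right hp.out.pos h
    have hyP : y ∉ P := by
      intro h
      obtain ⟨k, hk⟩ := Subgroup.mem_zpowers_iff.1 h
      exact hno (Subgroup.mem_zpowers_iff.2 ⟨k, congrArg Subtype.val hk⟩)
    have hrel : P.relIndex (Subgroup.zpowers y) = p := by
      have hdvd : P.relIndex (Subgroup.zpowers y) ∣ p := by
        rw [← hy, ← Nat.card_zpowers]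
        exact Subgroup.index_dvd_card _
      refine ((Nat.dvd_prime hp.out).1 hdvd).resolve_left fun h => hyP ?_
      exact Subgroup.relIndex_eq_one.1 h (Subgroup.mem_zpowers y)
    have hle : P.relIndex (Subgroup.zpowers y) ≤ P.index := by
      rw [← Subgroup.relIndex_top_right]
      exact Subgroup.relIndex_le_of_le_right le_top (by rw [Subgroup.relIndex_top_right, hidx]; omega)
    omega
  refine ⟨hα, hd, h2, fun a => ?_, ?_, fun a b hab => ?_⟩
  · obtain ⟨x, hxa, hx, hx'⟩ := hcyc a
    refine ⟨x, hxa, by rw [← hx]; exact pow_orderOf_eq_one x, hx', fun g hga => ?_⟩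
    exact ((isOfFinOrder_of_finite x).mem_powers_iff_mem_zpowers.2 (hnorm a x hxa hx g hga)).imp
      fun i hi => hi.symm
  · intro g a b c hab hbc hac hga hgb hgc
    obtain ⟨x, hxa, hx, hx'⟩ := hcyc a
    obtain ⟨m, hm⟩ := (isOfFinOrder_of_finite x).mem_powers_iff_mem_zpowers.2 (hnorm a x hxa hx g hga)
    obtain ⟨i, hi⟩ := hx' b c hab.symm hac.symm
    have hm' : g * x ^ i * g⁻¹ = x ^ (m * i) := by
      rw [← conj_pow, ← (hm : x ^ m = g * x * g⁻¹), ← pow_mul]
    have hfree : ∀ n : ℕ, x ^ n • b = b → p ∣ n := by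
      intro n hn
      rw [← hx]
      apply orderOf_dvd_of_pow_eq_one
      refine FaithfulSMul.eq_of_smul_eq_smul (α := α) fun e => ?_
      rw [one_smul]
      rcases eq_or_ne e a with rfl | he
      · exact (stabilizer G e).pow_mem hxa n
      · obtain ⟨k, rfl⟩ := hx' b e hab.symm he
        rw [smul_smul, ← pow_add, add_comm, pow_add, mul_smul, hn]
    have hc2 : x ^ (m * i) • b = x ^ i • b := by
      rw [← hm', mul_smul, mul_smul, inv_smul_eq_iff.2 hgb.symm, hi, hgc]
    have hcomm : g * x = x * g := by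
      have hm1 : (m * i : ℕ) ≡ i [MOD orderOf x] := by
        rcases le_total (m * i) i with hle | hle
        · have := hfree (i - m * i) (by
            refine MulAction.injective (x ^ (m * i)) ?_
            show x ^ (m * i) • x ^ (i - m * i) • b = x ^ (m * i) • b
            rw [smul_smul, ← pow_add, Nat.add_sub_cancel' hle, hc2])
          rw [hx]; exact (Nat.modEq_iff_dvd' hle).2 this
        · have := hfree (m * i - i) (by
            refine MulAction.injective (x ^ i) ?_
            show x ^ i • x ^ (m * i - i) • b = x ^ i • b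
            rw [smul_smul, ← pow_add, Nat.add_sub_cancel' hle, hc2])
          rw [hx]; exact ((Nat.modEq_iff_dvd' hle).2 this).symm
      have hi0 : ¬ p ∣ i := by
        intro hdvd
        have : x ^ i = 1 := orderOf_dvd_iff_pow_eq_one.1 (hx.symm ▸ hdvd)
        rw [this, one_smul] at hi
        exact hbc hi
      have hgi : g * x ^ i * g⁻¹ = x ^ i := by rw [hm']; exact pow_eq_pow_iff_modEq.2 hm1
      have hgi' : Commute g (x ^ i) := mul_inv_eq_iff_eq_mul.1 hgi
      have hxmem : x ∈ Subgroup.zpowers (x ^ i) :=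
        mem_zpowers_pow_iff.2 (by
          rw [hx]
          exact (hp.out.coprime_iff_not_dvd.2 hi0).symm)
      obtain ⟨k, hk⟩ := Subgroup.mem_zpowers_iff.1 hxmem
      have h := (hgi'.zpow_right k).eq
      rwa [hk] at h
    refine FaithfulSMul.eq_of_smul_eq_smul (α := α) fun e => ?_
    rw [one_smul]
    rcases eq_or_ne e a with rfl | he
    · exact hga
    · obtain ⟨k, rfl⟩ := hx' b e hab.symm he
      rw [smul_smul, ((show Commute g x from hcomm).pow_right k).eq, mul_smul, hgb]
  · set A := stabilizer G a with hA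
    have horb : orbit A b = {a}ᶜ := by
      ext c
      constructor
      · rintro ⟨k, rfl⟩ h
        have h' : (k : G) • b = (k : G) • a := (Set.mem_singleton_iff.1 h).trans k.2.symm
        exact hab (MulAction.injective _ h').symm
      · intro hc
        obtain ⟨g, hga, hgb⟩ := hmove a b c hab.symm hc
        exact ⟨⟨g, hga⟩, hgb⟩
    have hidx : (stabilizer A b).index = p := by
      rw [MulAction.index_stabilizer, horb, Set.ncard_compl, Nat.card_eq_fintype_card, hα,
        Set.ncard_singleton, Nat.add_sub_cancel]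
    have h := (stabilizer A b).index_mul_card
    rw [hidx, hstab] at h
    rw [← Nat.eq_of_mul_eq_mul_left hp.out.pos h]
    exact Nat.card_congr
      { toFun := fun g => ⟨⟨(g : G), g.2.1⟩, g.2.2⟩
        invFun := fun g => ⟨((g : A) : G), (g : A).2, g.2⟩
        left_inv := fun g => rfl
        right_inv := fun g => rfl }

section Regular

variable {N : Subgroup G} [hNn : N.Normal]

/-- Conjugation as an additive endomorphism of the normal subgroup. -/
def cj (N : Subgroup G) [N.Normal] (g : G) : AddMonoid.End (Additive N) :=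
  MonoidHom.toAdditive (MulAut.conjNormal g : MulAut N).toMonoidHom

theorem cj_apply (g : G) (n : Additive N) :
    ((Additive.toMul (cj N g n) : N) : G) = g * (Additive.toMul n : N) * g⁻¹ :=
  MulAut.conjNormal_apply g _

theorem cj_mul (g h : G) : cj N (g * h) = cj N g * cj N h := by
  refine AddMonoidHom.ext fun n => ?_
  show cj N (g * h) n = cj N g (cj N h n)
  refine Additive.toMul.injective (Subtype.ext ?_)
  rw [cj_apply, cj_apply, cj_apply]
  group

theorem cj_one : cj N (1 : G) = 1 := by
  refine AddMonoidHom.ext fun n => ?_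
  show cj N 1 n = n
  refine Additive.toMul.injective (Subtype.ext ?_)
  rw [cj_apply]; group

theorem cj_pow (g : G) (i : ℕ) : cj N (g ^ i) = cj N g ^ i := by
  induction i with
  | zero => simp [cj_one]
  | succ i ih => rw [pow_succ, cj_mul, ih, pow_succ]

theorem affine (D : Data G p d) (hp2 : p ≠ 2) (htr : IsPretransitive N α)
    (hreg : ∀ a : α, stabilizer N a = ⊥) :
    ∃ q : ℕ, q.Prime ∧ p + 1 = 2 ^ q ∧ (d = 1 ∨ d = q) ∧ ∃ e : α ≃ GaloisField 2 q,
      ∀ g : G, (e.symm.trans (((g : Equiv.Perm α)).trans e)) ∈ Cfsg.semiaffineGroup (GaloisField 2 q) := by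
  classical
  haveI := htr
  obtain ⟨a⟩ : Nonempty α := Fintype.card_pos_iff.1 (by rw [D.card_points]; omega)
  obtain ⟨x, hxa, hxp, hx, hxn⟩ := D.cycle a
  -- `N` corresponds to the points
  have hinj : Function.Injective fun n : N => (n : G) • a := by
    intro n m h
    have h' : m⁻¹ * n ∈ stabilizer N a := by
      rw [mem_stabilizer_iff, mul_smul, inv_smul_eq_iff]; exact h
    rw [hreg, Subgroup.mem_bot, inv_mul_eq_one] at h'
    exact h'.symm
  have hbij : Function.Bijective fun n : N => (n : G) • a :=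
    ⟨hinj, fun b => MulAction.exists_smul_eq N a b⟩
  have hcardN : Nat.card N = p + 1 := by
    rw [Nat.card_eq_of_bijective _ hbij, Nat.card_eq_fintype_card, D.card_points]
  have hconj : ∀ (h : G), h • a = a → ∀ n : N,
      ((MulAut.conjNormal h n : N) : G) • a = h • (n : G) • a := by
    intro h hh n
    rw [MulAut.conjNormal_apply, mul_smul, mul_smul, inv_smul_eq_iff.2 hh.symm]
  have horbit : ∀ n m : N, n ≠ 1 → m ≠ 1 → ∃ i : ℕ, MulAut.conjNormal (x ^ i) n = m := by
    intro n m hn hm
    have hne : ∀ n : N, n ≠ 1 → (n : G) • a ≠ a := fun n hn h => hn (hinj (by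
      show (n : G) • a = ((1 : N) : G) • a
      rw [h, Subgroup.coe_one, one_smul]))
    obtain ⟨i, hi⟩ := hx _ _ (hne n hn) (hne m hm)
    exact ⟨i, hinj (by
      show ((MulAut.conjNormal (x ^ i) n : N) : G) • a = (m : G) • a
      rw [hconj _ ((stabilizer G a).pow_mem hxa i), hi])⟩
  -- `N` is elementary abelian of exponent two
  have hpodd : Odd p := hp.out.odd_of_ne_two hp2
  haveI : Finite N := inferInstance
  obtain ⟨t, ht⟩ := exists_prime_orderOf_dvd_card' (G := N) 2
    (by rw [hcardN]; obtain ⟨k, hk⟩ := hpodd; omega)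
  have ht1 : t ≠ 1 := fun h => by rw [h, orderOf_one] at ht; norm_num at ht
  have hsq : ∀ n : N, n * n = 1 := by
    intro n
    rcases eq_or_ne n 1 with rfl | hn
    · exact one_mul 1
    obtain ⟨i, hi⟩ := horbit t n ht1 hn
    rw [← hi, ← map_mul, ← pow_two t, ← ht, pow_orderOf_eq_one, map_one]
  have hcomm : ∀ n m : N, n * m = m * n := fun n m => by
    have inv_eq : ∀ z : N, z⁻¹ = z := fun z => inv_eq_of_mul_eq_one_right (hsq z)
    rw [← inv_eq (n * m), mul_inv_rev, inv_eq, inv_eq]
  haveI : Fact (Nat.Prime 2) := ⟨Nat.prime_two⟩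
  obtain ⟨q, hq⟩ := IsPGroup.iff_card.1
    (show IsPGroup 2 N from fun n => ⟨1, by rw [pow_one, pow_two, hsq]⟩)
  rw [hcardN] at hq
  have hqp : q.Prime := by
    refine (Nat.prime_of_pow_sub_one_prime (a := 2) (n := q) ?_ ?_).2
    · rintro rfl
      have := hp.out.two_le
      omega
    · rw [← hq, Nat.add_sub_cancel]; exact hp.out
  -- the field
  letI : CommGroup N := { (inferInstance : Group N) with mul_comm := hcomm }
  set U : AddMonoid.End (Additive N) := cj N x with hU
  set R : Subring (AddMonoid.End (Additive N)) := Subring.closure {U} with hR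
  have hRU : ∀ r ∈ R, r * U = U * r := by
    intro r hr
    have hle : R ≤ Subring.centralizer {U} := by
      rw [hR, Subring.closure_le, Set.singleton_subset_iff]
      exact fun z hz => by rw [Set.mem_singleton_iff.1 hz]
    exact (hle hr U rfl).symm
  have hRR : ∀ r ∈ R, ∀ s ∈ R, r * s = s * r := by
    intro r hr s hs
    have hle : R ≤ Subring.centralizer (R : Set (AddMonoid.End (Additive N))) := by
      rw [hR, Subring.closure_le, Set.singleton_subset_iff]
      exact fun z hz => hRU z hz
    exact (hle hr s hs).symm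
  have hinjR : ∀ r ∈ R, ∀ v : Additive N, v ≠ 0 → r v = 0 → r = 0 := by
    intro r hr v hv hrv
    refine AddMonoidHom.ext fun w => ?_
    rcases eq_or_ne w 0 with rfl | hw
    · exact AddMonoidHom.map_zero r
    obtain ⟨i, hi⟩ := horbit (Additive.toMul v) (Additive.toMul w) hv hw
    have hwv : w = (U ^ i) v := by
      rw [hU, ← cj_pow]
      exact (congrArg Additive.ofMul hi).symm
    have hc : r * U ^ i = U ^ i * r := ((show Commute r U from hRU r hr).pow_right i).eq
    show r w = 0
    rw [hwv]
    show (r * U ^ i) v = 0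
    rw [hc]
    show (U ^ i) (r v) = 0
    rw [hrv, map_zero]
  set v₀ : Additive N := Additive.ofMul t with hv₀
  have hv₀0 : v₀ ≠ 0 := fun h => ht1 h
  have hevinj : Function.Injective fun r : R => (r : AddMonoid.End (Additive N)) v₀ := by
    intro r s h
    refine Subtype.ext (sub_eq_zero.1 ?_)
    refine hinjR _ (R.sub_mem r.2 s.2) v₀ hv₀0 ?_
    show (r : AddMonoid.End (Additive N)) v₀ - (s : AddMonoid.End (Additive N)) v₀ = 0
    exact sub_eq_zero.2 h
  have hevsurj : Function.Surjective fun r : R => (r : AddMonoid.End (Additive N)) v₀ := by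
    intro w
    rcases eq_or_ne w 0 with rfl | hw
    · exact ⟨0, rfl⟩
    obtain ⟨i, hi⟩ := horbit t (Additive.toMul w) ht1 hw
    refine ⟨⟨U ^ i, R.pow_mem (Subring.subset_closure rfl) i⟩, ?_⟩
    show (U ^ i) v₀ = w
    rw [hU, ← cj_pow]
    exact congrArg Additive.ofMul hi
  haveI : Finite R := Finite.of_injective _ hevinj
  have hcardR : Nat.card R = 2 ^ q := by
    rw [Nat.card_eq_of_bijective _ ⟨hevinj, hevsurj⟩, ← hq, ← hcardN]
    exact Nat.card_congr Additive.toMul
  have hfield : IsField R := by
    haveI : Nontrivial R := Finite.one_lt_card_iff_nontrivial.1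
      (by rw [hcardR]; exact Nat.one_lt_two_pow hqp.ne_zero)
    refine ⟨exists_pair_ne R, fun r s => Subtype.ext (hRR r r.2 s s.2), fun {r} hr => ?_⟩
    have hbij' : Function.Bijective fun s : R => r * s := by
      refine (Finite.injective_iff_bijective).1 fun s u h => ?_
      refine hevinj ?_
      by_contra hne
      refine hr (Subtype.ext (hinjR r r.2 ((s : AddMonoid.End (Additive N)) v₀ -
        (u : AddMonoid.End (Additive N)) v₀) (sub_ne_zero.2 hne) ?_))
      rw [map_sub, sub_eq_zero]
      exact congrArg (fun z : R => (z : AddMonoid.End (Additive N)) v₀) h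
    obtain ⟨s, hs⟩ := hbij'.2 1
    exact ⟨s, hs⟩
  letI : Field R := hfield.toField
  haveI : Fintype R := Fintype.ofFinite R
  haveI : Fintype (GaloisField 2 q) := Fintype.ofFinite _
  let ψ : R ≃+* GaloisField 2 q := FiniteField.ringEquivOfCardEq (by
    rw [← Nat.card_eq_fintype_card, hcardR, ← Nat.card_eq_fintype_card,
      GaloisField.card 2 q hqp.ne_zero])
  let E : R ≃ α := ((Equiv.ofBijective _ ⟨hevinj, hevsurj⟩).trans Additive.toMul).trans
    (Equiv.ofBijective _ hbij)
  have hE : ∀ r : R, E r = ((Additive.toMul ((r : AddMonoid.End (Additive N)) v₀) : N) : G) • a :=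
    fun r => rfl
  let e : α ≃ GaloisField 2 q := E.symm.trans ψ.toEquiv
  -- conjugation by the point stabiliser gives field automorphisms
  have haut : ∀ h : G, h • a = a → ∃ φ : R ≃+* R, ∀ r : R,
      cj N h * (r : AddMonoid.End (Additive N)) = (φ r : AddMonoid.End (Additive N)) * cj N h := by
    intro h hh
    obtain ⟨m, hm⟩ := hxn h hh
    have hleft : cj N h * cj N h⁻¹ = 1 := by rw [← cj_mul, mul_inv_cancel, cj_one]
    have hright : cj N h⁻¹ * cj N h = 1 := by rw [← cj_mul, inv_mul_cancel, cj_one]
    have hmem : ∀ r ∈ R, cj N h * r * cj N h⁻¹ ∈ R := by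
      intro r hr
      induction hr using Subring.closure_induction with
      | mem z hz =>
        rw [Set.mem_singleton_iff.1 hz, hU, ← cj_mul, ← cj_mul, hm, cj_pow]
        exact R.pow_mem (Subring.subset_closure rfl) m
      | zero => simp
      | one => rw [mul_one, hleft]; exact R.one_mem
      | add z w _ _ h1 h2 => rw [mul_add, add_mul]; exact R.add_mem h1 h2
      | neg z _ h1 =>
        have e : cj N h * -z * cj N h⁻¹ = -(cj N h * z * cj N h⁻¹) := AddMonoidHom.ext fun v =>
          AddMonoidHom.map_neg (cj N h) (z (cj N h⁻¹ v))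
        rw [e]; exact R.neg_mem h1
      | mul z w _ _ h1 h2 =>
        have : cj N h * (z * w) * cj N h⁻¹ =
            cj N h * z * cj N h⁻¹ * (cj N h * w * cj N h⁻¹) := by
          simp only [mul_assoc, ← mul_assoc (cj N h⁻¹) (cj N h), hright, one_mul]
        rw [this]; exact R.mul_mem h1 h2
    let f : R →+* R :=
      { toFun := fun r => ⟨cj N h * r * cj N h⁻¹, hmem r r.2⟩
        map_one' := Subtype.ext (by simp [hleft])
        map_zero' := Subtype.ext (by simp)
        map_add' := fun r s => Subtype.ext (by simp [mul_add, add_mul])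
        map_mul' := fun r s => Subtype.ext (by
          simp only [Subring.coe_mul, mul_assoc, ← mul_assoc (cj N h⁻¹) (cj N h), hright, one_mul]) }
    refine ⟨RingEquiv.ofBijective f (Finite.injective_iff_bijective.1 (RingHom.injective f)),
      fun r => ?_⟩
    show _ = cj N h * r * cj N h⁻¹ * cj N h
    rw [mul_assoc _ (cj N h⁻¹), hright, mul_one]
  have hform : ∀ h : G, h • a = a → ∀ φ : R ≃+* R, (∀ r : R,
      cj N h * (r : AddMonoid.End (Additive N)) = (φ r : AddMonoid.End (Additive N)) * cj N h) →
      ∀ s : R, (s : AddMonoid.End (Additive N)) v₀ = cj N h v₀ →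
      ∀ r : R, h • E r = E (φ r * s) := by
    intro h hh φ hφ s hs r
    rw [hE, hE, ← hconj h hh, Subring.coe_mul]
    congr 1
    show ((Additive.toMul (cj N h ((r : AddMonoid.End (Additive N)) v₀)) : N) : G) = _
    show ((Additive.toMul ((cj N h * (r : AddMonoid.End (Additive N))) v₀) : N) : G) = _
    rw [hφ r]
    show ((Additive.toMul (((φ r : R) : AddMonoid.End (Additive N)) (cj N h v₀)) : N) : G) = _
    rw [← hs]
    rfl
  -- two-point stabilisers act as automorphisms
  have hAut : Nat.card (GaloisField 2 q ≃+* GaloisField 2 q) = q := by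
    have h : Nat.card (GaloisField 2 q ≃ₐ[ZMod 2] GaloisField 2 q) = q := by
      rw [IsGalois.card_aut_eq_finrank, GaloisField.finrank 2 hqp.ne_zero]
    refine Eq.trans ?_ h
    exact Nat.card_congr
      { toFun := fun φ => AlgEquiv.ofRingEquiv (f := φ) fun c =>
          RingHom.congr_fun (RingHom.ext_zmod ((φ : GaloisField 2 q →+* GaloisField 2 q).comp
            (algebraMap (ZMod 2) _)) (algebraMap (ZMod 2) _)) c
        invFun := fun φ => φ.toRingEquiv
        left_inv := fun φ => RingEquiv.ext fun _ => rfl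
        right_inv := fun φ => AlgEquiv.ext fun _ => rfl }
  have hE0 : E 0 = a := by
    rw [hE]
    show ((Additive.toMul (0 : Additive N) : N) : G) • a = a
    rw [toMul_zero, Subgroup.coe_one, one_smul]
  have hne : a ≠ E 1 := fun h => zero_ne_one (E.injective (hE0.trans h))
  have hd : d ∣ q := by
    rw [← D.card_pair a (E 1) hne, ← hAut]
    let A : Subgroup (Equiv.Perm α) :=
      (MulAction.toPermHom (RingAut (GaloisField 2 q)) (GaloisField 2 q)).range.map
        (e.symm.permCongrHom).toMonoidHom
    have hle : (stabilizer G a ⊓ stabilizer G (E 1)).map G.subtype ≤ A := by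
      rintro _ ⟨g, ⟨hga, hgb⟩, rfl⟩
      obtain ⟨φ, hφ⟩ := haut g hga
      have hs : ((1 : R) : AddMonoid.End (Additive N)) v₀ = cj N g v₀ := by
        refine Additive.toMul.injective (hinj ?_)
        show _ = ((MulAut.conjNormal g (Additive.toMul v₀) : N) : G) • a
        rw [hconj g hga]
        have hgb' : g • E 1 = E 1 := hgb
        rw [hE] at hgb'
        exact hgb'.symm
      refine ⟨_, ⟨(ψ.symm.trans φ).trans ψ, rfl⟩, Equiv.ext fun b => ?_⟩
      show e.symm (ψ (φ (ψ.symm (e b)))) = (g : Equiv.Perm α) b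
      have hb := hform g hga φ hφ 1 hs (E.symm b)
      rw [Equiv.apply_symm_apply, mul_one] at hb
      rw [show e.symm (ψ (φ (ψ.symm (e b)))) = E (φ (E.symm b)) by simp [e]]
      exact hb.symm
    have h1 := Subgroup.card_dvd_of_le hle
    rw [Subgroup.card_map_of_injective Subtype.val_injective] at h1
    refine h1.trans ?_
    rw [Subgroup.card_map_of_injective (e.symm.permCongrHom).injective,
      Nat.card_congr (MonoidHom.ofInjective MulAction.toPerm_injective).toEquiv.symm]
  refine ⟨q, hqp, hq, (Nat.dvd_prime hqp).1 hd, e, fun g => ?_⟩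
  obtain ⟨n₀, hn₀⟩ := hbij.2 (g • a)
  set h := (n₀ : G)⁻¹ * g with hh
  have hha : h • a = a := by rw [hh, mul_smul, inv_smul_eq_iff]; exact hn₀.symm
  obtain ⟨φ, hφ⟩ := haut h hha
  obtain ⟨s, hs⟩ := hevsurj (cj N h v₀)
  obtain ⟨t₀, ht₀⟩ := hevsurj (Additive.ofMul n₀)
  have hs0 : ψ s ≠ 0 := by
    intro h0
    rw [map_eq_zero] at h0
    have hz : cj N h v₀ = 0 := by rw [← hs, h0]; rfl
    refine hv₀0 ?_
    have e' : cj N h⁻¹ (cj N h v₀) = v₀ := by
      show (cj N h⁻¹ * cj N h) v₀ = v₀
      rw [← cj_mul, inv_mul_cancel, cj_one]; rfl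
    rw [hz] at e'
    exact e'.symm.trans (AddMonoidHom.map_zero (cj N h⁻¹))
  refine ⟨Units.mk0 (ψ s) hs0, ψ t₀, (ψ.symm.trans φ).trans ψ, fun z => ?_⟩
  have hg : g = (n₀ : G) * h := by rw [hh, mul_inv_cancel_left]
  show e ((g : Equiv.Perm α) (e.symm z)) = _
  have key : g • E (ψ.symm z) = E (φ (ψ.symm z) * s + t₀) := by
    rw [hg, mul_smul, hform h hha φ hφ s hs, hE, hE, smul_smul, ← Subgroup.coe_mul]
    congr 2
    show n₀ * Additive.toMul (((φ (ψ.symm z) * s : R) : AddMonoid.End (Additive N)) v₀) = _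
    rw [hcomm, Subring.coe_add]
    show _ = Additive.toMul (((φ (ψ.symm z) * s : R) : AddMonoid.End (Additive N)) v₀ +
      (t₀ : AddMonoid.End (Additive N)) v₀)
    rw [show (t₀ : AddMonoid.End (Additive N)) v₀ = Additive.ofMul n₀ from ht₀]
    rfl
  have key' : (g : Equiv.Perm α) (e.symm z) = E (φ (ψ.symm z) * s + t₀) := key
  rw [key']
  show ψ (E.symm (E _)) = _
  rw [Equiv.symm_apply_apply, map_add, map_mul, mul_comm]
  rfl

end Regular

end Cfsg.Agent.Lib.Perm.DegreePrimeSucc
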