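import Cfsg.Agent.Lib.Frobenius.Zassenhaus.Quaternion
import Mathlib.GroupTheory.Perm.Basic
import Mathlib.Data.Fintype.Perm

/-!
The automorphisms of the quaternion group of order eight permute four diagonals.
-/

set_option autoImplicit false

namespace Cfsg.Agent.Lib.Perm.QuatSym4

open Cfsg.Agent.Lib.Frobenius.Zassenhaus (qmap)

/-- Generating pairs. -/
def V (x : QuaternionGroup 2 × QuaternionGroup 2) : Prop :=
  x.1 * x.1 ≠ 1 ∧ x.2 * x.2 ≠ 1 ∧ x.1 * x.2 ≠ x.2 * x.1

instance (x : QuaternionGroup 2 × QuaternionGroup 2) : Decidable (V x) :=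
  inferInstanceAs (Decidable (_ ∧ _ ∧ _))

/-- Representatives of the four diagonals. -/
def R : Fin 4 → QuaternionGroup 2 × QuaternionGroup 2
  | 0 => (.a 1, .xa 0)
  | 1 => (.a 1, .xa 2)
  | 2 => (.a 3, .xa 0)
  | 3 => (.a 3, .xa 2)

/-- The six pairs on the diagonal of a pair. -/
def orb (x : QuaternionGroup 2 × QuaternionGroup 2) : List (QuaternionGroup 2 × QuaternionGroup 2) :=
  let u := x.1
  let v := x.2
  let w := x.1 * x.2
  [(u, v), (v, w), (w, u), (v⁻¹, u⁻¹), (w⁻¹, v⁻¹), (u⁻¹, w⁻¹)]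

/-- The diagonal of a pair. -/
def cls (x : QuaternionGroup 2 × QuaternionGroup 2) : Fin 4 :=
  if x ∈ orb (R 0) then 0 else if x ∈ orb (R 1) then 1 else if x ∈ orb (R 2) then 2 else 3

theorem V_R : ∀ k, V (R k) := by decide +kernel

theorem cls_R : ∀ k, cls (R k) = k := by decide +kernel

theorem cls_map : ∀ u v : QuaternionGroup 2, V (u, v) → ∀ a b : QuaternionGroup 2, V (a, b) →
    cls (qmap u v a, qmap u v b) =
      cls (qmap u v (R (cls (a, b))).1, qmap u v (R (cls (a, b))).2) := by decide +kernel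

theorem eq_one : ∀ u v : QuaternionGroup 2, V (u, v) →
    (∀ k, cls (qmap u v (R k).1, qmap u v (R k).2) = k) → u = .a 1 ∧ v = .xa 0 := by decide +kernel

theorem qmap_eq (σ : MulAut (QuaternionGroup 2)) :
    ∀ s, qmap (σ (.a 1)) (σ (.xa 0)) s = σ s := by
  rintro (i | i)
  · show σ (.a 1) ^ i.val = _
    rw [← map_pow, QuaternionGroup.a_one_pow, ZMod.natCast_zmod_val]
  · show σ (.xa 0) * σ (.a 1) ^ i.val = _
    rw [← map_pow, ← map_mul, QuaternionGroup.a_one_pow, ZMod.natCast_zmod_val,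
      QuaternionGroup.xa_mul_a, zero_add]

theorem V_map (σ : MulAut (QuaternionGroup 2)) {a b : QuaternionGroup 2} (h : V (a, b)) :
    V (σ a, σ b) := by
  obtain ⟨h1, h2, h3⟩ := h
  refine ⟨?_, ?_, ?_⟩
  · show σ a * σ a ≠ 1
    rwa [← map_mul, Ne, σ.map_eq_one_iff]
  · show σ b * σ b ≠ 1
    rwa [← map_mul, Ne, σ.map_eq_one_iff]
  · show σ a * σ b ≠ σ b * σ a
    rwa [← map_mul, ← map_mul, Ne, σ.injective.eq_iff]

/-- The action on diagonals. -/
def act (σ : MulAut (QuaternionGroup 2)) (k : Fin 4) : Fin 4 := cls (σ (R k).1, σ (R k).2)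

theorem act_mul (σ τ : MulAut (QuaternionGroup 2)) (k : Fin 4) : act (σ * τ) k = act σ (act τ k) := by
  have hV : V (σ (.a 1), σ (.xa 0)) := V_map σ (by decide +kernel)
  have h := cls_map _ _ hV (τ (R k).1) (τ (R k).2) (V_map τ (V_R k))
  simp only [qmap_eq] at h
  simp only [act, MulAut.mul_apply]
  exact h

theorem act_one (k : Fin 4) : act 1 k = k := cls_R k

/-- The permutation representation. -/
def hom : MulAut (QuaternionGroup 2) →* Equiv.Perm (Fin 4) where
  toFun σ :=
    { toFun := act σ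
      invFun := act σ⁻¹
      left_inv := fun k => by rw [← act_mul, inv_mul_cancel, act_one]
      right_inv := fun k => by rw [← act_mul, mul_inv_cancel, act_one] }
  map_one' := Equiv.ext act_one
  map_mul' σ τ := Equiv.ext (act_mul σ τ)

theorem hom_injective : Function.Injective hom := by
  rw [← MonoidHom.ker_eq_bot_iff, eq_bot_iff]
  intro σ hσ
  rw [Subgroup.mem_bot]
  have hfix : ∀ k, act σ k = k := fun k => Equiv.congr_fun (MonoidHom.mem_ker.mp hσ) k
  have hV : V (σ (.a 1), σ (.xa 0)) := V_map σ (by decide +kernel)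
  obtain ⟨h1, h2⟩ := eq_one _ _ hV fun k => by simp only [qmap_eq]; exact hfix k
  refine MulEquiv.ext fun s => ?_
  rw [← qmap_eq σ s, h1, h2, MulAut.one_apply]
  rcases s with i | i
  · exact (QuaternionGroup.a_one_pow _).trans (by rw [ZMod.natCast_zmod_val])
  · show QuaternionGroup.xa 0 * QuaternionGroup.a 1 ^ i.val = _
    rw [QuaternionGroup.a_one_pow, ZMod.natCast_zmod_val, QuaternionGroup.xa_mul_a, zero_add]

end Cfsg.Agent.Lib.Perm.QuatSym4
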