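import Cfsg.Agent.Lib.Frobenius.Zassenhaus.Structure
import Cfsg.Agent.Lib.Solvable.FixedPointFree
import Cfsg.Agent.Lib.Solvable.Supersolvable
import Cfsg.Agent.Lib.Perm.QuatSym4
import Mathlib.GroupTheory.SchurZassenhaus
import Mathlib.GroupTheory.PresentedGroup

/-!
Solvable fixed-point-free groups: a normal subgroup with cyclic Sylow subgroups and quotient inside
`Sym(4)`, and its presentation.
-/

set_option autoImplicit false
set_option linter.style.haveILetI false
set_option linter.unusedSectionVars false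

namespace Cfsg.Agent.Lib.Perm.FPFSolvable

open Cfsg.Agent.Lib
open scoped Pointwise
open Cfsg.Agent.Lib.Frobenius.Zassenhaus

variable {G : Type*} [Group G] [Finite G]

theorem hasNormalPComplement_of_central (hG : IsFPF G) (hs : Group.IsSolvable G)
    (h : ∀ s : G, Odd (orderOf s) → ∀ t ∈ Cfsg.pCore 2 G, t * s = s * t) :
    Cfsg.HasNormalPComplement 2 G := by
  haveI : Fact (Nat.Prime 2) := ⟨Nat.prime_two⟩
  set T := Cfsg.pCore 2 G
  set F := Cfsg.fittingSubgroup G
  set M := F ⊓ Cfsg.pPrimeCore 2 G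
  have hModd : Odd (Nat.card M) := by
    have h1 := (Cores.pPrimeCore_coprime 2 G).coprime_dvd_left
      (Subgroup.card_dvd_of_le (inf_le_right : M ≤ Cfsg.pPrimeCore 2 G))
    exact Nat.coprime_two_right.mp h1
  haveI : Group.IsNilpotent M := Cores.isNilpotent_of_le inf_le_left
  haveI : IsZGroup M := hG.isZGroup_of_odd M hModd
  haveI hMc : IsCyclic M := inferInstance
  haveI : M.Normal := inferInstance
  set C := Subgroup.centralizer (M : Set G)
  have hcomm : commutator G ≤ C := Solvable.commutator_le_centralizer_of_isCyclic M hMc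
  haveI : C.Normal := inferInstance
  -- elements of odd order of `C`
  have hodd : ∀ c ∈ C, Odd (orderOf c) → c ∈ M := by
    intro c hc ho
    have hcF : c ∈ F := Cores.centralizer_fittingSubgroup_le hs (by
      intro x hx
      obtain ⟨t, ht, o, hoo, rfl⟩ := Subgroup.mem_sup_of_normal_right.mp
        (Cores.fittingSubgroup_le_pCore_sup_pPrimeCore 2 hx)
      have hoF : o ∈ F := by
        have := mul_mem (inv_mem (Cores.pCore_le_fittingSubgroup 2 ht)) hx
        rwa [inv_mul_cancel_left] at this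
      rw [mul_assoc, hc o ⟨hoF, hoo⟩, ← mul_assoc, h c ho t ht, mul_assoc])
    refine ⟨hcF, Cores.map_subtype_pPrimeCore_le F ⟨⟨c, hcF⟩, ?_, rfl⟩⟩
    haveI := Cores.fittingSubgroup_isNilpotent G
    exact InvChar.mem_pPrimeCore_of_coprime (Solvable.FixedPointFree.hasNormalPComplement_of_isNilpotent 2)
      (by rw [Subgroup.orderOf_mk]; exact Nat.coprime_two_right.mpr ho)
  -- `C` is nilpotent
  haveI hCnil : Group.IsNilpotent C := by
    haveI : (M.subgroupOf C).Normal := inferInstance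
    have hpg : IsPGroup 2 (C ⧸ M.subgroupOf C) := by
      intro q
      obtain ⟨c, rfl⟩ := QuotientGroup.mk'_surjective (M.subgroupOf C) q
      obtain ⟨k, d, hd, he⟩ := Nat.exists_eq_two_pow_mul_odd (orderOf_pos c).ne'
      refine ⟨k, ?_⟩
      rw [← map_pow]
      refine (QuotientGroup.eq_one_iff _).mpr (Subgroup.mem_subgroupOf.mpr (hodd _ (c ^ 2 ^ k).2 ?_))
      rw [Subgroup.orderOf_coe, orderOf_pow, he,
        Nat.gcd_eq_right (Dvd.intro d rfl), Nat.mul_div_cancel_left d (pow_pos two_pos k)]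
      exact hd
    haveI : Group.IsNilpotent (C ⧸ M.subgroupOf C) := hpg.isNilpotent
    refine Subgroup.isNilpotent_of_ker_le_center (QuotientGroup.mk' (M.subgroupOf C)) ?_
    rw [QuotientGroup.ker_mk']
    intro x hx
    rw [Subgroup.mem_center_iff]
    exact fun y => Subtype.ext (y.2 x (Subgroup.mem_subgroupOf.mp hx)).symm
  -- two-elements of `C`
  have htwo : ∀ c ∈ C, (∃ k, orderOf c = 2 ^ k) → c ∈ T := by
    rintro c hc ⟨k, hk⟩
    refine Cores.map_subtype_pCore_le C ⟨⟨c, hc⟩, ?_, rfl⟩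
    have hpz : IsPGroup 2 (Subgroup.zpowers (⟨c, hc⟩ : C)) :=
      IsPGroup.of_card (n := k) (by rw [Nat.card_zpowers, Subgroup.orderOf_mk, hk])
    obtain ⟨P, hP⟩ := hpz.exists_le_sylow
    exact Cores.le_pCore (P.normal_of_normalizerCondition normalizerCondition_of_isNilpotent)
      P.isPGroup' (hP (Subgroup.mem_zpowers _))
  refine Transfer.hasNormalPComplement_of_frobenius default fun Q hQ g hg hco => ?_
  intro q hq
  set c := g * q * g⁻¹ * q⁻¹
  have hcQ : c ∈ Q := mul_mem ((hg q).mp hq) (inv_mem hq)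
  have hcT : c ∈ T := by
    refine htwo c (hcomm ?_) ?_
    · rw [commutator_def]
      exact Subgroup.commutator_mem_commutator (Subgroup.mem_top g) (Subgroup.mem_top q)
    · obtain ⟨k, hk⟩ := IsPGroup.iff_orderOf.mp ((default : Sylow 2 G).2.to_le hQ) ⟨c, hcQ⟩
      exact ⟨k, by rwa [Subgroup.orderOf_mk] at hk⟩
  have ho : Odd (orderOf g) := Nat.coprime_two_right.mp hco
  have hgc : c * g = g * c := h g ho c hcT
  have hiter : ∀ j : ℕ, g ^ j * q * (g ^ j)⁻¹ = c ^ j * q := by
    intro j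
    induction j with
    | zero => simp
    | succ j ih =>
      rw [pow_succ' g, show g * g ^ j * q * (g * g ^ j)⁻¹ = g * (g ^ j * q * (g ^ j)⁻¹) * g⁻¹ by group, ih,
        pow_succ]
      calc g * (c ^ j * q) * g⁻¹ = (g * c ^ j) * q * g⁻¹ := by group
        _ = (c ^ j * g) * q * g⁻¹ := by rw [((show Commute c g from hgc).pow_left j).eq]
        _ = c ^ j * (g * q * g⁻¹) := by group
        _ = c ^ j * c * q := by simp only [c]; group
  have h1 : c ^ orderOf g = 1 := by
    have h' := hiter (orderOf g)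
    simp only [pow_orderOf_eq_one, one_mul, inv_one, mul_one] at h'
    exact mul_eq_right.mp h'.symm
  have hc1 : c = 1 := by
    obtain ⟨k, hk⟩ := IsPGroup.iff_orderOf.mp (Cores.pCore_isPGroup 2 G) ⟨c, hcT⟩
    rw [Subgroup.orderOf_mk] at hk
    apply orderOf_eq_one_iff.mp
    exact Nat.eq_one_of_dvd_coprimes ((Nat.coprime_two_right.mpr ho).symm.pow_left k) hk.dvd
      (orderOf_dvd_of_pow_eq_one h1)
  exact (mul_inv_eq_iff_eq_mul.mp (mul_inv_eq_one.mp hc1)).symm

/-- A normal subgroup with cyclic Sylow subgroups and quotient inside `Sym(4)`. -/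
theorem exists_zgroup_kernel (hG : IsFPF G) (hs : Group.IsSolvable G) :
    ∃ f : G →* Equiv.Perm (Fin 4), IsZGroup f.ker := by
  classical
  haveI : Fact (Nat.Prime 2) := ⟨Nat.prime_two⟩
  have hodd : ∀ (K : Subgroup G), (∀ S : Sylow 2 K, IsCyclic S) → IsZGroup K := by
    intro K h2
    refine ⟨fun p hp S => ?_⟩
    haveI := Fact.mk hp
    by_cases hp2 : p = 2
    · subst hp2; exact h2 S
    · exact (hG.subgroup K).isCyclic_odd hp2 _ S.isPGroup'
  by_cases hq : ∃ s : G, Odd (orderOf s) ∧ ∃ t ∈ Cfsg.pCore 2 G, t * s ≠ s * t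
  · obtain ⟨s, hs', t, ht, hts⟩ := hq
    set Q := Cfsg.pCore 2 G
    have hn : s ∈ Subgroup.normalizer (Q : Set G) := by rw [Subgroup.normalizer_eq_top]; trivial
    obtain ⟨-, ⟨e⟩, -⟩ :=
      (hG.aut_two_cases (Cores.pCore_isPGroup 2 G) hs' hn).resolve_left fun hc => hts (hc t ht)
    set Ψ : G →* MulAut (QuaternionGroup 2) := (MulAut.congr e).toMonoidHom.comp MulAut.conjNormal
    refine ⟨QuatSym4.hom.comp Ψ, hodd _ fun S => ?_⟩
    have hk : (QuatSym4.hom.comp Ψ).ker ≤ Subgroup.centralizer (Q : Set G) := by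
      intro g hg q hq'
      have h0 : Ψ g = 1 := QuatSym4.hom_injective ((MonoidHom.mem_ker.mp hg).trans (map_one _).symm)
      have h1 : MulAut.conjNormal g = (1 : MulAut Q) :=
        (MulAut.congr e).injective (h0.trans (map_one _).symm)
      have h2 := congrArg (fun τ : MulAut Q => ((τ ⟨q, hq'⟩ : Q) : G)) h1
      rw [MulAut.conjNormal_apply] at h2
      exact (mul_inv_eq_iff_eq_mul.mp h2).symm
    rcases (hG.subgroup _).sylow_shape (S : Subgroup (QuatSym4.hom.comp Ψ).ker) S.isPGroup' with hc | ⟨-, m, ⟨eS⟩⟩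
    · exact hc
    · exfalso
      set a := eS.symm (QuaternionGroup.a 1)
      have ho : orderOf a = 2 ^ (m + 2) := by
        rw [MulEquiv.orderOf_eq, QuaternionGroup.orderOf_a_one]; ring
      have hoG : orderOf ((a : (QuatSym4.hom.comp Ψ).ker) : G) = 2 ^ (m + 2) := by
        rw [Subgroup.orderOf_coe, Subgroup.orderOf_coe, ho]
      have hsq := hG.centralizer_quaternion e (hk (a : (QuatSym4.hom.comp Ψ).ker).2) hoG
      have hdvd := orderOf_dvd_of_pow_eq_one ((pow_two _).trans hsq)
      rw [hoG] at hdvd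
      have := Nat.le_of_dvd two_pos hdvd
      have : 4 ≤ 2 ^ (m + 2) := Nat.pow_le_pow_right two_pos (show 2 ≤ m + 2 by omega)
      omega
  · simp only [not_exists, not_and, ne_eq, not_not] at hq
    obtain ⟨P, N, hN, hc⟩ := hasNormalPComplement_of_central hG hs hq
    haveI := hN
    rcases hG.sylow_shape (P : Subgroup G) P.isPGroup' with hcyc | ⟨-, m, ⟨e⟩⟩
    · refine ⟨1, hodd _ fun S => ?_⟩
      obtain ⟨R, hR⟩ := (S.isPGroup'.map (MonoidHom.ker (1 : G →* Equiv.Perm (Fin 4))).subtype).exists_le_sylow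
      haveI := hcyc
      obtain ⟨g, rfl⟩ := MulAction.exists_smul_eq G P R
      haveI : IsCyclic (g • P : Sylow 2 G) :=
        isCyclic_of_surjective (Sylow.equiv P (g • P)).toMonoidHom (Sylow.equiv P (g • P)).surjective
      refine isCyclic_of_injective ((Subgroup.inclusion hR).comp
        ((S : Subgroup (MonoidHom.ker (1 : G →* Equiv.Perm (Fin 4)))).equivMapOfInjective
          (MonoidHom.ker (1 : G →* Equiv.Perm (Fin 4))).subtype (Subgroup.subtype_injective _)).toMonoidHom) ?_
      exact (Subgroup.inclusion_injective hR).comp (MulEquiv.injective _)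
    set u : G := ((e.symm (QuaternionGroup.a 1) : (P : Subgroup G)) : G)
    have huo : orderOf u = 2 * 2 ^ (m + 1) := by
      rw [show orderOf u = orderOf (e.symm (QuaternionGroup.a 1)) from Subgroup.orderOf_coe _,
        MulEquiv.orderOf_eq, QuaternionGroup.orderOf_a_one]
    have hPc : Nat.card (P : Subgroup G) = 2 * (2 * 2 ^ (m + 1)) := by
      rw [Nat.card_congr e.toEquiv, Nat.card_eq_fintype_card, QuaternionGroup.card]; ring
    set K := N ⊔ Subgroup.zpowers u
    have huP : Subgroup.zpowers u ≤ (P : Subgroup G) := Subgroup.zpowers_le.mpr (SetLike.coe_mem _)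
    have hKcard : Nat.card K = Nat.card N * (2 * 2 ^ (m + 1)) := by
      have h1 := Cores.card_sup_mul_card_inf (Subgroup.zpowers u) N
      have hbot : Subgroup.zpowers u ⊓ N = ⊥ :=
        le_bot_iff.mp ((inf_le_inf_right N huP).trans (le_of_eq (disjoint_iff.mp hc.symm.disjoint)))
      rw [hbot, Subgroup.card_bot, mul_one, sup_comm, Nat.card_zpowers, huo] at h1
      rw [h1, mul_comm]
    have hKi : K.index = 2 := by
      have h1 := K.card_mul_index
      rw [← hc.card_mul_card, hPc, hKcard] at h1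
      have hpos : 0 < Nat.card N * (2 * 2 ^ (m + 1)) := Nat.mul_pos Nat.card_pos (by positivity)
      refine Nat.eq_of_mul_eq_mul_left hpos (h1.trans ?_)
      ring
    let f : G →* Equiv.Perm (Fin 4) :=
      { toFun := fun g => if g ∈ K then 1 else Equiv.swap 0 1
        map_one' := by simp [one_mem]
        map_mul' := fun a b => by
          have := Subgroup.mul_mem_iff_of_index_two hKi (a := a) (b := b)
          by_cases ha : a ∈ K <;> by_cases hb : b ∈ K <;> simp [this, ha, hb] }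
    have hfk : f.ker = K := by
      ext g
      rw [MonoidHom.mem_ker]
      show (if g ∈ K then (1 : Equiv.Perm (Fin 4)) else Equiv.swap 0 1) = 1 ↔ _
      by_cases hg : g ∈ K
      · simp [hg]
      · simp only [hg, if_false, iff_false]
        decide
    refine ⟨f, hfk.symm ▸ hodd K fun S => ?_⟩
    have hz : IsPGroup 2 ((Subgroup.zpowers u).subgroupOf K) :=
      (P.isPGroup'.to_le huP).comap_subtype
    obtain ⟨R, hR⟩ := hz.exists_le_sylow
    have hzc : Nat.card ((Subgroup.zpowers u).subgroupOf K) = 2 * 2 ^ (m + 1) := by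
      rw [Nat.card_congr (Subgroup.subgroupOfEquivOfLe (le_sup_right : Subgroup.zpowers u ≤ K)).toEquiv,
        Nat.card_zpowers, huo]
    have hNodd : ¬ 2 ∣ Nat.card N := by
      rw [← hc.index_eq_card]; exact P.not_dvd_index
    have hRc : Nat.card (R : Subgroup K) = 2 * 2 ^ (m + 1) := by
      rw [R.card_eq_multiplicity, hKcard, Nat.factorization_mul Nat.card_pos.ne' (by positivity),
        Finsupp.add_apply, Nat.factorization_eq_zero_of_not_dvd hNodd, zero_add,
        show 2 * 2 ^ (m + 1) = 2 ^ (m + 2) by ring, Nat.factorization_pow, Finsupp.smul_apply,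
        Nat.prime_two.factorization_self, smul_eq_mul, mul_one]
    have heq : (Subgroup.zpowers u).subgroupOf K = (R : Subgroup K) :=
      Subgroup.eq_of_le_of_card_ge hR (by rw [hzc, hRc])
    haveI : IsCyclic ((Subgroup.zpowers u).subgroupOf K) :=
      isCyclic_of_surjective (Subgroup.subgroupOfEquivOfLe (le_sup_right : Subgroup.zpowers u ≤ K)).symm.toMonoidHom
        (MulEquiv.surjective _)
    haveI : IsCyclic (R : Subgroup K) :=
      isCyclic_of_surjective (MulEquiv.subgroupCongr heq).toMonoidHom (MulEquiv.surjective _)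
    exact isCyclic_of_surjective (Sylow.equiv R S).toMonoidHom (MulEquiv.surjective _)

theorem commute_of_prime (hG : IsFPF G) {u y : G} {q : ℕ} (hq : q.Prime) (hu : orderOf u = q)
    (hqy : ¬ q ∣ orderOf y) (hn : u * y * u⁻¹ ∈ Subgroup.zpowers y) : u * y = y * u := by
  classical
  obtain ⟨ℓ, hℓ, hℓG, n, hn0, ρ, hρ⟩ := hG
  haveI := hℓ
  set Y := Subgroup.zpowers y
  have huY : ∀ t ∈ Y, u * t * u⁻¹ ∈ Y := by
    intro t ht
    obtain ⟨j, rfl⟩ := ht
    show u * y ^ j * u⁻¹ ∈ Y
    rw [← conj_zpow]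
    exact zpow_mem hn j
  have hYc : ∀ a ∈ Y, ∀ b ∈ Y, a * b = b * a := by
    rintro a ⟨i, rfl⟩ b ⟨j, rfl⟩
    exact (Commute.refl y).zpow_zpow i j
  let d : Y →* Y :=
    MonoidHom.mk' (fun t => ⟨u * t * u⁻¹ * (t : G)⁻¹, mul_mem (huY t t.2) (inv_mem t.2)⟩) fun a b => by
      refine Subtype.ext ?_
      show u * ((a : G) * b) * u⁻¹ * ((a : G) * b)⁻¹ =
        u * a * u⁻¹ * (a : G)⁻¹ * (u * b * u⁻¹ * (b : G)⁻¹)
      have e := hYc _ (inv_mem a.2) _ (mul_mem (huY b b.2) (inv_mem b.2))
      calc u * ((a : G) * b) * u⁻¹ * ((a : G) * b)⁻¹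
          = u * a * u⁻¹ * ((u * b * u⁻¹ * (b : G)⁻¹) * (a : G)⁻¹) := by group
        _ = u * a * u⁻¹ * ((a : G)⁻¹ * (u * b * u⁻¹ * (b : G)⁻¹)) := by rw [← e]
        _ = _ := by group
  set Y₁ := d.range
  have hinv : ∀ t : Y, t ∈ Y₁ → (⟨u * t * u⁻¹, huY t t.2⟩ : Y) ∈ Y₁ := by
    rintro t ⟨s, rfl⟩
    refine ⟨⟨u * s * u⁻¹, huY s s.2⟩, Subtype.ext ?_⟩
    show u * (u * s * u⁻¹) * u⁻¹ * (u * s * u⁻¹)⁻¹ = u * (u * s * u⁻¹ * (s : G)⁻¹) * u⁻¹
    group
  have huq : u ^ q = 1 := by rw [← hu]; exact pow_orderOf_eq_one u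
  have hfree : ∀ t : Y, t ∈ Y₁ → u * t * u⁻¹ = t → t = 1 := by
    rintro t ⟨s, rfl⟩ hfix
    set c : G := (d s : G) with hc
    have hcu : c * u = u * c := (mul_inv_eq_iff_eq_mul.mp hfix).symm
    have hiter : ∀ j : ℕ, u ^ j * s * (u ^ j)⁻¹ = c ^ j * s := by
      intro j
      induction j with
      | zero => simp
      | succ j ih =>
        rw [pow_succ' u, show u * u ^ j * (s : G) * (u * u ^ j)⁻¹ = u * (u ^ j * s * (u ^ j)⁻¹) * u⁻¹ by group, ih,
          pow_succ]
        calc u * (c ^ j * (s : G)) * u⁻¹ = (u * c ^ j) * s * u⁻¹ := by group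
          _ = (c ^ j * u) * s * u⁻¹ := by rw [((show Commute c u from hcu).pow_left j).eq]
          _ = c ^ j * (u * s * u⁻¹) := by group
          _ = c ^ j * c * s := by
            have hus : u * s * u⁻¹ = c * s := by
              show _ = u * s * u⁻¹ * (s : G)⁻¹ * s
              group
            rw [hus, mul_assoc]
    have h' := hiter q
    rw [huq, inv_one, one_mul, mul_one] at h'
    have hcq : c ^ q = 1 := mul_eq_right.mp h'.symm
    apply Subtype.ext
    show c = 1
    apply orderOf_eq_one_iff.mp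
    refine Nat.eq_one_of_dvd_coprimes (hq.coprime_iff_not_dvd.mpr hqy) (orderOf_dvd_of_pow_eq_one hcq) ?_
    rw [← Nat.card_zpowers y, hc, Subgroup.orderOf_coe]
    exact orderOf_dvd_natCard _
  suffices hY1 : Y₁ = ⊥ by
    have h1 : d ⟨y, Subgroup.mem_zpowers y⟩ = 1 :=
      Subgroup.mem_bot.mp (hY1 ▸ ⟨_, rfl⟩)
    exact mul_inv_eq_iff_eq_mul.mp (mul_inv_eq_one.mp (congrArg Subtype.val h1))
  by_contra hne
  obtain ⟨y₁, hy₁, hy₁1⟩ := Y₁.bot_or_exists_ne_one.resolve_left hne
  have hy₁G : ((y₁ : Y) : G) ≠ 1 := fun e => hy₁1 (Subtype.ext e)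
  -- powers of `u` act fixed-point-freely
  have hpow : ∀ k, 0 < k → k < q → ∀ t : Y, t ∈ Y₁ → u ^ k * t * (u ^ k)⁻¹ = t → t = 1 := by
    intro k hk hkq t ht hfix
    obtain ⟨j, -, hj⟩ := Nat.exists_mul_mod_eq_one_of_coprime
      ((hq.coprime_iff_not_dvd.mpr (Nat.not_dvd_of_pos_of_lt hk hkq)).symm) hq.one_lt
    refine hfree t ht ?_
    have hcomm : Commute (u ^ k) (t : G) := mul_inv_eq_iff_eq_mul.mp hfix
    have h2 := hcomm.pow_left j
    rw [← pow_mul, ← Nat.mod_add_div (k * j) q, hj, pow_add, pow_mul, huq, one_pow, mul_one, pow_one] at h2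
    rw [h2.eq, mul_inv_cancel_right]
  haveI : Fintype Y₁ := Fintype.ofFinite _
  obtain ⟨v, hv⟩ : ∃ v : Fin n → AlgebraicClosure (ZMod ℓ), v ≠ 0 :=
    ⟨fun _ => 1, fun e => one_ne_zero (congrFun e ⟨0, hn0⟩)⟩
  have hsumY : ∀ w, ∑ t : Y₁, ρ ((t : Y) : G) w = 0 := by
    intro w
    refine hρ _ hy₁G _ ?_
    rw [map_sum, ← Equiv.sum_comp (Equiv.mulLeft (⟨y₁, hy₁⟩ : Y₁)) (fun t : Y₁ => ρ ((t : Y) : G) w)]
    refine Finset.sum_congr rfl fun t _ => ?_
    rw [← apply_mul]
    rfl
  have htot : ∑ t : Y₁, ∑ k ∈ Finset.range q, ρ (((t : Y) : G) * u ^ k * ((t : Y) : G)⁻¹) v = 0 := by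
    refine Finset.sum_eq_zero fun t _ => ?_
    set b := ((t : Y) : G) * u * ((t : Y) : G)⁻¹ with hb
    have hb1 : b ≠ 1 := by
      intro e
      rw [hb, mul_inv_eq_one, mul_eq_left] at e
      rw [e, orderOf_one] at hu
      exact hq.ne_one hu.symm
    have hbk : ∀ k, ((t : Y) : G) * u ^ k * ((t : Y) : G)⁻¹ = b ^ k := fun k => by rw [hb, conj_pow]
    simp only [hbk]
    refine hρ b hb1 _ ?_
    have hbq : b ^ q = 1 := by rw [← hbk, huq]; group
    have h1 := Finset.sum_range_succ' (fun k => ρ (b ^ k) v) q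
    rw [Finset.sum_range_succ, hbq, pow_zero] at h1
    rw [map_sum]
    refine Eq.trans (Finset.sum_congr rfl fun k _ => ?_) (add_right_cancel h1).symm
    rw [← apply_mul, ← pow_succ']
  rw [Finset.sum_comm] at htot
  rw [Finset.sum_eq_single 0] at htot
  · simp only [pow_zero, mul_one, mul_inv_cancel, apply_one] at htot
    rw [Finset.sum_const, Finset.card_univ, ← Nat.cast_smul_eq_nsmul (AlgebraicClosure (ZMod ℓ)),
      smul_eq_zero] at htot
    rcases htot with h0 | h0
    · rw [CharP.cast_eq_zero_iff (AlgebraicClosure (ZMod ℓ)) ℓ] at h0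
      refine hℓG (h0.trans ?_)
      rw [← Nat.card_eq_fintype_card]
      exact (Subgroup.card_subgroup_dvd_card Y₁).trans (Subgroup.card_subgroup_dvd_card Y)
    · exact hv h0
  · intro k hk hk0
    rw [Finset.mem_range] at hk
    have hkY : ∀ t : G, t ∈ Y → u ^ k * t * (u ^ k)⁻¹ ∈ Y := by
      intro t ht
      induction k with
      | zero => simpa using ht
      | succ k _ =>
        clear hk0 hk
        induction (k + 1) with
        | zero => simpa using ht
        | succ j ihj =>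
          rw [pow_succ' u, show u * u ^ j * t * (u * u ^ j)⁻¹ = u * (u ^ j * t * (u ^ j)⁻¹) * u⁻¹ by group]
          exact huY _ ihj
    have hkY₁ : ∀ j : ℕ, ∀ t : Y₁, ∃ t' : Y₁, ((t' : Y) : G) = u ^ j * ((t : Y) : G) * (u ^ j)⁻¹ := by
      intro j
      induction j with
      | zero => exact fun t => ⟨t, by simp⟩
      | succ j ih =>
        intro t
        obtain ⟨t', ht'⟩ := ih t
        refine ⟨⟨⟨_, huY _ (t' : Y).2⟩, hinv _ t'.2⟩, ?_⟩
        show u * ((t' : Y) : G) * u⁻¹ = _
        rw [ht']; group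
    choose σ hσ using hkY₁ k
    let β : Y₁ → Y₁ := fun t => t * (σ t)⁻¹
    have hβ : Function.Injective β := by
      intro a b hab
      have hab' : ((a : Y) : G) * ((σ a : Y) : G)⁻¹ = ((b : Y) : G) * ((σ b : Y) : G)⁻¹ :=
        congrArg (fun t : Y₁ => ((t : Y) : G)) hab
      rw [hσ, hσ] at hab'
      have hfix : u ^ k * (((b⁻¹ * a : Y₁) : Y) : G) * (u ^ k)⁻¹ = (((b⁻¹ * a : Y₁) : Y) : G) := by
        show u ^ k * ((((b : Y) : G))⁻¹ * ((a : Y) : G)) * (u ^ k)⁻¹ = ((b : Y) : G)⁻¹ * ((a : Y) : G)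
        have h2 := congrArg (fun g => ((b : Y) : G)⁻¹ * g * (u ^ k * ((a : Y) : G) * (u ^ k)⁻¹)) hab'
        simp only [mul_assoc, inv_mul_cancel_left, mul_inv_rev, inv_inv, inv_mul_cancel, mul_inv_cancel, mul_one] at h2 ⊢
        exact h2.symm
      have := hpow k (by omega) hk _ (b⁻¹ * a).2 hfix
      exact (inv_mul_eq_one.mp (Subtype.ext this)).symm
    rw [← hsumY (ρ (u ^ k) v), ← Equiv.sum_comp (Equiv.ofBijective β (Finite.injective_iff_bijective.mp hβ))
      (fun t : Y₁ => ρ ((t : Y) : G) (ρ (u ^ k) v))]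
    refine Finset.sum_congr rfl fun t _ => ?_
    rw [← apply_mul]
    congr 1
    show _ = ρ (((t : Y) : G) * ((σ t : Y) : G)⁻¹ * u ^ k)
    rw [hσ]
    congr 1
    group
  · intro h0
    exact absurd (Finset.mem_range.mpr hq.pos) h0

/-- The normal form of a group with cyclic Sylow subgroups acting fixed-point-freely. -/
theorem exists_presentation (hG : IsFPF G) [IsZGroup G] :
    ∃ n m r : ℕ, 0 < n ∧ 0 < m ∧ Nat.Coprime (r - 1) m ∧ Nat.Coprime n m ∧ 1 ≤ r ∧
      r ^ (n / ∏ p ∈ n.primeFactors, p) % m = 1 % m ∧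
      Nonempty (G ≃* PresentedGroup
        ({FreeGroup.of (0 : Fin 2) ^ n, FreeGroup.of (1 : Fin 2) ^ m,
          (FreeGroup.of (0 : Fin 2))⁻¹ * FreeGroup.of 1 * FreeGroup.of 0 * (FreeGroup.of (1 : Fin 2) ^ r)⁻¹} :
          Set (FreeGroup (Fin 2)))) := by
  classical
  set N := commutator G
  obtain ⟨K, hK⟩ := Subgroup.exists_right_complement'_of_coprime (N := N) (IsZGroup.coprime_commutator_index G)
  haveI : IsCyclic N := IsZGroup.isCyclic_commutator G
  haveI : IsCyclic K := by
    haveI : IsCyclic (G ⧸ N) := inferInstanceAs (IsCyclic (Abelianization G))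
    exact isCyclic_of_surjective hK.symm.QuotientMulEquiv.toMonoidHom hK.symm.QuotientMulEquiv.surjective
  obtain ⟨⟨y, hyN⟩, hy⟩ := IsCyclic.exists_generator (α := N)
  obtain ⟨⟨x, hxK⟩, hx⟩ := IsCyclic.exists_generator (α := K)
  have hyz : N = Subgroup.zpowers y := le_antisymm (fun t ht => by
    obtain ⟨j, hj⟩ := hy ⟨t, ht⟩; exact ⟨j, congrArg Subtype.val hj⟩) (Subgroup.zpowers_le.mpr hyN)
  have hxz : K = Subgroup.zpowers x := le_antisymm (fun t ht => by
    obtain ⟨j, hj⟩ := hx ⟨t, ht⟩; exact ⟨j, congrArg Subtype.val hj⟩) (Subgroup.zpowers_le.mpr hxK)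
  set n := orderOf x
  set m := orderOf y
  have hn0 : 0 < n := orderOf_pos x
  have hm0 : 0 < m := orderOf_pos y
  have hcard : Nat.card G = m * n := by
    rw [← hK.card_mul_card, hyz, hxz, Nat.card_zpowers, Nat.card_zpowers]
  have hcop : n.Coprime m := by
    have h := IsZGroup.coprime_commutator_index G
    rw [hK.symm.index_eq_card, hxz, show commutator G = Subgroup.zpowers y from hyz, Nat.card_zpowers,
      Nat.card_zpowers] at h
    exact h.symm
  have hconj : x⁻¹ * y * x ∈ Subgroup.zpowers y := by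
    rw [← hyz]; simpa using (inferInstance : (commutator G).Normal).conj_mem y hyN x⁻¹
  obtain ⟨r, hr1, hr⟩ : ∃ r : ℕ, 1 ≤ r ∧ x⁻¹ * y * x = y ^ r := by
    obtain ⟨j, hj⟩ := Subgroup.mem_zpowers_iff.mp hconj
    refine ⟨(j % m).toNat + m, by omega, ?_⟩
    rw [pow_add, pow_orderOf_eq_one, mul_one, ← hj, ← zpow_natCast,
      Int.toNat_of_nonneg (Int.emod_nonneg _ (by omega)), zpow_mod_orderOf]
  have hiter : ∀ k : ℕ, (x ^ k)⁻¹ * y * x ^ k = y ^ (r ^ k) := by
    intro k
    induction k with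
    | zero => simp
    | succ k ih =>
      rw [pow_succ x, show (x ^ k * x)⁻¹ * y * (x ^ k * x) = x⁻¹ * ((x ^ k)⁻¹ * y * x ^ k) * x by group, ih]
      have := conj_pow (i := r ^ k) (a := x⁻¹) (b := y)
      rw [inv_inv] at this
      rw [← this, hr, ← pow_mul, pow_succ' r]
  -- the commutator of the generators generates `N`
  have hgen : Subgroup.closure ({x, y} : Set G) = ⊤ := by
    rw [eq_top_iff]
    rintro g -
    obtain ⟨⟨⟨a, ha⟩, ⟨b, hb⟩⟩, rfl⟩ := hK.2 g
    refine mul_mem ?_ ?_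
    · rw [hyz] at ha; exact (Subgroup.zpowers_le.mpr (Subgroup.subset_closure (by simp))) ha
    · rw [hxz] at hb; exact (Subgroup.zpowers_le.mpr (Subgroup.subset_closure (by simp))) hb
  have hr1m : Nat.Coprime (r - 1) m := by
    set Z := Subgroup.zpowers (y ^ (r - 1))
    have hZn : ∀ g : G, ∀ z ∈ Z, g * z * g⁻¹ ∈ Z := by
      intro g
      have hg : g ∈ Subgroup.closure ({x, y} : Set G) := hgen ▸ Subgroup.mem_top g
      suffices hh : g ∈ Subgroup.normalizer (Z : Set G) from fun z hz => (hh z).mp hz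
      refine (Subgroup.closure_le _).mpr ?_ hg
      intro t ht
      rcases ht with ht | ht
      · rw [ht, SetLike.mem_coe, ← Subgroup.inv_mem_iff]
        have key : ∀ z ∈ Z, x⁻¹ * z * x ∈ Z := by
          rintro z ⟨j, rfl⟩
          refine ⟨j * r, ?_⟩
          show (y ^ (r - 1)) ^ (j * (r : ℤ)) = _
          have hc := map_zpow (MulAut.conj x⁻¹) (y ^ (r - 1)) j
          have hc' := map_pow (MulAut.conj x⁻¹) y (r - 1)
          rw [MulAut.conj_apply, MulAut.conj_apply, inv_inv] at hc hc'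
          show _ = x⁻¹ * (y ^ (r - 1)) ^ j * x
          rw [hc, hc', hr, zpow_mul', zpow_natCast, ← pow_mul, ← pow_mul, mul_comm]
        have : MulAut.conj x⁻¹ • Z = Z := by
          refine Subgroup.eq_of_le_of_card_ge ?_ (le_of_eq ?_)
          · rintro _ ⟨z, hz, rfl⟩
            simpa using key z hz
          · exact Nat.card_congr (Subgroup.equivSMul (MulAut.conj x⁻¹) Z).toEquiv
        intro z
        constructor
        · intro hz
          simpa using key z hz
        · intro hz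
          rw [← this] at hz
          obtain ⟨w, hw, hwz⟩ := hz
          have : w = z := (MulAut.conj x⁻¹).injective (by simpa using hwz)
          exact this ▸ hw
      · rw [Set.mem_singleton_iff.mp ht]
        intro z
        have hyc : ∀ z ∈ Z, y * z * y⁻¹ = z := by
          rintro z ⟨j, rfl⟩
          show y * (y ^ (r - 1)) ^ j * y⁻¹ = _
          rw [(((Commute.refl y).pow_right (r - 1)).zpow_right j).eq, mul_inv_cancel_right]
        constructor
        · intro hz; rw [hyc z hz]; exact hz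
        · intro hz
          have := hyc _ hz
          have h' : y * z * y⁻¹ = z := by
            have e : y * (y * z * y⁻¹) * y⁻¹ = y * z * y⁻¹ := this
            simpa using congrArg (fun t => y⁻¹ * t * y) e
          rwa [h'] at hz
    haveI : Z.Normal := ⟨fun z hz g => hZn g z hz⟩
    have hle : N ≤ Z := by
      refine (Subgroup.Normal.quotient_commutative_iff_commutator_le (N := Z)).mp ?_
      have hcomm : Commute (QuotientGroup.mk' Z x) (QuotientGroup.mk' Z y) := by
        show _ * _ = _ * _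
        rw [← map_mul, ← map_mul, QuotientGroup.mk'_eq_mk']
        refine ⟨(y ^ (r - 1)), Subgroup.mem_zpowers _, ?_⟩
        rw [show y * x = x * (x⁻¹ * y * x) by group, hr, mul_assoc, ← pow_succ', Nat.sub_add_cancel hr1]
      have hmap : Subgroup.closure ({QuotientGroup.mk' Z x, QuotientGroup.mk' Z y} : Set (G ⧸ Z)) = ⊤ := by
        rw [← MonoidHom.range_eq_top.mpr (QuotientGroup.mk'_surjective Z), MonoidHom.range_eq_map, ← hgen,
          MonoidHom.map_closure, Set.image_pair]
      refine ⟨⟨fun a b => ?_⟩⟩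
      have ha : a ∈ Subgroup.closure ({QuotientGroup.mk' Z x, QuotientGroup.mk' Z y} : Set (G ⧸ Z)) :=
        hmap ▸ Subgroup.mem_top a
      have hb : b ∈ Subgroup.closure ({QuotientGroup.mk' Z x, QuotientGroup.mk' Z y} : Set (G ⧸ Z)) :=
        hmap ▸ Subgroup.mem_top b
      haveI := Subgroup.isMulCommutative_closure
        (k := ({QuotientGroup.mk' Z x, QuotientGroup.mk' Z y} : Set (G ⧸ Z))) (by
          rintro a (rfl | rfl) b (rfl | rfl)
          · rfl
          · exact hcomm.eq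
          · exact hcomm.symm.eq
          · rfl)
      exact congrArg Subtype.val (mul_comm' (⟨a, ha⟩ : Subgroup.closure _) ⟨b, hb⟩)
    have h1 := Nat.le_of_dvd (orderOf_pos _) (Subgroup.card_dvd_of_le hle |>.trans (Nat.card_zpowers _).dvd)
    rw [hyz, Nat.card_zpowers] at h1
    change m ≤ orderOf (y ^ (r - 1)) at h1
    have hop : orderOf (y ^ (r - 1)) = m / m.gcd (r - 1) := orderOf_pow y
    have hg1 : m.gcd (r - 1) = 1 := by
      by_contra hne
      have hg0 : m.gcd (r - 1) ≠ 0 := fun e => by rw [Nat.gcd_eq_zero_iff] at e; omega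
      have := Nat.div_lt_self hm0 (show 1 < m.gcd (r - 1) by omega)
      omega
    exact Nat.coprime_comm.mp hg1
  have hpow : r ^ (n / ∏ p ∈ n.primeFactors, p) % m = 1 % m := by
    have hyiff : ∀ k, (r : ZMod m) ^ k = 1 ↔ y ^ (r ^ k) = y := fun k => by
      conv_rhs => rhs; rw [← pow_one y]
      rw [pow_eq_pow_iff_modEq, ← Nat.cast_pow, ← Nat.cast_one, ZMod.natCast_eq_natCast_iff]
    have hrn : (r : ZMod m) ^ n = 1 := (hyiff n).mpr (by
      rw [← hiter n, pow_orderOf_eq_one, inv_one, one_mul, mul_one])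
    have hd : orderOf (r : ZMod m) ∣ n := orderOf_dvd_of_pow_eq_one hrn
    obtain ⟨e, he⟩ := hd
    have hrad : (∏ p ∈ n.primeFactors, p) ∣ e := by
      refine Finset.prod_primes_dvd _ (fun p hp => (Nat.prime_of_mem_primeFactors hp).prime) fun p hp => ?_
      obtain ⟨hpp, hpn, -⟩ := Nat.mem_primeFactors.mp hp
      haveI := Fact.mk hpp
      have ho : orderOf (x ^ (n / p)) = p := orderOf_pow_orderOf_div hn0.ne' hpn
      have hpm : ¬ p ∣ m := fun hd => hpp.ne_one (Nat.eq_one_of_dvd_coprimes hcop hpn hd)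
      have hc : x ^ (n / p) * y = y * x ^ (n / p) := by
        refine commute_of_prime hG hpp ho hpm ?_
        rw [← hyz]
        exact (inferInstance : (commutator G).Normal).conj_mem y hyN _
      have h1 : (r : ZMod m) ^ (n / p) = 1 := (hyiff _).mpr (by
        rw [← hiter, mul_assoc, ← hc, inv_mul_cancel_left])
      obtain ⟨w, hw⟩ := orderOf_dvd_of_pow_eq_one h1
      have hd0 : 0 < orderOf (r : ZMod m) := orderOf_pos_iff.mpr (isOfFinOrder_iff_pow_eq_one.mpr ⟨n, hn0, hrn⟩)
      refine ⟨w, Nat.eq_of_mul_eq_mul_left hd0 ?_⟩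
      rw [← he, mul_left_comm, ← hw, Nat.mul_div_cancel' hpn]
    obtain ⟨w, hw⟩ := hrad
    have hrad0 : 0 < ∏ p ∈ n.primeFactors, p :=
      Finset.prod_pos fun p hp => (Nat.prime_of_mem_primeFactors hp).pos
    have hdiv : n / (∏ p ∈ n.primeFactors, p) = orderOf (r : ZMod m) * w := by
      refine Nat.div_eq_of_eq_mul_left hrad0 ?_
      calc n = orderOf (r : ZMod m) * e := he
        _ = _ := by rw [hw]; ring
    have h1 : (r : ZMod m) ^ (n / ∏ p ∈ n.primeFactors, p) = 1 := by
      rw [hdiv, pow_mul, pow_orderOf_eq_one, one_pow]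
    rw [← Nat.cast_pow, ← Nat.cast_one, ZMod.natCast_eq_natCast_iff] at h1
    exact h1
  refine ⟨n, m, r, hn0, hm0, hr1m, hcop, hr1, hpow, ⟨(MulEquiv.symm ?_)⟩⟩
  set rels := ({FreeGroup.of (0 : Fin 2) ^ n, FreeGroup.of (1 : Fin 2) ^ m,
          (FreeGroup.of (0 : Fin 2))⁻¹ * FreeGroup.of 1 * FreeGroup.of 0 * (FreeGroup.of (1 : Fin 2) ^ r)⁻¹} :
          Set (FreeGroup (Fin 2))) with hrels
  have hf : ∀ w ∈ rels, FreeGroup.lift ![x, y] w = 1 := by
    rintro w (rfl | rfl | rfl)
    · simp [n, pow_orderOf_eq_one]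
    · simp [m, pow_orderOf_eq_one]
    · simp [hr]
  let φ : PresentedGroup rels →* G := PresentedGroup.toGroup hf
  set a : PresentedGroup rels := PresentedGroup.of 0
  set b : PresentedGroup rels := PresentedGroup.of 1
  have han : a ^ n = 1 := by
    have := PresentedGroup.one_of_mem (show FreeGroup.of (0 : Fin 2) ^ n ∈ rels from Or.inl rfl)
    rw [map_pow] at this
    exact this
  have hbm : b ^ m = 1 := by
    have := PresentedGroup.one_of_mem (show FreeGroup.of (1 : Fin 2) ^ m ∈ rels from Or.inr (Or.inl rfl))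
    rw [map_pow] at this
    exact this
  have hba : b * a = a * b ^ r := by
    have := PresentedGroup.one_of_mem (show (FreeGroup.of (0 : Fin 2))⁻¹ * FreeGroup.of 1 * FreeGroup.of 0 *
      (FreeGroup.of (1 : Fin 2) ^ r)⁻¹ ∈ rels from Or.inr (Or.inr rfl))
    simp only [map_mul, map_inv, map_pow] at this
    have h' : a⁻¹ * b * a * (b ^ r)⁻¹ = 1 := this
    rw [mul_inv_eq_one, mul_assoc, inv_mul_eq_iff_eq_mul] at h'
    exact h'
  have hpiba : ∀ i j : ℕ, b ^ j * a ^ i = a ^ i * b ^ (j * r ^ i) := by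
    have h1 : ∀ j : ℕ, b ^ j * a = a * b ^ (j * r) := by
      intro j
      induction j with
      | zero => simp
      | succ j ih => rw [pow_succ, mul_assoc, hba, ← mul_assoc, ih, mul_assoc, ← pow_add]; ring_nf
    intro i
    induction i with
    | zero => simp
    | succ i ih => intro j; rw [pow_succ, ← mul_assoc, ih, mul_assoc, h1, ← mul_assoc]; ring_nf
  have hnf : ∀ g : PresentedGroup rels, ∃ i j : ℕ, g = a ^ i * b ^ j := by
    intro g
    have hg : g ∈ Subgroup.closure (Set.range (PresentedGroup.of : Fin 2 → PresentedGroup rels)) :=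
      PresentedGroup.closure_range_of rels ▸ Subgroup.mem_top g
    induction hg using Subgroup.closure_induction_left with
    | one => exact ⟨0, 0, by simp⟩
    | mul_left s hs g _ ih =>
      obtain ⟨k, rfl⟩ := hs
      obtain ⟨i, j, rfl⟩ := ih
      fin_cases k
      · refine ⟨i + 1, j, ?_⟩
        show a * (a ^ i * b ^ j) = _
        rw [pow_succ' a, mul_assoc]
      · refine ⟨i, 1 * r ^ i + j, ?_⟩
        show b * (a ^ i * b ^ j) = _
        have := hpiba i 1
        rw [pow_one] at this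
        rw [← mul_assoc, this, mul_assoc, ← pow_add]
    | inv_mul_cancel s hs g _ ih =>
      obtain ⟨k, rfl⟩ := hs
      obtain ⟨i, j, rfl⟩ := ih
      fin_cases k
      · refine ⟨n - 1 + i, j, ?_⟩
        show a⁻¹ * (a ^ i * b ^ j) = _
        have : a⁻¹ = a ^ (n - 1) := inv_eq_of_mul_eq_one_right (by
          rw [← pow_succ', Nat.sub_add_cancel hn0, han])
        rw [this, ← mul_assoc, ← pow_add]
      · refine ⟨i, (m - 1) * r ^ i + j, ?_⟩
        show b⁻¹ * (a ^ i * b ^ j) = _
        have : b⁻¹ = b ^ (m - 1) := inv_eq_of_mul_eq_one_right (by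
          rw [← pow_succ', Nat.sub_add_cancel hm0, hbm])
        rw [this, ← mul_assoc, hpiba i (m - 1), mul_assoc, ← pow_add]
  let enum : Fin n × Fin m → PresentedGroup rels := fun ij => a ^ (ij.1 : ℕ) * b ^ (ij.2 : ℕ)
  have hsurj : Function.Surjective enum := fun g => by
    obtain ⟨i, j, rfl⟩ := hnf g
    refine ⟨(⟨i % n, Nat.mod_lt _ hn0⟩, ⟨j % m, Nat.mod_lt _ hm0⟩), ?_⟩
    show a ^ (i % n) * b ^ (j % m) = _
    rw [← pow_eq_pow_mod i han, ← pow_eq_pow_mod j hbm]
  haveI : Finite (PresentedGroup rels) := Finite.of_surjective _ hsurj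
  have hφs : Function.Surjective φ := by
    rw [← MonoidHom.range_eq_top, eq_top_iff, ← hgen, Subgroup.closure_le]
    rintro t (rfl | rfl)
    · exact ⟨a, PresentedGroup.toGroup.of hf⟩
    · exact ⟨b, PresentedGroup.toGroup.of hf⟩
  refine MulEquiv.ofBijective φ ((Nat.bijective_iff_surjective_and_card _).mpr ⟨hφs, le_antisymm ?_ ?_⟩)
  · have := Nat.card_le_card_of_surjective enum hsurj
    rw [Nat.card_prod, Nat.card_fin, Nat.card_fin] at this
    rw [hcard]
    linarith
  · exact Nat.card_le_card_of_surjective φ hφs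

end Cfsg.Agent.Lib.Perm.FPFSolvable
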