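import Cfsg.Agent.Lib.Perm.SmallSupport
import Cfsg.Agent.Lib.Perm.Jordan
import Mathlib

/-!
A four-fold transitive group of degree nine contains the alternating group.
-/

set_option autoImplicit false
set_option maxHeartbeats 1000000

namespace Cfsg.Agent.Lib.Perm.FourTransNine

open MulAction Equiv

variable {α : Type*} [Fintype α] [DecidableEq α]

theorem card_pairs_aux (g : Equiv.Perm α) (hg : g * g = 1) :
    (g.support.sigma fun a => (g.support.erase a).erase (g a)).card =
      g.support.card * (g.support.card - 2) := by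
  rw [Finset.card_sigma, Finset.sum_congr rfl fun a ha => ?_, Finset.sum_const, smul_eq_mul]
  have h1 : g a ≠ a := Equiv.Perm.mem_support.mp ha
  rw [Finset.card_erase_of_mem (Finset.mem_erase.mpr ⟨h1, Equiv.Perm.apply_mem_support.mpr ha⟩),
    Finset.card_erase_of_mem ha]
  omega

theorem alternatingGroup_le (G : Subgroup (Equiv.Perm α)) (h9 : Fintype.card α = 9)
    (h4 : IsMultiplyPretransitive G α 4) : alternatingGroup α ≤ G := by
  classical
  by_contra hnot
  haveI := h4
  haveI : IsMultiplyPretransitive G α 2 := isMultiplyPretransitive_of_le' (n := 4) (by norm_num)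
    (by rw [ENat.card_eq_coe_fintype_card, h9]; norm_num)
  haveI : IsPretransitive G α := by
    rw [← is_one_pretransitive_iff]
    exact isMultiplyPretransitive_of_le' (n := 4) (by norm_num)
      (by rw [ENat.card_eq_coe_fintype_card, h9]; norm_num)
  have hprim : IsPreprimitive G α := isPreprimitive_of_is_two_pretransitive inferInstance
  have hsmall : ∀ x ∈ G, x ≠ 1 → 4 < x.support.card := fun x hx hx1 => by
    by_contra h
    exact hnot (SmallSupport.alternatingGroup_le_of_support G hprim h4 (by omega) hx hx1
      (by omega) (by omega))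
  -- only the identity fixes four points
  have hsharp : ∀ x ∈ G, ∀ q : Fin 4 ↪ α, (∀ i, x (q i) = q i) → x = 1 := by
    intro x hx q hq
    by_contra hx1
    have hcard : ∀ y : Equiv.Perm α, (∀ i, y (q i) = q i) → y.support.card ≤ 5 := fun y hy => by
      have h1 : y.support ⊆ (Finset.univ.map q)ᶜ := fun w hw => by
        rw [Finset.mem_compl, Finset.mem_map]
        rintro ⟨i, -, rfl⟩
        exact Equiv.Perm.mem_support.mp hw (hy i)
      refine (Finset.card_le_card h1).trans ?_
      rw [Finset.card_compl, Finset.card_map, Finset.card_univ, Fintype.card_fin, h9]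
    obtain ⟨p, hp, hdvd⟩ := Nat.exists_prime_and_dvd
      (show orderOf x ≠ 1 from fun h => hx1 (orderOf_eq_one_iff.mp h))
    set y := x ^ (orderOf x / p) with hy
    have hyord : orderOf y = p := orderOf_pow_orderOf_div (orderOf_pos x).ne' hdvd
    have hyG : y ∈ G := G.pow_mem hx _
    have hyq : ∀ i, y (q i) = q i := fun i => by
      rw [hy]; exact Equiv.Perm.pow_apply_eq_self_of_apply_eq_self (hq i) _
    have hy1 : y ≠ 1 := fun h => hp.ne_one (by rw [← hyord, h, orderOf_one])
    have h5 := hcard y hyq
    have h4' := hsmall y hyG hy1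
    obtain ⟨m, hm⟩ := Equiv.Perm.cycleType_prime_order (σ := y) (by rw [hyord]; exact hp)
    have hsum := Equiv.Perm.sum_cycleType y
    rw [hm, hyord, Multiset.sum_replicate, smul_eq_mul] at hsum
    have hp5 : p = 5 := by
      have : (m + 1) * p = 5 := by omega
      exact ((Nat.prime_dvd_prime_iff_eq hp (by norm_num)).mp ⟨m + 1, by rw [← this, mul_comm]⟩)
    refine hnot (Perm.alternatingGroup_le_of_prime_cycle G hprim hp (by omega)
      (Equiv.Perm.isCycle_of_prime_order (by rw [hyord]; exact hp) (by rw [hyord]; omega)) ?_ hyG)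
    omega
  have huniq : ∀ (g g' : Equiv.Perm α), g ∈ G → g' ∈ G → ∀ q : Fin 4 ↪ α,
      (∀ i, g (q i) = g' (q i)) → g = g' := fun g g' hg hg' q h => by
    have h1 := hsharp (g'⁻¹ * g) (G.mul_mem (G.inv_mem hg') hg) q (fun i => by simp [h i])
    exact (inv_mul_eq_one.mp h1).symm
  -- the involutions
  let I : Finset (Equiv.Perm α) := Finset.univ.filter fun g => g ∈ G ∧ g ≠ 1 ∧ g * g = 1
  have hIsupp : ∀ g ∈ I, g.support.card = 6 ∨ g.support.card = 8 := by
    intro g hg
    simp only [I, Finset.mem_filter, Finset.mem_univ, true_and] at hg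
    have h1 := hsmall g hg.1 hg.2.1
    have h2 := Equiv.Perm.two_dvd_card_support (σ := g) (by rw [pow_two]; exact hg.2.2)
    have h3 := Finset.card_le_univ g.support
    omega
  have hexists : ∀ (q : Fin 4 ↪ α) (σ : Equiv.Perm (Fin 4)), σ ≠ 1 → σ * σ = 1 →
      ∃ g ∈ I, ∀ i, g (q i) = q (σ i) := by
    intro q σ hσ1 hσ2
    obtain ⟨⟨g, hgG⟩, hg⟩ := h4.exists_smul_eq q (σ.toEmbedding.trans q)
    have hgi : ∀ i, g (q i) = q (σ i) := fun i => DFunLike.congr_fun hg i
    refine ⟨g, ?_, hgi⟩
    simp only [I, Finset.mem_filter, Finset.mem_univ, true_and]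
    refine ⟨hgG, fun h => hσ1 (Equiv.ext fun i => q.injective ?_), ?_⟩
    · have := hgi i
      rw [h] at this
      exact this.symm
    · refine huniq _ _ (G.mul_mem hgG hgG) G.one_mem q fun i => ?_
      rw [Equiv.Perm.mul_apply, hgi, hgi, ← Equiv.Perm.mul_apply, hσ2]
      rfl
  have hQ : Fintype.card (Fin 4 ↪ α) = 3024 := by
    rw [Fintype.card_embedding_eq, h9, Fintype.card_fin]; rfl
  have hI : ∀ g ∈ I, g ∈ G ∧ g * g = 1 := fun g hg => by
    simp only [I, Finset.mem_filter, Finset.mem_univ, true_and] at hg
    exact ⟨hg.1, hg.2.2⟩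
  have hcount : ∀ σ : Equiv.Perm (Fin 4), σ ≠ 1 → σ * σ = 1 →
      3024 = ∑ g ∈ I, (Finset.univ.filter fun q : Fin 4 ↪ α => ∀ i, g (q i) = q (σ i)).card := by
    intro σ h1 h2
    choose φ hφI hφ using fun q => hexists q σ h1 h2
    rw [← hQ, ← Finset.card_univ, Finset.card_eq_sum_card_fiberwise (f := φ) (t := I)
      (fun q _ => hφI q)]
    refine Finset.sum_congr rfl fun g hg => ?_
    congr 1
    ext q
    simp only [Finset.mem_filter, Finset.mem_univ, true_and]
    constructor
    · rintro rfl; exact hφ q
    · exact fun h => huniq _ _ (hI _ (hφI q)).1 (hI g hg).1 q fun i => by rw [hφ q i, h i]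
  -- the pattern of two transpositions
  have hA : ∀ g ∈ I, (Finset.univ.filter fun q : Fin 4 ↪ α =>
      ∀ i, g (q i) = q ((Equiv.swap (0 : Fin 4) 1 * Equiv.swap (2 : Fin 4) 3 : Equiv.Perm (Fin 4)) i)).card =
      g.support.card * (g.support.card - 2) := by
    intro g hg
    have hσ : ∀ i, (Equiv.swap (0 : Fin 4) 1 * Equiv.swap (2 : Fin 4) 3 : Equiv.Perm (Fin 4)) i =
        ![1, 0, 3, 2] i := by decide
    simp only [hσ]
    have hgg : ∀ w, g (g w) = w := fun w => by
      rw [← Equiv.Perm.mul_apply, (hI g hg).2]; rfl
    rw [← card_pairs_aux g (hI g hg).2]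
    refine Finset.card_bij (fun q _ => ⟨q 0, q 2⟩) ?_ ?_ ?_
    · intro q hq
      simp only [Finset.mem_filter, Finset.mem_univ, true_and] at hq
      have e0 := hq 0
      have e2 := hq 2
      simp at e0 e2
      simp [e0, e2, Finset.mem_sigma, q.injective.eq_iff]
    · intro q hq q' hq' h
      simp only [Finset.mem_filter, Finset.mem_univ, true_and] at hq hq'
      simp only [Sigma.mk.injEq, heq_eq_eq] at h
      have e0 := hq 0; have e2 := hq 2; have f0 := hq' 0; have f2 := hq' 2
      simp at e0 e2 f0 f2
      ext i
      fin_cases i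
      · exact h.1
      · show q 1 = q' 1
        rw [← e0, ← f0, h.1]
      · exact h.2
      · show q 3 = q' 3
        rw [← e2, ← f2, h.2]
    · rintro ⟨a, c⟩ hac
      simp only [Finset.mem_sigma, Finset.mem_erase, Equiv.Perm.mem_support] at hac
      obtain ⟨ha, hcga, hca, hc⟩ := hac
      refine ⟨⟨![a, g a, c, g c], ?_⟩, ?_, rfl⟩
      · have hga : g a ≠ g c := fun h => hca (g.injective h).symm
        have hgca : g c ≠ a := fun h => hcga (by rw [← h, hgg])
        intro i j hij
        fin_cases i <;> fin_cases j <;>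
          first
            | rfl
            | (simp at hij
               first
                 | exact absurd hij (by assumption)
                 | exact absurd hij.symm (by assumption))
      · simp only [Finset.mem_filter, Finset.mem_univ, true_and]
        intro i
        fin_cases i
        · rfl
        · exact hgg a
        · rfl
        · exact hgg c
  -- the pattern of one transposition and two fixed points
  have hB : ∀ g ∈ I, (Finset.univ.filter fun q : Fin 4 ↪ α =>
      ∀ i, g (q i) = q ((Equiv.swap (2 : Fin 4) 3) i)).card =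
      g.supportᶜ.card * (g.supportᶜ.card - 1) * g.support.card := by
    intro g hg
    have hσ : ∀ i, (Equiv.swap (2 : Fin 4) 3) i = ![0, 1, 3, 2] i := by decide
    simp only [hσ]
    have hgg : ∀ w, g (g w) = w := fun w => by
      rw [← Equiv.Perm.mul_apply, (hI g hg).2]; rfl
    rw [Nat.mul_sub_one, ← Finset.offDiag_card, ← Finset.card_product]
    refine Finset.card_bij (fun q _ => ((q 0, q 1), q 2)) ?_ ?_ ?_
    · intro q hq
      simp only [Finset.mem_filter, Finset.mem_univ, true_and] at hq
      have e0 := hq 0
      have e1 := hq 1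
      have e2 := hq 2
      simp at e0 e1 e2
      simp [e0, e1, e2, Finset.mem_offDiag, q.injective.eq_iff]
    · intro q hq q' hq' h
      simp only [Finset.mem_filter, Finset.mem_univ, true_and] at hq hq'
      simp only [Prod.mk.injEq] at h
      have e2 := hq 2; have f2 := hq' 2
      simp at e2 f2
      ext i
      fin_cases i
      · exact h.1.1
      · exact h.1.2
      · exact h.2
      · show q 3 = q' 3
        rw [← e2, ← f2, h.2]
    · rintro ⟨⟨a, b⟩, c⟩ habc
      simp only [Finset.mem_product, Finset.mem_offDiag, Finset.mem_compl,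
        Equiv.Perm.mem_support, not_not] at habc
      obtain ⟨⟨ha, hb, hab⟩, hc⟩ := habc
      refine ⟨⟨![a, b, c, g c], ?_⟩, ?_, rfl⟩
      · have hac : a ≠ c := fun h => hc (h ▸ ha)
        have hbc : b ≠ c := fun h => hc (h ▸ hb)
        have hagc : a ≠ g c := fun h => hac (g.injective (ha.trans h))
        have hbgc : b ≠ g c := fun h => hbc (g.injective (hb.trans h))
        intro i j hij
        fin_cases i <;> fin_cases j <;>
          first
            | rfl
            | (simp at hij
               first
                 | exact absurd hij (by assumption)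
                 | exact absurd hij.symm (by assumption))
      · simp only [Finset.mem_filter, Finset.mem_univ, true_and]
        intro i
        fin_cases i
        · exact ha
        · exact hb
        · rfl
        · exact hgg c
  have hA' := hcount (Equiv.swap 0 1 * Equiv.swap 2 3) (by decide) (by decide)
  have hB' := hcount (Equiv.swap 2 3) (by decide) (by decide)
  rw [Finset.sum_congr rfl hA] at hA'
  rw [Finset.sum_congr rfl hB] at hB'
  -- split by the number of fixed points
  set I6 := I.filter fun g => g.support.card = 6 with hI6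
  set I8 := I.filter fun g => ¬ g.support.card = 6 with hI8
  have hI8' : ∀ g ∈ I8, g.support.card = 8 := fun g hg => by
    simp only [hI8, Finset.mem_filter] at hg
    exact (hIsupp g hg.1).resolve_left hg.2
  have hc8 : ∀ g ∈ I8, g.supportᶜ.card = 1 := fun g hg => by
    rw [Finset.card_compl, h9, hI8' g hg]
  rw [← Finset.sum_filter_add_sum_filter_not I (fun g => g.support.card = 6)] at hA' hB'
  rw [Finset.sum_const_nat (m := 24) (fun g hg => by rw [(Finset.mem_filter.mp hg).2]),
    Finset.sum_const_nat (m := 48) (fun g hg => by rw [hI8' g hg])] at hA'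
  rw [Finset.sum_const_nat (m := 36) (fun g hg => by
      rw [Finset.card_compl, h9, (Finset.mem_filter.mp hg).2]),
    Finset.sum_const_nat (m := 0) (fun g hg => by rw [hc8 g hg, Nat.sub_self, mul_zero, zero_mul])]
    at hB'
  -- every point is the fixed point of equally many of them
  obtain ⟨a0⟩ : Nonempty α := Fintype.card_pos_iff.mp (by omega)
  have hconst : ∀ a, (I8.filter fun g => g a = a).card = (I8.filter fun g => g a0 = a0).card := by
    intro a
    obtain ⟨⟨t, htG⟩, ht⟩ := exists_smul_eq G a a0
    have ht' : t a = a0 := ht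
    have key : ∀ (s : Equiv.Perm α), s ∈ G → ∀ g ∈ I8, s * g * s⁻¹ ∈ I8 := by
      intro s hs g hg
      have h6 : (s * g * s⁻¹).support.card = g.support.card := Equiv.Perm.card_support_conj ..
      simp only [hI8, I, Finset.mem_filter, Finset.mem_univ, true_and] at hg ⊢
      refine ⟨⟨G.mul_mem (G.mul_mem hs hg.1.1) (G.inv_mem hs), ?_, ?_⟩, by rw [h6]; exact hg.2⟩
      · simpa using hg.1.2.1
      · calc s * g * s⁻¹ * (s * g * s⁻¹) = s * (g * g) * s⁻¹ := by group
          _ = 1 := by rw [hg.1.2.2]; group
    refine Finset.card_bij' (fun g _ => t * g * t⁻¹) (fun g _ => t⁻¹ * g * t) ?_ ?_ ?_ ?_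
    · intro g hg
      rw [Finset.mem_filter] at hg ⊢
      refine ⟨key t htG g hg.1, ?_⟩
      simp [← ht', hg.2]
    · intro g hg
      rw [Finset.mem_filter] at hg ⊢
      refine ⟨?_, ?_⟩
      · have := key t⁻¹ (G.inv_mem htG) g hg.1
        rwa [inv_inv] at this
      · simp only [Equiv.Perm.mul_apply, ht', hg.2]
        rw [Equiv.Perm.inv_eq_iff_eq, ht']
    · intro g _; group
    · intro g _; group
  have h9I : I8.card = 9 * (I8.filter fun g => g a0 = a0).card := by
    rw [← h9, ← Finset.card_univ, ← smul_eq_mul, ← Finset.sum_const,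
      ← Finset.sum_congr rfl (fun a _ => hconst a)]
    simp only [Finset.card_filter]
    rw [Finset.sum_comm]
    rw [Finset.sum_const_nat (m := 1) (fun g hg => ?_), mul_one]
    rw [← Finset.card_filter, ← hc8 g hg]
    congr 1
    ext w
    simp [Equiv.Perm.mem_support]
  rw [← hI8, ← hI6] at hA'
  rw [← hI6] at hB'
  omega

end Cfsg.Agent.Lib.Perm.FourTransNine
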