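import Cfsg.Agent.Lib.Perm.Transitivity
import Mathlib.GroupTheory.Sylow
import Mathlib.Algebra.Field.ZMod
import Mathlib.GroupTheory.GroupAction.SubMulAction.Pointwise

/-!
Generously transitive groups.
-/

open MulAction
open scoped Pointwise

namespace Cfsg.Agent.Lib.Perm

variable {α : Type*} [Fintype α] [DecidableEq α]

theorem generous_transitive (G : Subgroup (Equiv.Perm α)) {k : ℕ} (hk : k < Fintype.card α)
    (hgen : ∀ s : Finset α, s.card = k + 1 → ∀ σ : Equiv.Perm ↥s, ∃ g ∈ G, ∀ x : ↥s, g (x : α) = σ x) :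
    IsMultiplyPretransitive G α k := by
  refine isMultiplyPretransitive_of_fixing (by rw [Nat.card_eq_fintype_card]; omega) ?_
  intro t ht x y hx hy
  obtain ⟨s, hts, -, hs⟩ := Finset.exists_subsuperset_card_eq (s := t ∪ {x, y}) (t := Finset.univ)
    (n := k + 1) (Finset.subset_univ _)
    (((Finset.card_union_le _ _).trans (Nat.add_le_add_left Finset.card_le_two _)).trans (by omega))
    (by rw [Finset.card_univ]; omega)
  have hxs : x ∈ s := hts (by simp)
  have hys : y ∈ s := hts (by simp)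
  obtain ⟨g, hg, hgs⟩ := hgen s hs (Equiv.swap ⟨x, hxs⟩ ⟨y, hys⟩)
  refine ⟨⟨g, hg⟩, fun z hz => ?_, ?_⟩
  · have hzs : z ∈ s := hts (Finset.mem_union_left _ hz)
    have := hgs ⟨z, hzs⟩
    rw [Equiv.swap_apply_of_ne_of_ne
      (fun e : (⟨z, hzs⟩ : ↥s) = ⟨x, hxs⟩ => hx (Subtype.mk.inj e ▸ hz))
      (fun e : (⟨z, hzs⟩ : ↥s) = ⟨y, hys⟩ => hy (Subtype.mk.inj e ▸ hz))] at this
    exact this
  · have := hgs ⟨x, hxs⟩
    rw [Equiv.swap_apply_left] at this
    exact this

theorem generous_orbits (G : Subgroup (Equiv.Perm α)) {k : ℕ}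
    (hgen : ∀ s : Finset α, s.card = k + 1 → ∀ σ : Equiv.Perm ↥s, ∃ g ∈ G, ∀ x : ↥s, g (x : α) = σ x)
    (s : Finset α) (hs : s.card = k) (a b : α) (ha : a ∉ s) {g : Equiv.Perm α} (hg : g ∈ G)
    (hgs : g • s = s) (hgab : g a = b) :
    ∃ g ∈ G, (∀ x ∈ s, g x = x) ∧ g a = b := by
  have hgi : ∀ x ∈ s, g⁻¹ x ∈ s := by
    intro x hx
    rw [← hgs] at hx
    obtain ⟨y, hy, rfl⟩ := Finset.mem_smul_finset.mp hx
    simpa using hy
  have hga : ∀ x, x ∈ insert a s → (if x = a then a else g⁻¹ x) ∈ insert a s := by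
    intro x hx
    by_cases hxa : x = a
    · simp [hxa]
    · simp [hxa]
      exact Or.inr (hgi x ((Finset.mem_insert.mp hx).resolve_left hxa))
  let φ : ↥(insert a s) → ↥(insert a s) := fun x => ⟨if (x : α) = a then a else g⁻¹ x, hga x x.2⟩
  have hinj : Function.Injective φ := by
    intro x y hxy
    have h := congrArg Subtype.val hxy
    simp only [φ] at h
    apply Subtype.ext
    by_cases hxa : (x : α) = a <;> by_cases hya : (y : α) = a
    · rw [hxa, hya]
    · rw [if_pos hxa, if_neg hya] at h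
      exact absurd (h ▸ hgi y ((Finset.mem_insert.mp y.2).resolve_left hya)) ha
    · rw [if_neg hxa, if_pos hya] at h
      exact absurd (h ▸ hgi x ((Finset.mem_insert.mp x.2).resolve_left hxa)) ha
    · rw [if_neg hxa, if_neg hya] at h
      exact g⁻¹.injective h
  obtain ⟨h, hh, hhs⟩ := hgen (insert a s) (by rw [Finset.card_insert_of_notMem ha, hs])
    (Equiv.ofBijective φ hinj.bijective_of_finite)
  refine ⟨g * h, G.mul_mem hg hh, fun x hx => ?_, ?_⟩
  · have := hhs ⟨x, Finset.mem_insert_of_mem hx⟩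
    have hxa : x ≠ a := fun e => ha (e ▸ hx)
    simp only [Equiv.ofBijective_apply, φ, if_neg hxa] at this
    rw [Equiv.Perm.mul_apply, this]
    simp
  · have := hhs ⟨a, Finset.mem_insert_self a s⟩
    simp only [Equiv.ofBijective_apply, φ, if_true] at this
    rw [Equiv.Perm.mul_apply, this, hgab]

theorem generous_orbits_coprime (G : Subgroup (Equiv.Perm α)) {k : ℕ} (hk : k < Fintype.card α)
    (hgen : ∀ s : Finset α, s.card = k + 1 → ∀ σ : Equiv.Perm ↥s, ∃ g ∈ G, ∀ x : ↥s, g (x : α) = σ x)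
    {p : ℕ} (hp : p.Prime) (hpk : p ≤ k) (Γ : Finset α) (hΓ : Γ.card = k) (f : Fin p → α)
    (hf : ∀ i, f i ∉ Γ)
    (hdist : ∀ i j, i ≠ j → f j ∉ orbit (fixingSubgroup G (Γ : Set α)) (f i)) :
    ∃ i, p ∣ Nat.card (orbit (fixingSubgroup G (Γ : Set α)) (f i)) := by
  by_contra hno
  push Not at hno
  haveI := Fact.mk hp
  set K := fixingSubgroup G (Γ : Set α) with hK
  obtain ⟨Δ, hΔΓ, hΔ⟩ := Finset.exists_subset_card_eq (s := Γ) (n := p) (hΓ ▸ hpk)
  let e : ZMod p ≃ ↥Δ := Fintype.equivOfCardEq (by rw [ZMod.card, Fintype.card_coe, hΔ])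
  have : NeZero p := ⟨hp.pos.ne'⟩
  let σ₀ : Equiv.Perm ↥Δ := (e.symm.trans (Equiv.addRight (1 : ZMod p))).trans e
  let σΔ : Equiv.Perm α := Equiv.Perm.ofSubtype σ₀
  have hσΔ : ∀ x ∈ Γ, σΔ x ∈ Γ := by
    intro x hx
    by_cases hxΔ : x ∈ Δ
    · simp only [σΔ, Equiv.Perm.ofSubtype_apply_of_mem σ₀ hxΔ]
      exact hΔΓ (σ₀ ⟨x, hxΔ⟩).2
    · simp only [σΔ, Equiv.Perm.ofSubtype_apply_of_not_mem σ₀ hxΔ]
      exact hx
  obtain ⟨b, -, hb⟩ := Finset.exists_mem_notMem_of_card_lt_card (s := Γ) (t := Finset.univ)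
    (by rw [Finset.card_univ, hΓ]; exact hk)
  have hσs : ∀ x, x ∈ insert b Γ → σΔ x ∈ insert b Γ := by
    intro x hx
    rcases Finset.mem_insert.mp hx with rfl | hx
    · rw [show σΔ x = x from Equiv.Perm.ofSubtype_apply_of_not_mem σ₀ (fun h => hb (hΔΓ h))]
      simp
    · exact Finset.mem_insert_of_mem (hσΔ x hx)
  obtain ⟨c, hcG, hc⟩ := hgen (insert b Γ) (by rw [Finset.card_insert_of_notMem hb, hΓ])
    (Equiv.ofBijective (fun x => ⟨σΔ x, hσs x x.2⟩)
      (Function.Injective.bijective_of_finite fun x y h =>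
        Subtype.ext (σΔ.injective (congrArg Subtype.val h))))
  have hcΓ : ∀ x ∈ Γ, c x = σΔ x := fun x hx => hc ⟨x, Finset.mem_insert_of_mem hx⟩
  have hcs : c • Γ = Γ := by
    refine Finset.eq_of_subset_of_card_le ?_ (by simp)
    intro x hx
    obtain ⟨y, hy, rfl⟩ := Finset.mem_smul_finset.mp hx
    rw [Equiv.Perm.smul_def, hcΓ y hy]
    exact hσΔ y hy
  set cG : G := ⟨c, hcG⟩ with hcG'
  -- the set stabilizer generated by `K` and `c`
  let Y : Subgroup G := K ⊔ Subgroup.zpowers cG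
  have hsetwise : ∀ y : G, y ∈ Y → y • Γ = Γ := by
    have : Y ≤ stabilizer G Γ := by
      refine sup_le (fun y hy => ?_) ((Subgroup.zpowers_le).mpr hcs)
      refine Finset.eq_of_subset_of_card_le ?_ (by simp)
      intro x hx
      obtain ⟨z, hz, rfl⟩ := Finset.mem_smul_finset.mp hx
      rw [(mem_fixingSubgroup_iff G).mp hy z hz]
      exact hz
    exact fun y hy => this hy
  have hYfix : ∀ y : G, y ∈ Y → ∀ x ∈ Γ, x ∉ Δ → y • x = x := by
    intro y hy x hx hxΔ
    have : Y ≤ stabilizer G x := by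
      refine sup_le (fun z hz => (mem_fixingSubgroup_iff G).mp hz x hx) ((Subgroup.zpowers_le).mpr ?_)
      change c x = x
      rw [hcΓ x hx]
      exact Equiv.Perm.ofSubtype_apply_of_not_mem σ₀ hxΔ
    exact this hy
  have hnorm : cG ∈ Subgroup.normalizer (K : Set G) := by
    have hmem : ∀ x ∈ Γ, cG • x ∈ Γ ∧ cG⁻¹ • x ∈ Γ := by
      intro x hx
      constructor
      · rw [← hcs]; exact Finset.smul_mem_smul_finset (s := Γ) hx
      · rw [← hcs] at hx
        obtain ⟨y, hy, rfl⟩ := Finset.mem_smul_finset.mp hx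
        change cG⁻¹ • cG • y ∈ Γ
        rwa [inv_smul_smul]
    rw [Subgroup.mem_normalizer_iff]
    intro z
    rw [hK, mem_fixingSubgroup_iff, mem_fixingSubgroup_iff]
    constructor
    · intro hz x hx
      rw [mul_smul, mul_smul, hz _ (hmem x hx).2, smul_inv_smul]
    · intro hz x hx
      have := hz (cG • x) (hmem x hx).1
      rw [mul_smul, mul_smul, inv_smul_smul] at this
      exact smul_left_cancel cG this
  have hYcard : p * Nat.card K ∣ Nat.card Y := by
    have hcp : cG ∈ Y ∧ cG ∉ K := by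
      refine ⟨Subgroup.mem_sup_right (Subgroup.mem_zpowers cG), fun h => ?_⟩
      have h0 : σΔ (e 0) = e 0 := by
        rw [← hcΓ _ (hΔΓ (e 0).2)]
        exact (mem_fixingSubgroup_iff G).mp h (e 0) (hΔΓ (e 0).2)
      rw [show σΔ (e 0) = (σ₀ (e 0) : α) from Equiv.Perm.ofSubtype_apply_coe σ₀ (e 0)] at h0
      have h1 := Subtype.ext h0
      simp [σ₀] at h1
    have hcpp : cG ^ p ∈ K := by
      rw [hK, mem_fixingSubgroup_iff]
      intro x hx
      have key : ∀ (n : ℕ), ∀ x ∈ Γ, (cG ^ n) • x = (σΔ ^ n) x ∧ (σΔ ^ n) x ∈ Γ := by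
        intro n
        induction n with
        | zero => intro x hx; simp [hx]
        | succ n ih =>
          intro x hx
          obtain ⟨h1, h2⟩ := ih x hx
          rw [pow_succ', pow_succ', mul_smul, h1, Equiv.Perm.mul_apply]
          exact ⟨hcΓ _ h2, hσΔ _ h2⟩
      rw [(key p x hx).1]
      have hp1 : σ₀ ^ p = 1 := by
        have hn : ∀ (n : ℕ) i, (σ₀ ^ n) (e i) = e (i + (n : ZMod p)) := by
          intro n
          induction n with
          | zero => intro i; simp
          | succ n ih =>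
            intro i
            rw [pow_succ', Equiv.Perm.mul_apply, ih]
            simp [σ₀, add_assoc]
        ext z : 1
        obtain ⟨i, rfl⟩ := e.surjective z
        rw [hn]
        simp
      rw [show σΔ ^ p = Equiv.Perm.ofSubtype (σ₀ ^ p) from (map_pow _ _ _).symm, hp1, map_one]
      rfl
    haveI hn : (K.subgroupOf Y).Normal := Subgroup.normal_subgroupOf_of_le_normalizer
      (sup_le Subgroup.le_normalizer ((Subgroup.zpowers_le).mpr hnorm))
    have hdvd : p ∣ (K.subgroupOf Y).index := by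
      let q : Y ⧸ K.subgroupOf Y := QuotientGroup.mk ⟨cG, hcp.1⟩
      have hq : orderOf q = p := by
        refine orderOf_eq_prime ?_ fun h => hcp.2 ?_
        · rw [← QuotientGroup.mk_pow, QuotientGroup.eq_one_iff]
          exact hcpp
        · rw [QuotientGroup.eq_one_iff] at h
          exact h
      rw [Subgroup.index_eq_card]
      exact hq ▸ orderOf_dvd_natCard q
    rw [← Subgroup.card_mul_index (K.subgroupOf Y),
      Nat.card_congr (Subgroup.subgroupOfEquivOfLe (le_sup_left : K ≤ Y)).toEquiv, mul_comm p]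
    exact Nat.mul_dvd_mul_left _ hdvd
  obtain ⟨P⟩ : Nonempty (Sylow p Y) := inferInstance
  have hPfix : ∀ i, ∃ q, q ∈ orbit K (f i) ∧ ∀ y : (P : Subgroup Y), ((y : Y) : G) • q = q := by
    intro i
    haveI : Finite (orbit K (f i)) := inferInstance
    have hinv : ∀ y : G, y ∈ Y → ∀ z ∈ orbit K (f i), y • z ∈ orbit K (f i) := by
      intro y hy z hz
      have hzΓ : z ∉ Γ := by
        obtain ⟨g, rfl⟩ := hz
        intro hmem
        have := (mem_fixingSubgroup_iff G).mp (g⁻¹).2 _ hmem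
        change (g⁻¹ : K) • g • f i = g • f i at this
        rw [inv_smul_smul] at this
        exact hf i (this ▸ hmem)
      obtain ⟨g, hgG, hgΓ, hgz⟩ := generous_orbits G hgen Γ hΓ z (y • z) hzΓ y.2 (hsetwise y hy) rfl
      rw [← show (⟨g, hgG⟩ : G) • z = y • z from hgz]
      exact mem_orbit_of_mem_orbit (⟨⟨g, hgG⟩, (mem_fixingSubgroup_iff G).mpr hgΓ⟩ : K) hz
    letI act : MulAction (P : Subgroup Y) (orbit K (f i)) :=
      { smul := fun y z => ⟨((y : Y) : G) • (z : α), hinv _ (y : Y).2 _ z.2⟩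
        one_smul := fun z => Subtype.ext (one_smul G (z : α))
        mul_smul := fun y y' z => Subtype.ext (mul_smul ((y : Y) : G) ((y' : Y) : G) (z : α)) }
    obtain ⟨⟨q, hq⟩, hfix⟩ := P.isPGroup'.nonempty_fixed_point_of_prime_not_dvd_card
      (orbit K (f i)) (hno i)
    exact ⟨q, hq, fun y => congrArg Subtype.val (hfix y)⟩
  choose q hqorb hqfix using hPfix
  have hqΓ : ∀ i, q i ∉ Γ := by
    intro i hmem
    obtain ⟨g, hg⟩ := hqorb i
    have := (mem_fixingSubgroup_iff G).mp (g⁻¹).2 _ hmem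
    change (g⁻¹ : K) • q i = q i at this
    rw [← hg] at this hmem
    change (g⁻¹ : K) • g • f i = g • f i at this
    rw [inv_smul_smul] at this
    exact hf i (this ▸ hmem)
  have hqinj : Function.Injective q := by
    intro i j hij
    by_contra hne
    apply hdist i j hne
    have h1 : orbit K (f i) = orbit K (q i) := (orbit_eq_iff.mpr (hqorb i)).symm
    rw [h1, hij, orbit_eq_iff.mpr (hqorb j)]
    exact mem_orbit_self _
  let Γ' : Finset α := (Γ \ Δ) ∪ Finset.univ.image q
  have hΓ' : Γ'.card = k := by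
    rw [Finset.card_union_of_disjoint, Finset.card_sdiff_of_subset hΔΓ,
      Finset.card_image_of_injective _ hqinj, Finset.card_univ, Fintype.card_fin, hΓ, hΔ]
    · omega
    · rw [Finset.disjoint_left]
      intro x hx hx'
      obtain ⟨i, -, rfl⟩ := Finset.mem_image.mp hx'
      exact hqΓ i (Finset.mem_sdiff.mp hx).1
  have hPle : Nat.card (P : Subgroup Y) ∣ Nat.card (fixingSubgroup G (Γ' : Set α)) := by
    refine Subgroup.card_dvd_of_injective
      ({ toFun := fun y => ⟨((y : Y) : G), (mem_fixingSubgroup_iff G).mpr ?_⟩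
         map_one' := rfl
         map_mul' := fun _ _ => rfl } : (P : Subgroup Y) →* fixingSubgroup G (Γ' : Set α)) ?_
    · intro x hx
      rcases Finset.mem_union.mp hx with hx | hx
      · exact hYfix _ (y : Y).2 x (Finset.mem_sdiff.mp hx).1 (Finset.mem_sdiff.mp hx).2
      · obtain ⟨i, -, rfl⟩ := Finset.mem_image.mp hx
        exact hqfix i y
    · intro a b h
      exact Subtype.ext (Subtype.ext (congrArg (fun z : fixingSubgroup G (Γ' : Set α) => (z : G)) h))
  have hcards : Nat.card (fixingSubgroup G (Γ' : Set α)) = Nat.card K := by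
    have hkt := generous_transitive G hk hgen
    have h1 := hkt.index_of_fixingSubgroup_mul (s := (Γ' : Set α)) (by rw [Set.ncard_coe_finset, hΓ'])
    have h2 := hkt.index_of_fixingSubgroup_mul (s := (Γ : Set α)) (by rw [Set.ncard_coe_finset, hΓ])
    have h3 : (fixingSubgroup G (Γ' : Set α)).index = K.index :=
      Nat.eq_of_mul_eq_mul_right (Nat.factorial_pos _) (h1.trans h2.symm)
    have h4 := Subgroup.card_mul_index (fixingSubgroup G (Γ' : Set α))
    rw [h3, ← Subgroup.card_mul_index K] at h4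
    exact Nat.eq_of_mul_eq_mul_right (Nat.pos_of_ne_zero Subgroup.index_ne_zero_of_finite) h4
  rw [hcards, P.card_eq_multiplicity] at hPle
  have h5 : (Nat.card Y).factorization p ≤ (Nat.card K).factorization p :=
    (hp.pow_dvd_iff_le_factorization Nat.card_pos.ne').mp hPle
  have h6 := (Nat.factorization_le_iff_dvd (Nat.mul_ne_zero hp.ne_zero Nat.card_pos.ne')
    Nat.card_pos.ne').mpr hYcard p
  rw [Nat.factorization_mul hp.ne_zero Nat.card_pos.ne', Finsupp.add_apply,
    hp.factorization_self] at h6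
  omega

end Cfsg.Agent.Lib.Perm
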