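import Cfsg.Agent.Lib.Perm.PermModule

/-!
A group of prime-power degree that is not doubly transitive has a trivial composition factor in
the heart of its permutation module.
-/

open MulAction

namespace Cfsg.Agent.Lib.Perm

theorem exists_trivial_factor {G : Type*} [Group G] [Finite G] {K : Type*} [Field K] {p f : ℕ}
    [Fact p.Prime] [CharP K p] {Ω : Type*} [Fintype Ω] [MulAction G Ω] [IsPretransitive G Ω]
    (hcard : Fintype.card Ω = p ^ f) (h2 : ¬ IsMultiplyPretransitive G Ω 2) :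
    ∃ W W' : Subrepresentation (Cfsg.permRep K G Ω),
      (Cfsg.permConstants K G Ω).toSubmodule ≤ W.toSubmodule ∧
      W.toSubmodule < W'.toSubmodule ∧
      W'.toSubmodule ≤ (Cfsg.permSumZero K G Ω).toSubmodule ∧
      ∀ (g : G), ∀ v ∈ W'.toSubmodule, Cfsg.permRep K G Ω g v - v ∈ W.toSubmodule := by
  classical
  obtain ⟨P, hP, hPt⟩ := exists_transitive_pSubgroup (G := G) (Ω := Ω) (p := p) (f := f)
    (by rw [Nat.card_eq_fintype_card, hcard])
  obtain ⟨a, b, c, hba, hca, hno⟩ : ∃ a b c : Ω, b ≠ a ∧ c ≠ a ∧ ∀ g : G, g • a = a → g • b ≠ c := by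
    by_contra hh
    push Not at hh
    apply h2
    rw [is_two_pretransitive_iff]
    intro x y u v hxy huv
    obtain ⟨g, hg⟩ := exists_smul_eq G x u
    have hne : g • y ≠ u := fun e => hxy (smul_left_cancel g (hg.trans e.symm))
    obtain ⟨s, hs, hs'⟩ := hh u (g • y) v hne huv.symm
    exact ⟨s * g, by rw [mul_smul, hg, hs], by rw [mul_smul, hs']⟩
  let Q : Ω → Ω → Prop := fun x y => ∃ g : G, g • a = y ∧ g • b = x
  have hQ : ∀ (g : G) x y, Q (g • x) (g • y) ↔ Q x y := by
    intro g x y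
    constructor
    · rintro ⟨k, hk1, hk2⟩
      exact ⟨g⁻¹ * k, by rw [mul_smul, hk1, inv_smul_smul], by rw [mul_smul, hk2, inv_smul_smul]⟩
    · rintro ⟨k, hk1, hk2⟩
      exact ⟨g * k, by rw [mul_smul, hk1], by rw [mul_smul, hk2]⟩
  let N : Ω → Ω → ℕ := fun x y => if Q x y then 1 else 0
  have hN : ∀ (g : G) x y, N (g • x) (g • y) = N x y := fun g x y => by simp only [N, hQ]
  let d : ℕ := ∑ x, N x a
  have hcol : ∀ y, ∑ x, N x y = d := by
    intro y
    obtain ⟨g, rfl⟩ := exists_smul_eq G a y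
    exact (Fintype.sum_equiv (MulAction.toPerm g) _ _ fun x => (hN g x a).symm).symm
  have hrow : ∀ x, ∑ y, N x y = d := by
    intro x
    have hconst : ∀ x', ∑ y, N x' y = ∑ y, N x y := by
      intro x'
      obtain ⟨g, rfl⟩ := exists_smul_eq G x x'
      exact (Fintype.sum_equiv (MulAction.toPerm g) _ _ fun y => (hN g x y).symm).symm
    have h1 : ∑ x', ∑ y, N x' y = ∑ y, ∑ x', N x' y := Finset.sum_comm
    simp only [hconst, hcol, Finset.sum_const, smul_eq_mul] at h1
    exact mul_left_cancel₀ (Finset.card_ne_zero.mpr ⟨x, Finset.mem_univ x⟩) h1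
  let k : Ω → Ω → K := fun x y => (N x y : K) - if x = y then (d : K) else 0
  have hk : ∀ (g : G) x y, k (g • x) (g • y) = k x y := fun g x y => by
    simp only [k, hN, smul_left_cancel_iff]
  set T := kernelMap k with hT
  have hTG : ∀ (g : G) v, T (Cfsg.permRep K G Ω g v) = Cfsg.permRep K G Ω g (T v) :=
    kernelMap_permRep k hk
  have hTone : T (fun _ => 1) = 0 := by
    funext x
    simp [hT, kernelMap_apply, k, Finset.sum_sub_distrib, ← Nat.cast_sum, hrow]
  have hTsum : ∀ v, ∑ x, T v x = 0 := by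
    intro v
    simp only [hT, kernelMap_apply]
    rw [Finset.sum_comm]
    simp [k, ← Finset.sum_mul, Finset.sum_sub_distrib, ← Nat.cast_sum, hcol]
  have hNb : N b a = 1 := if_pos ⟨1, one_smul G a, one_smul G b⟩
  have hNc : N c a = 0 := if_neg (by rintro ⟨g, h1, h2'⟩; exact hno g h1 h2')
  have hTb : T (Pi.single a 1) b = 1 := by
    rw [hT, kernelMap_pi_single]; simp [k, hNb, hba]
  have hTc : T (Pi.single a 1) c = 0 := by
    rw [hT, kernelMap_pi_single]; simp [k, hNc, hca]
  have hkerS : LinearMap.ker T ≤ (Cfsg.permSumZero K G Ω).toSubmodule := by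
    refine le_sumZero_of_ne_top P hP _ (fun g v hv => ?_) (fun htop => ?_)
    · rw [LinearMap.mem_ker] at hv ⊢
      rw [hTG, hv, map_zero]
    · have : T (Pi.single a 1) = 0 := LinearMap.mem_ker.mp (htop ▸ Submodule.mem_top)
      rw [this] at hTb
      simp at hTb
  let W : Subrepresentation (Cfsg.permRep K G Ω) :=
    { toSubmodule := (Cfsg.permSumZero K G Ω).toSubmodule.map T
      apply_mem_toSubmodule := by
        rintro g _ ⟨s, hs, rfl⟩
        exact ⟨_, (Cfsg.permSumZero K G Ω).apply_mem_toSubmodule g hs, hTG g s⟩ }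
  let W' : Subrepresentation (Cfsg.permRep K G Ω) :=
    { toSubmodule := LinearMap.range T
      apply_mem_toSubmodule := by
        rintro g _ ⟨s, rfl⟩
        exact ⟨_, hTG g s⟩ }
  have hdiff : ∀ (g : G) (v : Ω → K),
      Cfsg.permRep K G Ω g v - v ∈ (Cfsg.permSumZero K G Ω).toSubmodule := by
    intro g v
    rw [mem_permSumZero]
    simp only [Pi.sub_apply, Finset.sum_sub_distrib, permRep_apply]
    rw [sub_eq_zero]
    exact Fintype.sum_equiv (MulAction.toPerm g⁻¹) _ _ fun x => rfl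
  have hWne : W.toSubmodule ≠ ⊥ := by
    intro hbot
    obtain ⟨g, hg⟩ := exists_smul_eq G b c
    have hmem : T (Cfsg.permRep K G Ω g⁻¹ (Pi.single a 1) - Pi.single a 1) ∈ W.toSubmodule :=
      ⟨_, hdiff g⁻¹ _, rfl⟩
    rw [hbot, Submodule.mem_bot, map_sub, sub_eq_zero, hTG] at hmem
    have := congrFun hmem b
    rw [permRep_apply, inv_inv, hg, hTb, hTc] at this
    exact zero_ne_one this
  refine ⟨W, W', constants_le_of_ne_bot P hP _ (fun g v hv => W.apply_mem_toSubmodule g hv) hWne,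
    lt_of_le_of_ne ?_ ?_, ?_, ?_⟩
  · rintro _ ⟨s, -, rfl⟩
    exact ⟨s, rfl⟩
  · intro heq
    have hmem : T (Pi.single a 1) ∈ W.toSubmodule := by rw [heq]; exact ⟨_, rfl⟩
    obtain ⟨s, hs, hse⟩ := hmem
    have h1 : Pi.single a 1 - s ∈ (Cfsg.permSumZero K G Ω).toSubmodule :=
      hkerS (by rw [LinearMap.mem_ker, map_sub, hse, sub_self])
    rw [mem_permSumZero] at h1
    rw [SetLike.mem_coe, mem_permSumZero] at hs
    simp [Finset.sum_sub_distrib, hs] at h1
  · rintro _ ⟨v, rfl⟩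
    exact mem_permSumZero.mpr (hTsum v)
  · rintro g _ ⟨v, rfl⟩
    exact ⟨_, hdiff g v, by rw [map_sub, hTG]⟩

end Cfsg.Agent.Lib.Perm
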