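import Cfsg.Agent.Lib.Perm.Basic
import Mathlib.GroupTheory.GroupAction.SubMulAction.Combination
import Mathlib.Data.Nat.Choose.Factorization
import Mathlib.Combinatorics.Enumerative.DoubleCounting

/-!
Wielandt's theorem: `k`-homogeneity implies `(k-1)`-homogeneity.
-/

open MulAction Finset
open scoped Pointwise

namespace Cfsg.Agent.Lib.Perm

theorem not_dvd_choose_prime_pow {p a k : ℕ} (hp : p.Prime) (hk : p ^ a ∣ k) :
    ¬ p ∣ Nat.choose (k + (p ^ a - 1)) (p ^ a - 1) := by
  intro hd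
  have hpos : 0 < Nat.choose (k + (p ^ a - 1)) (p ^ a - 1) := Nat.choose_pos (Nat.le_add_left _ _)
  have h1 := hp.factorization_pos_of_dvd hpos.ne' hd
  rw [Nat.factorization_choose' hp (b := Nat.log p (k + (p ^ a - 1)) + 1) (Nat.lt_succ_self _)] at h1
  obtain ⟨i, hi⟩ := Finset.card_pos.mp h1
  obtain ⟨-, hle⟩ := Finset.mem_filter.mp hi
  have hlt : (p ^ a - 1) % p ^ i + k % p ^ i < p ^ i := by
    have hq : 0 < p ^ a := pow_pos hp.pos a
    have hQ : 0 < p ^ i := pow_pos hp.pos i
    rcases le_or_gt i a with hia | hia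
    · rw [Nat.mod_eq_zero_of_dvd ((pow_dvd_pow p hia).trans hk), add_zero]
      exact Nat.mod_lt _ hQ
    · have h2 : p ^ a ∣ p ^ i := pow_dvd_pow p hia.le
      have h3 : p ^ a ∣ k % p ^ i := (Nat.dvd_mod_iff h2).mpr hk
      have h4 : p ^ a ∣ p ^ i - k % p ^ i := Nat.dvd_sub h2 h3
      have h5 : p ^ a ≤ p ^ i - k % p ^ i :=
        Nat.le_of_dvd (Nat.sub_pos_of_lt (Nat.mod_lt _ hQ)) h4
      have h6 := Nat.le_of_dvd hQ h2
      rw [Nat.mod_eq_of_lt (by omega)]
      omega
  omega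

theorem pred_homogeneous {G α : Type*} [Group G] [MulAction G α] [Fintype α] [DecidableEq α]
    {k : ℕ} (hk : 2 ≤ k) (hG : IsPretransitive G (Set.powersetCard α k))
    (hq : ∀ q : ℕ, IsPrimePow q → q ∣ k → k + q - 1 ≤ Fintype.card α) :
    IsPretransitive G (Set.powersetCard α (k - 1)) := by
  classical
  obtain ⟨p₀, hp₀, hp₀k⟩ := Nat.exists_prime_and_dvd (n := k) (by omega)
  have hkn : k ≤ Fintype.card α := by
    have := hq p₀ hp₀.isPrimePow hp₀k
    have := hp₀.two_le
    omega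
  refine ⟨fun T₀' T' => ?_⟩
  obtain ⟨T₀, hT₀⟩ := T₀'
  obtain ⟨T, hT⟩ := T'
  rw [Set.powersetCard.mem_iff] at hT₀ hT
  suffices ∃ g : G, g • T₀ = T by
    obtain ⟨g, hg⟩ := this
    exact ⟨g, Subtype.ext (Set.powersetCard.coe_smul.trans hg)⟩
  let O : Finset (Finset α) :=
    (Finset.univ.powersetCard (k - 1)).filter fun A => ∃ g : G, g • T₀ = A
  let cnt : Finset α → ℕ := fun B => (O.filter (· ⊆ B)).card
  have hhom : ∀ B B' : Finset α, B.card = k → B'.card = k → ∃ g : G, g • B = B' := by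
    intro B B' hB hB'
    obtain ⟨g, hg⟩ := hG.exists_smul_eq (Set.powersetCard.ofCard hB) (Set.powersetCard.ofCard hB')
    exact ⟨g, Set.powersetCard.coe_smul.symm.trans (congrArg Subtype.val hg)⟩
  have hO : ∀ (g : G), ∀ A ∈ O, g • A ∈ O := by
    intro g A hA
    obtain ⟨hA1, h, rfl⟩ := Finset.mem_filter.mp hA
    refine Finset.mem_filter.mpr ⟨?_, ⟨g * h, mul_smul g h T₀⟩⟩
    simpa [Finset.mem_powersetCard, Finset.subset_univ] using
      (Finset.mem_powersetCard.mp hA1).2
  have hconst : ∀ B B' : Finset α, B.card = k → B'.card = k → cnt B ≤ cnt B' := by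
    intro B B' hB hB'
    obtain ⟨g, rfl⟩ := hhom B B' hB hB'
    refine Finset.card_le_card_of_injOn (g • ·) ?_ (fun _ _ _ _ h => smul_left_cancel g h)
    intro A hA
    obtain ⟨hA, hAB⟩ := Finset.mem_filter.mp hA
    exact Finset.mem_filter.mpr ⟨hO g A hA, Finset.smul_finset_subset_smul_finset hAB⟩
  obtain ⟨B₁, hT₀B, -, hB₁⟩ := Finset.exists_subsuperset_card_eq (s := T₀) (t := Finset.univ)
    (n := k) (Finset.subset_univ _) (by omega) (by rw [Finset.card_univ]; omega)
  set r := cnt B₁ with hr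
  have hrB : ∀ B : Finset α, B.card = k → cnt B = r := fun B hB =>
    le_antisymm (hconst B B₁ hB hB₁) (hconst B₁ B hB₁ hB)
  have hrpos : 0 < r := Finset.card_pos.mpr ⟨T₀, Finset.mem_filter.mpr ⟨Finset.mem_filter.mpr
    ⟨Finset.mem_powersetCard.mpr ⟨Finset.subset_univ _, hT₀⟩, 1, one_smul G T₀⟩, hT₀B⟩⟩
  have hrle : ∀ B : Finset α, B.card = k → O.filter (· ⊆ B) ⊆ B.powersetCard (k - 1) := by
    intro B _ A hA
    obtain ⟨hA, hAB⟩ := Finset.mem_filter.mp hA
    exact Finset.mem_powersetCard.mpr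
      ⟨hAB, (Finset.mem_powersetCard.mp (Finset.mem_filter.mp hA).1).2⟩
  have hdvd : k ∣ r := by
    rw [Nat.dvd_iff_prime_pow_dvd_dvd]
    intro p a hp hak
    rcases Nat.eq_zero_or_pos a with rfl | ha
    · simp
    have hle := hq (p ^ a) (hp.isPrimePow.pow ha.ne') hak
    have hqpos : 0 < p ^ a := pow_pos hp.pos a
    obtain ⟨Y, -, hY⟩ := Finset.exists_subset_card_eq (s := (Finset.univ : Finset α))
      (n := k + (p ^ a - 1)) (by rw [Finset.card_univ]; omega)
    have h1 := Finset.sum_card_bipartiteAbove_eq_sum_card_bipartiteBelow (fun A B : Finset α => A ⊆ B)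
      (s := O.filter (· ⊆ Y)) (t := Y.powersetCard k)
    have hup : ∀ A ∈ O.filter (· ⊆ Y),
        ((Y.powersetCard k).bipartiteAbove (fun A B : Finset α => A ⊆ B) A).card = p ^ a := by
      intro A hA
      obtain ⟨hA, hAY⟩ := Finset.mem_filter.mp hA
      have hAc := (Finset.mem_powersetCard.mp (Finset.mem_filter.mp hA).1).2
      have hdiff : (Y \ A).card = p ^ a := by
        rw [Finset.card_sdiff_of_subset hAY, hY, hAc]
        omega
      rw [← hdiff]
      symm
      refine Finset.card_bij (fun x _ => insert x A) ?_ ?_ ?_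
      · intro x hx
        obtain ⟨hxY, hxA⟩ := Finset.mem_sdiff.mp hx
        refine Finset.mem_filter.mpr ⟨Finset.mem_powersetCard.mpr
          ⟨Finset.insert_subset hxY hAY, ?_⟩, Finset.subset_insert _ _⟩
        rw [Finset.card_insert_of_notMem hxA, hAc]
        omega
      · intro x hx y _ hxy
        have : x ∈ insert y A := hxy ▸ Finset.mem_insert_self x A
        exact (Finset.mem_insert.mp this).resolve_right (Finset.mem_sdiff.mp hx).2
      · intro B hB
        obtain ⟨hB, hAB⟩ := Finset.mem_filter.mp hB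
        obtain ⟨hBY, hBc⟩ := Finset.mem_powersetCard.mp hB
        obtain ⟨x, hx⟩ := Finset.card_eq_one.mp
          (by rw [Finset.card_sdiff_of_subset hAB, hBc, hAc]; omega : (B \ A).card = 1)
        have hxB : x ∈ B \ A := by rw [hx]; simp
        refine ⟨x, Finset.mem_sdiff.mpr ⟨hBY (Finset.mem_sdiff.mp hxB).1, (Finset.mem_sdiff.mp hxB).2⟩, ?_⟩
        rw [Finset.insert_eq, ← hx, Finset.sdiff_union_of_subset hAB]
    have hdown : ∀ B ∈ Y.powersetCard k,
        ((O.filter (· ⊆ Y)).bipartiteBelow (fun A B : Finset α => A ⊆ B) B).card = r := by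
      intro B hB
      obtain ⟨hBY, hBc⟩ := Finset.mem_powersetCard.mp hB
      rw [← hrB B hBc]
      congr 1
      ext A
      simp only [Finset.bipartiteBelow, Finset.mem_filter]
      exact ⟨fun h => ⟨h.1.1, h.2⟩, fun h => ⟨⟨h.1, h.2.trans hBY⟩, h.2⟩⟩
    rw [Finset.sum_congr rfl hup, Finset.sum_congr rfl hdown, Finset.sum_const, Finset.sum_const,
      smul_eq_mul, smul_eq_mul, Finset.card_powersetCard, hY, Nat.choose_symm_add] at h1
    have hcop : Nat.Coprime (p ^ a) (Nat.choose (k + (p ^ a - 1)) (p ^ a - 1)) :=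
      Nat.Coprime.pow_left a (hp.coprime_iff_not_dvd.mpr (not_dvd_choose_prime_pow hp hak))
    exact hcop.dvd_of_dvd_mul_left ⟨_, h1.symm.trans (mul_comm _ _)⟩
  obtain ⟨B, hTB, -, hB⟩ := Finset.exists_subsuperset_card_eq (s := T) (t := Finset.univ)
    (n := k) (Finset.subset_univ _) (by omega) (by rw [Finset.card_univ]; omega)
  have hrk : r ≤ k := by
    rw [← hrB B hB]
    refine (Finset.card_le_card (hrle B hB)).trans ?_
    rw [Finset.card_powersetCard, hB, ← Nat.choose_symm (by omega : k - 1 ≤ k),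
      show k - (k - 1) = 1 by omega, Nat.choose_one_right]
  have hreq : r = k := le_antisymm hrk (Nat.le_of_dvd hrpos hdvd)
  have hall : O.filter (· ⊆ B) = B.powersetCard (k - 1) := by
    refine Finset.eq_of_subset_of_card_le (hrle B hB) ?_
    rw [show (O.filter (· ⊆ B)).card = cnt B from rfl, hrB B hB, hreq, Finset.card_powersetCard, hB,
      ← Nat.choose_symm (by omega : k - 1 ≤ k), show k - (k - 1) = 1 by omega, Nat.choose_one_right]
  have : T ∈ O.filter (· ⊆ B) := by
    rw [hall]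
    exact Finset.mem_powersetCard.mpr ⟨hTB, hT⟩
  exact (Finset.mem_filter.mp (Finset.mem_filter.mp this).1).2

end Cfsg.Agent.Lib.Perm
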