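import Cfsg.Agent.Lib.Perm.Basic
import Mathlib.GroupTheory.GroupAction.SubMulAction.Combination
import Mathlib.GroupTheory.Perm.Cycle.Type

/-!
Groups transitive on unordered pairs.
-/

open MulAction

namespace Cfsg.Agent.Lib.Perm

/-- A group transitive on unordered pairs of a faithful action and of even order is doubly
transitive. -/
theorem two_transitive_of_homogeneous_even {G α : Type*} [Group G] [Finite G] [MulAction G α]
    [FaithfulSMul G α]
    (h : ∀ a b c d : α, a ≠ b → c ≠ d →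
      ∃ g : G, (g • a = c ∧ g • b = d) ∨ (g • a = d ∧ g • b = c))
    (heven : Even (Nat.card G)) : IsMultiplyPretransitive G α 2 := by
  haveI : Fact (Nat.Prime 2) := ⟨Nat.prime_two⟩
  obtain ⟨t, ht⟩ := exists_prime_orderOf_dvd_card' 2 (even_iff_two_dvd.mp heven)
  have ht2 : t * t = 1 := by rw [← pow_two, ← ht]; exact pow_orderOf_eq_one t
  obtain ⟨x, hx⟩ : ∃ x : α, t • x ≠ x := by
    by_contra hc
    push Not at hc
    have : t = 1 := eq_of_smul_eq_smul (fun y : α => by rw [one_smul, hc])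
    rw [this, orderOf_one] at ht
    omega
  have htx : t • t • x = x := by rw [← mul_smul, ht2, one_smul]
  have swap : ∀ a b : α, a ≠ b → ∃ g : G, g • a = b ∧ g • b = a := by
    intro a b hab
    obtain ⟨g, hg | hg⟩ := h x (t • x) a b hx.symm hab
    · exact ⟨g * t * g⁻¹, by simp [mul_smul, ← hg.1, ← hg.2], by
        simp [mul_smul, ← hg.1, ← hg.2, htx]⟩
    · exact ⟨g * t * g⁻¹, by simp [mul_smul, ← hg.1, ← hg.2, htx], by
        simp [mul_smul, ← hg.1, ← hg.2]⟩
  rw [is_two_pretransitive_iff]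
  intro a b c d hab hcd
  obtain ⟨g, hg | hg⟩ := h a b c d hab hcd
  · exact ⟨g, hg⟩
  · obtain ⟨s, hs⟩ := swap c d hcd
    exact ⟨s * g, by rw [mul_smul, hg.1, hs.2], by rw [mul_smul, hg.2, hs.1]⟩

/-- Transitivity on `Set.powersetCard α 2` in terms of points. -/
theorem homogeneous_pair {G α : Type*} [Group G] [MulAction G α] [DecidableEq α]
    (h : IsPretransitive G (Set.powersetCard α 2)) (a b c d : α) (hab : a ≠ b) (hcd : c ≠ d) :
    ∃ g : G, (g • a = c ∧ g • b = d) ∨ (g • a = d ∧ g • b = c) := by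
  obtain ⟨g, hg⟩ := h.exists_smul_eq
    (Set.powersetCard.ofCard (Finset.card_pair hab)) (Set.powersetCard.ofCard (Finset.card_pair hcd))
  refine ⟨g, ?_⟩
  have key : ∀ z, (z = c ∨ z = d) ↔ (z = g • a ∨ z = g • b) := by
    intro z
    have h1 := congrArg (fun s : Set.powersetCard α 2 => z ∈ (s : Finset α)) hg
    simp [Finset.mem_smul_finset] at h1
    rw [← h1]
    tauto
  have h1 := (key (g • a)).mpr (Or.inl rfl)
  have h2 := (key (g • b)).mpr (Or.inr rfl)
  have hne : g • a ≠ g • b := fun e => hab (smul_left_cancel g e)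
  rcases h1 with h1 | h1 <;> rcases h2 with h2 | h2
  · exact absurd (h1.trans h2.symm) hne
  · exact Or.inl ⟨h1, h2⟩
  · exact Or.inr ⟨h1, h2⟩
  · exact absurd (h1.trans h2.symm) hne

end Cfsg.Agent.Lib.Perm
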