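import Mathlib

/-!
An irreducible automorphism of prime order of an elementary abelian group generates a finite
field: its order is primitive for the degree, and its normalizer induces Galois powers.
-/

set_option autoImplicit false
set_option maxHeartbeats 1000000

namespace Cfsg.Agent.Lib.Perm.IrreduciblePrimeOrder

open Polynomial

variable {p q d : ℕ} [Fact p.Prime] {V : Type*} [AddCommGroup V] [Module (ZMod p) V] [Finite V]

theorem linear_facts (hq : q.Prime) (hcard : Nat.card V = p ^ d) (L : Module.End (ZMod p) V)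
    (hLq : L ^ q = 1) (hL1 : L ≠ 1)
    (hirr : ∀ S : Submodule (ZMod p) V, (∀ v ∈ S, L v ∈ S) → S = ⊥ ∨ S = ⊤) :
    (∀ i, 0 < i → i < d → ¬ q ∣ p ^ i - 1) ∧
      ∀ (a : ℕ) (Ψ : V ≃ₗ[ZMod p] V), (∀ v, Ψ (L v) = (L ^ a) (Ψ v)) →
        ∃ i, a ≡ p ^ i [MOD q] := by
  classical
  have : Fintype V := Fintype.ofFinite V
  haveI : Module.Finite (ZMod p) V := Module.Finite.of_finite
  haveI : Nontrivial (Module.End (ZMod p) V) := ⟨⟨L, 1, hL1⟩⟩
  set f := minpoly (ZMod p) L with hf
  have hint : IsIntegral (ZMod p) L := Algebra.IsIntegral.isIntegral L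
  have hmon : f.Monic := minpoly.monic hint
  have hcomm : ∀ P : (ZMod p)[X], ∀ v, aeval L P (L v) = L (aeval L P v) := fun P v => by
    have h := congrArg (fun g : Module.End (ZMod p) V => g v)
      (show aeval L (P * X) = aeval L (X * P) by rw [mul_comm])
    simpa using h
  have hirred : Irreducible f := by
    rw [irreducible_iff]
    refine ⟨minpoly.not_isUnit (ZMod p) L, fun g h hgh => ?_⟩
    have hf0 : f ≠ 0 := hmon.ne_zero
    have hzero : aeval L g * aeval L h = 0 := by rw [← map_mul, ← hgh, minpoly.aeval]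
    by_cases hh : aeval L h = 0
    · left
      have hd : f ∣ h := minpoly.dvd _ _ hh
      rw [hgh] at hd hf0
      have : g * h ∣ 1 * h := by rwa [one_mul]
      exact isUnit_of_dvd_one ((mul_dvd_mul_iff_right (right_ne_zero_of_mul hf0)).mp this)
    · right
      rcases hirr (LinearMap.ker (aeval L g)) (fun v hv => by
        rw [LinearMap.mem_ker] at hv ⊢
        rw [hcomm, hv, map_zero]) with e | e
      · refine absurd (LinearMap.ext fun v => ?_) hh
        have : aeval L h v ∈ LinearMap.ker (aeval L g) :=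
          LinearMap.mem_ker.mpr (congrArg (fun F : Module.End (ZMod p) V => F v) hzero)
        rw [e, Submodule.mem_bot] at this
        exact this
      · have hg : aeval L g = 0 := LinearMap.ker_eq_top.mp e
        have hd : f ∣ g := minpoly.dvd _ _ hg
        rw [hgh] at hd hf0
        have : g * h ∣ g * 1 := by rwa [mul_one]
        exact isUnit_of_dvd_one ((mul_dvd_mul_iff_left (left_ne_zero_of_mul hf0)).mp this)
  haveI : Fact (Irreducible f) := ⟨hirred⟩
  set n := f.natDegree with hn
  have hdn : d ≤ n := by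
    obtain ⟨v, hv⟩ : ∃ v : V, v ≠ 0 := by
      by_contra h
      push Not at h
      exact hL1 (LinearMap.ext fun v => by rw [h v, map_zero, map_zero])
    let E : (ZMod p)[X] →ₗ[ZMod p] V := (LinearMap.applyₗ v).comp (aeval L).toLinearMap
    have hE : ∀ P, E P = aeval L P v := fun P => rfl
    have htop : LinearMap.range E = ⊤ := by
      refine (hirr _ ?_).resolve_left fun e => hv ?_
      · rintro _ ⟨P, rfl⟩
        exact ⟨X * P, by simp [hE]⟩
      · have : E 1 ∈ LinearMap.range E := ⟨1, rfl⟩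
        rw [e, Submodule.mem_bot] at this
        simpa [hE] using this
    have hsurj : Function.Surjective (fun P : degreeLT (ZMod p) n => E P) := by
      intro w
      obtain ⟨P, hP⟩ : w ∈ LinearMap.range E := by rw [htop]; trivial
      refine ⟨⟨P %ₘ f, mem_degreeLT.mpr ?_⟩, ?_⟩
      · exact (degree_modByMonic_lt P hmon).trans_le degree_le_natDegree
      · show E (P %ₘ f) = w
        rw [hE, aeval_modByMonic_eq_self_of_root (minpoly.aeval (ZMod p) L), ← hE, hP]
    haveI : Finite (degreeLT (ZMod p) n) := Finite.of_equiv _ (degreeLTEquiv (ZMod p) n).toEquiv.symm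
    have h1 := Nat.card_le_card_of_surjective _ hsurj
    rw [Nat.card_congr (degreeLTEquiv (ZMod p) n).toEquiv, Nat.card_fun, Nat.card_zmod,
      Nat.card_fin, hcard] at h1
    exact (Nat.pow_le_pow_iff_right (Fact.out : p.Prime).one_lt).mp h1
  haveI : Module.Finite (ZMod p) (AdjoinRoot f) := (AdjoinRoot.powerBasis hmon.ne_zero).finite
  haveI : Finite (AdjoinRoot f) := Module.finite_of_finite (ZMod p)
  have hfr : Module.finrank (ZMod p) (AdjoinRoot f) = n := by
    rw [(AdjoinRoot.powerBasis hmon.ne_zero).finrank, AdjoinRoot.powerBasis_dim]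
  have hord : orderOf (AdjoinRoot.root f) = q := by
    haveI := Fact.mk hq
    refine orderOf_eq_prime ?_ ?_
    · have hd : f ∣ X ^ q - 1 := minpoly.dvd _ _ (by simp [hLq])
      have h := AdjoinRoot.mk_eq_zero.mpr hd
      rwa [map_sub, map_pow, map_one, AdjoinRoot.mk_X, sub_eq_zero] at h
    · intro h
      have h0 : AdjoinRoot.mk f (X - 1) = 0 := by rw [map_sub, map_one, AdjoinRoot.mk_X, h, sub_self]
      have hd := AdjoinRoot.mk_eq_zero.mp h0
      have : aeval L (X - 1 : (ZMod p)[X]) = 0 := by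
        obtain ⟨c, hc⟩ := hd
        rw [hc, map_mul, minpoly.aeval, zero_mul]
      exact hL1 (by simpa [sub_eq_zero] using this)
  have hfrob : ∀ (i : ℕ) (x : AdjoinRoot f),
      (FiniteField.frobeniusAlgHom (ZMod p) (AdjoinRoot f) ^ i) x = x ^ p ^ i := fun i x => by
    rw [AlgHom.coe_pow, FiniteField.coe_frobeniusAlgHom, pow_iterate, ZMod.card]
  refine ⟨fun i hi0 hid hdvd => ?_, fun a Ψ hΨ => ?_⟩
  · have h1 : FiniteField.frobeniusAlgHom (ZMod p) (AdjoinRoot f) ^ i = 1 := by
      refine AdjoinRoot.algHom_ext ?_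
      rw [hfrob, AlgHom.one_apply]
      obtain ⟨k, hk⟩ := hdvd
      have h2 : p ^ i = q * k + 1 := by
        have := Nat.one_le_pow i p (Fact.out : p.Prime).pos
        omega
      rw [h2, pow_succ, pow_mul, ← hord, pow_orderOf_eq_one, one_pow, one_mul]
    have h2 := orderOf_dvd_of_pow_eq_one h1
    rw [FiniteField.orderOf_frobeniusAlgHom, hfr] at h2
    exact absurd (Nat.le_of_dvd hi0 h2) (by omega)
  · have hc : Ψ.conjAlgEquiv (ZMod p) L = L ^ a := by
      refine LinearMap.ext fun v => ?_
      rw [LinearEquiv.conjAlgEquiv_apply]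
      simp [hΨ]
    have h0 : aeval (L ^ a) f = 0 := by
      rw [← hc, show (Ψ.conjAlgEquiv (ZMod p)) L = (Ψ.conjAlgEquiv (ZMod p)).toAlgHom L from rfl,
        aeval_algHom_apply, minpoly.aeval, map_zero]
    have hd : f ∣ f.comp (X ^ a) := minpoly.dvd _ _ (by simp [aeval_comp, h0])
    have hroot : aeval (AdjoinRoot.root f ^ a) f = 0 := by
      have := aeval_eq_zero_of_dvd_aeval_eq_zero hd
        (show aeval (AdjoinRoot.root f) f = 0 by rw [AdjoinRoot.aeval_eq, AdjoinRoot.mk_self])
      rwa [aeval_comp, map_pow, aeval_X] at this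
    let σ : AdjoinRoot f →ₐ[ZMod p] AdjoinRoot f :=
      AdjoinRoot.liftAlgHom f (Algebra.ofId (ZMod p) (AdjoinRoot f)) (AdjoinRoot.root f ^ a) hroot
    obtain ⟨⟨i, _⟩, hi⟩ := (FiniteField.bijective_frobeniusAlgHom_pow (ZMod p) (AdjoinRoot f)).2 σ
    refine ⟨i, ?_⟩
    have h3 := congrArg (fun g : AdjoinRoot f →ₐ[ZMod p] AdjoinRoot f => g (AdjoinRoot.root f)) hi
    rw [hfrob] at h3
    rw [show σ (AdjoinRoot.root f) = AdjoinRoot.root f ^ a from AdjoinRoot.liftAlgHom_root _ _ _ _] at h3
    have hinj := (IsOfFinOrder.pow_eq_pow_iff_modEq (x := AdjoinRoot.root f) (orderOf_pos_iff.mp (hord ▸ hq.pos))).mp h3.symm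
    rwa [hord] at hinj

/-- The group form. -/
theorem group_facts {M : Type*} [CommGroup M] [Finite M] (hexp : ∀ m : M, m ^ p = 1) (hq : q.Prime)
    (hcard : Nat.card M = p ^ d) (φ : MulAut M) (hφq : φ ^ q = 1) (hφ1 : φ ≠ 1)
    (hirr : ∀ K : Subgroup M, (∀ x ∈ K, φ x ∈ K) → K = ⊥ ∨ K = ⊤) :
    (∀ i, 0 < i → i < d → ¬ q ∣ p ^ i - 1) ∧
      ∀ (a : ℕ) (ψ : MulAut M), ψ * φ = φ ^ a * ψ → ∃ i, a ≡ p ^ i [MOD q] := by
  have hV : ∀ v : Additive M, p • v = 0 := fun v => by
    obtain ⟨m, rfl⟩ := Additive.ofMul.surjective v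
    exact congrArg Additive.ofMul (hexp m)
  let _ := AddCommGroup.zmodModule (n := p) (G := Additive M) hV
  let E : MulAut M → Module.End (ZMod p) (Additive M) := fun g =>
    (MonoidHom.toAdditive (g : M ≃* M).toMonoidHom).toZModLinearMap p
  have hE : ∀ g v, E g v = Additive.ofMul (g (Additive.toMul v)) := fun g v => rfl
  have hmul : ∀ a b, E (a * b) = E a * E b := fun a b => LinearMap.ext fun v => rfl
  have h1 : E 1 = 1 := LinearMap.ext fun v => rfl
  have hpow : ∀ n : ℕ, E φ ^ n = E (φ ^ n) := fun n => by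
    induction n with
    | zero => rw [pow_zero, pow_zero, h1]
    | succ n ih => rw [pow_succ, pow_succ, hmul, ih]
  have hinj : E φ ≠ 1 := fun e => hφ1 (MulEquiv.ext fun m => by
    have := congrArg (fun F : Module.End (ZMod p) (Additive M) => Additive.toMul (F (Additive.ofMul m))) e
    simpa [hE] using this)
  obtain ⟨hA, hB⟩ := linear_facts (p := p) (q := q) (d := d) hq
    (by rw [← hcard]; exact Nat.card_congr Additive.toMul) (E φ) (by rw [hpow, hφq, h1]) hinj
    (fun S hS => by
      let K : Subgroup M :=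
        { carrier := {m | Additive.ofMul m ∈ S}
          one_mem' := S.zero_mem
          mul_mem' := fun ha hb => S.add_mem ha hb
          inv_mem' := fun ha => S.neg_mem ha }
      rcases hirr K (fun x hx => hS _ hx) with e | e
      · refine Or.inl ((Submodule.eq_bot_iff S).mpr fun v hv => ?_)
        have : Additive.toMul v ∈ K := hv
        rw [e, Subgroup.mem_bot] at this
        exact Additive.toMul.injective this
      · refine Or.inr (Submodule.eq_top_iff'.mpr fun v => ?_)
        exact (e.symm ▸ Subgroup.mem_top (Additive.toMul v) : Additive.toMul v ∈ K))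
  refine ⟨hA, fun a ψ hψ => hB a (LinearEquiv.ofBijective (E ψ)
    (Function.bijective_iff_has_inverse.mpr ⟨E ψ⁻¹, fun v => ?_, fun v => ?_⟩)) fun v => ?_⟩
  · rw [← Module.End.mul_apply, ← hmul, inv_mul_cancel, h1]; rfl
  · rw [← Module.End.mul_apply, ← hmul, mul_inv_cancel, h1]; rfl
  · show E ψ (E φ v) = (E φ ^ a) (E ψ v)
    rw [hpow, ← Module.End.mul_apply, ← Module.End.mul_apply, ← hmul, ← hmul, hψ]

end Cfsg.Agent.Lib.Perm.IrreduciblePrimeOrder
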