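import Cfsg.Agent.Lib.Perm.Transitivity
import Cfsg.Agent.Lib.Perm.Homogeneity
import Mathlib.GroupTheory.Sylow
import Mathlib.Data.Fintype.CardEmbedding
import Mathlib.GroupTheory.Perm.Cycle.Type
import Mathlib.Tactic.NormNum.Prime

/-!
The theorem of Livingstone and Wagner: a `k`-homogeneous group of degree `n ≥ 2k` is
`(k-1)`-transitive. An elementary proof through the classes of ordered `(k-1)`-sets.
-/

open Equiv Finset MulAction
open scoped Pointwise

namespace Cfsg.Agent.Lib.Perm.LivingstoneWagner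

variable {α : Type*} [Fintype α] [DecidableEq α] {G : Subgroup (Equiv.Perm α)}

/-- The set of fixed points of a permutation. -/
def fixedSet (g : Equiv.Perm α) : Finset α := univ.filter fun x => g x = x

theorem mem_fixedSet {g : Equiv.Perm α} {x : α} : x ∈ fixedSet g ↔ g x = x := by
  simp [fixedSet]

/-- The elements fixing the points of a finite set. -/
def fixG (G : Subgroup (Equiv.Perm α)) (s : Finset α) : Subgroup G :=
  fixingSubgroup G (s : Set α)

omit [Fintype α] [DecidableEq α] in
theorem mem_fixG {s : Finset α} {g : G} : g ∈ fixG G s ↔ ∀ x ∈ s, (g : Equiv.Perm α) x = x :=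
  mem_fixingSubgroup_iff G

/-- Only the identity fixes `k - 1` points. -/
def IsFree (G : Subgroup (Equiv.Perm α)) (k : ℕ) : Prop :=
  ∀ g ∈ G, k - 1 ≤ (fixedSet g).card → g = 1

theorem eq_of_agree {k : ℕ} (hfree : IsFree G k) {g g' : Equiv.Perm α} (hg : g ∈ G) (hg' : g' ∈ G)
    (T : Finset α) (hT : k - 1 ≤ T.card) (h : ∀ x ∈ T, g x = g' x) : g = g' := by
  have h1 : g'⁻¹ * g = 1 := hfree _ (G.mul_mem (G.inv_mem hg') hg) (hT.trans (card_le_card fun x hx => by
    rw [mem_fixedSet, Equiv.Perm.mul_apply, h x hx, Equiv.Perm.inv_eq_iff_eq]))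
  exact (inv_mul_eq_one.mp h1).symm

theorem eq_one_of_fixes {k : ℕ} (hfree : IsFree G k) {g : Equiv.Perm α} (hg : g ∈ G)
    (T : Finset α) (hT : k - 1 ≤ T.card) (h : ∀ x ∈ T, g x = x) : g = 1 :=
  eq_of_agree hfree hg G.one_mem T hT h

theorem isPretransitive_of_base {M X : Type*} [Group M] [MulAction M X] (x : X)
    (h : ∀ y, ∃ g : M, g • x = y) : IsPretransitive M X := by
  refine ⟨fun a b => ?_⟩
  obtain ⟨g, rfl⟩ := h a
  obtain ⟨g', rfl⟩ := h b
  exact ⟨g' * g⁻¹, by rw [mul_smul, inv_smul_smul]⟩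

/-! ### Extracting elements from transitivity and homogeneity -/

theorem exists_map {m : ℕ} (h : IsMultiplyPretransitive G α m) (hm : m ≤ Fintype.card α)
    {ι : Type*} [Fintype ι] (hι : Fintype.card ι ≤ m) (x y : ι ↪ α) :
    ∃ g ∈ G, ∀ i, g (x i) = y i := by
  haveI := h
  haveI := isMultiplyPretransitive_of_le (G := G) (α := α) (m := Fintype.card ι) (n := m) hι
    (by rw [Nat.card_eq_fintype_card]; exact hm)
  let e := (Fintype.equivFin ι).symm.toEmbedding
  obtain ⟨g, hg⟩ := exists_smul_eq G (e.trans x) (e.trans y)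
  refine ⟨g, g.2, fun i => ?_⟩
  have := DFunLike.congr_fun hg (Fintype.equivFin ι i)
  simpa [e, Subgroup.smul_def, Function.Embedding.smul_apply] using this

theorem exists_image_eq {j : ℕ} (h : IsPretransitive G (Set.powersetCard α j)) {s t : Finset α}
    (hs : s.card = j) (ht : t.card = j) : ∃ g ∈ G, s.image g = t := by
  obtain ⟨g, hg⟩ := h.exists_smul_eq (Set.powersetCard.ofCard hs) (Set.powersetCard.ofCard ht)
  refine ⟨g, g.2, ?_⟩
  have h1 : g • s = t := Set.powersetCard.coe_smul.symm.trans (congrArg Subtype.val hg)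
  exact h1

omit [Fintype α] in
theorem card_fixG_image {g : Equiv.Perm α} (hg : g ∈ G) (s : Finset α) :
    Nat.card (fixG G (s.image g)) = Nat.card (fixG G s) := by
  let g' : G := ⟨g, hg⟩
  refine Nat.card_congr
    { toFun := fun u => ⟨g'⁻¹ * u.1 * g', mem_fixG.mpr fun x hx => ?_⟩
      invFun := fun u => ⟨g' * u.1 * g'⁻¹, mem_fixG.mpr fun x hx => ?_⟩
      left_inv := fun u => Subtype.ext (by group)
      right_inv := fun u => Subtype.ext (by group) }
  · have := mem_fixG.mp u.2 (g x) (mem_image_of_mem g hx)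
    simp only [Subgroup.coe_mul, InvMemClass.coe_inv, Equiv.Perm.mul_apply]
    rw [Equiv.Perm.inv_eq_iff_eq]
    exact this
  · obtain ⟨y, hy, rfl⟩ := mem_image.mp hx
    have := mem_fixG.mp u.2 y hy
    simp [g', this]

theorem card_fixG_eq {j : ℕ} (h : IsPretransitive G (Set.powersetCard α j)) {s t : Finset α}
    (hs : s.card = j) (ht : t.card = j) : Nat.card (fixG G s) = Nat.card (fixG G t) := by
  obtain ⟨g, hg, rfl⟩ := exists_image_eq h hs ht
  exact (card_fixG_image hg s).symm

theorem card_fixG_of_trans {j : ℕ} (h : IsMultiplyPretransitive G α j) (hj : j ≤ Fintype.card α)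
    {s : Finset α} (hs : s.card = j) :
    Nat.card G = (Fintype.card α).descFactorial j * Nat.card (fixG G s) := by
  haveI : IsPretransitive G (Fin j ↪ α) := h
  let x : Fin j ↪ α := (s.equivFinOfCardEq hs).symm.toEmbedding.trans (Function.Embedding.subtype _)
  have h1 := Subgroup.card_mul_index (stabilizer G x)
  have h0 := @index_stabilizer_of_transitive G (Fin j ↪ α) _ _ x h
  rw [h0, Nat.card_eq_fintype_card (α := Fin j ↪ α),
    Fintype.card_embedding_eq, Fintype.card_fin] at h1
  have h2 : stabilizer G x = fixG G s := by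
    ext g
    rw [mem_fixG, mem_stabilizer_iff]
    constructor
    · intro hg a ha
      have := DFunLike.congr_fun hg (s.equivFinOfCardEq hs ⟨a, ha⟩)
      simpa [x, Function.Embedding.smul_apply, Subgroup.smul_def] using this
    · intro hg
      ext i
      exact hg _ ((s.equivFinOfCardEq hs).symm i).2
  rw [← h1, h2, mul_comm]

/-- The stabilizer of a set, counted. -/
theorem exists_setStab {k : ℕ} (h : IsPretransitive G (Set.powersetCard α k))
    {T : Finset α} (hT : T.card = k) :
    ∃ s, (Fintype.card α).choose k * s = Nat.card G ∧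
      ∀ g ∈ G, T.image g = T → orderOf g ∣ s := by
  haveI := h
  refine ⟨Nat.card (stabilizer G (Set.powersetCard.ofCard hT)), ?_, fun g hg hgT => ?_⟩
  · have h1 := Subgroup.card_mul_index (stabilizer G (Set.powersetCard.ofCard hT))
    rw [index_stabilizer_of_transitive] at h1
    rw [← h1, Set.powersetCard.card, Nat.card_eq_fintype_card (α := α), mul_comm]
  · have hm : (⟨g, hg⟩ : G) ∈ stabilizer G (Set.powersetCard.ofCard hT) := by
      rw [mem_stabilizer_iff]
      apply Subtype.ext
      exact Set.powersetCard.coe_smul.trans hgT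
    have := Subgroup.orderOf_dvd_natCard _ hm
    rwa [← Subgroup.orderOf_coe] at this

/-! ### Classes of ordered sets -/

/-- The permutations of the positions fixing the class of an ordered set. -/
def classSubgroup (G : Subgroup (Equiv.Perm α)) {m : ℕ} (x : Fin m ↪ α) :
    Subgroup (Equiv.Perm (Fin m)) where
  carrier := {σ | ∃ g ∈ G, ∀ i, g (x i) = x (σ i)}
  one_mem' := ⟨1, G.one_mem, fun i => rfl⟩
  mul_mem' := by
    rintro σ τ ⟨g, hg, h⟩ ⟨g', hg', h'⟩
    exact ⟨g * g', G.mul_mem hg hg', fun i => by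
      rw [Equiv.Perm.mul_apply, h', h, Equiv.Perm.mul_apply]⟩
  inv_mem' := by
    rintro σ ⟨g, hg, h⟩
    exact ⟨g⁻¹, G.inv_mem hg, fun i => by rw [Equiv.Perm.inv_eq_iff_eq, h]; simp⟩

omit [Fintype α] [DecidableEq α] in
theorem eq_top_of_swaps {m : ℕ} {S : Subgroup (Equiv.Perm (Fin m))}
    (h : ∀ c d, c ≠ d → Equiv.swap c d ∈ S) : S = ⊤ := by
  rw [Subgroup.eq_top_iff']
  intro π
  induction π using Equiv.Perm.swap_induction_on with
  | one => exact S.one_mem
  | swap_mul f x y hxy hf => exact S.mul_mem (h x y hxy) hf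

theorem exists_perm_map {m : ℕ} (hh : IsPretransitive G (Set.powersetCard α m))
    (x y : Fin m ↪ α) : ∃ π : Equiv.Perm (Fin m), ∃ g ∈ G, ∀ i, g (x (π i)) = y i := by
  obtain ⟨g, hg, himg⟩ := exists_image_eq hh (s := univ.image x) (t := univ.image y)
    (by rw [card_image_of_injective _ x.injective, card_univ, Fintype.card_fin])
    (by rw [card_image_of_injective _ y.injective, card_univ, Fintype.card_fin])
  have hi : ∀ i, ∃ j, g (x j) = y i := by
    intro i
    have h1 : y i ∈ univ.image y := mem_image_of_mem _ (mem_univ _)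
    rw [← himg, image_image] at h1
    simpa using h1
  choose π hπ using hi
  have hinj : Function.Injective π := fun i j h => y.injective (by rw [← hπ i, ← hπ j, h])
  exact ⟨Equiv.ofBijective π (Finite.injective_iff_bijective.mp hinj), g, hg, hπ⟩

theorem transitive_of_classes {m : ℕ} (hh : IsPretransitive G (Set.powersetCard α m))
    (x : Fin m ↪ α) (hx : ∀ c d, c ≠ d → Equiv.swap c d ∈ classSubgroup G x) :
    IsMultiplyPretransitive G α m := by
  refine isPretransitive_of_base x fun y => ?_ 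
  obtain ⟨π, g, hg, h⟩ := exists_perm_map hh x y
  have hπ : π ∈ classSubgroup G x := by rw [eq_top_of_swaps hx]; trivial
  obtain ⟨h', hh', h''⟩ := hπ
  refine ⟨⟨g * h', G.mul_mem hg hh'⟩, ?_⟩
  ext i
  change g (h' (x i)) = y i
  rw [h'', h]

theorem exists_class_count {k : ℕ} (hfree : IsFree G k)
    (hnt : ¬ IsMultiplyPretransitive G α (k - 1)) (hk : k ≤ Fintype.card α) :
    ∃ r, 2 ≤ r ∧ r * Nat.card G = (Fintype.card α).descFactorial (k - 1) := by
  classical
  have hinj : ∀ x : Fin (k - 1) ↪ α, Function.Injective (fun g : G => g • x) := by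
    intro x g g' h
    apply Subtype.ext
    refine eq_of_agree hfree g.2 g'.2 (univ.image x) (by
      rw [card_image_of_injective _ x.injective, card_univ, Fintype.card_fin]) fun a ha => ?_
    obtain ⟨i, -, rfl⟩ := mem_image.mp ha
    exact DFunLike.congr_fun h i
  have horb : ∀ x : Fin (k - 1) ↪ α, (orbit G x).ncard = Nat.card G := fun x => by
    rw [← Nat.card_coe_set_eq]
    exact Nat.card_congr (Equiv.ofInjective _ (hinj x)).symm
  obtain ⟨r, hr⟩ := dvd_card_of_orbits (G := G) (univ : Finset (Fin (k - 1) ↪ α))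
    (fun g x _ => mem_univ _) (r := Nat.card G) (fun x _ => horb x)
  rw [card_univ, Fintype.card_embedding_eq, Fintype.card_fin] at hr
  have hpos : 0 < (Fintype.card α).descFactorial (k - 1) := Nat.descFactorial_pos.mpr (by omega)
  refine ⟨r, ?_, by rw [hr, mul_comm]⟩
  by_contra hcon
  rcases (by omega : r = 0 ∨ r = 1) with rfl | rfl
  · omega
  · apply hnt
    obtain ⟨x⟩ : Nonempty (Fin (k - 1) ↪ α) :=
      Function.Embedding.nonempty_of_card_le (by rw [Fintype.card_fin]; omega)
    refine isPretransitive_of_base x fun y => ?_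
    have hbij : Function.Bijective (fun g : G => g • x) := by
      rw [Fintype.bijective_iff_injective_and_card, ← Nat.card_eq_fintype_card,
        ← Nat.card_eq_fintype_card, Nat.card_eq_fintype_card (α := Fin (k - 1) ↪ α),
        Fintype.card_embedding_eq, Fintype.card_fin, hr]
      exact ⟨hinj x, (mul_one _).symm⟩
    exact hbij.2 y

/-! ### Permutations of the positions -/

theorem exists_two_others {m : ℕ} (hm : 5 ≤ m) {c d e f : Fin m}
    (h : ({c, d, e, f} : Finset (Fin m)).card ≤ 3) :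
    ∃ a b, a ≠ b ∧ a ≠ c ∧ a ≠ d ∧ a ≠ e ∧ a ≠ f ∧ b ≠ c ∧ b ≠ d ∧ b ≠ e ∧ b ≠ f := by
  obtain ⟨a, ha, b, hb, hab⟩ := Finset.one_lt_card.mp
    (by rw [card_compl, Fintype.card_fin]; omega : 1 < ({c, d, e, f} : Finset (Fin m))ᶜ.card)
  simp only [mem_compl, mem_insert, mem_singleton, not_or] at ha hb
  exact ⟨a, b, hab, ha.1, ha.2.1, ha.2.2.1, ha.2.2.2, hb.1, hb.2.1, hb.2.2.1, hb.2.2.2⟩

theorem card_four_or_distinct {β : Type*} [DecidableEq β] {c d e f : β} (hcd : c ≠ d) (hef : e ≠ f) :
    ({c, d, e, f} : Finset β).card ≤ 3 ∨ (c ≠ e ∧ c ≠ f ∧ d ≠ e ∧ d ≠ f) := by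
  by_cases h : c = e ∨ c = f ∨ d = e ∨ d = f
  · left
    rcases h with rfl | rfl | rfl | rfl
    · exact (card_le_card (t := {c, d, f}) (by intro z hz; simp at hz ⊢; tauto)).trans card_le_three
    · exact (card_le_card (t := {c, d, e}) (by intro z hz; simp at hz ⊢; tauto)).trans card_le_three
    · exact (card_le_card (t := {c, d, f}) (by intro z hz; simp at hz ⊢; tauto)).trans card_le_three
    · exact (card_le_card (t := {c, d, e}) (by intro z hz; simp at hz ⊢; tauto)).trans card_le_three
  · right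
    simp only [not_or] at h
    exact ⟨h.1, h.2.1, h.2.2.1, h.2.2.2⟩

theorem swap_mul_mem {m : ℕ} (hm : 5 ≤ m) {S : Subgroup (Equiv.Perm (Fin m))}
    (h : ∀ c d e f, c ≠ d → e ≠ f → c ≠ e → c ≠ f → d ≠ e → d ≠ f →
      Equiv.swap c d * Equiv.swap e f ∈ S)
    {c d e f : Fin m} (hcd : c ≠ d) (hef : e ≠ f) : Equiv.swap c d * Equiv.swap e f ∈ S := by
  rcases card_four_or_distinct hcd hef with h3 | ⟨h1, h2, h3, h4⟩
  · obtain ⟨a, b, hab, hac, had, hae, haf, hbc, hbd, hbe, hbf⟩ := exists_two_others hm h3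
    have := S.mul_mem (h c d a b hcd hab hac.symm hbc.symm had.symm hbd.symm)
      (h a b e f hab hef hae haf hbe hbf)
    rwa [mul_assoc, Equiv.swap_mul_self_mul] at this
  · exact h c d e f hcd hef h1 h2 h3 h4

/-! ### Covering pairs by involutions -/

theorem pair_cover {k : ℕ} (hfree : IsFree G k) (D : Finset α) (z : α → Equiv.Perm α)
    (hzG : ∀ e ∉ D, z e ∈ G) (hz2 : ∀ e ∉ D, z e * z e = 1)
    (hzD : ∀ e ∉ D, ∀ d ∈ D, z e d ∈ D) (hagree : ∀ e ∉ D, ∀ e' ∉ D, ∀ d ∈ D, z e d = z e' d)
    (hfix : ∀ e ∉ D, z e e = e ∧ ∀ u ∉ D, z e u = u → u = e) (hcard : k - 1 ≤ D.card + 2)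
    {u y : α} (hu : u ∉ D) (hy : y ∉ D) (huy : u ≠ y) :
    ∃ e ∉ D, z e u = y ∧ z e y = u := by
  have hinv : ∀ e ∉ D, ∀ w, z e (z e w) = w := fun e he w => by
    rw [← Equiv.Perm.mul_apply, hz2 e he, Equiv.Perm.one_apply]
  have key := Finset.surj_on_of_inj_on_of_card_le (s := Dᶜ.offDiag) (t := Dᶜ.offDiag)
    (fun p _ => (p.2, z p.1 p.2)) ?_ ?_ le_rfl (u, y)
    (by simp [hu, hy, huy])
  · obtain ⟨⟨e, w⟩, hp, hval⟩ := key
    simp only [mem_offDiag, mem_compl] at hp
    simp only [Prod.mk.injEq] at hval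
    refine ⟨e, hp.1, ?_, ?_⟩
    · rw [hval.1, ← hval.2]
    · rw [hval.2, hinv e hp.1, ← hval.1]
  · rintro ⟨e, w⟩ hp
    simp only [mem_offDiag, mem_compl] at hp ⊢
    refine ⟨hp.2.1, fun hD => hp.2.1 ?_, fun he => hp.2.2 ((hfix e hp.1).2 w hp.2.1 he.symm).symm⟩
    have := hzD e hp.1 _ hD
    rwa [hinv e hp.1] at this
  · rintro ⟨e, w⟩ ⟨e', w'⟩ hp hp' hval
    simp only [mem_offDiag, mem_compl] at hp hp'
    simp only [Prod.mk.injEq] at hval
    obtain ⟨rfl, hval⟩ := hval
    have hz : z e = z e' := by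
      have hne : z e w ≠ w := fun h => hp.2.2 ((hfix e hp.1).2 w hp.2.1 h).symm
      have hzw : z e w ∉ D := fun hD => hp.2.1 (by
        have := hzD e hp.1 _ hD; rwa [hinv e hp.1] at this)
      refine eq_of_agree hfree (hzG e hp.1) (hzG e' hp'.1) (insert w (insert (z e w) D)) ?_ ?_
      · rw [card_insert_of_notMem (by simp [hne.symm, hp.2.1]), card_insert_of_notMem hzw]
        omega
      · intro a ha
        simp only [mem_insert] at ha
        rcases ha with rfl | rfl | ha
        · exact hval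
        · rw [hinv e hp.1, hval, hinv e' hp'.1]
        · exact hagree e hp.1 e' hp'.1 a ha
    have he : e = e' := (hfix e' hp'.1).2 e hp.1 (hz ▸ (hfix e hp.1).1)
    rw [he]

/-! ### The case of an involution fixing `k - 2` points -/

theorem transitive_of_even {k : ℕ} (hk : 3 ≤ k) (hkn : k ≤ Fintype.card α) (hfree : IsFree G k)
    (hh1 : IsPretransitive G (Set.powersetCard α (k - 1)))
    (heven : ∀ F : Finset α, F.card = k - 2 → 2 ∣ Nat.card (fixG G F)) :
    IsMultiplyPretransitive G α (k - 1) := by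
  classical
  have hz : ∀ F : Finset α, F.card = k - 2 → ∃ z ∈ G, z * z = 1 ∧ fixedSet z = F := by
    intro F hF
    haveI := Fact.mk Nat.prime_two
    obtain ⟨g, hg⟩ := exists_prime_orderOf_dvd_card' 2 (heven F hF)
    rw [← Subgroup.orderOf_coe, ← Subgroup.orderOf_coe] at hg
    refine ⟨g.1.1, g.1.2, ?_, ?_⟩
    · rw [← pow_two, ← hg, pow_orderOf_eq_one]
    · symm
      apply eq_of_subset_of_card_le (fun a ha => mem_fixedSet.mpr (mem_fixG.mp g.2 a ha))
      by_contra hlt
      have h1 := hfree _ g.1.2 (by omega)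
      rw [h1, orderOf_one] at hg
      omega
  obtain ⟨x⟩ : Nonempty (Fin (k - 1) ↪ α) :=
    Function.Embedding.nonempty_of_card_le (by rw [Fintype.card_fin]; omega)
  refine transitive_of_classes hh1 x fun c d hcd => ?_
  set D : Finset α := (univ \ {c, d}).image x with hD
  have hDc : D.card = k - 3 := by
    rw [hD, card_image_of_injective _ x.injective, card_sdiff_of_subset (subset_univ _), card_univ,
      Fintype.card_fin, card_pair hcd]
    omega
  choose z hzG hz2 hzF using fun e (he : e ∉ D) =>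
    hz (insert e D) (by rw [card_insert_of_notMem he, hDc]; omega)
  let z' : α → Equiv.Perm α := fun e => if he : e ∉ D then z e he else 1
  have hz' : ∀ e, ∀ he : e ∉ D, z' e = z e he := fun e he => dif_pos he
  have hfx : ∀ e, ∀ he : e ∉ D, ∀ a, z e he a = a ↔ a = e ∨ a ∈ D := fun e he a => by
    rw [← mem_fixedSet, hzF e he, mem_insert]
  have hxc : x c ∉ D := by simp [hD]
  have hxd : x d ∉ D := by simp [hD]
  obtain ⟨e, he, h1, h2⟩ := pair_cover hfree D z' (fun e he => hz' e he ▸ hzG e he)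
    (fun e he => hz' e he ▸ hz2 e he)
    (fun e he a ha => by rw [hz' e he, (hfx e he a).mpr (Or.inr ha)]; exact ha)
    (fun e he e' he' a ha => by
      rw [hz' e he, hz' e' he', (hfx e he a).mpr (Or.inr ha), (hfx e' he' a).mpr (Or.inr ha)])
    (fun e he => by
      rw [hz' e he]
      exact ⟨(hfx e he e).mpr (Or.inl rfl), fun u hu h => ((hfx e he u).mp h).resolve_right hu⟩)
    (by omega) hxc hxd (x.injective.ne hcd)
  rw [hz' e he] at h1 h2
  refine ⟨z e he, hzG e he, fun i => ?_⟩
  by_cases hic : i = c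
  · subst hic; rw [h1, Equiv.swap_apply_left]
  by_cases hid : i = d
  · subst hid; rw [h2, Equiv.swap_apply_right]
  rw [Equiv.swap_apply_of_ne_of_ne hic hid]
  exact (hfx e he _).mpr (Or.inr (mem_image_of_mem x (by simp [hic, hid])))

/-! ### Involutions when `k - 2` points are fixed by groups of odd order -/

theorem fixed_lt_of_odd {k : ℕ} (hodd : ∀ F : Finset α, F.card = k - 2 → Odd (Nat.card (fixG G F)))
    {z : Equiv.Perm α} (hz : z ∈ G) (hz2 : z * z = 1) (hz1 : z ≠ 1) :
    (fixedSet z).card < k - 2 := by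
  by_contra h
  obtain ⟨F, hFs, hFc⟩ := exists_subset_card_eq (not_lt.mp h)
  let z' : G := ⟨z, hz⟩
  have hm : z' ∈ fixG G F := mem_fixG.mpr fun a ha => mem_fixedSet.mp (hFs ha)
  have h1 := Subgroup.orderOf_dvd_natCard _ hm
  rw [← Subgroup.orderOf_coe, orderOf_eq_prime (p := 2) (by rw [pow_two]; exact hz2) hz1] at h1
  exact (Nat.not_even_iff_odd.mpr (hodd F hFc)) (even_iff_two_dvd.mpr h1)

theorem fixedSet_card_mod_two {z : Equiv.Perm α} (hz2 : z * z = 1) :
    2 ∣ Fintype.card α - (fixedSet z).card := by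
  have h := Equiv.Perm.two_dvd_card_support (σ := z) (by rw [pow_two]; exact hz2)
  have hs : z.support = (fixedSet z)ᶜ := by
    ext a; simp [Equiv.Perm.mem_support, mem_fixedSet]
  rwa [hs, card_compl] at h

theorem exists_swapping_involution {k : ℕ} (hfree : IsFree G k)
    (ht : IsMultiplyPretransitive G α (k - 2)) (hkn : k ≤ Fintype.card α)
    (hodd : ∀ F : Finset α, F.card = k - 2 → Odd (Nat.card (fixG G F)))
    {F : Finset α} (hF : F.card + 2 = k - 2) {a b : α} (ha : a ∉ F) (hb : b ∉ F) (hab : a ≠ b) :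
    ∃ z ∈ G, z * z = 1 ∧ (∀ u ∈ F, z u = u) ∧ z a = b ∧ z b = a ∧
      k - 4 ≤ (fixedSet z).card ∧ (fixedSet z).card < k - 2 := by
  classical
  let U : Finset α := insert a (insert b F)
  have hUc : U.card = k - 2 := by
    rw [card_insert_of_notMem (by simp [ha, hab]), card_insert_of_notMem hb]; omega
  obtain ⟨g, hg, hgU⟩ := exists_map ht (by omega) (ι := U) (by rw [Fintype.card_coe, hUc])
    (Function.Embedding.subtype _)
    ((Function.Embedding.subtype _).trans (Equiv.swap a b).toEmbedding)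
  have hga : g a = b := by simpa using hgU ⟨a, by simp [U]⟩
  have hgb : g b = a := by simpa using hgU ⟨b, by simp [U]⟩
  have hgF : ∀ u ∈ F, g u = u := fun u hu => by
    have := hgU ⟨u, by simp [U, hu]⟩
    simpa [Equiv.swap_apply_of_ne_of_ne (ne_of_mem_of_not_mem hu ha) (ne_of_mem_of_not_mem hu hb)]
      using this
  let g2 : G := ⟨g * g, G.mul_mem hg hg⟩
  have hg2 : g2 ∈ fixG G U := mem_fixG.mpr fun u hu => by
    change g (g u) = u
    simp only [U, mem_insert] at hu
    rcases hu with rfl | rfl | hu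
    · rw [hga, hgb]
    · rw [hgb, hga]
    · rw [hgF u hu, hgF u hu]
  set q := Nat.card (fixG G U) with hq
  obtain ⟨j, hj⟩ := hodd U hUc
  have hpow : (g * g) ^ q = 1 := by
    have := congrArg (fun v : fixG G U => v.1.1) (pow_card_eq_one' (x := (⟨g2, hg2⟩ : fixG G U)))
    exact this
  have hza : (g ^ q) a = b := by
    rw [← hq] at hj
    rw [hj, pow_succ', pow_mul, pow_two, Equiv.Perm.mul_apply]
    have h2 : ∀ i, ((g * g) ^ i) a = a := fun i =>
      Equiv.Perm.pow_apply_eq_self_of_apply_eq_self (by rw [Equiv.Perm.mul_apply, hga, hgb]) i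
    rw [h2, hga]
  have hzb : (g ^ q) b = a := by
    rw [← hq] at hj
    rw [hj, pow_succ', pow_mul, pow_two, Equiv.Perm.mul_apply]
    have h2 : ∀ i, ((g * g) ^ i) b = b := fun i =>
      Equiv.Perm.pow_apply_eq_self_of_apply_eq_self (by rw [Equiv.Perm.mul_apply, hgb, hga]) i
    rw [h2, hgb]
  have hz2 : g ^ q * g ^ q = 1 := by
    rw [← (Commute.refl g).mul_pow]; exact hpow
  have hzF : ∀ u ∈ F, (g ^ q) u = u := fun u hu =>
    Equiv.Perm.pow_apply_eq_self_of_apply_eq_self (hgF u hu) q
  have hz1 : g ^ q ≠ 1 := fun h => hab (by rw [← hza, h, Equiv.Perm.one_apply])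
  exact ⟨g ^ q, G.pow_mem hg q, hz2, hzF, hza, hzb,
    (by omega : k - 4 ≤ F.card).trans (card_le_card fun u hu => mem_fixedSet.mpr (hzF u hu)),
    fixed_lt_of_odd hodd (G.pow_mem hg q) hz2 hz1⟩

/-! ### `n - k` odd -/

theorem rel_of_fixed_by_swap {k : ℕ} (hk : 6 ≤ k) (hkn : k ≤ Fintype.card α)
    (hfree : IsFree G k) (ht : IsMultiplyPretransitive G α (k - 2))
    (hodd : ∀ F : Finset α, F.card = k - 2 → Odd (Nat.card (fixG G F)))
    (hpar : ¬ 2 ∣ Fintype.card α - k)
    {x y : Fin (k - 1) ↪ α} {c d : Fin (k - 1)} (hcd : c ≠ d)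
    (hx : Equiv.swap c d ∈ classSubgroup G x) (hy : Equiv.swap c d ∈ classSubgroup G y) :
    ∃ g ∈ G, ∀ i, g (y i) = x i := by
  classical
  obtain ⟨p, -, hp⟩ := exists_mem_notMem_of_card_lt_card (s := ({c, d} : Finset (Fin (k - 1))))
    (t := univ) (by rw [card_univ, Fintype.card_fin, card_pair hcd]; omega)
  simp only [mem_insert, mem_singleton, not_or] at hp
  let ι := {i : Fin (k - 1) // i ≠ p}
  have hι : Fintype.card ι = k - 2 := by
    rw [Fintype.card_subtype_compl, Fintype.card_fin, Fintype.card_subtype_eq]; omega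
  obtain ⟨h, hh, hyx⟩ := exists_map ht (by omega) (ι := ι) hι.le
    ((Function.Embedding.subtype _).trans y) ((Function.Embedding.subtype _).trans x)
  have hyx' : ∀ i, i ≠ p → h (y i) = x i := fun i hi => hyx ⟨i, hi⟩
  obtain ⟨g, hg, hgx⟩ := hx
  obtain ⟨g₀, hg₀, hgy⟩ := hy
  let y' : Fin (k - 1) → α := fun i => h (y i)
  set g' := h * g₀ * h⁻¹ with hg'def
  have hg' : g' ∈ G := G.mul_mem (G.mul_mem hh hg₀) (G.inv_mem hh)
  have hgy' : ∀ i, g' (h (y i)) = h (y (Equiv.swap c d i)) := fun i => by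
    simp [g', hgy]
  have hswap : ∀ i, Equiv.swap c d (Equiv.swap c d i) = i := Equiv.swap_apply_self c d
  have hsp : Equiv.swap c d p = p := Equiv.swap_apply_of_ne_of_ne hp.1 hp.2
  have himx : (univ.image x).card = k - 1 := by
    rw [card_image_of_injective _ x.injective, card_univ, Fintype.card_fin]
  have himy : (univ.image fun i => h (y i)).card = k - 1 := by
    rw [card_image_of_injective _ (fun i j e => y.injective (h.injective e)), card_univ, Fintype.card_fin]
  have hg2 : g * g = 1 := eq_one_of_fixes hfree (G.mul_mem hg hg) (univ.image x) himx.ge fun a ha => by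
    obtain ⟨i, -, rfl⟩ := mem_image.mp ha
    rw [Equiv.Perm.mul_apply, hgx, hgx, hswap]
  have hg'2 : g' * g' = 1 := eq_one_of_fixes hfree (G.mul_mem hg' hg') _ himy.ge fun a ha => by
    obtain ⟨i, -, rfl⟩ := mem_image.mp ha
    rw [Equiv.Perm.mul_apply, hgy', hgy', hswap]
  have hg1 : g ≠ 1 := fun e => hcd (x.injective (by
    have := hgx c
    rwa [e, Equiv.Perm.one_apply, Equiv.swap_apply_left] at this))
  -- the fixed points of `g` are the points of `x` away from `c` and `d`
  have hfixg : fixedSet g = (univ \ {c, d}).image x := by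
    symm
    refine eq_of_subset_of_card_le (fun a ha => ?_) ?_
    · obtain ⟨i, hi, rfl⟩ := mem_image.mp ha
      simp only [mem_sdiff, mem_univ, true_and, mem_insert, mem_singleton, not_or] at hi
      rw [mem_fixedSet, hgx, Equiv.swap_apply_of_ne_of_ne hi.1 hi.2]
    · rw [card_image_of_injective _ x.injective, card_sdiff_of_subset (subset_univ _), card_univ,
        Fintype.card_fin, card_pair hcd]
      have h1 := fixed_lt_of_odd hodd hg hg2 hg1
      omega
  set U := (univ.filter fun i => i ≠ p).image x with hU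
  have hUc : U.card = k - 2 := by
    rw [hU, card_image_of_injective _ x.injective, filter_ne', card_erase_of_mem (mem_univ _),
      card_univ, Fintype.card_fin]
    omega
  have hgg'U : ∀ a ∈ U, (g * g') a = a := by
    intro a ha
    obtain ⟨i, hi, rfl⟩ := mem_image.mp ha
    have hi' : i ≠ p := (mem_filter.mp hi).2
    have hsi : Equiv.swap c d i ≠ p := fun e => hi' (by rw [← hswap i, e, hsp])
    rw [Equiv.Perm.mul_apply, ← hyx' i hi', hgy', hyx' _ hsi, hgx, hswap, hyx' i hi']
  have hm : (⟨g * g', G.mul_mem hg hg'⟩ : G) ∈ fixG G U := mem_fixG.mpr hgg'U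
  obtain ⟨j, hj⟩ := hodd U hUc
  set u := g * g' with hu
  set h₁ := u ^ (j + 1) with hh₁
  have hupow : u ^ (2 * j + 1) = 1 := by
    rw [← hj]
    exact congrArg (fun v : fixG G U => v.1.1) (pow_card_eq_one' (x := (⟨_, hm⟩ : fixG G U)))
  have hh₁sq : h₁ * h₁ = u := by
    rw [hh₁, ← pow_add, show j + 1 + (j + 1) = (2 * j + 1) + 1 by omega, pow_succ, hupow, one_mul]
  have hginv : g⁻¹ = g := inv_eq_of_mul_eq_one_right hg2
  have hconj : g * h₁ * g = h₁⁻¹ := by
    have h1 : g * u * g⁻¹ = u⁻¹ := by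
      rw [hu, mul_inv_rev, hginv, inv_eq_of_mul_eq_one_right hg'2, ← mul_assoc, hg2, one_mul]
    calc g * h₁ * g = g * h₁ * g⁻¹ := by rw [hginv]
      _ = (g * u * g⁻¹) ^ (j + 1) := (conj_pow).symm
      _ = h₁⁻¹ := by rw [h1, inv_pow]
  have hg'eq : g' = h₁⁻¹ * g * h₁ := by
    have h1 : g' = g * u := by rw [hu, ← mul_assoc, hg2, one_mul]
    rw [h1, ← hh₁sq, ← hconj]
    calc g * (h₁ * h₁) = g * h₁ * (g * g) * h₁ := by rw [hg2, mul_one, mul_assoc]
      _ = g * h₁ * g * g * h₁ := by group
  have hh₁G : h₁ ∈ G := G.pow_mem (G.mul_mem hg hg') _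
  have hh₁U : ∀ a ∈ U, h₁ a = a := fun a ha =>
    Equiv.Perm.pow_apply_eq_self_of_apply_eq_self (hgg'U a ha) _
  have hp' : g (h₁ (h (y p))) = h₁ (h (y p)) := by
    have := hgy' p
    rw [hsp, hg'eq, Equiv.Perm.mul_apply, Equiv.Perm.mul_apply, Equiv.Perm.inv_eq_iff_eq] at this
    exact this
  refine ⟨h₁ * h, G.mul_mem hh₁G hh, fun i => ?_⟩
  rw [Equiv.Perm.mul_apply]
  by_cases hi : i = p
  · subst hi
    rw [← mem_fixedSet, hfixg] at hp'
    obtain ⟨i', -, hii⟩ := mem_image.mp hp'
    by_cases hi' : i' = i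
    · rw [← hii, hi']
    · exfalso
      have hU' : x i' ∈ U := mem_image_of_mem x (by simp [hi'])
      have h2 : h₁ (h (y i')) = h₁ (h (y i)) := by rw [hyx' i' hi', hh₁U _ hU', hii]
      exact hi' (y.injective (h.injective (h₁.injective h2)))
  · rw [hyx' i hi]
    exact hh₁U _ (mem_image_of_mem x (by simp [hi]))

theorem transitive_of_odd_parity {k : ℕ} (hk : 6 ≤ k) (hkn : k ≤ Fintype.card α)
    (hfree : IsFree G k) (hh1 : IsPretransitive G (Set.powersetCard α (k - 1)))
    (ht : IsMultiplyPretransitive G α (k - 2))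
    (hodd : ∀ F : Finset α, F.card = k - 2 → Odd (Nat.card (fixG G F)))
    (hpar : ¬ 2 ∣ Fintype.card α - k) : IsMultiplyPretransitive G α (k - 1) := by
  classical
  -- an involution fixing `k - 3` points
  obtain ⟨F, -, hF⟩ := exists_subset_card_eq (s := (univ : Finset α)) (n := k - 4)
    (by rw [card_univ]; omega)
  obtain ⟨a, ha, b, hb, hab⟩ := one_lt_card.mp
    (by rw [card_compl, hF]; omega : 1 < Fᶜ.card)
  rw [mem_compl] at ha hb
  obtain ⟨z, hzG, hz2, -, hza, hzb, hlo, hhi⟩ :=
    exists_swapping_involution hfree ht hkn hodd (by omega : F.card + 2 = k - 2) ha hb hab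
  have hfc : (fixedSet z).card = k - 3 := by
    have h1 := fixedSet_card_mod_two hz2
    omega
  have haf : a ∉ fixedSet z := by rw [mem_fixedSet, hza]; exact hab.symm
  have hbf : b ∉ fixedSet z := by rw [mem_fixedSet, hzb]; exact hab
  have hWc : (insert a (insert b (fixedSet z))).card = k - 1 := by
    rw [card_insert_of_notMem (by simp [haf, hab]), card_insert_of_notMem hbf, hfc]; omega
  let x : Fin (k - 1) ↪ α :=
    (equivFinOfCardEq hWc).symm.toEmbedding.trans (Function.Embedding.subtype _)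
  have hxW : ∀ w ∈ insert a (insert b (fixedSet z)), ∃ i, x i = w := fun w hw =>
    ⟨equivFinOfCardEq hWc ⟨w, hw⟩, by simp [x]⟩
  obtain ⟨c, hc⟩ := hxW a (mem_insert_self _ _)
  obtain ⟨d, hd⟩ := hxW b (mem_insert_of_mem (mem_insert_self _ _))
  have hcd : c ≠ d := fun e => hab (by rw [← hc, ← hd, e])
  have hσ : Equiv.swap c d ∈ classSubgroup G x := by
    refine ⟨z, hzG, fun i => ?_⟩
    rw [← x.injective.swap_apply, hc, hd]
    have hi : x i ∈ insert a (insert b (fixedSet z)) := ((equivFinOfCardEq hWc).symm i).2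
    simp only [mem_insert] at hi
    rcases hi with h | h | h
    · rw [h, hza, Equiv.swap_apply_left]
    · rw [h, hzb, Equiv.swap_apply_right]
    · rw [Equiv.swap_apply_of_ne_of_ne (ne_of_mem_of_not_mem h haf) (ne_of_mem_of_not_mem h hbf)]
      exact mem_fixedSet.mp h
  -- transpositions disjoint from one fixing the class fix it
  have hdisj : ∀ c d e f, c ≠ d → c ≠ e → c ≠ f → d ≠ e → d ≠ f →
      Equiv.swap c d ∈ classSubgroup G x → Equiv.swap e f ∈ classSubgroup G x := by
    intro c d e f hcd hce hcf hde hdf hσ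
    have hcomm : ∀ i, Equiv.swap e f (Equiv.swap c d i) = Equiv.swap c d (Equiv.swap e f i) := by
      intro i
      rw [← (Equiv.swap e f).injective.swap_apply c d i]
      rw [Equiv.swap_apply_of_ne_of_ne hce hcf, Equiv.swap_apply_of_ne_of_ne hde hdf]
    have hy : Equiv.swap c d ∈ classSubgroup G ((Equiv.swap e f).toEmbedding.trans x) := by
      obtain ⟨g, hg, hgx⟩ := hσ
      refine ⟨g, hg, fun i => ?_⟩
      change g (x (Equiv.swap e f i)) = x (Equiv.swap e f (Equiv.swap c d i))
      rw [hgx, hcomm]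
    obtain ⟨g, hg, hgy⟩ := rel_of_fixed_by_swap hk hkn hfree ht hodd hpar hcd hy hσ
    exact ⟨g, hg, hgy⟩
  refine transitive_of_classes hh1 x fun e f hef => ?_
  rcases card_four_or_distinct hcd hef with h3 | ⟨h1, h2, h3, h4⟩
  · obtain ⟨u, v, huv, huc, hud, hue, huf, hvc, hvd, hve, hvf⟩ := exists_two_others (by omega) h3
    exact hdisj u v e f huv hue huf hve hvf (hdisj c d u v hcd huc.symm hvc.symm hud.symm hvd.symm hσ)
  · exact hdisj c d e f hcd h1 h2 h3 h4 hσ

/-! ### `n - k` even -/

theorem double_swap_mem {k : ℕ} (hk : 6 ≤ k) (hkn : k ≤ Fintype.card α) (hfree : IsFree G k)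
    (ht : IsMultiplyPretransitive G α (k - 2))
    (hodd : ∀ F : Finset α, F.card = k - 2 → Odd (Nat.card (fixG G F)))
    (hpar : 2 ∣ Fintype.card α - k) (x : Fin (k - 1) ↪ α) {c d e f : Fin (k - 1)}
    (hcd : c ≠ d) (hef : e ≠ f) (hce : c ≠ e) (hcf : c ≠ f) (hde : d ≠ e) (hdf : d ≠ f) :
    Equiv.swap c d * Equiv.swap e f ∈ classSubgroup G x := by
  classical
  set F' : Finset α := (univ \ {c, d, e, f}).image x with hF'
  have hF'c : F'.card = k - 5 := by
    rw [hF', card_image_of_injective _ x.injective, card_sdiff_of_subset (subset_univ _), card_univ,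
      Fintype.card_fin]
    have : ({c, d, e, f} : Finset (Fin (k - 1))).card = 4 := by
      rw [card_insert_of_notMem (by simp [hcd, hce, hcf]),
        card_insert_of_notMem (by simp [hde, hdf]), card_pair hef]
    omega
  have hnF : ∀ i, i ∈ ({c, d, e, f} : Finset (Fin (k - 1))) → x i ∉ F' := fun i hi h => by
    obtain ⟨j, hj, hji⟩ := mem_image.mp h
    exact (mem_sdiff.mp hj).2 (x.injective hji ▸ hi)
  set D : Finset α := insert (x c) (insert (x d) F') with hD
  have hDc : D.card = k - 3 := by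
    rw [hD, card_insert_of_notMem (by simp [hnF c (by simp), hcd]),
      card_insert_of_notMem (hnF d (by simp)), hF'c]
    omega
  have hmemD : ∀ w, w ∈ D ↔ w = x c ∨ w = x d ∨ w ∈ F' := fun w => by simp [hD]
  have hz : ∀ w ∉ D, ∃ z ∈ G, z * z = 1 ∧ z w = w ∧ (∀ u ∈ F', z u = u) ∧ z (x c) = x d ∧
      z (x d) = x c ∧ ∀ u ∉ D, z u = u → u = w := by
    intro w hw
    rw [hmemD, not_or, not_or] at hw
    obtain ⟨z, hzG, hz2, hzF, hza, hzb, hlo, hhi⟩ := exists_swapping_involution hfree ht hkn hodd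
      (by rw [card_insert_of_notMem hw.2.2, hF'c]; omega : (insert w F').card + 2 = k - 2)
      (a := x c) (b := x d) (by simp [Ne.symm hw.1, hnF c (by simp)])
      (by simp [Ne.symm hw.2.1, hnF d (by simp)]) (x.injective.ne hcd)
    have hfs : fixedSet z = insert w F' := by
      have h1 := fixedSet_card_mod_two hz2
      refine (eq_of_subset_of_card_le (fun u hu => mem_fixedSet.mpr (hzF u hu)) ?_).symm
      rw [card_insert_of_notMem hw.2.2, hF'c]
      omega
    refine ⟨z, hzG, hz2, hzF w (mem_insert_self _ _), fun u hu => hzF u (mem_insert_of_mem hu),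
      hza, hzb, fun u hu hu' => ?_⟩
    rw [← mem_fixedSet, hfs, mem_insert] at hu'
    exact hu'.resolve_right fun h => hu ((hmemD u).mpr (Or.inr (Or.inr h)))
  choose z hzG hz2 hzw hzF hzc hzd hzu using hz
  let z' : α → Equiv.Perm α := fun w => if hw : w ∉ D then z w hw else 1
  have hz' : ∀ w, ∀ hw : w ∉ D, z' w = z w hw := fun w hw => dif_pos hw
  have hzD : ∀ w, ∀ hw : w ∉ D, ∀ u ∈ D, z w hw u = Equiv.swap (x c) (x d) u := by
    intro w hw u hu
    rcases (hmemD u).mp hu with rfl | rfl | hu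
    · rw [hzc, Equiv.swap_apply_left]
    · rw [hzd, Equiv.swap_apply_right]
    · rw [hzF w hw u hu, Equiv.swap_apply_of_ne_of_ne (ne_of_mem_of_not_mem hu (hnF c (by simp)))
        (ne_of_mem_of_not_mem hu (hnF d (by simp)))]
  have hxe : x e ∉ D := by simp [hD, hnF e, hce.symm, hde.symm]
  have hxf : x f ∉ D := by simp [hD, hnF f, hcf.symm, hdf.symm]
  obtain ⟨w, hw, h1, h2⟩ := pair_cover hfree D z' (fun w hw => hz' w hw ▸ hzG w hw)
    (fun w hw => hz' w hw ▸ hz2 w hw)
    (fun w hw u hu => by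
      rw [hz' w hw, hzD w hw u hu]
      rcases (hmemD u).mp hu with rfl | rfl | hu'
      · rw [Equiv.swap_apply_left]; simp [hD]
      · rw [Equiv.swap_apply_right]; simp [hD]
      · rw [Equiv.swap_apply_of_ne_of_ne (ne_of_mem_of_not_mem hu' (hnF c (by simp)))
          (ne_of_mem_of_not_mem hu' (hnF d (by simp)))]
        exact hu)
    (fun w hw w' hw' u hu => by rw [hz' w hw, hz' w' hw', hzD w hw u hu, hzD w' hw' u hu])
    (fun w hw => by rw [hz' w hw]; exact ⟨hzw w hw, hzu w hw⟩)
    (by omega) hxe hxf (x.injective.ne hef)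
  rw [hz' w hw] at h1 h2
  refine ⟨z w hw, hzG w hw, fun i => ?_⟩
  rw [Equiv.Perm.mul_apply]
  by_cases hic : i = c
  · subst hic; rw [Equiv.swap_apply_of_ne_of_ne hce hcf, Equiv.swap_apply_left, hzc]
  by_cases hid : i = d
  · subst hid; rw [Equiv.swap_apply_of_ne_of_ne hde hdf, Equiv.swap_apply_right, hzd]
  by_cases hie : i = e
  · subst hie; rw [Equiv.swap_apply_left, Equiv.swap_apply_of_ne_of_ne hcf.symm hdf.symm, h1]
  by_cases hif : i = f
  · subst hif; rw [Equiv.swap_apply_right, Equiv.swap_apply_of_ne_of_ne hce.symm hde.symm, h2]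
  rw [Equiv.swap_apply_of_ne_of_ne hie hif, Equiv.swap_apply_of_ne_of_ne hic hid]
  exact hzF w hw _ (mem_image_of_mem x (by simp [hic, hid, hie, hif]))

theorem card_le_two_classes {m : ℕ} (hm : 5 ≤ m) (hh : IsPretransitive G (Set.powersetCard α m))
    (x : Fin m ↪ α)
    (hx : ∀ c d e f : Fin m, c ≠ d → e ≠ f → c ≠ e → c ≠ f → d ≠ e → d ≠ f →
      Equiv.swap c d * Equiv.swap e f ∈ classSubgroup G x) :
    (Fintype.card α).descFactorial m ≤ 2 * Nat.card G := by
  classical
  let c : Fin m := ⟨0, by omega⟩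
  let d : Fin m := ⟨1, by omega⟩
  have hcd : c ≠ d := by simp [c, d, Fin.ext_iff]
  set τ := Equiv.swap c d
  have hall : ∀ π : Equiv.Perm (Fin m), π ∈ classSubgroup G x ∨ τ * π ∈ classSubgroup G x := by
    intro π
    induction π using Equiv.Perm.swap_induction_on with
    | one => exact Or.inl (one_mem _)
    | swap_mul π a b hab h =>
      rcases h with h | h
      · right
        rw [← mul_assoc]
        exact mul_mem (swap_mul_mem hm hx hcd hab) h
      · left
        have := mul_mem (swap_mul_mem hm hx hab hcd) h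
        rwa [mul_assoc, Equiv.swap_mul_self_mul] at this
  let φ : G ⊕ G → (Fin m ↪ α) := fun s =>
    Sum.elim (fun g => g • x) (fun g => g • τ.toEmbedding.trans x) s
  have hsurj : Function.Surjective φ := by
    intro y
    obtain ⟨π, g, hg, hgy⟩ := exists_perm_map hh x y
    rcases hall π⁻¹ with h | h
    · obtain ⟨h', hh', hπ⟩ := inv_mem h
      refine ⟨Sum.inl ⟨g * h', G.mul_mem hg hh'⟩, ?_⟩
      ext i
      change g (h' (x i)) = y i
      rw [hπ, inv_inv, hgy]
    · obtain ⟨u, hu, huτ⟩ := inv_mem h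
      refine ⟨Sum.inr ⟨g * u, G.mul_mem hg hu⟩, ?_⟩
      ext i
      change g (u (x (τ i))) = y i
      rw [huτ]
      simp [τ, hgy]
  have := Nat.card_le_card_of_surjective φ hsurj
  rw [Nat.card_sum, Nat.card_eq_fintype_card (α := Fin m ↪ α), Fintype.card_embedding_eq,
    Fintype.card_fin] at this
  omega

/-! ### `k ≥ 7`: a product of three transpositions -/

theorem transitive_of_triple {k : ℕ} (hk : 7 ≤ k) (hkn : k + 2 ≤ Fintype.card α) (hfree : IsFree G k)
    (hh1 : IsPretransitive G (Set.powersetCard α (k - 1)))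
    (ht : IsMultiplyPretransitive G α (k - 2))
    (hodd : ∀ F : Finset α, F.card = k - 2 → Odd (Nat.card (fixG G F)))
    (hpar : 2 ∣ Fintype.card α - k) : IsMultiplyPretransitive G α (k - 1) := by
  classical
  obtain ⟨F, -, hF⟩ := exists_subset_card_eq (s := (univ : Finset α)) (n := k - 4)
    (by rw [card_univ]; omega)
  obtain ⟨a, ha, b, hb, hab⟩ := one_lt_card.mp
    (by rw [card_compl, hF]; omega : 1 < Fᶜ.card)
  rw [mem_compl] at ha hb
  obtain ⟨z, hzG, hz2, -, hza, hzb, hlo, hhi⟩ :=
    exists_swapping_involution hfree ht (by omega) hodd (by omega : F.card + 2 = k - 2) ha hb hab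
  have hfc : (fixedSet z).card = k - 4 := by
    have h1 := fixedSet_card_mod_two hz2
    omega
  have hinv : ∀ w, z (z w) = w := fun w => by
    rw [← Equiv.Perm.mul_apply, hz2, Equiv.Perm.one_apply]
  have hmoved : ∀ U : Finset α, U.card ≤ 4 → ∃ w, z w ≠ w ∧ w ∉ U := by
    intro U hU
    obtain ⟨w, -, hw⟩ := exists_mem_notMem_of_card_lt_card (s := fixedSet z ∪ U) (t := univ)
      (lt_of_le_of_lt (card_union_le _ _) (by rw [card_univ]; omega))
    rw [mem_union, not_or, mem_fixedSet] at hw
    exact ⟨w, hw.1, hw.2⟩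
  obtain ⟨c, hc, hcU⟩ := hmoved {a, b} (card_le_two.trans (by omega))
  obtain ⟨e, he, heU⟩ := hmoved {a, b, c, z c} card_le_four
  simp only [mem_insert, mem_singleton, not_or] at hcU heU
  have hca : z c ≠ a := fun h => hcU.2 (by rw [← hza, ← h, hinv])
  have hcb : z c ≠ b := fun h => hcU.1 (by rw [← hzb, ← h, hinv])
  have hea : z e ≠ a := fun h => heU.2.1 (by rw [← hza, ← h, hinv])
  have heb : z e ≠ b := fun h => heU.1 (by rw [← hzb, ← h, hinv])
  have hec : z e ≠ c := fun h => heU.2.2.2 (by rw [← h, hinv])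
  have hezc : z e ≠ z c := fun h => heU.2.2.1 (z.injective h)
  obtain ⟨T, hTs, hT⟩ := exists_subset_card_eq (s := fixedSet z) (n := k - 7) (by omega)
  have haf : a ∉ T := fun h => hab (by rw [← hza]; exact (mem_fixedSet.mp (hTs h)).symm)
  have hbf : b ∉ T := fun h => hab (by rw [← hzb]; exact mem_fixedSet.mp (hTs h))
  have hcf : c ∉ T := fun h => hc (mem_fixedSet.mp (hTs h))
  have hef : e ∉ T := fun h => he (mem_fixedSet.mp (hTs h))
  have hzcf : z c ∉ T := fun h => hc (z.injective (by rw [mem_fixedSet.mp (hTs h)]))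
  have hzef : z e ∉ T := fun h => he (z.injective (by rw [mem_fixedSet.mp (hTs h)]))
  have hWc : (insert a (insert b (insert c (insert (z c) (insert e (insert (z e) T)))))).card
      = k - 1 := by
    rw [card_insert_of_notMem (by simp [hab, Ne.symm hcU.1, hca.symm, Ne.symm heU.1, hea.symm, haf]),
      card_insert_of_notMem (by simp [Ne.symm hcU.2, hcb.symm, Ne.symm heU.2.1, heb.symm, hbf]),
      card_insert_of_notMem (by simp [hc.symm, Ne.symm heU.2.2.1, hec.symm, hcf]),
      card_insert_of_notMem (by simp [Ne.symm heU.2.2.2, hezc.symm, hzcf]),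
      card_insert_of_notMem (by simp [he.symm, hef]), card_insert_of_notMem hzef, hT]
    omega
  let x : Fin (k - 1) ↪ α :=
    (equivFinOfCardEq hWc).symm.toEmbedding.trans (Function.Embedding.subtype _)
  have hxW : ∀ w ∈ insert a (insert b (insert c (insert (z c) (insert e (insert (z e) T))))),
      ∃ i, x i = w := fun w hw => ⟨equivFinOfCardEq hWc ⟨w, hw⟩, by simp [x]⟩
  obtain ⟨i₁, h1⟩ := hxW a (by simp)
  obtain ⟨i₂, h2⟩ := hxW b (by simp)
  obtain ⟨i₃, h3⟩ := hxW c (by simp)
  obtain ⟨i₄, h4⟩ := hxW (z c) (by simp)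
  obtain ⟨i₅, h5⟩ := hxW e (by simp)
  obtain ⟨i₆, h6⟩ := hxW (z e) (by simp)
  have hne : ∀ {i j : Fin (k - 1)} {v w : α}, x i = v → x j = w → v ≠ w → i ≠ j :=
    fun hi hj h e => h (by rw [← hi, ← hj, e])
  have h34 : i₃ ≠ i₄ := hne h3 h4 hc.symm
  have h56 : i₅ ≠ i₆ := hne h5 h6 he.symm
  have h12 : i₁ ≠ i₂ := hne h1 h2 hab
  have htriple : Equiv.swap i₁ i₂ * (Equiv.swap i₃ i₄ * Equiv.swap i₅ i₆) ∈ classSubgroup G x := by
    refine ⟨z, hzG, fun i => ?_⟩
    rw [Equiv.Perm.mul_apply, Equiv.Perm.mul_apply, ← x.injective.swap_apply,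
      ← x.injective.swap_apply, ← x.injective.swap_apply, h1, h2, h3, h4, h5, h6]
    have hi : x i ∈ insert a (insert b (insert c (insert (z c) (insert e (insert (z e) T))))) :=
      ((equivFinOfCardEq hWc).symm i).2
    simp only [mem_insert] at hi
    rcases hi with h | h | h | h | h | h | h
    · rw [h, Equiv.swap_apply_of_ne_of_ne (Ne.symm heU.1) hea.symm,
        Equiv.swap_apply_of_ne_of_ne (Ne.symm hcU.1) hca.symm, Equiv.swap_apply_left, hza]
    · rw [h, Equiv.swap_apply_of_ne_of_ne (Ne.symm heU.2.1) heb.symm,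
        Equiv.swap_apply_of_ne_of_ne (Ne.symm hcU.2) hcb.symm, Equiv.swap_apply_right, hzb]
    · rw [h, Equiv.swap_apply_of_ne_of_ne (Ne.symm heU.2.2.1) hec.symm, Equiv.swap_apply_left,
        Equiv.swap_apply_of_ne_of_ne hca hcb]
    · rw [h, Equiv.swap_apply_of_ne_of_ne (Ne.symm heU.2.2.2) hezc.symm, Equiv.swap_apply_right,
        Equiv.swap_apply_of_ne_of_ne hcU.1 hcU.2, hinv]
    · rw [h, Equiv.swap_apply_left, Equiv.swap_apply_of_ne_of_ne hec hezc,
        Equiv.swap_apply_of_ne_of_ne hea heb]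
    · rw [h, Equiv.swap_apply_right, Equiv.swap_apply_of_ne_of_ne heU.2.2.1 heU.2.2.2,
        Equiv.swap_apply_of_ne_of_ne heU.1 heU.2.1, hinv]
    · rw [Equiv.swap_apply_of_ne_of_ne (ne_of_mem_of_not_mem h hef) (ne_of_mem_of_not_mem h hzef),
        Equiv.swap_apply_of_ne_of_ne (ne_of_mem_of_not_mem h hcf) (ne_of_mem_of_not_mem h hzcf),
        Equiv.swap_apply_of_ne_of_ne (ne_of_mem_of_not_mem h haf) (ne_of_mem_of_not_mem h hbf)]
      exact mem_fixedSet.mp (hTs h)
  have hdd : ∀ {c d e f : Fin (k - 1)}, c ≠ d → e ≠ f →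
      Equiv.swap c d * Equiv.swap e f ∈ classSubgroup G x := fun hcd hef =>
    swap_mul_mem (by omega) (fun c d e f hcd hef hce hcf hde hdf =>
      double_swap_mem (by omega) (by omega) hfree ht hodd hpar x hcd hef hce hcf hde hdf) hcd hef
  have hone : Equiv.swap i₁ i₂ ∈ classSubgroup G x := by
    have := mul_mem htriple (hdd h56 h34)
    simpa [mul_assoc, Equiv.swap_mul_self_mul] using this
  refine transitive_of_classes hh1 x fun c d hcd => ?_
  have := mul_mem (hdd hcd h12) hone
  rwa [mul_assoc, Equiv.swap_mul_self, mul_one] at this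

/-! ### Small `k` -/

theorem exists_two_pairs {z : Equiv.Perm α} (hz2 : z * z = 1)
    (hf : (fixedSet z).card + 2 < Fintype.card α) :
    ∃ T : Finset α, T.card = 4 ∧ T.image z = T ∧ ∀ c, z c = c → c ∉ T := by
  classical
  have hinv : ∀ w, z (z w) = w := fun w => by
    rw [← Equiv.Perm.mul_apply, hz2, Equiv.Perm.one_apply]
  obtain ⟨x, -, hx⟩ := exists_mem_notMem_of_card_lt_card (s := fixedSet z) (t := univ)
    (by rw [card_univ]; omega)
  obtain ⟨y, -, hy⟩ := exists_mem_notMem_of_card_lt_card (s := fixedSet z ∪ {x, z x}) (t := univ)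
    (lt_of_le_of_lt (card_union_le _ _) (lt_of_le_of_lt (Nat.add_le_add_left card_le_two _)
      (by rw [card_univ]; omega)))
  rw [mem_fixedSet] at hx
  simp only [mem_union, mem_fixedSet, mem_insert, mem_singleton, not_or] at hy
  have hzyx : z y ≠ x := fun h => hy.2.2 (by rw [← h, hinv])
  have hzyzx : z y ≠ z x := fun h => hy.2.1 (z.injective h)
  refine ⟨{x, z x, y, z y}, ?_, ?_, ?_⟩
  · rw [card_insert_of_notMem (by simp [Ne.symm hx, Ne.symm hy.2.1, hzyx.symm]),
      card_insert_of_notMem (by simp [Ne.symm hy.2.2, hzyzx.symm]), card_pair (Ne.symm hy.1)]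
  · ext w
    simp only [image_insert, image_singleton, hinv, mem_insert, mem_singleton]
    tauto
  · intro c hc hcT
    simp only [mem_insert, mem_singleton] at hcT
    rcases hcT with rfl | rfl | rfl | rfl
    · exact hx hc
    · exact hx (z.injective hc)
    · exact hy.1 hc
    · exact hy.1 (z.injective hc)

theorem exists_two_triples {g : Equiv.Perm α} (hg3 : g ^ 3 = 1)
    (hf : (fixedSet g).card + 3 < Fintype.card α) :
    ∃ T : Finset α, T.card = 6 ∧ T.image g = T := by
  classical
  have hinv : ∀ w, g (g (g w)) = w := fun w => by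
    have := congrArg (fun p : Equiv.Perm α => p w) hg3
    simpa [pow_succ, Equiv.Perm.mul_apply] using this
  obtain ⟨x, -, hx⟩ := exists_mem_notMem_of_card_lt_card (s := fixedSet g) (t := univ)
    (by rw [card_univ]; omega)
  obtain ⟨y, -, hy⟩ := exists_mem_notMem_of_card_lt_card (s := fixedSet g ∪ {x, g x, g (g x)})
    (t := univ) (lt_of_le_of_lt (card_union_le _ _)
      (lt_of_le_of_lt (Nat.add_le_add_left card_le_three _) (by rw [card_univ]; omega)))
  rw [mem_fixedSet] at hx
  simp only [mem_union, mem_fixedSet, mem_insert, mem_singleton, not_or] at hy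
  obtain ⟨hy0, hy1, hy2, hy3⟩ := hy
  have hxx : g (g x) ≠ x := fun h => hx (by conv_rhs => rw [← hinv x, h])
  have hyy : g (g y) ≠ y := fun h => hy0 (by conv_rhs => rw [← hinv y, h])
  have a1 : g y ≠ x := fun h => hy3 (by rw [← h, hinv])
  have a2 : g y ≠ g x := fun h => hy1 (g.injective h)
  have a3 : g y ≠ g (g x) := fun h => hy2 (g.injective h)
  have b1 : g (g y) ≠ x := fun h => hy2 (by rw [← h, hinv])
  have b2 : g (g y) ≠ g x := fun h => a1 (g.injective h)
  have b3 : g (g y) ≠ g (g x) := fun h => a2 (g.injective h)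
  refine ⟨{x, g x, g (g x), y, g y, g (g y)}, ?_, ?_⟩
  · rw [card_insert_of_notMem (by simp [Ne.symm hx, hxx.symm, Ne.symm hy1, a1.symm, b1.symm]),
      card_insert_of_notMem (by
        simp [Ne.symm hx, Ne.symm hy2, a2.symm, b2.symm]),
      card_insert_of_notMem (by simp [Ne.symm hy3, a3.symm, b3.symm]),
      card_insert_of_notMem (by simp [Ne.symm hy0, hyy.symm]),
      card_pair (fun h : g y = g (g y) => hy0 (g.injective h).symm)]
  · ext w
    simp only [image_insert, image_singleton, hinv, mem_insert, mem_singleton]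
    tauto

/-- A point stabilizer with a normal subgroup of odd prime order excludes a large two-point
stabilizer. -/
theorem false_of_normal_prime (hfree : IsFree G 5) {p m : ℕ} (hp : p.Prime) (hp2 : p ≠ 2)
    (hn : 4 ≤ Fintype.card α) (ht : IsMultiplyPretransitive G α 2)
    (hG : Nat.card G = Fintype.card α * (p * m))
    (hG2 : p * (Fintype.card α * (Fintype.card α - 1)) < Nat.card G)
    (hm : ∀ d, d ∣ m → d % p = 1 → d = 1) (hpm : ¬ p ∣ m) : False := by
  classical
  have h1 : IsMultiplyPretransitive G α 1 := by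
    haveI := ht
    exact isMultiplyPretransitive_of_le (n := 2) (by omega) (by rw [Nat.card_eq_fintype_card]; omega)
  obtain ⟨a⟩ : Nonempty α := Fintype.card_pos_iff.mp (by omega)
  set A := fixG G {a} with hA
  have hAc : Nat.card A = p * m := by
    have := card_fixG_of_trans h1 (by omega) (card_singleton a)
    rw [hG, Nat.descFactorial_one, ← hA] at this
    exact (Nat.eq_of_mul_eq_mul_left (by omega) this).symm
  haveI : Fact p.Prime := ⟨hp⟩
  obtain ⟨u, hu⟩ := exists_prime_orderOf_dvd_card' (G := A) p (by rw [hAc]; exact dvd_mul_right p m)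
  set P : Subgroup A := Subgroup.zpowers u with hP
  have hPc : Nat.card P = p := by rw [hP, Nat.card_zpowers, hu]
  have hidx : P.index = m := by
    have := Subgroup.card_mul_index P
    rw [hPc, hAc] at this
    exact Nat.eq_of_mul_eq_mul_left hp.pos this
  have hPp : IsPGroup p P := IsPGroup.of_card (n := 1) (by rw [hPc, pow_one])
  let S : Sylow p A := hPp.toSylow (by rw [hidx]; exact hpm)
  have hS : (S : Subgroup A) = P := IsPGroup.toSylow_coe _ _
  have hc1 : Nat.card (Sylow p A) = 1 := by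
    have h1 := S.card_dvd_index
    rw [hS, hidx] at h1
    have h2 := card_sylow_modEq_one p A
    rw [Nat.ModEq, Nat.one_mod_eq_one.mpr hp.ne_one] at h2
    exact hm _ h1 h2
  haveI : Subsingleton (Sylow p A) := (Nat.card_eq_one_iff_unique.mp hc1).1
  haveI hN : P.Normal := hS ▸ Sylow.normal_of_subsingleton S
  set w : Equiv.Perm α := u.1.1 with hw
  have hwG : w ∈ G := u.1.2
  have hwa : w a = a := mem_fixG.mp u.2 a (mem_singleton_self a)
  have hw23 : w ^ p = 1 := by
    have : u ^ p = 1 := hu ▸ pow_orderOf_eq_one u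
    exact congrArg (fun v : A => v.1.1) this
  have hw1 : w ≠ 1 := fun h => by
    have : u = 1 := Subtype.ext (Subtype.ext h)
    rw [this, orderOf_one] at hu
    exact hp.one_lt.ne hu
  obtain ⟨b, hb⟩ : ∃ b, w b ≠ b := by
    by_contra! h
    exact hw1 (Equiv.ext h)
  have hba : b ≠ a := fun h => hb (by rw [h, hwa])
  have hwwb : w (w b) ≠ b := fun h => hb (by
    have h2 : (w ^ 2) b = b := by rw [pow_two, Equiv.Perm.mul_apply]; exact h
    obtain ⟨i, hi⟩ := hp.odd_of_ne_two hp2
    have h24 : w = (w ^ 2) ^ (i + 1) := by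
      rw [← pow_mul, show 2 * (i + 1) = p + 1 by omega, pow_succ, hw23, one_mul]
    rw [h24]
    exact Equiv.Perm.pow_apply_eq_self_of_apply_eq_self h2 (i + 1))
  set B := fixG G {a, b} with hB
  have hBc : p < Nat.card B := by
    have := card_fixG_of_trans ht (by omega) (card_pair hba.symm)
    rw [← hB, show (Fintype.card α).descFactorial 2 = Fintype.card α * (Fintype.card α - 1) by
      simp [Nat.descFactorial_succ, mul_comm]] at this
    rw [this, mul_comm p] at hG2
    exact Nat.lt_of_mul_lt_mul_left hG2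
  have ha1 : a ≠ w b := fun h => hba (w.injective (by rw [hwa]; exact h.symm))
  have ha2 : a ≠ w (w b) := fun h =>
    hba (w.injective (w.injective (by rw [hwa, hwa]; exact h.symm)))
  let φ : B → P := fun v =>
    ⟨⟨v.1, mem_fixG.mpr fun c hc => mem_fixG.mp v.2 c (by simp [mem_singleton.mp hc])⟩ * u *
      ⟨v.1, mem_fixG.mpr fun c hc => mem_fixG.mp v.2 c (by simp [mem_singleton.mp hc])⟩⁻¹,
      hN.conj_mem u (Subgroup.mem_zpowers u) _⟩
  have hinj : Function.Injective φ := by
    intro v v' h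
    have h' : v.1.1 * w * v.1.1⁻¹ = v'.1.1 * w * v'.1.1⁻¹ :=
      congrArg (fun p : P => p.1.1.1) h
    apply Subtype.ext
    apply Subtype.ext
    have hk : (v'.1.1⁻¹ * v.1.1) * w = w * (v'.1.1⁻¹ * v.1.1) := by
      calc (v'.1.1⁻¹ * v.1.1) * w = v'.1.1⁻¹ * (v.1.1 * w * v.1.1⁻¹) * v.1.1 := by group
        _ = v'.1.1⁻¹ * (v'.1.1 * w * v'.1.1⁻¹) * v.1.1 := by rw [h']
        _ = w * (v'.1.1⁻¹ * v.1.1) := by group
    have hka : (v'.1.1⁻¹ * v.1.1) a = a := by
      rw [Equiv.Perm.mul_apply, mem_fixG.mp v.2 a (by simp), Equiv.Perm.inv_eq_iff_eq,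
        mem_fixG.mp v'.2 a (by simp)]
    have hkb : (v'.1.1⁻¹ * v.1.1) b = b := by
      rw [Equiv.Perm.mul_apply, mem_fixG.mp v.2 b (by simp), Equiv.Perm.inv_eq_iff_eq,
        mem_fixG.mp v'.2 b (by simp)]
    set q := v'.1.1⁻¹ * v.1.1 with hq
    have hqw : ∀ c, q c = c → q (w c) = w c := fun c hc => by
      rw [← Equiv.Perm.mul_apply, hk, Equiv.Perm.mul_apply, hc]
    have := eq_one_of_fixes hfree (G.mul_mem (G.inv_mem v'.1.2) v.1.2) {a, b, w b, w (w b)}
      (by
        rw [card_insert_of_notMem (by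
            simp [hba.symm, ha1, ha2]),
          card_insert_of_notMem (by simp [Ne.symm hb, hwwb.symm]),
          card_pair (fun h => hb (w.injective h).symm)])
      (by
        intro c hc
        simp only [mem_insert, mem_singleton] at hc
        rcases hc with rfl | rfl | rfl | rfl
        exacts [hka, hkb, hqw _ hkb, hqw _ (hqw _ hkb)])
    exact (inv_mul_eq_one.mp this).symm
  have := Nat.card_le_card_of_injective φ hinj
  omega

theorem false_of_degree_24 (hfree : IsFree G 5) (hn : Fintype.card α = 24)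
    (ht : IsMultiplyPretransitive G α 3) {F : Finset α} (hF : F.card = 3)
    (hh : Nat.card (fixG G F) = 7) : False := by
  have hG : Nat.card G = 85008 := by
    rw [card_fixG_of_trans ht (by omega) hF, hh, hn]; rfl
  haveI := ht
  refine false_of_normal_prime hfree (p := 23) (m := 154) (by norm_num) (by norm_num) (by omega)
    (isMultiplyPretransitive_of_le (n := 3) (by omega) (by rw [Nat.card_eq_fintype_card]; omega))
    (by rw [hG, hn]) (by rw [hG, hn]; norm_num) ?_ (by norm_num)
  intro d hd hd'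
  have := Nat.le_of_dvd (by norm_num) hd
  obtain ⟨t, ht'⟩ := hd
  interval_cases d <;> omega

/-! ### The theorem -/

theorem pred_transitive_of_free {k : ℕ} (hk : 3 ≤ k) (hkn : 2 * k ≤ Fintype.card α)
    (hh : IsPretransitive G (Set.powersetCard α k))
    (hh1 : IsPretransitive G (Set.powersetCard α (k - 1)))
    (ht : IsMultiplyPretransitive G α (k - 2)) (hfree : IsFree G k) :
    IsMultiplyPretransitive G α (k - 1) := by
  classical
  by_contra hnt
  obtain ⟨r, hr2, hr⟩ := exists_class_count hfree hnt (by omega)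
  obtain ⟨F₀, -, hF₀⟩ := exists_subset_card_eq (s := (univ : Finset α)) (n := k - 2)
    (by rw [card_univ]; omega)
  have hG := card_fixG_of_trans ht (by omega) hF₀
  set n := Fintype.card α with hn
  set h := Nat.card (fixG G F₀) with hh0
  have hposd : 0 < n.descFactorial (k - 2) := Nat.descFactorial_pos.mpr (by omega)
  have hconst : ∀ F : Finset α, F.card = k - 2 → Nat.card (fixG G F) = h := fun F hF =>
    Nat.eq_of_mul_eq_mul_left hposd ((card_fixG_of_trans ht (by omega) hF).symm.trans hG)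
  have harith1 : r * h = n - (k - 2) := by
    have : n.descFactorial (k - 1) = (n - (k - 2)) * n.descFactorial (k - 2) := by
      rw [show k - 1 = (k - 2) + 1 by omega, Nat.descFactorial_succ]
    rw [this, hG, mul_left_comm, mul_comm (n - (k - 2))] at hr
    exact Nat.eq_of_mul_eq_mul_left hposd hr
  have hheven : ¬ 2 ∣ h := fun he =>
    hnt (transitive_of_even hk (by omega) hfree hh1 fun F hF => by rw [hconst F hF]; exact he)
  have hodd : ∀ F : Finset α, F.card = k - 2 → Odd (Nat.card (fixG G F)) := fun F hF => by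
    rw [hconst F hF, Nat.odd_iff]; omega
  obtain ⟨j, hj⟩ : Odd h := by rw [Nat.odd_iff]; omega
  obtain ⟨T₀, -, hT₀⟩ := exists_subset_card_eq (s := (univ : Finset α)) (n := k)
    (by rw [card_univ]; omega)
  obtain ⟨s, hs, -⟩ := exists_setStab hh hT₀
  have hsd : ∀ g ∈ G, ∀ T : Finset α, T.card = k → T.image g = T → orderOf g ∣ s := by
    intro g hg T hT hgT
    obtain ⟨s', hs', hd⟩ := exists_setStab hh hT
    rw [Nat.eq_of_mul_eq_mul_left (Nat.choose_pos (by omega)) (hs.trans hs'.symm)]
    exact hd g hg hgT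
  have harith2 : r * (n - (k - 1)) * s = k.factorial := by
    have h1 := Nat.descFactorial_eq_factorial_mul_choose n k
    have h2 : n.descFactorial k = (n - (k - 1)) * n.descFactorial (k - 1) := by
      conv_lhs => rw [show k = (k - 1) + 1 by omega, Nat.descFactorial_succ]
    rw [h2, ← hr, ← hs] at h1
    refine Nat.eq_of_mul_eq_mul_right (Nat.choose_pos (by omega : k ≤ n)) ?_
    rw [← h1]
    ring
  have hspos : 0 < s := by
    rcases Nat.eq_zero_or_pos s with rfl | h'
    · rw [mul_zero] at harith2; exact absurd harith2.symm (Nat.factorial_pos k).ne'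
    · exact h'
  by_cases hk3 : k = 3
  · subst hk3
    have : 2 * 4 * 1 ≤ r * (n - (3 - 1)) * s := Nat.mul_le_mul (Nat.mul_le_mul hr2 (by omega)) hspos
    rw [harith2] at this
    exact absurd this (by decide)
  by_cases hk4 : k = 4
  · subst hk4
    norm_num [Nat.factorial] at harith1 harith2
    have hle : n ≤ 15 := by
      have : 2 * (n - 3) * 1 ≤ r * (n - 3) * s := Nat.mul_le_mul (Nat.mul_le_mul hr2 le_rfl) hspos
      omega
    have hrle : r ≤ 4 := by
      have : r * 5 * 1 ≤ r * (n - 3) * s := Nat.mul_le_mul (Nat.mul_le_mul le_rfl (by omega)) hspos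
      omega
    have hns : n = 11 ∧ s = 1 := by
      clear_value n h
      interval_cases n <;> interval_cases r <;> omega
    haveI := Fact.mk Nat.prime_two
    obtain ⟨g, hg⟩ := exists_prime_orderOf_dvd_card' (G := G) 2 (by
      rw [hG, hns.1]; exact Dvd.dvd.mul_right (by decide) _)
    rw [← Subgroup.orderOf_coe] at hg
    have hg2 : g.1 * g.1 = 1 := by rw [← pow_two, ← hg, pow_orderOf_eq_one]
    have hf : (fixedSet g.1).card < 3 := by
      by_contra hge
      rw [hfree _ g.2 (by omega), orderOf_one] at hg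
      omega
    obtain ⟨T, hT, hgT, -⟩ := exists_two_pairs hg2 (by omega)
    have := hsd _ g.2 T hT hgT
    rw [hg, hns.2] at this
    exact absurd this (by decide)
  by_cases hk5 : k = 5
  · subst hk5
    have hse : 2 ∣ s := by
      obtain ⟨U, -, hU⟩ := exists_subset_card_eq (s := (univ : Finset α)) (n := 3)
        (by rw [card_univ]; omega)
      obtain ⟨a, b, c, hab, hac, hbc, rfl⟩ := card_eq_three.mp hU
      obtain ⟨g, hg, hgU⟩ := exists_map ht (by omega) (ι := ({a, b, c} : Finset α))
        (by rw [Fintype.card_coe, hU]) (Function.Embedding.subtype _)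
        ((Function.Embedding.subtype _).trans (Equiv.swap a b).toEmbedding)
      have hga : g a = b := by simpa using hgU ⟨a, by simp⟩
      have hgb : g b = a := by simpa using hgU ⟨b, by simp⟩
      have hgc : g c = c := by
        simpa [Equiv.swap_apply_of_ne_of_ne hac.symm hbc.symm] using hgU ⟨c, by simp⟩
      obtain ⟨o, ho | ho⟩ := Nat.even_or_odd' (orderOf g)
      swap
      · exfalso
        have h1 : (g ^ (2 * o + 1)) a = b := by
          rw [pow_succ', pow_mul, Equiv.Perm.mul_apply,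
            Equiv.Perm.pow_apply_eq_self_of_apply_eq_self
              (by rw [pow_two, Equiv.Perm.mul_apply, hga, hgb] : (g ^ 2) a = a) o, hga]
        rw [← ho, pow_orderOf_eq_one, Equiv.Perm.one_apply] at h1
        exact hab h1
      · have hopos := orderOf_pos g
        have hz2 : g ^ o * g ^ o = 1 := by
          rw [← pow_add, ← two_mul, ← ho, pow_orderOf_eq_one]
        have hz1 : g ^ o ≠ 1 := fun e => by
          have := Nat.le_of_dvd (by omega) (orderOf_dvd_of_pow_eq_one e)
          omega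
        have hf : (fixedSet (g ^ o)).card < 4 := by
          by_contra hge
          exact hz1 (hfree _ (G.pow_mem hg o) (by omega))
        have hzc : (g ^ o) c = c := Equiv.Perm.pow_apply_eq_self_of_apply_eq_self hgc o
        obtain ⟨T, hT, hzT, hTf⟩ := exists_two_pairs hz2 (by omega)
        have := hsd _ (G.pow_mem hg o) (insert c T)
          (by rw [card_insert_of_notMem (hTf c hzc), hT]) (by rw [image_insert, hzc, hzT])
        rwa [orderOf_eq_prime (by rw [pow_two]; exact hz2) hz1] at this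
    obtain ⟨t, ht2⟩ := hse
    norm_num [Nat.factorial] at harith1 harith2
    have hle : n ≤ 34 := by
      have : 2 * (n - 4) * 2 ≤ r * (n - 4) * s :=
        Nat.mul_le_mul (Nat.mul_le_mul hr2 le_rfl) (by omega)
      omega
    have hrle : r ≤ 10 := by
      have : r * 6 * 2 ≤ r * (n - 4) * s :=
        Nat.mul_le_mul (Nat.mul_le_mul le_rfl (by omega)) (by omega)
      omega
    have hns : n = 24 ∧ h = 7 := by
      clear_value n h
      interval_cases n <;> interval_cases r <;> omega
    exact false_of_degree_24 hfree (hn ▸ hns.1) ht hF₀ hns.2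
  have hk6 : 6 ≤ k := by omega
  by_cases hpar : 2 ∣ n - k
  swap
  · exact hnt (transitive_of_odd_parity hk6 (by omega) hfree hh1 ht hodd hpar)
  by_cases hk7 : 7 ≤ k
  · exact hnt (transitive_of_triple hk7 (by omega) hfree hh1 ht hodd hpar)
  obtain rfl : k = 6 := by omega
  obtain ⟨x⟩ : Nonempty (Fin (6 - 1) ↪ α) :=
    Function.Embedding.nonempty_of_card_le (by rw [Fintype.card_fin]; omega)
  have hle2 := card_le_two_classes (by omega) hh1 x fun c d e f hcd hef hce hcf hde hdf =>
    double_swap_mem hk6 (by omega) hfree ht hodd hpar x hcd hef hce hcf hde hdf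
  rw [← hn, ← hr] at hle2
  obtain rfl : r = 2 := le_antisymm (Nat.le_of_mul_le_mul_right hle2 Nat.card_pos) hr2
  haveI := Fact.mk Nat.prime_three
  obtain ⟨g, hg⟩ := exists_prime_orderOf_dvd_card' (G := G) 3 (by
    rw [hG]
    exact Dvd.dvd.mul_right ((Nat.dvd_factorial (by norm_num) le_rfl).trans
      ((Nat.factorial_dvd_factorial (by omega : 3 ≤ 4)).trans (Nat.factorial_dvd_descFactorial n 4))) _)
  rw [← Subgroup.orderOf_coe] at hg
  have hf : (fixedSet g.1).card < 5 := by
    by_contra hge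
    rw [hfree _ g.2 (by omega), orderOf_one] at hg
    omega
  obtain ⟨T, hT, hgT⟩ := exists_two_triples (hg ▸ pow_orderOf_eq_one g.1) (by omega)
  obtain ⟨t, ht3⟩ := hg ▸ hsd _ g.2 T hT hgT
  norm_num [Nat.factorial] at harith1 harith2
  have hle : n ≤ 125 := by
    have : 2 * (n - 5) * 3 ≤ 2 * (n - 5) * s := Nat.mul_le_mul le_rfl (by omega)
    omega
  clear_value n h
  interval_cases n <;> omega

/-- A `k`-homogeneous group of degree at least `2k` is `(k-1)`-transitive. -/
theorem pred_transitive {k : ℕ} (hk : 2 ≤ k) (hkn : 2 * k ≤ Fintype.card α)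
    (hh : IsPretransitive G (Set.powersetCard α k)) : IsMultiplyPretransitive G α (k - 1) := by
  classical
  induction k using Nat.strong_induction_on with
  | _ k ih =>
    have hh1 : IsPretransitive G (Set.powersetCard α (k - 1)) :=
      pred_homogeneous hk hh fun q _ hqk => by
        have := Nat.le_of_dvd (by omega) hqk
        omega
    by_cases hk2 : k = 2
    · subst hk2
      rw [is_one_pretransitive_iff]
      refine ⟨fun a b => ?_⟩
      obtain ⟨g, hg, hgab⟩ := exists_image_eq hh1 (card_singleton a) (card_singleton b)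
      rw [image_singleton, singleton_inj] at hgab
      exact ⟨⟨g, hg⟩, hgab⟩
    have ht : IsMultiplyPretransitive G α (k - 2) := by
      have := ih (k - 1) (by omega) (by omega) (by omega) hh1
      rwa [show k - 1 - 1 = k - 2 by omega] at this
    obtain ⟨s₁, -, hs₁⟩ := exists_subset_card_eq (s := (univ : Finset α)) (n := k - 1)
      (by rw [card_univ]; omega)
    obtain ⟨s₀, -, hs₀⟩ := exists_subset_card_eq (s := (univ : Finset α)) (n := k)
      (by rw [card_univ]; omega)
    by_cases hl : 1 < Nat.card (fixG G s₁)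
    · exact pred_transitive_of_const G (by omega) (by omega) hl
        (fun s hs => card_fixG_eq hh1 hs hs₁) (m := Nat.card (fixG G s₀))
        (fun s hs => card_fixG_eq hh hs hs₀)
    refine pred_transitive_of_free (by omega) hkn hh hh1 ht fun g hg hfix => ?_
    obtain ⟨T, hTs, hT⟩ := exists_subset_card_eq hfix
    have h1 : Nat.card (fixG G T) = 1 := by
      have h2 := card_fixG_eq hh1 hT hs₁
      have h3 : 0 < Nat.card (fixG G T) := Nat.card_pos
      omega
    haveI := (Nat.card_eq_one_iff_unique.mp h1).1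
    have h2 := Subsingleton.elim
      (⟨⟨g, hg⟩, mem_fixG.mpr fun a ha => mem_fixedSet.mp (hTs ha)⟩ : fixG G T) 1
    exact congrArg (fun v : fixG G T => v.1.1) h2

end Cfsg.Agent.Lib.Perm.LivingstoneWagner


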