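import Cfsg.Agent.Lib.Perm.LivingstoneWagner

/-!
Classes of ordered `k`-sets in a `(k-1)`-transitive, `k`-homogeneous group: lifting permutations
of the positions to involutions, and aligning ordered sets.
-/

open Equiv Finset MulAction
open scoped Pointwise

namespace Cfsg.Agent.Lib.Perm.LivingstoneWagner

variable {α : Type*} [Fintype α] [DecidableEq α] {G : Subgroup (Equiv.Perm α)}

theorem card_fixG_eq_of_trans {j : ℕ} (h : IsMultiplyPretransitive G α j) (hj : j ≤ Fintype.card α)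
    {s t : Finset α} (hs : s.card = j) (ht : t.card = j) :
    Nat.card (fixG G s) = Nat.card (fixG G t) :=
  Nat.eq_of_mul_eq_mul_left (Nat.descFactorial_pos.mpr hj)
    ((card_fixG_of_trans h hj hs).symm.trans (card_fixG_of_trans h hj ht))

omit [Fintype α] [DecidableEq α] in
theorem fixG_anti {S T : Finset α} (h : S ⊆ T) : fixG G T ≤ fixG G S := fun _ hg =>
  mem_fixG.mpr fun x hx => mem_fixG.mp hg x (h hx)

theorem odd_fixG_of_subset [Finite G] {S T : Finset α} (h : S ⊆ T)
    (hodd : Odd (Nat.card (fixG G S))) : Odd (Nat.card (fixG G T)) :=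
  Odd.of_dvd_nat hodd (Subgroup.card_dvd_of_le (fixG_anti h))

omit [Fintype α] in
/-- An element inducing an involution on a set lifts to an involution when the pointwise stabilizer
has odd order. -/
theorem involution_of_odd {S : Finset α} (hodd : Odd (Nat.card (fixG G S))) {g : Equiv.Perm α}
    (hg : g ∈ G) (hinv : ∀ x ∈ S, g (g x) = x) :
    ∃ z ∈ G, z * z = 1 ∧ ∀ x ∈ S, z x = g x := by
  obtain ⟨j, hj⟩ := hodd
  let g2 : G := ⟨g * g, G.mul_mem hg hg⟩
  have hg2 : g2 ∈ fixG G S := mem_fixG.mpr fun u hu => hinv u hu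
  have hpow : (g * g) ^ (2 * j + 1) = 1 := by
    rw [← hj]
    exact congrArg (fun v : fixG G S => v.1.1) (pow_card_eq_one' (x := (⟨g2, hg2⟩ : fixG G S)))
  refine ⟨g ^ (2 * j + 1), G.pow_mem hg _, ?_, fun x hx => ?_⟩
  · rw [← (Commute.refl g).mul_pow]; exact hpow
  · rw [pow_succ', pow_mul, pow_two, Equiv.Perm.mul_apply,
      Equiv.Perm.pow_apply_eq_self_of_apply_eq_self
        (show (g * g) x = x from hinv x hx) j]

omit [Fintype α] in
/-- Involutions agreeing on a set with odd pointwise stabilizer are conjugate in it. -/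
theorem conj_of_odd {S : Finset α} (hodd : Odd (Nat.card (fixG G S))) {g g' : Equiv.Perm α}
    (hg : g ∈ G) (hg' : g' ∈ G) (hg2 : g * g = 1) (hg'2 : g' * g' = 1)
    (h : ∀ x ∈ S, g' x = g x) :
    ∃ u ∈ G, (∀ x ∈ S, u x = x) ∧ g' = u⁻¹ * g * u := by
  obtain ⟨j, hj⟩ := hodd
  set u := g * g' with hu
  have hfix : ∀ x ∈ S, u x = x := fun x hx => by
    rw [hu, Equiv.Perm.mul_apply, h x hx, ← Equiv.Perm.mul_apply, hg2, Equiv.Perm.one_apply]
  have hupow : u ^ (2 * j + 1) = 1 := by
    rw [← hj]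
    exact congrArg (fun v : fixG G S => v.1.1)
      (pow_card_eq_one' (x := (⟨⟨u, G.mul_mem hg hg'⟩, mem_fixG.mpr hfix⟩ : fixG G S)))
  have hsq : u ^ (j + 1) * u ^ (j + 1) = u := by
    rw [← pow_add, show j + 1 + (j + 1) = (2 * j + 1) + 1 by omega, pow_succ, hupow, one_mul]
  refine ⟨u ^ (j + 1), G.pow_mem (G.mul_mem hg hg') _,
    fun x hx => Equiv.Perm.pow_apply_eq_self_of_apply_eq_self (hfix x hx) _, ?_⟩
  have hginv : g⁻¹ = g := inv_eq_of_mul_eq_one_right hg2
  have hconj : g * u ^ (j + 1) * g = (u ^ (j + 1))⁻¹ := by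
    have h1 : g * u * g⁻¹ = u⁻¹ := by
      rw [hu, mul_inv_rev, hginv, inv_eq_of_mul_eq_one_right hg'2, ← mul_assoc, hg2, one_mul]
    calc g * u ^ (j + 1) * g = g * u ^ (j + 1) * g⁻¹ := by rw [hginv]
      _ = (g * u * g⁻¹) ^ (j + 1) := (conj_pow).symm
      _ = (u ^ (j + 1))⁻¹ := by rw [h1, inv_pow]
  have h1 : g' = g * u := by rw [hu, ← mul_assoc, hg2, one_mul]
  rw [h1, ← hconj]
  conv_lhs => rw [← hsq]
  calc g * (u ^ (j + 1) * u ^ (j + 1))
      = g * u ^ (j + 1) * (g * g) * u ^ (j + 1) := by rw [hg2, mul_one, mul_assoc]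
    _ = g * u ^ (j + 1) * g * g * u ^ (j + 1) := by group

theorem card_fixedSet_conj (u g : Equiv.Perm α) :
    (fixedSet (u⁻¹ * g * u)).card = (fixedSet g).card := by
  refine (card_bij (fun x _ => u x) (fun x hx => ?_) (fun _ _ _ _ h => u.injective h)
    fun y hy => ⟨u⁻¹ y, ?_, by simp⟩)
  · rw [mem_fixedSet] at hx ⊢
    rw [Equiv.Perm.mul_apply, Equiv.Perm.mul_apply, Equiv.Perm.inv_eq_iff_eq] at hx
    exact hx
  · rw [mem_fixedSet] at hy ⊢
    simp [hy]

/-- `σ` fixes the class of `x` through an involution. -/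
theorem exists_invol_lift {m : ℕ} {x : Fin m ↪ α}
    (hodd : Odd (Nat.card (fixG G (univ.image x)))) {σ : Equiv.Perm (Fin m)} (hσ : σ * σ = 1)
    (hx : σ ∈ classSubgroup G x) : ∃ z ∈ G, z * z = 1 ∧ ∀ i, z (x i) = x (σ i) := by
  obtain ⟨g, hg, hgx⟩ := hx
  obtain ⟨z, hz, hz2, hzg⟩ := involution_of_odd hodd hg (fun a ha => by
    obtain ⟨i, -, rfl⟩ := mem_image.mp ha
    rw [hgx, hgx, ← Equiv.Perm.mul_apply, hσ, Equiv.Perm.one_apply])
  exact ⟨z, hz, hz2, fun i => by rw [hzg _ (mem_image_of_mem x (mem_univ i)), hgx]⟩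

/-- Ordered sets whose classes are fixed by an involution of the positions: align all positions but
one fixed position, so that the remaining point is fixed by the lifted involution. -/
theorem align {k : ℕ} (hkn : k ≤ Fintype.card α) (ht : IsMultiplyPretransitive G α (k - 1))
    (hoddK : ∀ U : Finset α, U.card = k - 1 → Odd (Nat.card (fixG G U)))
    {σ : Equiv.Perm (Fin k)} (hσ : σ * σ = 1) {p : Fin k} (hp : σ p = p)
    {x y : Fin k ↪ α} (hy : σ ∈ classSubgroup G y)
    {z : Equiv.Perm α} (hz : z ∈ G) (hz2 : z * z = 1) (hzx : ∀ i, i ≠ p → z (x i) = x (σ i)) :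
    ∃ h ∈ G, (∀ i, i ≠ p → h (y i) = x i) ∧ z (h (y p)) = h (y p) ∧ ∀ i, i ≠ p → h (y p) ≠ x i := by
  classical
  have hinj : ∀ v : Fin k ↪ α, ((univ.erase p).image v).card = k - 1 := fun v => by
    rw [card_image_of_injective _ v.injective, card_erase_of_mem (mem_univ _), card_univ,
      Fintype.card_fin]
  have hσp : ∀ i, i ≠ p → σ i ≠ p := fun i hi h => hi (by
    rw [← σ.injective.eq_iff, hp, h])
  let ι := {i : Fin k // i ≠ p}
  have hι : Fintype.card ι = k - 1 := by
    rw [Fintype.card_subtype_compl, Fintype.card_fin, Fintype.card_subtype_eq]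
  obtain ⟨h₀, hh₀, hyx⟩ := exists_map ht (by omega) (ι := ι) hι.le
    ((Function.Embedding.subtype _).trans y) ((Function.Embedding.subtype _).trans x)
  have hyx' : ∀ i, i ≠ p → h₀ (y i) = x i := fun i hi => hyx ⟨i, hi⟩
  have hoddy : Odd (Nat.card (fixG G (univ.image y))) :=
    odd_fixG_of_subset (image_subset_image (erase_subset p univ)) (hoddK _ (hinj y))
  obtain ⟨z', hz', hz'2, hz'y⟩ := exists_invol_lift hoddy hσ hy
  obtain ⟨u, hu, huU, hconj⟩ := conj_of_odd (hoddK _ (hinj x)) hz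
    (G.mul_mem (G.mul_mem hh₀ hz') (G.inv_mem hh₀)) hz2
    (show h₀ * z' * h₀⁻¹ * (h₀ * z' * h₀⁻¹) = 1 by
      rw [← mul_assoc]
      calc h₀ * z' * h₀⁻¹ * h₀ * z' * h₀⁻¹ = h₀ * (z' * z') * h₀⁻¹ := by group
        _ = 1 := by rw [hz'2, mul_one, mul_inv_cancel])
    (fun a ha => by
      obtain ⟨i, hi, rfl⟩ := mem_image.mp ha
      have hi' : i ≠ p := (mem_erase.mp hi).1
      rw [hzx i hi', ← hyx' i hi', ← hyx' _ (hσp i hi'), Equiv.Perm.mul_apply, Equiv.Perm.mul_apply]
      simp [hz'y])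
  refine ⟨u * h₀, G.mul_mem hu hh₀, fun i hi => ?_, ?_, fun i hi heq => ?_⟩
  · rw [Equiv.Perm.mul_apply, hyx' i hi]
    exact huU _ (mem_image_of_mem x (mem_erase.mpr ⟨hi, mem_univ i⟩))
  · have h1 : (h₀ * z' * h₀⁻¹) (h₀ (y p)) = h₀ (y p) := by simp [hz'y, hp]
    rw [hconj, Equiv.Perm.mul_apply, Equiv.Perm.mul_apply, Equiv.Perm.inv_eq_iff_eq] at h1
    exact h1
  · have h2 : u (h₀ (y i)) = x i := by
      rw [hyx' i hi]
      exact huU _ (mem_image_of_mem x (mem_erase.mpr ⟨hi, mem_univ i⟩))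
    rw [Equiv.Perm.mul_apply, ← h2] at heq
    exact hi (y.injective (h₀.injective (u.injective heq))).symm

/-- Moving a permutation of the positions from one class to another. -/
theorem class_conj {m : ℕ} (hh : IsPretransitive G (Set.powersetCard α m)) (x y : Fin m ↪ α) :
    ∃ π : Equiv.Perm (Fin m),
      ∀ σ ∈ classSubgroup G x, π⁻¹ * σ * π ∈ classSubgroup G y := by
  obtain ⟨π, g, hg, h⟩ := exists_perm_map hh x y
  refine ⟨π, fun σ ⟨u, hu, hux⟩ => ⟨g * u * g⁻¹, G.mul_mem (G.mul_mem hg hu) (G.inv_mem hg), fun i => ?_⟩⟩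
  rw [← h i, ← h]
  simp [hux]

theorem conj_swap {β : Type*} [DecidableEq β] (π : Equiv.Perm β) (a b : β) :
    π⁻¹ * Equiv.swap a b * π = Equiv.swap (π⁻¹ a) (π⁻¹ b) := by
  rw [Equiv.swap_apply_apply, inv_inv]

theorem class_swap_of_swap {m : ℕ} (hh : IsPretransitive G (Set.powersetCard α m))
    {x : Fin m ↪ α} {c d : Fin m} (hcd : c ≠ d) (h : Equiv.swap c d ∈ classSubgroup G x)
    (y : Fin m ↪ α) : ∃ a b, a ≠ b ∧ Equiv.swap a b ∈ classSubgroup G y := by
  obtain ⟨π, hπ⟩ := class_conj hh x y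
  exact ⟨π⁻¹ c, π⁻¹ d, fun e => hcd ((π⁻¹).injective e), conj_swap π c d ▸ hπ _ h⟩

/-- An embedding with prescribed range. -/
theorem exists_embedding {m : ℕ} {W : Finset α} (hW : W.card = m) :
    ∃ x : Fin m ↪ α, (∀ w ∈ W, ∃ i, x i = w) ∧ ∀ i, x i ∈ W :=
  ⟨(equivFinOfCardEq hW).symm.toEmbedding.trans (Function.Embedding.subtype _),
    fun w hw => ⟨equivFinOfCardEq hW ⟨w, hw⟩, by simp⟩,
    fun i => ((equivFinOfCardEq hW).symm i).2⟩

/-- An involution fixing a set and swapping two further points gives a transposition fixing a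
class. -/
theorem exists_swap_class {k : ℕ} (hk : 2 ≤ k) {z : Equiv.Perm α} (hz : z ∈ G) (hz2 : z * z = 1)
    {a : α} (ha : z a ≠ a) {T : Finset α} (hT : T.card = k - 2) (hTf : ∀ t ∈ T, z t = t) :
    ∃ (x : Fin k ↪ α) (c d : Fin k), c ≠ d ∧ Equiv.swap c d ∈ classSubgroup G x := by
  have hinv : z (z a) = a := by rw [← Equiv.Perm.mul_apply, hz2, Equiv.Perm.one_apply]
  have haT : a ∉ T := fun h => ha (hTf a h)
  have hzaT : z a ∉ T := fun h => ha (z.injective (hTf _ h))
  obtain ⟨x, hxW, hxm⟩ := exists_embedding (W := insert a (insert (z a) T)) (m := k) (by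
    rw [card_insert_of_notMem (by simp [haT, Ne.symm ha]), card_insert_of_notMem hzaT, hT]; omega)
  obtain ⟨c, hc⟩ := hxW a (by simp)
  obtain ⟨d, hd⟩ := hxW (z a) (by simp)
  refine ⟨x, c, d, fun e => ha (by rw [← hd, ← e, hc]), z, hz, fun i => ?_⟩
  rw [← x.injective.swap_apply, hc, hd]
  have hi := hxm i
  simp only [mem_insert] at hi
  rcases hi with h | h | h
  · rw [h, Equiv.swap_apply_left]
  · rw [h, Equiv.swap_apply_right, hinv]
  · rw [Equiv.swap_apply_of_ne_of_ne (ne_of_mem_of_not_mem h haT) (ne_of_mem_of_not_mem h hzaT),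
      hTf _ h]

/-- If transpositions fixing the class of `x` spread to all disjoint ones, all permutations fix
the class. -/
theorem class_top_of_spread {k : ℕ} (hk : 5 ≤ k)
    {x : Fin k ↪ α} {c d : Fin k} (hcd : c ≠ d) (hσ : Equiv.swap c d ∈ classSubgroup G x)
    (hspread : ∀ c d e f : Fin k, c ≠ d → e ≠ f → c ≠ e → c ≠ f → d ≠ e → d ≠ f →
      Equiv.swap c d ∈ classSubgroup G x → Equiv.swap e f ∈ classSubgroup G x) :
    classSubgroup G x = ⊤ := by
  refine eq_top_of_swaps fun e f hef => ?_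
  rcases card_four_or_distinct hcd hef with h3 | ⟨h1, h2, h3, h4⟩
  · obtain ⟨u, v, huv, huc, hud, hue, huf, hvc, hvd, hve, hvf⟩ := exists_two_others hk h3
    exact hspread u v e f huv hef hue huf hve hvf
      (hspread c d u v hcd huv huc.symm hvc.symm hud.symm hvd.symm hσ)
  · exact hspread c d e f hcd hef h1 h2 h3 h4 hσ

/-! ### `(k-1)`-point stabilizers of odd order: the class fixed by a transposition is unique -/

theorem class_top_of_swap {k : ℕ} (hk : 5 ≤ k) (hkn : k ≤ Fintype.card α)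
    (ht : IsMultiplyPretransitive G α (k - 1))
    (hoddK : ∀ U : Finset α, U.card = k - 1 → Odd (Nat.card (fixG G U)))
    {x : Fin k ↪ α} {c d : Fin k} (hcd : c ≠ d) (hσ : Equiv.swap c d ∈ classSubgroup G x) :
    classSubgroup G x = ⊤ := by
  classical
  refine class_top_of_spread hk hcd hσ ?_
  intro c d e f hcd hef hce hcf hde hdf hσ
  set σ := Equiv.swap c d with hσdef
  have hσ2 : σ * σ = 1 := Equiv.swap_mul_self c d
  have hσe : σ e = e := Equiv.swap_apply_of_ne_of_ne hce.symm hde.symm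
  have hcomm : ∀ i, Equiv.swap e f (σ i) = σ (Equiv.swap e f i) := fun i => by
    rw [hσdef, ← (Equiv.swap e f).injective.swap_apply c d i,
      Equiv.swap_apply_of_ne_of_ne hce hcf, Equiv.swap_apply_of_ne_of_ne hde hdf]
  set y : Fin k ↪ α := (Equiv.swap e f).toEmbedding.trans x with hy
  have hyσ : σ ∈ classSubgroup G y := by
    obtain ⟨g, hg, hgx⟩ := hσ
    refine ⟨g, hg, fun i => ?_⟩
    change g (x (Equiv.swap e f i)) = x (Equiv.swap e f (σ i))
    rw [hgx, hcomm]
  have hUc : ((univ.erase e).image x).card = k - 1 := by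
    rw [card_image_of_injective _ x.injective, card_erase_of_mem (mem_univ _), card_univ,
      Fintype.card_fin]
  obtain ⟨z, hz, hz2, hzx⟩ := exists_invol_lift
    (odd_fixG_of_subset (image_subset_image (erase_subset e univ)) (hoddK _ hUc)) hσ2 hσ
  obtain ⟨h, hh', hhy, hhp, hhne⟩ := align hkn ht hoddK hσ2 hσe hyσ hz hz2 fun i _ => hzx i
  have hz1 : z ≠ 1 := fun e' => hcd (x.injective (by
    have := hzx c
    rwa [e', Equiv.Perm.one_apply, hσdef, Equiv.swap_apply_left] at this))
  have hf : fixedSet z = (univ \ {c, d}).image x := by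
    symm
    refine eq_of_subset_of_card_le (fun a ha => ?_) ?_
    · obtain ⟨i, hi, rfl⟩ := mem_image.mp ha
      simp only [mem_sdiff, mem_univ, true_and, mem_insert, mem_singleton, not_or] at hi
      rw [mem_fixedSet, hzx, hσdef, Equiv.swap_apply_of_ne_of_ne hi.1 hi.2]
    · rw [card_image_of_injective _ x.injective, card_sdiff_of_subset (subset_univ _), card_univ,
        Fintype.card_fin, card_pair hcd]
      have h1 := fixed_lt_of_odd (k := k + 1) (fun F hF => hoddK F (by omega)) hz hz2 hz1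
      omega
  refine ⟨h, hh', ?_⟩
  have key : ∀ i, h (y i) = x i := by
    intro i
    by_cases hi : i = e
    · rw [← mem_fixedSet, hf] at hhp
      obtain ⟨j, -, hj⟩ := mem_image.mp hhp
      by_cases hje : j = e
      · rw [hi, ← hj, hje]
      · exact absurd hj.symm (hhne j hje)
    · exact hhy i hi
  intro i
  have := key (Equiv.swap e f i)
  change h (x (Equiv.swap e f (Equiv.swap e f i))) = x (Equiv.swap e f i) at this
  rwa [Equiv.swap_apply_self] at this

theorem transitive_of_swap {k : ℕ} (hk : 5 ≤ k) (hkn : k ≤ Fintype.card α)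
    (hh : IsPretransitive G (Set.powersetCard α k))
    (ht : IsMultiplyPretransitive G α (k - 1))
    (hoddK : ∀ U : Finset α, U.card = k - 1 → Odd (Nat.card (fixG G U)))
    {x : Fin k ↪ α} {c d : Fin k} (hcd : c ≠ d) (hσ : Equiv.swap c d ∈ classSubgroup G x) :
    IsMultiplyPretransitive G α k :=
  transitive_of_classes hh x fun a b _ => by
    rw [class_top_of_swap hk hkn ht hoddK hcd hσ]; trivial

/-! ### `(k-1)`-point stabilizers of even order, `k`-point stabilizers of odd order -/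

theorem even_orbit {k : ℕ} (hoddh : ∀ B : Finset α, B.card = k → Odd (Nat.card (fixG G B)))
    {U : Finset α} (hU : U.card + 1 = k) (hevenK : 2 ∣ Nat.card (fixG G U)) {v : α} (hv : v ∉ U) :
    2 ∣ (orbit (fixG G U) v).ncard := by
  classical
  have h1 := Subgroup.card_mul_index (stabilizer (fixG G U) v)
  rw [index_stabilizer] at h1
  have h2 : Nat.card (stabilizer (fixG G U) v) = Nat.card (fixG G (insert v U)) := by
    refine Nat.card_congr
      { toFun := fun g => ⟨g.1.1, mem_fixG.mpr ?_⟩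
        invFun := fun g => ⟨⟨g.1, fixG_anti (subset_insert v U) g.2⟩,
          mem_fixG.mp g.2 v (mem_insert_self v U)⟩
        left_inv := fun g => rfl
        right_inv := fun g => rfl }
    intro z hz
    rcases mem_insert.mp hz with rfl | hz
    · exact g.2
    · exact mem_fixG.mp g.1.2 z hz
  have h3 := hoddh (insert v U) (by rw [card_insert_of_notMem hv, hU])
  rw [h2] at h1
  rw [← h1] at hevenK
  exact (Nat.prime_two.dvd_mul.mp hevenK).resolve_left fun h => Nat.not_even_iff_odd.mpr h3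
    (even_iff_two_dvd.mpr h)

theorem parity_of_even {k : ℕ} (hoddh : ∀ B : Finset α, B.card = k → Odd (Nat.card (fixG G B)))
    {U : Finset α} (hU : U.card + 1 = k) (hevenK : 2 ∣ Nat.card (fixG G U)) :
    2 ∣ Fintype.card α - U.card := by
  classical
  obtain ⟨d, hd⟩ := Finset.dvd_sum (s := (univ \ U).image
      (fun x => (Quotient.mk'' x : orbitRel.Quotient (fixG G U) α))) (a := 2)
    (f := fun q => ((univ \ U).filter fun x => (Quotient.mk'' x : orbitRel.Quotient (fixG G U) α) = q).card)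
    (fun q hq => by
      obtain ⟨x, hx, rfl⟩ := mem_image.mp hq
      have hxU : x ∉ U := (mem_sdiff.mp hx).2
      refine dvd_trans (even_orbit hoddh hU hevenK hxU) (dvd_of_eq ?_)
      rw [← Set.ncard_coe_finset]
      congr 1
      ext y
      simp only [coe_filter, mem_sdiff, mem_univ, true_and, Quotient.eq'', Set.mem_ofPred_eq]
      constructor
      · rintro ⟨g, rfl⟩
        refine ⟨fun hgx => hxU ?_, ⟨g, rfl⟩⟩
        have h1 := mem_fixG.mp (inv_mem g.2) _ hgx
        change (g⁻¹ : fixG G U) • (g • x) = g • x at h1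
        rw [inv_smul_smul] at h1
        rw [h1]; exact hgx
      · exact fun h => h.2)
  rw [← card_eq_sum_card_image, card_sdiff_of_subset (subset_univ _), card_univ] at hd
  exact ⟨d, hd⟩

/-- If an involution fixes a `k`-tuple but for a transposition, it has one more fixed point, to
which any of the fixed entries can be moved. -/
theorem exists_move {k : ℕ} (hk : 2 ≤ k) (hkn : k ≤ Fintype.card α)
    (hoddh : ∀ B : Finset α, B.card = k → Odd (Nat.card (fixG G B)))
    (hevenK : ∀ U : Finset α, U.card = k - 1 → 2 ∣ Nat.card (fixG G U))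
    {y : Fin k ↪ α} {c d a : Fin k} (hac : a ≠ c) (had : a ≠ d)
    {z : Equiv.Perm α} (hz : z ∈ G) (hzy : ∀ i, z (y i) = y (Equiv.swap c d i))
    (hz2 : z * z = 1) {w : α} (hw : ∀ v, z v = v → v = w ∨ ∃ i, i ≠ c ∧ i ≠ d ∧ y i = v)
    (hww : ∀ i, y i ≠ w) :
    ∃ g ∈ G, (∀ i, i ≠ a → g (y i) = y i) ∧ g (y a) = w := by
  classical
  set U := (univ.erase a).image y with hU
  have hUc : U.card = k - 1 := by
    rw [hU, card_image_of_injective _ y.injective, card_erase_of_mem (mem_univ _), card_univ,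
      Fintype.card_fin]
  have hUm : ∀ i, y i ∈ U ↔ i ≠ a := fun i => by
    rw [hU, mem_image]
    exact ⟨fun ⟨j, hj, hji⟩ => y.injective hji ▸ (mem_erase.mp hj).1,
      fun h => ⟨i, mem_erase.mpr ⟨h, mem_univ i⟩, rfl⟩⟩
  have hsa : Equiv.swap c d a = a := Equiv.swap_apply_of_ne_of_ne hac had
  have hyaU : y a ∉ U := by simp [hUm]
  let O : Finset α := univ.filter fun v => v ∈ orbit (fixG G U) (y a)
  have hOeq : (O : Set α) = orbit (fixG G U) (y a) := by ext v; simp [O]
  have heven : 2 ∣ O.card := by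
    rw [← Set.ncard_coe_finset, hOeq]
    exact even_orbit hoddh (by omega) (hevenK U hUc) hyaU
  have hzO : ∀ v, v ∈ O → z v ∈ O := by
    intro v hv
    simp only [O, mem_filter, mem_univ, true_and] at hv ⊢
    obtain ⟨g, rfl⟩ := hv
    refine ⟨⟨⟨z * g.1.1 * z⁻¹, G.mul_mem (G.mul_mem hz g.1.2) (G.inv_mem hz)⟩,
      mem_fixG.mpr fun u hu => ?_⟩, ?_⟩
    · obtain ⟨i, hi, rfl⟩ := mem_image.mp hu
      have hi' : i ≠ a := (mem_erase.mp hi).1
      have hsi : Equiv.swap c d i ≠ a := fun e => hi' ((Equiv.swap c d).injective (e.trans hsa.symm))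
      have h1 : z⁻¹ (y i) = y (Equiv.swap c d i) := by
        rw [Equiv.Perm.inv_eq_iff_eq, hzy, Equiv.swap_apply_self]
      change z (g.1.1 (z⁻¹ (y i))) = y i
      rw [h1, mem_fixG.mp g.2 _ ((hUm _).mpr hsi), hzy, Equiv.swap_apply_self]
    · change z (g.1.1 (z⁻¹ (y a))) = z (g.1.1 (y a))
      rw [show z⁻¹ (y a) = y a by rw [Equiv.Perm.inv_eq_iff_eq, hzy, hsa]]
  have hzO' : ∀ v, z v ∈ O ↔ v ∈ O := fun v => ⟨fun h => by
    have := hzO _ h
    rwa [← Equiv.Perm.mul_apply, hz2, Equiv.Perm.one_apply] at this, hzO v⟩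
  by_contra hno
  have hwO : w ∉ O := by
    intro hwO
    simp only [O, mem_filter, mem_univ, true_and] at hwO
    obtain ⟨g, hg⟩ := hwO
    exact hno ⟨g.1.1, g.1.2, fun i hi => mem_fixG.mp g.2 _ ((hUm i).mpr hi), hg⟩
  set z' : Equiv.Perm {v // v ∈ O} := z.subtypePerm hzO' with hz'
  have hz'2 : z' * z' = 1 := by
    ext v
    change z (z v.1) = v.1
    rw [← Equiv.Perm.mul_apply, hz2, Equiv.Perm.one_apply]
  have hya : y a ∈ O := by simp [O, mem_orbit_self]
  have hfix : fixedSet z' = {⟨y a, hya⟩} := by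
    ext v
    rw [mem_fixedSet, mem_singleton]
    constructor
    · intro hv
      have hv' : z v.1 = v.1 := congrArg Subtype.val hv
      rcases hw _ hv' with h | ⟨i, hic, hid, hi⟩
      · exact absurd (h ▸ v.2) hwO
      · by_cases hia : i = a
        · exact Subtype.ext (by rw [← hi, hia])
        · exfalso
          obtain ⟨g, hg⟩ : v.1 ∈ orbit (fixG G U) (y a) := by
            have := v.2; simp only [O, mem_filter, mem_univ, true_and] at this; exact this
          have h2 := mem_fixG.mp g.2 _ ((hUm i).mpr hia)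
          have h3 : g.1.1 (y a) = g.1.1 (y i) := by rw [h2, hi]; exact hg
          exact hia (y.injective (g.1.1.injective h3)).symm
    · rintro rfl
      apply Subtype.ext
      change z (y a) = y a
      rw [hzy, hsa]
  have h1 := fixedSet_card_mod_two hz'2
  rw [hfix, card_singleton, Fintype.card_coe] at h1
  have := Finset.card_pos.mpr ⟨_, hya⟩
  omega

theorem exists_class_top_of_even_odd {k : ℕ} (hk : 5 ≤ k) (hkn : k ≤ Fintype.card α)
    (hoddh : ∀ B : Finset α, B.card = k → Odd (Nat.card (fixG G B)))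
    (hevenK : ∀ U : Finset α, U.card = k - 1 → 2 ∣ Nat.card (fixG G U)) :
    ∃ x : Fin k ↪ α, classSubgroup G x = ⊤ := by
  classical
  -- a transposition fixing a class
  obtain ⟨U, -, hU⟩ := exists_subset_card_eq (s := (univ : Finset α)) (n := k - 1)
    (by rw [card_univ]; omega)
  haveI := Fact.mk Nat.prime_two
  obtain ⟨t, ht2⟩ := exists_prime_orderOf_dvd_card' 2 (hevenK U hU)
  have ht' : t.1.1 * t.1.1 = 1 := by
    have : t ^ 2 = 1 := ht2 ▸ pow_orderOf_eq_one t
    rw [← pow_two]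
    exact congrArg (fun v : fixG G U => v.1.1) this
  obtain ⟨u, hu⟩ : ∃ u, t.1.1 u ≠ u := by
    by_contra! h
    have : t = 1 := Subtype.ext (Subtype.ext (Equiv.ext h))
    rw [this, orderOf_one] at ht2
    omega
  obtain ⟨T, hTU, hT⟩ := exists_subset_card_eq (s := U) (n := k - 2) (by omega)
  obtain ⟨x, c, d, hcd, hσ⟩ := exists_swap_class (by omega) t.1.2 ht' hu hT
    fun v hv => mem_fixG.mp t.2 v (hTU hv)
  have hpar : 2 ∣ Fintype.card α - (k - 1) := by
    have := parity_of_even hoddh (by omega) (hevenK U hU)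
    rwa [hU] at this
  refine ⟨x, class_top_of_spread hk hcd hσ ?_⟩
  intro c d a b hcd hab hca hcb hda hdb hσ
  have hBc : (univ.image x).card = k := by
    rw [card_image_of_injective _ x.injective, card_univ, Fintype.card_fin]
  obtain ⟨z, hz, hz2, hzx⟩ := exists_invol_lift (hoddh _ hBc) (Equiv.swap_mul_self c d) hσ
  have hz1 : z ≠ 1 := fun e' => hcd (x.injective (by
    have := hzx c
    rwa [e', Equiv.Perm.one_apply, Equiv.swap_apply_left] at this))
  set R := (univ \ {c, d}).image x with hR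
  have hRc : R.card = k - 2 := by
    rw [hR, card_image_of_injective _ x.injective, card_sdiff_of_subset (subset_univ _), card_univ,
      Fintype.card_fin, card_pair hcd]
  have hRf : R ⊆ fixedSet z := fun v hv => by
    obtain ⟨i, hi, rfl⟩ := mem_image.mp hv
    simp only [mem_sdiff, mem_univ, true_and, mem_insert, mem_singleton, not_or] at hi
    rw [mem_fixedSet, hzx, Equiv.swap_apply_of_ne_of_ne hi.1 hi.2]
  have hf : (fixedSet z).card = k - 1 := by
    have h1 := fixed_lt_of_odd (k := k + 2) (fun F hF => hoddh F (by omega)) hz hz2 hz1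
    have h2 := card_le_card hRf
    have h3 := fixedSet_card_mod_two hz2
    omega
  obtain ⟨w, hwR⟩ := card_eq_one.mp
    (by rw [card_sdiff_of_subset hRf, hf, hRc]; omega : (fixedSet z \ R).card = 1)
  have hw' : w ∈ fixedSet z \ R := by rw [hwR]; simp
  rw [mem_sdiff, mem_fixedSet] at hw'
  have hwx : ∀ i, x i ≠ w := by
    intro i e'
    by_cases hi : i = c ∨ i = d
    · have := hzx i
      rw [e', hw'.1, ← e'] at this
      have := x.injective this
      rcases hi with rfl | rfl
      · rw [Equiv.swap_apply_left] at this; exact hcd this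
      · rw [Equiv.swap_apply_right] at this; exact hcd this.symm
    · rw [not_or] at hi
      exact hw'.2 (e' ▸ mem_image_of_mem x (by simp [hi.1, hi.2]))
  have hfall : ∀ v, z v = v → v = w ∨ ∃ i, i ≠ c ∧ i ≠ d ∧ x i = v := by
    intro v hv
    by_cases hvR : v ∈ R
    · obtain ⟨i, hi, rfl⟩ := mem_image.mp hvR
      simp only [mem_sdiff, mem_univ, true_and, mem_insert, mem_singleton, not_or] at hi
      exact Or.inr ⟨i, hi.1, hi.2, rfl⟩
    · have : v ∈ fixedSet z \ R := mem_sdiff.mpr ⟨mem_fixedSet.mpr hv, hvR⟩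
      rw [hwR, mem_singleton] at this
      exact Or.inl this
  obtain ⟨g₁, hg₁, hg₁f, hg₁a⟩ :=
    exists_move (by omega) hkn hoddh hevenK hca.symm hda.symm hz hzx hz2 hfall hwx
  obtain ⟨g₃, hg₃, hg₃f, hg₃b⟩ :=
    exists_move (by omega) hkn hoddh hevenK hcb.symm hdb.symm hz hzx hz2 hfall hwx
  -- the tuple with `w` at position `a`
  let y : Fin k ↪ α := x.trans g₁.toEmbedding
  have hy : ∀ i, y i = if i = a then w else x i := fun i => by
    change g₁ (x i) = _
    by_cases hi : i = a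
    · rw [if_pos hi, hi, hg₁a]
    · rw [if_neg hi, hg₁f i hi]
  have hzy : ∀ i, z (y i) = y (Equiv.swap c d i) := fun i => by
    rw [hy, hy]
    by_cases hi : i = a
    · rw [hi, Equiv.swap_apply_of_ne_of_ne hca.symm hda.symm, if_pos rfl, hw'.1]
    · rw [if_neg hi, if_neg fun e' => hi ((Equiv.swap c d).injective
        (e'.trans (Equiv.swap_apply_of_ne_of_ne hca.symm hda.symm).symm)), hzx]
  have hfall' : ∀ v, z v = v → v = x a ∨ ∃ i, i ≠ c ∧ i ≠ d ∧ y i = v := by
    intro v hv
    rcases hfall v hv with h | ⟨i, hic, hid, h⟩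
    · exact Or.inr ⟨a, hca.symm, hda.symm, by rw [hy, if_pos rfl, h]⟩
    · by_cases hi : i = a
      · exact Or.inl (by rw [← h, hi])
      · exact Or.inr ⟨i, hic, hid, by rw [hy, if_neg hi, h]⟩
  have hya : ∀ i, y i ≠ x a := fun i => by
    rw [hy]
    by_cases hi : i = a
    · rw [if_pos hi]; exact fun h => hwx a h.symm
    · rw [if_neg hi]; exact x.injective.ne hi
  obtain ⟨g₂, hg₂, hg₂f, hg₂b⟩ :=
    exists_move (by omega) hkn hoddh hevenK hcb.symm hdb.symm hz hzy hz2 hfall' hya
  rw [hy, if_neg hab.symm] at hg₂b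
  have hg₂a : g₂ w = w := by
    have := hg₂f a hab
    rwa [hy, if_pos rfl] at this
  refine ⟨g₃⁻¹ * g₂ * g₁, G.mul_mem (G.mul_mem (G.inv_mem hg₃) hg₂) hg₁, fun i => ?_⟩
  rw [Equiv.Perm.mul_apply, Equiv.Perm.mul_apply, Equiv.Perm.inv_eq_iff_eq]
  by_cases hia : i = a
  · subst hia
    rw [Equiv.swap_apply_left, hg₁a, hg₂a, hg₃b]
  by_cases hib : i = b
  · subst hib
    rw [Equiv.swap_apply_right, hg₁f i hia, hg₂b, hg₃f a hab]
  rw [Equiv.swap_apply_of_ne_of_ne hia hib, hg₁f i hia, hg₃f i hib]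
  have := hg₂f i hib
  rwa [hy, if_neg hia] at this

theorem transitive_of_even_odd {k : ℕ} (hk : 5 ≤ k) (hkn : k ≤ Fintype.card α)
    (hh : IsPretransitive G (Set.powersetCard α k))
    (hoddh : ∀ B : Finset α, B.card = k → Odd (Nat.card (fixG G B)))
    (hevenK : ∀ U : Finset α, U.card = k - 1 → 2 ∣ Nat.card (fixG G U)) :
    IsMultiplyPretransitive G α k := by
  obtain ⟨x, hx⟩ := exists_class_top_of_even_odd hk hkn hoddh hevenK
  exact transitive_of_classes hh x fun a b _ => by rw [hx]; trivial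

end Cfsg.Agent.Lib.Perm.LivingstoneWagner
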