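import Cfsg.Agent.Lib.Perm.LivingstoneWagner
import Mathlib.GroupTheory.SpecificGroups.Alternating

/-!
The exceptions in the theorem of Livingstone and Wagner: `(k-2)`-transitive groups, not
`(k-1)`-transitive, that are `(k-1)`- and `k`-homogeneous.
-/

open Equiv Finset MulAction
open scoped Pointwise

namespace Cfsg.Agent.Lib.Perm.LivingstoneWagner

variable {α : Type*} [Fintype α] [DecidableEq α] {G : Subgroup (Equiv.Perm α)}

theorem choose_dvd_card {k : ℕ} (h : IsPretransitive G (Set.powersetCard α k))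
    (hk : k ≤ Fintype.card α) : (Fintype.card α).choose k ∣ Nat.card G := by
  obtain ⟨T, -, hT⟩ := exists_subset_card_eq (s := (univ : Finset α)) (n := k)
    (by rw [card_univ]; omega)
  obtain ⟨s, hs, -⟩ := exists_setStab h hT
  exact ⟨s, hs.symm⟩

/-- No exception of degree `7`. -/
theorem false_of_degree_seven (hfree : IsFree G 5) (hn : Fintype.card α = 7)
    (ht : IsMultiplyPretransitive G α 3)
    (hfix : ∀ F : Finset α, F.card = 3 → Nat.card (fixG G F) = 1) : False := by
  classical
  haveI := ht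
  have h1 : IsMultiplyPretransitive G α 1 :=
    isMultiplyPretransitive_of_le (n := 3) (by omega) (by rw [Nat.card_eq_fintype_card]; omega)
  have h2 : IsMultiplyPretransitive G α 2 :=
    isMultiplyPretransitive_of_le (n := 3) (by omega) (by rw [Nat.card_eq_fintype_card]; omega)
  obtain ⟨F₀, -, hF₀⟩ := exists_subset_card_eq (s := (univ : Finset α)) (n := 3)
    (by rw [card_univ]; omega)
  have hG : Nat.card G = 210 := by
    rw [card_fixG_of_trans ht (by omega) hF₀, hfix F₀ hF₀, hn]; rfl
  obtain ⟨a⟩ : Nonempty α := Fintype.card_pos_iff.mp (by omega)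
  set A := fixG G {a} with hA
  have hAc : Nat.card A = 30 := by
    have := card_fixG_of_trans h1 (by omega) (card_singleton a)
    rw [hG, hn, Nat.descFactorial_one, ← hA] at this
    omega
  have hpair : ∀ b, b ≠ a → Nat.card (fixG G {a, b}) = 5 := fun b hb => by
    have h := card_fixG_of_trans h2 (by omega) (card_pair hb.symm)
    rw [hG, hn, show Nat.descFactorial 7 2 = 42 from rfl] at h
    omega
  have hthird : ∀ (v : Equiv.Perm α), v ∈ G → ∀ F : Finset α, F.card = 3 →
      (∀ x ∈ F, v x = x) → v = 1 := by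
    intro v hv F hF hvF
    haveI := (Nat.card_eq_one_iff_unique.mp (hfix F hF)).1
    exact congrArg (fun q : fixG G F => q.1.1)
      (Subsingleton.elim (⟨⟨v, hv⟩, mem_fixG.mpr hvF⟩ : fixG G F) 1)
  haveI : Fact (Nat.Prime 3) := ⟨Nat.prime_three⟩
  haveI : Fact (Nat.Prime 5) := ⟨Nat.prime_five⟩
  obtain ⟨t, ht3⟩ := exists_prime_orderOf_dvd_card' (G := A) 3 (by rw [hAc]; norm_num)
  obtain ⟨z, hz2⟩ := exists_prime_orderOf_dvd_card' (G := A) 2 (by rw [hAc]; norm_num)
  have hmemA : ∀ {b : α} (v : G), v ∈ fixG G {a, b} → v ∈ A := fun v hv =>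
    mem_fixG.mpr fun c hc => mem_fixG.mp hv c (by simp [mem_singleton.mp hc])
  have hord : ∀ b, b ≠ a → ∀ v : fixG G {a, b}, v ≠ 1 →
      orderOf (⟨v.1, hmemA v.1 v.2⟩ : A) = 5 := by
    intro b hb v hv
    rw [← Subgroup.orderOf_coe]
    change orderOf (v : G) = 5
    rw [Subgroup.orderOf_coe]
    have h5 := orderOf_dvd_natCard v
    rw [hpair b hb] at h5
    exact ((Nat.dvd_prime Nat.prime_five).mp h5).resolve_left (by simpa using hv)
  obtain ⟨b, hb⟩ := Fintype.exists_ne_of_one_lt_card (by omega : 1 < Fintype.card α) a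
  set w : Equiv.Perm α := t.1.1 with hw
  have hwa : w a = a := mem_fixG.mp t.2 a (mem_singleton_self a)
  have hw3 : w ^ 3 = 1 := by
    have : t ^ 3 = 1 := ht3 ▸ pow_orderOf_eq_one t
    exact congrArg (fun v : A => v.1.1) this
  have hwb : w b ≠ b := by
    intro h
    have hm : (t : G) ∈ fixG G {a, b} := mem_fixG.mpr fun c hc => by
      rcases mem_insert.mp hc with rfl | hc
      · exact hwa
      · rw [mem_singleton.mp hc]; exact h
    have h5 := hord b hb ⟨t, hm⟩ (fun h1 => by
      have : t = 1 := Subtype.ext (congrArg (fun q : fixG G {a, b} => (q : G)) h1)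
      rw [this, orderOf_one] at ht3
      omega)
    have : orderOf t = 5 := h5
    omega
  have hinj5 : Function.Injective (fun v : fixG G {a, b} =>
      (⟨v.1, hmemA v.1 v.2⟩ : A) * t * (⟨v.1, hmemA v.1 v.2⟩ : A)⁻¹) := by
    intro v v' h
    have h' : v.1.1 * w * v.1.1⁻¹ = v'.1.1 * w * v'.1.1⁻¹ := congrArg (fun q : A => q.1.1) h
    set q := v'.1.1⁻¹ * v.1.1 with hq
    have hk : q * w = w * q := by
      calc (v'.1.1⁻¹ * v.1.1) * w = v'.1.1⁻¹ * (v.1.1 * w * v.1.1⁻¹) * v.1.1 := by group
        _ = v'.1.1⁻¹ * (v'.1.1 * w * v'.1.1⁻¹) * v.1.1 := by rw [h']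
        _ = w * (v'.1.1⁻¹ * v.1.1) := by group
    have hfixq : ∀ c ∈ ({a, b} : Finset α), q c = c := fun c hc => by
      rw [hq, Equiv.Perm.mul_apply, mem_fixG.mp v.2 c hc, Equiv.Perm.inv_eq_iff_eq,
        mem_fixG.mp v'.2 c hc]
    have hqb := hfixq b (by simp)
    have hqwb : q (w b) = w b := by
      rw [← Equiv.Perm.mul_apply, hk, Equiv.Perm.mul_apply, hqb]
    have h1 := hthird q (G.mul_mem (G.inv_mem v'.1.2) v.1.2) {a, b, w b}
      (by
        have ha1 : a ≠ w b := fun h => hb (w.injective (by rw [hwa]; exact h.symm))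
        rw [card_insert_of_notMem (by simp [hb.symm, ha1]), card_pair hwb.symm])
      (fun c hc => by
        simp only [mem_insert, mem_singleton] at hc
        rcases hc with rfl | rfl | rfl
        exacts [hfixq _ (by simp), hqb, hqwb])
    exact Subtype.ext (Subtype.ext (inv_mul_eq_one.mp h1).symm)
  let X := Σ b : {b : α // b ≠ a}, {v : fixG G {a, b.1} // v ≠ 1}
  let f : X ⊕ (fixG G {a, b}) ⊕ Bool → A := fun s => match s with
    | .inl x => ⟨x.2.1.1, hmemA _ x.2.1.2⟩
    | .inr (.inl v) => (⟨v.1, hmemA v.1 v.2⟩ : A) * t * (⟨v.1, hmemA v.1 v.2⟩ : A)⁻¹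
    | .inr (.inr c) => if c then z else 1
  have hord3 : ∀ v : fixG G {a, b},
      orderOf ((⟨v.1, hmemA v.1 v.2⟩ : A) * t * (⟨v.1, hmemA v.1 v.2⟩ : A)⁻¹) = 3 := fun v => by
    rw [← MulAut.conj_apply, MulEquiv.orderOf_eq, ht3]
  have hordc : ∀ c : Bool, orderOf (if c then z else 1 : A) ≤ 2 := fun c => by
    cases c <;> simp [hz2]
  have hf : Function.Injective f := by
    rintro (x | v | c) (x' | v' | c') h <;> simp only [f] at h
    · obtain ⟨⟨c, hc⟩, v, hv⟩ := x
      obtain ⟨⟨c', hc'⟩, v', hv'⟩ := x'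
      have hvv : v.1 = v'.1 := congrArg Subtype.val h
      have hcc : c = c' := by
        by_contra hne
        refine hv (Subtype.ext (Subtype.ext (hthird v.1.1 v.1.2 {a, c, c'} ?_ ?_)))
        · rw [card_insert_of_notMem (by simp [Ne.symm hc, Ne.symm hc']), card_pair hne]
        · intro y hy
          simp only [mem_insert, mem_singleton] at hy
          rcases hy with rfl | rfl | rfl
          · exact mem_fixG.mp v.2 _ (by simp)
          · exact mem_fixG.mp v.2 _ (by simp)
          · rw [hvv]; exact mem_fixG.mp v'.2 _ (by simp)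
      subst hcc
      obtain rfl : v = v' := Subtype.ext hvv
      rfl
    · have := congrArg orderOf h; rw [hord _ x.1.2 _ x.2.2, hord3] at this; omega
    · have := congrArg orderOf h; rw [hord _ x.1.2 _ x.2.2] at this; have := hordc c'; omega
    · have := congrArg orderOf h; rw [hord _ x'.1.2 _ x'.2.2, hord3] at this; omega
    · exact congrArg (Sum.inr ∘ Sum.inl) (hinj5 h)
    · have := congrArg orderOf h; rw [hord3] at this; have := hordc c'; omega
    · have := congrArg orderOf h; rw [hord _ x'.1.2 _ x'.2.2] at this; have := hordc c; omega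
    · have := congrArg orderOf h; rw [hord3] at this; have := hordc c; omega
    · rcases c <;> rcases c' <;> simp only [Bool.false_eq_true, if_false, if_true] at h
      · rfl
      · rw [← h, orderOf_one] at hz2; omega
      · rw [h, orderOf_one] at hz2; omega
      · rfl
  have hX : Nat.card X = 24 := by
    have hs : ∀ c : {c : α // c ≠ a}, Nat.card {v : fixG G {a, c.1} // v ≠ 1} = 4 := fun c => by
      rw [Nat.card_eq_fintype_card, Fintype.card_subtype_compl, Fintype.card_subtype_eq,
        ← Nat.card_eq_fintype_card, hpair c.1 c.2]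
    rw [Nat.card_sigma, Finset.sum_congr rfl fun c _ => hs c, sum_const, card_univ,
      Fintype.card_subtype_compl, Fintype.card_subtype_eq, hn]
    rfl
  have := Nat.card_le_card_of_injective f hf
  rw [Nat.card_sum, Nat.card_sum, hX, hpair b hb, hAc, Nat.card_eq_fintype_card,
    Fintype.card_bool] at this
  omega

/-- No exception of degree `10`. -/
theorem false_of_degree_ten (hfree : IsFree G 6) (hn : Fintype.card α = 10)
    (ht : IsMultiplyPretransitive G α 4)
    {F : Finset α} (hF : F.card = 4) (hh : Nat.card (fixG G F) = 3) : False := by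
  classical
  haveI : Fact (Nat.Prime 3) := ⟨Nat.prime_three⟩
  obtain ⟨u, hu⟩ := exists_prime_orderOf_dvd_card' (G := fixG G F) 3 (by rw [hh])
  set w : Equiv.Perm α := u.1.1 with hw
  have hu3 : u ^ 3 = 1 := hu ▸ pow_orderOf_eq_one u
  have hw3 : ∀ x, w (w (w x)) = x := fun x => by
    have := congrArg (fun q : fixG G F => q.1.1 x) hu3
    simpa [pow_succ, Equiv.Perm.mul_apply] using this
  have hw1 : w ≠ 1 := fun h => by
    have : u = 1 := Subtype.ext (Subtype.ext h)
    rw [this, orderOf_one] at hu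
    omega
  have hfix : ∀ x, w x = x ↔ x ∈ F := by
    intro x
    refine ⟨fun hx => ?_, fun hx => mem_fixG.mp u.2 x hx⟩
    by_contra hxF
    refine hw1 (eq_one_of_fixes hfree u.1.2 (insert x F) (by
      rw [card_insert_of_notMem hxF, hF]) fun y hy => ?_)
    rcases mem_insert.mp hy with rfl | hy
    exacts [hx, mem_fixG.mp u.2 y hy]
  set T := Fᶜ with hT
  have hTc : T.card = 6 := by rw [hT, card_compl, hn, hF]
  have hwT : ∀ x ∈ T, w x ∈ T := fun x hx => by
    rw [hT, mem_compl] at hx ⊢
    exact fun h => hx (by rw [← hfix, ← w.injective.eq_iff, (hfix _).mpr h])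
  have hne : ∀ x ∈ T, w x ≠ x ∧ w (w x) ≠ x := by
    intro x hx
    rw [hT, mem_compl, ← hfix] at hx
    exact ⟨hx, fun h => hx (by conv_rhs => rw [← hw3 x, h])⟩
  -- the elements of `fixG G F`
  have hH : ∀ v : G, v ∈ fixG G F → v.1 = 1 ∨ v.1 = w ∨ v.1 = w * w := by
    intro v hv
    have hz : Subgroup.zpowers u = ⊤ := zpowers_eq_top_of_prime_card (p := 3) hh (fun h => by
      rw [h, orderOf_one] at hu; omega)
    have hmem : (⟨v, hv⟩ : fixG G F) ∈ Subgroup.zpowers u := by rw [hz]; trivial
    obtain ⟨i, hi, hiv⟩ := (mem_zpowers_iff_mem_range_orderOf (x := u)).mp hmem |>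
      fun h => Finset.mem_image.mp h
    rw [mem_range, hu] at hi
    have hv' : v.1 = w ^ i := by
      rw [← congrArg (fun q : fixG G F => q.1.1) hiv]
      simp [w]
    interval_cases i <;> simp [hv', pow_two]
  -- the setwise stabilizer of `F`
  let N := stabilizer G F
  have hNc : 72 ≤ Nat.card N := by
    have h1 := Subgroup.card_mul_index N
    rw [index_stabilizer, card_fixG_of_trans ht (by omega) hF, hh, hn,
      show Nat.descFactorial 10 4 = 5040 from rfl] at h1
    have h2 : (orbit G F).ncard ≤ 210 := by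
      refine le_trans (Set.ncard_le_ncard (t := ((univ : Finset α).powersetCard 4 : Set (Finset α)))
        ?_ (finite_toSet _)) ?_
      · rintro S ⟨g, rfl⟩
        simp [hF]
      · rw [Set.ncard_coe_finset, card_powersetCard, card_univ, hn]
        exact le_of_eq rfl
    nlinarith
  have hmemN : ∀ g : N, (∀ x ∈ F, g.1.1 x ∈ F) ∧ ∀ x ∈ T, g.1.1 x ∈ T := by
    intro g
    have hg : F.image g.1.1 = F := g.2
    refine ⟨fun x hx => hg ▸ mem_image_of_mem _ hx, fun x hx => ?_⟩
    rw [hT, mem_compl] at hx ⊢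
    intro h
    rw [← hg, mem_image] at h
    obtain ⟨y, hy, hyx⟩ := h
    exact hx (g.1.1.injective hyx ▸ hy)
  have hconj : ∀ g : N, g.1.1 * w * g.1.1⁻¹ = w ∨ g.1.1 * w * g.1.1⁻¹ = w * w := by
    intro g
    have hm : g.1 * u.1 * g.1⁻¹ ∈ fixG G F := mem_fixG.mpr fun x hx => by
      have hx' : g.1.1⁻¹ x ∈ F := by
        have hg : F.image g.1.1 = F := g.2
        rw [← hg, mem_image] at hx
        obtain ⟨y, hy, rfl⟩ := hx
        simpa using hy
      change g.1.1 (u.1.1 (g.1.1⁻¹ x)) = x
      rw [mem_fixG.mp u.2 _ hx']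
      simp
    rcases hH _ hm with h | h | h
    · exfalso
      apply hw1
      have h' : g.1.1 * w * g.1.1⁻¹ = 1 := h
      exact conj_eq_one_iff.mp h'
    · exact Or.inl h
    · exact Or.inr h
  obtain ⟨x, hx⟩ := card_pos.mp (by omega : 0 < T.card)
  obtain ⟨y, hy, hy'⟩ := exists_mem_notMem_of_card_lt_card (s := {x, w x, w (w x)}) (t := T)
    (lt_of_le_of_lt card_le_three (by omega))
  let R : Finset (α × α × α) := T.biUnion fun p =>
    {p} ×ˢ (({w p, w (w p)} : Finset α) ×ˢ (T \ {p, w p, w (w p)}))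
  have hR : R.card ≤ 36 := by
    refine (card_biUnion_le_card_mul _ _ 6 fun p hp => ?_).trans (by rw [hTc])
    rw [card_product, card_product, card_singleton, one_mul,
      card_sdiff_of_subset (by
        intro q hq
        simp only [mem_insert, mem_singleton] at hq
        rcases hq with rfl | rfl | rfl
        exacts [hp, hwT _ hp, hwT _ (hwT _ hp)]), hTc,
      show ({p, w p, w (w p)} : Finset α).card = 3 by
        rw [card_insert_of_notMem (by simp [(hne p hp).1.symm, (hne p hp).2.symm]),
          card_pair ((hne _ (hwT _ hp)).1).symm],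
      card_pair ((hne _ (hwT _ hp)).1).symm]
  have hgR : ∀ g : N, (g.1.1 x, g.1.1 (w x), g.1.1 y) ∈ R := by
    intro g
    have hcomm : ∀ p, g.1.1 (w p) = (g.1.1 * w * g.1.1⁻¹) (g.1.1 p) := fun p => by simp
    simp only [R, mem_biUnion, mem_product, mem_singleton, mem_insert, mem_sdiff]
    refine ⟨g.1.1 x, (hmemN g).2 x hx, rfl, ?_, (hmemN g).2 y hy, ?_⟩
    · rcases hconj g with h | h <;> rw [hcomm, h] <;> simp
    · intro hmem
      apply hy'
      simp only [mem_insert, mem_singleton]
      have e1 := hcomm x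
      have e2 := hcomm (w x)
      rw [e1] at e2
      rcases hconj g with h | h <;> rw [h] at e1 e2
      · rcases hmem with h' | h' | h'
        · exact Or.inl (g.1.1.injective h')
        · exact Or.inr (Or.inl (g.1.1.injective (h'.trans e1.symm)))
        · exact Or.inr (Or.inr (g.1.1.injective (h'.trans e2.symm)))
      · simp only [Equiv.Perm.mul_apply, hw3] at e1 e2
        rcases hmem with h' | h' | h'
        · exact Or.inl (g.1.1.injective h')
        · exact Or.inr (Or.inr (g.1.1.injective (h'.trans e2.symm)))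
        · exact Or.inr (Or.inl (g.1.1.injective (h'.trans e1.symm)))
  have hinj : Function.Injective (fun g : N => (⟨_, hgR g⟩ : R)) := by
    intro g g' h
    simp only [Subtype.mk.injEq, Prod.mk.injEq] at h
    obtain ⟨h1, h2, h3⟩ := h
    set q : N := g'⁻¹ * g with hq
    have hqx : q.1.1 x = x := by simp [q, h1]
    have hqwx : q.1.1 (w x) = w x := by simp [q, h2]
    have hqy : q.1.1 y = y := by simp [q, h3]
    have hc : q.1.1 * w * q.1.1⁻¹ = w := by
      refine (hconj q).resolve_right fun h => ?_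
      rw [mul_inv_eq_iff_eq_mul] at h
      have := congrArg (fun p : Equiv.Perm α => p x) h
      simp only [Equiv.Perm.mul_apply, hqx, hqwx] at this
      exact (hne _ (hwT _ hx)).1 this.symm
    have hcomm : ∀ p, q.1.1 p = p → q.1.1 (w p) = w p := fun p hp => by
      have := congrArg (fun r : Equiv.Perm α => r p) (mul_inv_eq_iff_eq_mul.mp hc)
      simpa [hp] using this
    have hall : q.1.1 = 1 := eq_one_of_fixes hfree q.1.2 {x, w x, w (w x), y, w y} (by
      simp only [mem_insert, mem_singleton, not_or] at hy'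
      obtain ⟨c1, c2, c3⟩ := hy'
      have d1 : w y ≠ x := fun e => c3 (by rw [← e, hw3])
      have d2 : w y ≠ w x := fun e => c1 (w.injective e)
      have d3 : w y ≠ w (w x) := fun e => c2 (w.injective e)
      rw [card_insert_of_notMem (by simp [(hne x hx).1.symm, (hne x hx).2.symm, Ne.symm c1, d1.symm]),
        card_insert_of_notMem (by simp [(hne _ (hwT _ hx)).1.symm, Ne.symm c2, d2.symm]),
        card_insert_of_notMem (by simp [Ne.symm c3, d3.symm]),
        card_pair (hne y hy).1.symm])
      (fun p hp => by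
        simp only [mem_insert, mem_singleton] at hp
        rcases hp with rfl | rfl | rfl | rfl | rfl
        exacts [hqx, hqwx, hcomm _ hqwx, hqy, hcomm _ hqy])
    have : g'⁻¹ * g = 1 := Subtype.ext (Subtype.ext hall)
    exact (inv_mul_eq_one.mp this).symm
  have := Nat.card_le_card_of_injective _ hinj
  rw [Nat.card_eq_finsetCard] at this
  omega

set_option maxHeartbeats 1600000 in
/-- The exceptions. -/
theorem exceptions {k : ℕ} (hk : 3 ≤ k) (hkn : k ≤ Fintype.card α)
    (ht : IsMultiplyPretransitive G α (k - 2)) (hnt : ¬ IsMultiplyPretransitive G α (k - 1))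
    (hh1 : IsPretransitive G (Set.powersetCard α (k - 1)))
    (hh : IsPretransitive G (Set.powersetCard α k)) :
    (k = Fintype.card α ∧ G = alternatingGroup α) ∨
      (Fintype.card α = 5 ∧ k = 4 ∧ Nat.card G = 20) ∨
      (Fintype.card α = 6 ∧ k = 5 ∧ Nat.card G = 120) ∨
      (Fintype.card α = 9 ∧ k = 5 ∧ (Nat.card G = 504 ∨ Nat.card G = 1512)) := by
  classical
  obtain ⟨T₀, -, hT₀⟩ := exists_subset_card_eq (s := (univ : Finset α)) (n := k)
    (by rw [card_univ]; omega)
  obtain ⟨T₁, -, hT₁⟩ := exists_subset_card_eq (s := (univ : Finset α)) (n := k - 1)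
    (by rw [card_univ]; omega)
  have hl : ¬ 1 < Nat.card (fixG G T₁) := fun hl => hnt
    (pred_transitive_of_const G (by omega) hkn hl (fun s hs => card_fixG_eq hh1 hs hT₁)
      (m := Nat.card (fixG G T₀)) (fun s hs => card_fixG_eq hh hs hT₀))
  have hfree : IsFree G k := by
    intro g hg hfix
    obtain ⟨T, hTs, hT⟩ := exists_subset_card_eq hfix
    have h1 : Nat.card (fixG G T) = 1 := by
      have h2 := card_fixG_eq hh1 hT hT₁
      have h3 : 0 < Nat.card (fixG G T) := Nat.card_pos
      omega
    haveI := (Nat.card_eq_one_iff_unique.mp h1).1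
    exact congrArg (fun v : fixG G T => v.1.1) (Subsingleton.elim
      (⟨⟨g, hg⟩, mem_fixG.mpr fun a ha => mem_fixedSet.mp (hTs ha)⟩ : fixG G T) 1)
  obtain ⟨r, hr2, hr⟩ := exists_class_count hfree hnt hkn
  obtain ⟨F₀, -, hF₀⟩ := exists_subset_card_eq (s := (univ : Finset α)) (n := k - 2)
    (by rw [card_univ]; omega)
  have hG := card_fixG_of_trans ht (by omega) hF₀
  set n := Fintype.card α with hn
  set h := Nat.card (fixG G F₀) with hh0
  have hposd : 0 < n.descFactorial (k - 2) := Nat.descFactorial_pos.mpr (by omega)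
  have hconst : ∀ F : Finset α, F.card = k - 2 → Nat.card (fixG G F) = h := fun F hF =>
    Nat.eq_of_mul_eq_mul_left hposd ((card_fixG_of_trans ht (by omega) hF).symm.trans hG)
  have harith1 : r * h = n - (k - 2) := by
    have : n.descFactorial (k - 1) = (n - (k - 2)) * n.descFactorial (k - 2) := by
      rw [show k - 1 = (k - 2) + 1 by omega, Nat.descFactorial_succ]
    rw [this, hG, mul_left_comm, mul_comm (n - (k - 2))] at hr
    exact Nat.eq_of_mul_eq_mul_left hposd hr
  have hheven : ¬ 2 ∣ h := fun he =>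
    hnt (transitive_of_even hk hkn hfree hh1 fun F hF => by rw [hconst F hF]; exact he)
  have hodd : ∀ F : Finset α, F.card = k - 2 → Odd (Nat.card (fixG G F)) := fun F hF => by
    rw [hconst F hF, Nat.odd_iff]; omega
  obtain ⟨j, hj⟩ : Odd h := by rw [Nat.odd_iff]; omega
  obtain ⟨s, hs, -⟩ := exists_setStab hh hT₀
  have hsd : ∀ g ∈ G, ∀ T : Finset α, T.card = k → T.image g = T → orderOf g ∣ s := by
    intro g hg T hT hgT
    obtain ⟨s', hs', hd⟩ := exists_setStab hh hT
    rw [Nat.eq_of_mul_eq_mul_left (Nat.choose_pos hkn) (hs.trans hs'.symm)]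
    exact hd g hg hgT
  have harith2 : r * (n - (k - 1)) * s = k.factorial := by
    have h1 := Nat.descFactorial_eq_factorial_mul_choose n k
    have h2 : n.descFactorial k = (n - (k - 1)) * n.descFactorial (k - 1) := by
      conv_lhs => rw [show k = (k - 1) + 1 by omega, Nat.descFactorial_succ]
    rw [h2, ← hr, ← hs] at h1
    refine Nat.eq_of_mul_eq_mul_right (Nat.choose_pos (by omega : k ≤ n)) ?_
    rw [← h1]
    ring
  have hspos : 0 < s := by
    rcases Nat.eq_zero_or_pos s with rfl | h'
    · rw [mul_zero] at harith2; exact absurd harith2.symm (Nat.factorial_pos k).ne'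
    · exact h'
  have hd1 := choose_dvd_card hh1 (by omega)
  rw [← hn] at hd1
  by_cases hkeq : k = n
  · left
    refine ⟨hkeq, ?_⟩
    have hrh : r * h = 2 := by rw [harith1]; omega
    have hr2' : r = 2 := le_antisymm (Nat.le_of_dvd two_pos ⟨h, hrh.symm⟩) hr2
    rw [hkeq, Nat.choose_self, one_mul] at hs
    rw [hr2', hs, show n - (k - 1) = 1 by omega, mul_one, hkeq] at harith2
    refine Equiv.Perm.eq_alternatingGroup_of_index_eq_two ?_
    have h3 := Subgroup.card_mul_index G
    rw [Nat.card_perm, Nat.card_eq_fintype_card (α := α), ← hn, ← harith2, mul_comm 2] at h3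
    exact Nat.eq_of_mul_eq_mul_left Nat.card_pos h3
  have hlt : k < n := lt_of_le_of_ne hkn hkeq
  by_cases hk3 : k = 3
  · exfalso
    subst hk3
    norm_num [Nat.factorial] at harith1 harith2
    have hle : n ≤ 5 := by
      have : 2 * (n - 2) * 1 ≤ r * (n - 2) * s := Nat.mul_le_mul (Nat.mul_le_mul hr2 le_rfl) hspos
      omega
    have hrle : r ≤ 4 := by
      have : r * 1 * 1 ≤ r * h * 1 := Nat.mul_le_mul (Nat.mul_le_mul le_rfl (by omega)) le_rfl
      omega
    obtain ⟨rfl', hh1'⟩ : n = 4 ∧ h = 1 := by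
      clear_value n h
      interval_cases n <;> interval_cases r <;> omega
    rw [hG, rfl', hh1'] at hd1
    exact absurd hd1 (by decide)
  by_cases hk4 : k = 4
  · subst hk4
    norm_num [Nat.factorial] at harith1 harith2
    have hle : n ≤ 15 := by
      have : 2 * (n - 3) * 1 ≤ r * (n - 3) * s := Nat.mul_le_mul (Nat.mul_le_mul hr2 le_rfl) hspos
      omega
    have hrle : r ≤ 12 := by
      have : r * 2 * 1 ≤ r * (n - 3) * s := Nat.mul_le_mul (Nat.mul_le_mul le_rfl (by omega)) hspos
      omega
    have hns : (n = 5 ∧ h = 1) ∨ (n = 6 ∧ h = 1) ∨ (n = 11 ∧ s = 1) := by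
      clear_value n h
      interval_cases n <;> interval_cases r <;> omega
    rcases hns with ⟨h5, hh'⟩ | ⟨h6, hh'⟩ | ⟨h11, hs1⟩
    · right; left
      exact ⟨h5, rfl, by rw [hG, h5, hh']; rfl⟩
    · exfalso
      rw [hG, h6, hh'] at hd1
      exact absurd hd1 (by decide)
    · exfalso
      haveI := Fact.mk Nat.prime_two
      obtain ⟨g, hg⟩ := exists_prime_orderOf_dvd_card' (G := G) 2 (by
        rw [hG, h11]; exact Dvd.dvd.mul_right (by decide) _)
      rw [← Subgroup.orderOf_coe] at hg
      have hg2 : g.1 * g.1 = 1 := by rw [← pow_two, ← hg, pow_orderOf_eq_one]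
      have hf : (fixedSet g.1).card < 3 := by
        by_contra hge
        rw [hfree _ g.2 (by omega), orderOf_one] at hg
        omega
      obtain ⟨T, hT, hgT, -⟩ := exists_two_pairs hg2 (by omega)
      have := hsd _ g.2 T hT hgT
      rw [hg, hs1] at this
      exact absurd this (by decide)
  by_cases hk5 : k = 5
  · subst hk5
    by_cases hn6 : n = 6
    · right; right; left
      refine ⟨hn6, rfl, ?_⟩
      rw [hn6] at harith1
      have hr3 : r ≤ 3 := Nat.le_of_dvd (by norm_num) ⟨h, by omega⟩
      have : h = 1 := by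
        interval_cases r <;> omega
      rw [hG, hn6, this]; rfl
    have hse : 2 ∣ s := by
      obtain ⟨U, -, hU⟩ := exists_subset_card_eq (s := (univ : Finset α)) (n := 3)
        (by rw [card_univ]; omega)
      obtain ⟨a, b, c, hab, hac, hbc, rfl⟩ := card_eq_three.mp hU
      obtain ⟨g, hg, hgU⟩ := exists_map ht (by omega) (ι := ({a, b, c} : Finset α))
        (by rw [Fintype.card_coe, hU]) (Function.Embedding.subtype _)
        ((Function.Embedding.subtype _).trans (Equiv.swap a b).toEmbedding)
      have hga : g a = b := by simpa using hgU ⟨a, by simp⟩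
      have hgb : g b = a := by simpa using hgU ⟨b, by simp⟩
      have hgc : g c = c := by
        simpa [Equiv.swap_apply_of_ne_of_ne hac.symm hbc.symm] using hgU ⟨c, by simp⟩
      obtain ⟨o, ho | ho⟩ := Nat.even_or_odd' (orderOf g)
      swap
      · exfalso
        have h1 : (g ^ (2 * o + 1)) a = b := by
          rw [pow_succ', pow_mul, Equiv.Perm.mul_apply,
            Equiv.Perm.pow_apply_eq_self_of_apply_eq_self
              (by rw [pow_two, Equiv.Perm.mul_apply, hga, hgb] : (g ^ 2) a = a) o, hga]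
        rw [← ho, pow_orderOf_eq_one, Equiv.Perm.one_apply] at h1
        exact hab h1
      · have hopos := orderOf_pos g
        have hz2 : g ^ o * g ^ o = 1 := by
          rw [← pow_add, ← two_mul, ← ho, pow_orderOf_eq_one]
        have hz1 : g ^ o ≠ 1 := fun e => by
          have := Nat.le_of_dvd (by omega) (orderOf_dvd_of_pow_eq_one e)
          omega
        have hf : (fixedSet (g ^ o)).card < 4 := by
          by_contra hge
          exact hz1 (hfree _ (G.pow_mem hg o) (by omega))
        have hzc : (g ^ o) c = c := Equiv.Perm.pow_apply_eq_self_of_apply_eq_self hgc o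
        obtain ⟨T, hT, hzT, hTf⟩ := exists_two_pairs hz2 (by omega)
        have := hsd _ (G.pow_mem hg o) (insert c T)
          (by rw [card_insert_of_notMem (hTf c hzc), hT]) (by rw [image_insert, hzc, hzT])
        rwa [orderOf_eq_prime (by rw [pow_two]; exact hz2) hz1] at this
    obtain ⟨t, ht2⟩ := hse
    norm_num [Nat.factorial] at harith1 harith2
    have hle : n ≤ 34 := by
      have : 2 * (n - 4) * 2 ≤ r * (n - 4) * s :=
        Nat.mul_le_mul (Nat.mul_le_mul hr2 le_rfl) (by omega)
      omega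
    have hrle : r ≤ 20 := by
      have : r * 3 * 2 ≤ r * (n - 4) * s :=
        Nat.mul_le_mul (Nat.mul_le_mul le_rfl (by omega)) (by omega)
      omega
    have hns : (n = 7 ∧ h = 1) ∨ (n = 8 ∧ h = 1) ∨ (n = 9 ∧ (h = 1 ∨ h = 3)) ∨ (n = 24 ∧ h = 7) := by
      clear_value n h
      interval_cases n <;> interval_cases r <;> omega
    rcases hns with ⟨h7, hh'⟩ | ⟨h8, hh'⟩ | ⟨h9, hh'⟩ | ⟨h24, hh'⟩
    · exact (false_of_degree_seven hfree (hn ▸ h7) ht fun F hF => (hconst F hF).trans hh').elim
    · exfalso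
      rw [hG, h8, hh'] at hd1
      exact absurd hd1 (by decide)
    · right; right; right
      refine ⟨h9, rfl, ?_⟩
      rw [hG, h9]
      rcases hh' with hh' | hh' <;> rw [hh']
      · exact Or.inl rfl
      · exact Or.inr rfl
    · exact (false_of_degree_24 hfree (hn ▸ h24) ht hF₀ hh').elim
  exfalso
  have hk6 : 6 ≤ k := by omega
  by_cases hpar : 2 ∣ n - k
  swap
  · exact hnt (transitive_of_odd_parity hk6 hkn hfree hh1 ht hodd hpar)
  by_cases hk7 : 7 ≤ k
  · exact hnt (transitive_of_triple hk7 (by omega) hfree hh1 ht hodd hpar)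
  obtain rfl : k = 6 := by omega
  obtain ⟨x⟩ : Nonempty (Fin (6 - 1) ↪ α) :=
    Function.Embedding.nonempty_of_card_le (by rw [Fintype.card_fin]; omega)
  have hle2 := card_le_two_classes (by omega) hh1 x fun c d e f hcd hef hce hcf hde hdf =>
    double_swap_mem hk6 hkn hfree ht hodd hpar x hcd hef hce hcf hde hdf
  rw [← hn, ← hr] at hle2
  obtain rfl : r = 2 := le_antisymm (Nat.le_of_mul_le_mul_right hle2 Nat.card_pos) hr2
  norm_num [Nat.factorial] at harith1 harith2
  by_cases hn10 : n = 10
  · exact false_of_degree_ten hfree (hn ▸ hn10) ht hF₀ (by omega)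
  haveI := Fact.mk Nat.prime_three
  obtain ⟨g, hg⟩ := exists_prime_orderOf_dvd_card' (G := G) 3 (by
    rw [hG]
    exact Dvd.dvd.mul_right ((Nat.dvd_factorial (by norm_num) le_rfl).trans
      ((Nat.factorial_dvd_factorial (by omega : 3 ≤ 4)).trans (Nat.factorial_dvd_descFactorial n 4))) _)
  rw [← Subgroup.orderOf_coe] at hg
  have hf : (fixedSet g.1).card < 5 := by
    by_contra hge
    rw [hfree _ g.2 (by omega), orderOf_one] at hg
    omega
  obtain ⟨T, hT, hgT⟩ := exists_two_triples (hg ▸ pow_orderOf_eq_one g.1) (by omega)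
  obtain ⟨t, ht3⟩ := hg ▸ hsd _ g.2 T hT hgT
  have hle : n ≤ 125 := by
    have : 2 * (n - 5) * 3 ≤ 2 * (n - 5) * s := Nat.mul_le_mul le_rfl (by omega)
    omega
  clear_value n h
  interval_cases n <;> omega

end Cfsg.Agent.Lib.Perm.LivingstoneWagner
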