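import Cfsg.Agent.Lib.Perm.LivingstoneWagnerOdd

/-!
A `k`-transitive group, `4 ≤ k < n`, induces at least the alternating group on some `(k+1)`-set.

A maximal `p`-subgroup fixing more than `k` points has a normalizer which is `k`-transitive on its
fixed points, so only groups with semiregular `k`-point stabilizers are left. For these either a
class of ordered `(k+1)`-sets admits all permutations, or an involution count applies.
-/

open Equiv Finset MulAction
open scoped Pointwise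

namespace Cfsg.Agent.Lib.Perm.LivingstoneWagner

universe u

variable {α : Type u} [Fintype α] [DecidableEq α] {G : Subgroup (Equiv.Perm α)}

/-- Some set of `m` points has all its even permutations induced. -/
def HasInducedAlt (G : Subgroup (Equiv.Perm α)) (m : ℕ) : Prop :=
  ∃ Δ : Finset α, Δ.card = m ∧ ∀ σ : Equiv.Perm ↥Δ, σ ∈ alternatingGroup ↥Δ →
    ∃ g ∈ G, ∀ x : ↥Δ, g (x : α) = σ x

theorem hasInducedAlt_of_top {m : ℕ} (x : Fin m ↪ α) (hx : classSubgroup G x = ⊤) :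
    HasInducedAlt G m := by
  classical
  refine ⟨univ.image x, by rw [card_image_of_injective _ x.injective, card_univ, Fintype.card_fin],
    fun σ _ => ?_⟩
  let e : Fin m ≃ ↥(univ.image x) := Equiv.ofBijective
    (fun i => ⟨x i, mem_image_of_mem x (mem_univ i)⟩)
    ⟨fun i j h => x.injective (congrArg Subtype.val h), fun ⟨a, ha⟩ => by
      obtain ⟨i, -, rfl⟩ := mem_image.mp ha; exact ⟨i, rfl⟩⟩
  have hmem : e.symm.permCongr σ ∈ classSubgroup G x := by rw [hx]; trivial
  obtain ⟨g, hg, hgx⟩ := hmem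
  refine ⟨g, hg, fun a => ?_⟩
  obtain ⟨i, rfl⟩ := e.surjective a
  change g (x i) = _
  rw [hgx, Equiv.permCongr_apply, Equiv.symm_symm]
  exact congrArg Subtype.val (e.apply_symm_apply (σ (e i)))

theorem hasInducedAlt_of_small {k : ℕ} (ht : IsMultiplyPretransitive G α k)
    (hkn : k < Fintype.card α) (hsmall : Fintype.card α ≤ k + 2) : HasInducedAlt G (k + 1) := by
  classical
  haveI := ht
  have hA : alternatingGroup α ≤ G := by
    refine IsMultiplyPretransitive.alternatingGroup_le α G ?_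
    exact isMultiplyPretransitive_of_le (n := k) (by rw [Nat.card_eq_fintype_card]; omega)
      (by rw [Nat.card_eq_fintype_card]; omega)
  obtain ⟨Δ, -, hΔ⟩ := exists_subset_card_eq (s := (univ : Finset α)) (n := k + 1)
    (by rw [card_univ]; omega)
  refine ⟨Δ, hΔ, fun σ hσ => ⟨Equiv.Perm.ofSubtype σ, hA ?_, fun x => ?_⟩⟩
  · rw [Equiv.Perm.mem_alternatingGroup, Equiv.Perm.sign_ofSubtype]
    exact Equiv.Perm.mem_alternatingGroup.mp hσ
  · exact Equiv.Perm.ofSubtype_apply_of_mem σ x.2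

/-- A nontrivial element of prime power order fixing more than `k` points gives a smaller group. -/
theorem reduce {k : ℕ} (hk : 4 ≤ k) (hkn : k < Fintype.card α)
    (ht : IsMultiplyPretransitive G α k)
    (IH : ∀ (β : Type u) [Fintype β] [DecidableEq β] (G' : Subgroup (Equiv.Perm β)),
      Fintype.card β < Fintype.card α → k < Fintype.card β → IsMultiplyPretransitive G' β k →
      HasInducedAlt G' (k + 1))
    {w : Equiv.Perm α} (hw : w ∈ G) (hw1 : w ≠ 1) (hwf : k + 1 ≤ (fixedSet w).card) :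
    HasInducedAlt G (k + 1) := by
  classical
  -- an element of prime order with as many fixed points
  have ho : orderOf w ≠ 1 := fun h => hw1 (orderOf_eq_one_iff.mp h)
  obtain ⟨p, hp, hpw⟩ := Nat.exists_prime_and_dvd ho
  haveI := Fact.mk hp
  obtain ⟨u, hu, huf, huo⟩ : ∃ u ∈ G, k + 1 ≤ (fixedSet u).card ∧ orderOf u = p := by
    refine ⟨w ^ (orderOf w / p), G.pow_mem hw _, hwf.trans (card_le_card fun v hv => ?_),
      orderOf_pow_orderOf_div (orderOf_pos w).ne' hpw⟩
    rw [mem_fixedSet] at hv ⊢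
    exact Equiv.Perm.pow_apply_eq_self_of_apply_eq_self hv _
  let fx : Subgroup G → Finset α := fun R => univ.filter fun v => ∀ g ∈ R, (g : Equiv.Perm α) v = v
  have hfx : ∀ R v, v ∈ fx R ↔ ∀ g ∈ R, (g : Equiv.Perm α) v = v := fun R v => by simp [fx]
  let C : Finset (Subgroup G) :=
    Set.Finite.toFinset (Set.toFinite {R : Subgroup G | IsPGroup p R ∧ R ≠ ⊥ ∧ k + 1 ≤ (fx R).card})
  have hC : ∀ R, R ∈ C ↔ IsPGroup p R ∧ R ≠ ⊥ ∧ k + 1 ≤ (fx R).card := fun R => by simp [C]
  obtain ⟨P, hPC, hmax⟩ := C.exists_max_image (fun R => Nat.card R) ⟨Subgroup.zpowers ⟨u, hu⟩, by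
    have huo' : orderOf (⟨u, hu⟩ : G) = p := by rw [← Subgroup.orderOf_coe]; exact huo
    refine (hC _).mpr ⟨IsPGroup.of_card (n := 1) (by rw [Nat.card_zpowers, huo', pow_one]),
      fun h => ?_, huf.trans (card_le_card fun v hv => (hfx _ v).mpr fun g hg => ?_)⟩
    · rw [Subgroup.zpowers_eq_bot] at h
      rw [h, orderOf_one] at huo'
      exact hp.ne_one huo'.symm
    · obtain ⟨i, rfl⟩ := Subgroup.mem_zpowers_iff.mp hg
      rw [SubgroupClass.coe_zpow]
      exact Equiv.Perm.zpow_apply_eq_self_of_apply_eq_self (mem_fixedSet.mp hv) i⟩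
  obtain ⟨hP2, hPne, hPf⟩ := (hC P).mp hPC
  set Φ := fx P with hΦ
  have hmΦ : ∀ v, v ∈ Φ ↔ ∀ g ∈ P, (g : Equiv.Perm α) v = v := hfx P
  have hflt : Φ.card < Fintype.card α := by
    by_contra hge
    apply hPne
    rw [Subgroup.eq_bot_iff_forall]
    intro g hg
    refine Subtype.ext (Equiv.ext fun v => ?_)
    have : Φ = univ := eq_univ_of_card Φ (le_antisymm (card_le_univ _) (not_lt.mp hge))
    exact (hmΦ v).mp (this ▸ mem_univ v) g hg
  have hPfix : ∀ U : Finset α, U ⊆ Φ → P ≤ fixG G U := fun U hU g hg =>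
    mem_fixG.mpr fun v hv => (hmΦ v).mp (hU hv) g hg
  set M := Subgroup.normalizer (P : Set G) with hM
  obtain ⟨U₀, -, hU₀⟩ := exists_subset_card_eq (s := (univ : Finset α)) (n := k)
    (by rw [card_univ]; omega)
  have hMΦ : ∀ g : M, ∀ v, (g.1 : Equiv.Perm α) v ∈ Φ ↔ v ∈ Φ := by
    have hdir : ∀ g : M, ∀ v ∈ Φ, (g.1 : Equiv.Perm α) v ∈ Φ := by
      intro g v hv
      rw [hmΦ]
      intro y hy
      have h1 : g.1⁻¹ * y * g.1 ∈ P := by
        have := (Subgroup.mem_normalizer_iff.mp (inv_mem g.2) y).mp hy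
        rwa [inv_inv] at this
      have h2 := (hmΦ v).mp hv _ h1
      change g.1.1⁻¹ ((y : Equiv.Perm α) (g.1.1 v)) = v at h2
      rwa [Equiv.Perm.inv_eq_iff_eq] at h2
    intro g v
    refine ⟨fun h => ?_, hdir g v⟩
    have := hdir g⁻¹ _ h
    simpa using this
  let ρ : M →* Equiv.Perm {v // v ∈ Φ} :=
    { toFun := fun g => (g.1 : Equiv.Perm α).subtypePerm (hMΦ g)
      map_one' := by ext v; rfl
      map_mul' := fun g g' => by ext v; rfl }
  set G' := ρ.range with hG'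
  have hcardΦ : Fintype.card {v // v ∈ Φ} = Φ.card := Fintype.card_coe Φ
  have hidx : ∀ U : Finset α, U ⊆ Φ → U.card = k →
      (P.subgroupOf (fixG G U)).index * Nat.card P = Nat.card (fixG G U₀) := by
    intro U hUΦ hUc
    have h1 := Subgroup.card_mul_index (P.subgroupOf (fixG G U))
    rw [Nat.card_congr (Subgroup.subgroupOfEquivOfLe (hPfix U hUΦ)).toEquiv,
      card_fixG_eq_of_trans ht (by omega) hUc hU₀] at h1
    rw [← h1, mul_comm]
  have hidx_const : ∀ U V : Finset α, U ⊆ Φ → V ⊆ Φ → U.card = k → V.card = k →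
      (P.subgroupOf (fixG G U)).index = (P.subgroupOf (fixG G V)).index := fun U V hU hV hUc hVc =>
    Nat.eq_of_mul_eq_mul_right Nat.card_pos ((hidx U hU hUc).trans (hidx V hV hVc).symm)
  obtain ⟨U₁, hU₁Φ, hU₁⟩ := exists_subset_card_eq (s := Φ) (n := k) (by omega)
  have ht' : IsMultiplyPretransitive G' {v // v ∈ Φ} k := by
    by_cases hm : p ∣ (P.subgroupOf (fixG G U₁)).index
    · refine gleason hp (k := k) (by omega) (by rw [hcardΦ]; omega) fun s hs => ?_
      set U := s.image Subtype.val with hU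
      have hUc : U.card = k := by rw [hU, card_image_of_injective _ Subtype.val_injective, hs]
      have hUΦ : U ⊆ Φ := fun v hv => by
        obtain ⟨w, -, rfl⟩ := mem_image.mp hv; exact w.2
      set P' := P.subgroupOf (fixG G U) with hP'
      obtain ⟨Q, hQ⟩ := (hP2.comap_subtype (K := fixG G U)).exists_le_sylow
      have hlt : P' < (Q : Subgroup (fixG G U)) := by
        refine lt_of_le_of_ne hQ fun e => ?_
        have h1 := Q.not_dvd_index
        rw [← e, hP', hidx_const U U₁ hUΦ hU₁Φ hUc hU₁] at h1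
        exact h1 hm
      let R₀ : Subgroup G := M ⊓ (Q : Subgroup (fixG G U)).map (fixG G U).subtype
      have hR₀ : IsPGroup p R₀ := (Q.isPGroup'.map _).to_le inf_le_right
      refine ⟨((R₀.subgroupOf M).map ρ.rangeRestrict), (hR₀.comap_subtype).map _, ?_⟩
      ext w
      constructor
      · intro hw
        by_contra hws
        rw [Finset.mem_coe] at hws
        have hwU : w.1 ∉ U := by
          rw [hU, mem_image]
          rintro ⟨w', hw', e⟩
          exact hws (Subtype.ext e ▸ hw')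
        have hR₀B : ∀ v ∈ insert w.1 U, ∀ y ∈ R₀, (y : Equiv.Perm α) v = v := by
          intro v hv y hy
          rcases mem_insert.mp hv with rfl | hv
          · have hyM : (⟨y, hy.1⟩ : M) ∈ R₀.subgroupOf M := hy
            exact congrArg Subtype.val (hw ⟨_, Subgroup.mem_map_of_mem ρ.rangeRestrict hyM⟩)
          · obtain ⟨q, -, rfl⟩ := Subgroup.mem_map.mp hy.2
            exact mem_fixG.mp q.2 v hv
        have hPR : P ≤ R₀ := le_inf Subgroup.le_normalizer (fun y hy =>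
          ⟨⟨y, hPfix U hUΦ hy⟩, hQ hy, rfl⟩)
        have hR₀C : R₀ ∈ C := (hC _).mpr ⟨hR₀, fun h => hPne (le_bot_iff.mp (h ▸ hPR)),
          le_trans (by rw [card_insert_of_notMem hwU, hUc])
            (card_le_card fun v hv => (hfx _ v).mpr (hR₀B v hv))⟩
        have hPmax : R₀ = P := (Subgroup.eq_of_le_of_card_ge hPR (hmax _ hR₀C)).symm
        haveI : Group.IsNilpotent (Q : Subgroup (fixG G U)) := Q.isPGroup'.isNilpotent
        have hnc := normalizerCondition_of_isNilpotent (G := (Q : Subgroup (fixG G U)))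
          (P'.subgroupOf Q) (lt_top_iff_ne_top.mpr fun e =>
            hlt.not_ge (Subgroup.subgroupOf_eq_top.mp e))
        obtain ⟨y, hy, hy'⟩ := SetLike.exists_of_lt hnc
        have hyM : y.1.1 ∈ M := by
          rw [hM, Subgroup.mem_normalizer_iff]
          intro q
          constructor
          · intro hq
            exact (Subgroup.mem_normalizer_iff.mp hy ⟨⟨q, hPfix U hUΦ hq⟩, hQ hq⟩).mp hq
          · intro hq
            have hqU : q ∈ fixG G U := by
              have h1 := mul_mem (mul_mem (inv_mem y.1.2) (hPfix U hUΦ hq)) y.1.2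
              rwa [show y.1.1⁻¹ * (y.1.1 * q * y.1.1⁻¹) * y.1.1 = q by group] at h1
            have hqQ : (⟨q, hqU⟩ : fixG G U) ∈ (Q : Subgroup (fixG G U)) := by
              have h0 : y.1 * ⟨q, hqU⟩ * y.1⁻¹ ∈ (Q : Subgroup (fixG G U)) := hQ hq
              have h1 := mul_mem (mul_mem (inv_mem y.2) h0) y.2
              rwa [show y.1⁻¹ * (y.1 * ⟨q, hqU⟩ * y.1⁻¹) * y.1 = ⟨q, hqU⟩ by group] at h1
            exact (Subgroup.mem_normalizer_iff.mp hy ⟨⟨q, hqU⟩, hqQ⟩).mpr hq
        have hyP : y.1.1 ∈ P := hPmax ▸ (⟨hyM, ⟨y.1, y.2, rfl⟩⟩ : y.1.1 ∈ R₀)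
        exact hy' hyP
      · rintro hw ⟨y, hy⟩
        obtain ⟨y', hy', rfl⟩ := Subgroup.mem_map.mp hy
        obtain ⟨q, -, hqe⟩ := Subgroup.mem_map.mp (hy'.2 : y'.1 ∈ _)
        apply Subtype.ext
        change y'.1.1 w.1 = w.1
        exact (congrArg (fun g : G => (g : Equiv.Perm α) w.1) hqe).symm.trans
          (mem_fixG.mp q.2 _ (mem_image_of_mem Subtype.val (Finset.mem_coe.mp hw)))
    · refine ⟨fun x y => ?_⟩
      obtain ⟨g, hg, hgxy⟩ := exists_map ht (by omega) (ι := Fin k) (by rw [Fintype.card_fin])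
        (x.trans (Function.Embedding.subtype _)) (y.trans (Function.Embedding.subtype _))
      set B := univ.image fun i => (x i).1 with hB
      have hBΦ : B ⊆ Φ := fun v hv => by
        obtain ⟨i, -, rfl⟩ := mem_image.mp hv; exact (x i).2
      have hgΦ : B.image g ⊆ Φ := fun v hv => by
        obtain ⟨v', hv', rfl⟩ := mem_image.mp hv
        obtain ⟨i, -, rfl⟩ := mem_image.mp hv'
        exact (hgxy i).symm ▸ (y i).2
      set B₂ := B.image g with hB₂
      have hB₂c : B₂.card = k := by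
        rw [hB₂, card_image_of_injective _ g.injective, hB,
          card_image_of_injective _ (fun i j h => x.injective (Subtype.ext h)), card_univ,
          Fintype.card_fin]
      let g₀ : G := ⟨g, hg⟩
      let S₂ : Sylow p (fixG G B₂) := (hP2.comap_subtype (K := fixG G B₂)).toSylow
        (show ¬ p ∣ (P.subgroupOf (fixG G B₂)).index by
          rw [hidx_const _ U₁ hgΦ hU₁Φ hB₂c hU₁]; exact hm)
      have hconj : ∀ y ∈ P, g₀ * y * g₀⁻¹ ∈ fixG G B₂ := fun y hy => mem_fixG.mpr fun v hv => by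
        obtain ⟨w, hw, rfl⟩ := mem_image.mp hv
        change g ((y : Equiv.Perm α) (g⁻¹ (g w))) = g w
        rw [show g⁻¹ (g w) = w from g.symm_apply_apply w, (hmΦ w).mp (hBΦ hw) y hy]
      have hQ2 : IsPGroup p (P.map (MulAut.conj g₀).toMonoidHom) := hP2.map _
      obtain ⟨S₁, hS₁⟩ := (hQ2.comap_subtype (K := fixG G B₂)).exists_le_sylow
      obtain ⟨c, hc⟩ := MulAction.exists_smul_eq (fixG G B₂) S₁ S₂
      have hmap : ∀ y ∈ (P : Set G), (c.1 * g₀) * y * (c.1 * g₀)⁻¹ ∈ (P : Set G) := by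
        intro y hy
        have h1 : (⟨g₀ * y * g₀⁻¹, hconj y hy⟩ : fixG G B₂) ∈ S₁ := hS₁ ⟨y, hy, rfl⟩
        have h2 : c * ⟨g₀ * y * g₀⁻¹, hconj y hy⟩ * c⁻¹ ∈ (S₂ : Subgroup (fixG G B₂)) := by
          rw [← hc, Sylow.coe_subgroup_smul]
          exact Subgroup.smul_mem_pointwise_smul _ (MulAut.conj c) _ h1
        have h3 : c.1 * (g₀ * y * g₀⁻¹) * c.1⁻¹ ∈ P := h2
        rwa [show c.1 * g₀ * y * (c.1 * g₀)⁻¹ = c.1 * (g₀ * y * g₀⁻¹) * c.1⁻¹ by group]
      refine ⟨⟨ρ ⟨c.1 * g₀, Subgroup.mem_normalizer_fintype hmap⟩, ⟨_, rfl⟩⟩, ?_⟩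
      ext i
      change c.1.1 (g (x i).1) = (y i).1
      rw [mem_fixG.mp c.2 _ (mem_image_of_mem g (mem_image_of_mem _ (mem_univ i)))]
      exact hgxy i
  obtain ⟨Δ, hΔ, hind⟩ := IH {v // v ∈ Φ} G' (by rw [hcardΦ]; exact hflt) (by rw [hcardΦ]; omega) ht'
  refine ⟨Δ.map (Function.Embedding.subtype _), by rw [card_map, hΔ], fun σ hσ => ?_⟩
  let e : ↥Δ ≃ ↥(Δ.map (Function.Embedding.subtype (fun v => v ∈ Φ))) :=
    Equiv.ofBijective (fun d => ⟨d.1.1, mem_map_of_mem _ d.2⟩)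
      ⟨fun i j h => Subtype.ext (Subtype.ext (congrArg (fun q => q.1) h :)), fun ⟨a, ha⟩ => by
        obtain ⟨d, hd, rfl⟩ := mem_map.mp ha; exact ⟨⟨d, hd⟩, rfl⟩⟩
  obtain ⟨g, ⟨m, hm⟩, hgσ⟩ := hind (e.symm.permCongr σ) (by
    rw [Equiv.Perm.mem_alternatingGroup, Equiv.Perm.sign_permCongr]
    exact Equiv.Perm.mem_alternatingGroup.mp hσ)
  refine ⟨m.1.1, m.1.2, fun a => ?_⟩
  obtain ⟨d, rfl⟩ := e.surjective a
  have h1 := hgσ d
  rw [Equiv.permCongr_apply, Equiv.symm_symm] at h1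
  have h2 : (m.1 : Equiv.Perm α) d.1.1 = ((e.symm (σ (e d))).1).1 := by
    rw [← h1, ← hm]; rfl
  exact h2.trans (congrArg Subtype.val (e.apply_symm_apply (σ (e d))))

theorem generated_by_fixed {k : ℕ} (hk : 5 ≤ k) (hkn : k + 3 ≤ Fintype.card α)
    (hfree : ∀ g ∈ G, k ≤ (fixedSet g).card → g = 1)
    (ht : IsMultiplyPretransitive G α (k - 1))
    (hoddK : ∀ U : Finset α, U.card = k - 1 → Odd (Nat.card (fixG G U)))
    {U : Finset α} (hU : U.card = k - 1) {a b c d : α}
    (haU : a ∈ U) (hbU : b ∈ U) (hcU : c ∈ U) (hdU : d ∈ U)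
    (hab : a ≠ b) (hcd : c ≠ d) (hac : a ≠ c) (had : a ≠ d) (hbc : b ≠ c) (hbd : b ≠ d)
    (hpat : ∀ a b c d : α, a ∈ U → b ∈ U → c ∈ U → d ∈ U →
      a ≠ b → c ≠ d → a ≠ c → a ≠ d → b ≠ c → b ≠ d → ∀ z ∈ G, z * z = 1 →
      (∀ v ∈ U, z v = (Equiv.swap a b * Equiv.swap c d) v) → (fixedSet z).card = k - 3) :
    Nat.card (fixG G U) = 1 := by
  classical
  obtain ⟨hs2, hsa, hsb, hsc, hsd, hso⟩ := double_apply hab hcd hac had hbc hbd
  obtain ⟨ht2, hta, htc, htb, htd, hto⟩ := double_apply hac hbd hab had hbc.symm hcd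
  obtain ⟨hu2, hua, hud, hub, huc, huo⟩ := double_apply had hbc hab hac hbd.symm hcd.symm
  set s := Equiv.swap a b * Equiv.swap c d with hsdef
  set t := Equiv.swap a c * Equiv.swap b d with htdef
  set u := Equiv.swap a d * Equiv.swap b c with hudef
  have hst : ∀ i, s (t i) = u i := by
    intro i
    by_cases hia : i = a
    · subst hia; rw [hta, hsc, hua]
    by_cases hib : i = b
    · subst hib; rw [htb, hsd, hub]
    by_cases hic : i = c
    · subst hic; rw [htc, hsa, huc]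
    by_cases hid : i = d
    · subst hid; rw [htd, hsb, hud]
    rw [hto i (by simp [hia, hib, hic, hid]), hso i (by simp [hia, hib, hic, hid]),
      huo i (by simp [hia, hib, hic, hid])]
  have hsu : ∀ i, s (u i) = t i := fun i => by
    rw [← hst, ← Equiv.Perm.mul_apply, hs2, Equiv.Perm.one_apply]
  have hinU : ∀ a b c d : α, a ∈ U → b ∈ U → c ∈ U → d ∈ U →
      ∀ v ∈ U, (Equiv.swap a b * Equiv.swap c d) v ∈ U := by
    intro a b c d ha hb hc hd v hv
    have hsw : ∀ a b : α, a ∈ U → b ∈ U → ∀ v ∈ U, Equiv.swap a b v ∈ U := by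
      intro a b ha hb v hv
      rw [Equiv.swap_apply_def]
      split_ifs <;> assumption
    rw [Equiv.Perm.mul_apply]
    exact hsw a b ha hb _ (hsw c d hc hd v hv)
  have lift : ∀ σ : Equiv.Perm α, σ * σ = 1 → (∀ v ∈ U, σ v ∈ U) →
      ∃ z ∈ G, z * z = 1 ∧ ∀ v ∈ U, z v = σ v := by
    intro σ hσ hσU
    obtain ⟨g, hg, hgU⟩ := exists_map ht (by omega) (ι := U) (by rw [Fintype.card_coe, hU])
      (Function.Embedding.subtype _) ((Function.Embedding.subtype _).trans σ.toEmbedding)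
    have hgU' : ∀ v ∈ U, g v = σ v := fun v hv => hgU ⟨v, hv⟩
    obtain ⟨z, hz, hz2, hzg⟩ := involution_of_odd (hoddK U hU) hg fun v hv => by
      rw [hgU' v hv, hgU' _ (hσU v hv), ← Equiv.Perm.mul_apply, hσ, Equiv.Perm.one_apply]
    exact ⟨z, hz, hz2, fun v hv => by rw [hzg v hv, hgU' v hv]⟩
  obtain ⟨z₁, hz₁, hz₁2, hz₁x⟩ := lift s hs2 (hinU a b c d haU hbU hcU hdU)
  obtain ⟨z₂, hz₂, hz₂2, hz₂x⟩ := lift t ht2 (hinU a c b d haU hcU hbU hdU)
  obtain ⟨j, hj⟩ := hoddK U hU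
  set v := z₁ * z₂ with hv
  have hvx : ∀ i ∈ U, v i = u i := fun i hi => by
    rw [hv, Equiv.Perm.mul_apply, hz₂x i hi, hz₁x _ (hinU a c b d haU hcU hbU hdU i hi)]
    exact hst i
  have huU := hinU a d b c haU hdU hbU hcU
  have hv2x : ∀ w ∈ U, (v * v) w = w := by
    intro w hw
    rw [Equiv.Perm.mul_apply, hvx w hw, hvx _ (huU w hw), ← Equiv.Perm.mul_apply, hu2,
      Equiv.Perm.one_apply]
  have hvG : v ∈ G := G.mul_mem hz₁ hz₂
  have hvpow : (v * v) ^ (2 * j + 1) = 1 := by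
    rw [← hj]
    exact congrArg (fun q : fixG G U => q.1.1) (pow_card_eq_one'
      (x := (⟨⟨v * v, G.mul_mem hvG hvG⟩, mem_fixG.mpr hv2x⟩ : fixG G U)))
  set z₃ := v ^ (2 * j + 1) with hz₃def
  have hz₃2 : z₃ * z₃ = 1 := by rw [hz₃def, ← (Commute.refl v).mul_pow]; exact hvpow
  have hz₃x : ∀ i ∈ U, z₃ i = u i := fun i hi => by
    rw [hz₃def, pow_succ', pow_mul, pow_two, Equiv.Perm.mul_apply,
      Equiv.Perm.pow_apply_eq_self_of_apply_eq_self (hv2x i hi) j, hvx i hi]
  have hinv₁ : z₁⁻¹ = z₁ := inv_eq_of_mul_eq_one_right hz₁2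
  have hinv₂ : z₂⁻¹ = z₂ := inv_eq_of_mul_eq_one_right hz₂2
  have hcomm : z₁ * z₃ = z₃ * z₁ := by
    have h3 : z₁ * z₃ * z₁⁻¹ = z₃ := by
      rw [hz₃def, ← conj_pow]
      have h4 : z₁ * v * z₁⁻¹ = v⁻¹ := by
        rw [hv, mul_inv_rev, hinv₁, hinv₂, ← mul_assoc z₁ z₁ z₂, hz₁2, one_mul]
      rw [h4, inv_pow]
      exact inv_eq_of_mul_eq_one_right hz₃2
    calc z₁ * z₃ = z₁ * z₃ * z₁⁻¹ * z₁ := by group
      _ = z₃ * z₁ := by rw [h3]
  let Z₁ : G := ⟨z₁, hz₁⟩
  let Z₃ : G := ⟨z₃, G.pow_mem hvG _⟩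
  have e1 : Z₁ * Z₁ = 1 := Subtype.ext hz₁2
  have e3 : Z₃ * Z₃ = 1 := Subtype.ext hz₃2
  have ec : Z₁ * Z₃ = Z₃ * Z₁ := Subtype.ext hcomm
  have e1' : ∀ w : G, Z₁ * (Z₁ * w) = w := fun w => by rw [← mul_assoc, e1, one_mul]
  have e3' : ∀ w : G, Z₃ * (Z₃ * w) = w := fun w => by rw [← mul_assoc, e3, one_mul]
  have ec' : ∀ w : G, Z₃ * (Z₁ * w) = Z₁ * (Z₃ * w) := fun w => by rw [← mul_assoc, ← ec, mul_assoc]
  have hi1 : Z₁⁻¹ = Z₁ := inv_eq_of_mul_eq_one_right e1
  have hi3 : Z₃⁻¹ = Z₃ := inv_eq_of_mul_eq_one_right e3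
  let A : Subgroup G :=
    { carrier := {w | w = 1 ∨ w = Z₁ ∨ w = Z₃ ∨ w = Z₁ * Z₃}
      one_mem' := Or.inl rfl
      mul_mem' := by
        rintro p q (rfl | rfl | rfl | rfl) (rfl | rfl | rfl | rfl) <;>
          simp [e1, e3, e1', e3', ← ec, ec', mul_assoc]
      inv_mem' := by
        rintro p (rfl | rfl | rfl | rfl) <;> simp [hi1, hi3, ← ec] }
  have hAm : ∀ w, w ∈ A ↔ w = 1 ∨ w = Z₁ ∨ w = Z₃ ∨ w = Z₁ * Z₃ := fun w => Iff.rfl
  haveI : IsMulCommutative A := ⟨⟨by
    rintro ⟨p, hp⟩ ⟨q, hq⟩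
    apply Subtype.ext
    rcases (hAm p).mp hp with rfl | rfl | rfl | rfl <;>
      rcases (hAm q).mp hq with rfl | rfl | rfl | rfl <;>
        simp [e1, e3, e1', e3', ← ec, ec', mul_assoc]⟩⟩
  have hA2 : ∀ w : A, w ^ 2 = 1 := by
    rintro ⟨w, hw⟩
    apply Subtype.ext
    change w ^ 2 = 1
    rw [pow_two]
    rcases (hAm w).mp hw with rfl | rfl | rfl | rfl <;> simp [e1, e3, e1', e3', ec', mul_assoc]
  have hne1 : Z₁ ≠ 1 := fun h => hab (by
    have := hz₁x a haU
    rw [hsa, show z₁ = 1 from congrArg Subtype.val h, Equiv.Perm.one_apply] at this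
    exact this)
  have hne3 : Z₃ ≠ 1 := fun h => had (by
    have := hz₃x a haU
    rw [hua, show z₃ = 1 from congrArg Subtype.val h, Equiv.Perm.one_apply] at this
    exact this)
  have hne13 : Z₁ ≠ Z₃ := fun h => hbd (by
    have h1 := hz₁x a haU
    rw [hsa, show z₁ = z₃ from congrArg Subtype.val h, hz₃x a haU, hua] at h1
    exact h1.symm)
  have hA : ¬ IsCyclic A := by
    intro hc
    obtain ⟨g, hg⟩ := hc.exists_generator
    have h2 : Nat.card A ≤ 2 := by
      rw [← orderOf_eq_card_of_forall_mem_zpowers hg]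
      exact Nat.le_of_dvd two_pos (orderOf_dvd_of_pow_eq_one (hA2 g))
    have h3 := Nat.card_le_card_of_injective (fun i : Fin 3 =>
        (![⟨1, (hAm _).mpr (Or.inl rfl)⟩, ⟨Z₁, (hAm _).mpr (Or.inr (Or.inl rfl))⟩,
          ⟨Z₃, (hAm _).mpr (Or.inr (Or.inr (Or.inl rfl)))⟩] i : A)) (by
      intro i j hij
      fin_cases i <;> fin_cases j <;>
        simp [Subtype.ext_iff, hne1, hne3, hne1.symm, hne3.symm, hne13, hne13.symm] at hij ⊢)
    rw [Nat.card_fin] at h3
    omega
  set K := fixG G U with hK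
  have hnorm : ∀ (Z : G) (σ : Equiv.Perm α), σ * σ = 1 → (∀ v ∈ U, σ v ∈ U) →
      (∀ v ∈ U, Z.1 v = σ v) → ∀ w ∈ K, Z * w * Z⁻¹ ∈ K := by
    intro Z σ hσ hσU hZ w hw
    refine mem_fixG.mpr fun q hq => ?_
    have h1 : Z.1⁻¹ q = σ q := by
      rw [Equiv.Perm.inv_eq_iff_eq, hZ _ (hσU q hq), ← Equiv.Perm.mul_apply, hσ,
        Equiv.Perm.one_apply]
    change Z.1 (w.1 (Z.1⁻¹ q)) = q
    rw [h1, mem_fixG.mp hw _ (hσU q hq), hZ _ (hσU q hq), ← Equiv.Perm.mul_apply, hσ,
      Equiv.Perm.one_apply]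
  have hN₁ := hnorm Z₁ s hs2 (hinU a b c d haU hbU hcU hdU) hz₁x
  have hN₃ := hnorm Z₃ u hu2 huU hz₃x
  have hAK : A ≤ Subgroup.normalizer (K : Set G) := by
    intro Z hZ
    have hmem : ∀ Z : G, Z * Z = 1 → (∀ w ∈ K, Z * w * Z⁻¹ ∈ K) →
        Z ∈ Subgroup.normalizer (K : Set G) := by
      intro Z hZ2 hZK
      rw [Subgroup.mem_normalizer_iff]
      refine fun w => ⟨hZK w, fun hw => ?_⟩
      have := hZK _ hw
      have hZi : Z⁻¹ = Z := inv_eq_of_mul_eq_one_right hZ2
      rw [hZi, show Z * (Z * w * Z) * Z = (Z * Z) * w * (Z * Z) by group, hZ2, one_mul, mul_one]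
        at this
      exact this
    rcases (hAm Z).mp hZ with rfl | rfl | rfl | rfl
    · exact one_mem _
    · exact hmem _ e1 hN₁
    · exact hmem _ e3 hN₃
    · exact mul_mem (hmem _ e1 hN₁) (hmem _ e3 hN₃)
  haveI := Fact.mk Nat.prime_two
  have hcop : (Nat.card A).Coprime (Nat.card K) := by
    have hp2 : IsPGroup 2 A := fun w => ⟨1, by rw [pow_one]; exact hA2 w⟩
    obtain ⟨e, he⟩ := IsPGroup.iff_card.mp hp2
    rw [he]
    exact Nat.Coprime.pow_left e (Nat.coprime_two_left.mpr (hoddK U hU))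
  have hbot : K = ⊥ := by
    rw [eq_bot_iff, ← Coprime.iSup_centralizer_eq hA hAK hcop]
    refine iSup₂_le fun Z hZ w hw => ?_
    obtain ⟨hwK, hwC⟩ := Subgroup.mem_inf.mp hw
    rw [Subgroup.mem_centralizer_singleton_iff] at hwC
    obtain ⟨sa, sb, sc, sd, e_a, e_b, e_c, e_d, e_ab, e_cd, e_ac, e_ad, e_bc, e_bd, hZx⟩ :
        ∃ sa sb sc sd : α, sa ∈ U ∧ sb ∈ U ∧ sc ∈ U ∧ sd ∈ U ∧ sa ≠ sb ∧ sc ≠ sd ∧ sa ≠ sc ∧
          sa ≠ sd ∧ sb ≠ sc ∧ sb ≠ sd ∧
          ∀ i ∈ U, Z.1 i = (Equiv.swap sa sb * Equiv.swap sc sd) i := by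
      rcases (hAm Z).mp hZ.1 with rfl | rfl | rfl | rfl
      · exact absurd rfl hZ.2
      · exact ⟨a, b, c, d, haU, hbU, hcU, hdU, hab, hcd, hac, had, hbc, hbd, hz₁x⟩
      · exact ⟨a, d, b, c, haU, hdU, hbU, hcU, had, hbc, hab, hac, hbd.symm, hcd.symm, hz₃x⟩
      · refine ⟨a, c, b, d, haU, hcU, hbU, hdU, hac, hbd, hab, had, hbc.symm, hcd, fun i hi => ?_⟩
        change z₁ (z₃ i) = t i
        rw [hz₃x i hi, hz₁x _ (huU i hi)]
        exact hsu i
    have hZ2 : Z.1 * Z.1 = 1 :=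
      congrArg (fun q : A => q.1.1) ((pow_two (⟨Z, hZ.1⟩ : A)).symm.trans (hA2 ⟨Z, hZ.1⟩))
    have hf := hpat sa sb sc sd e_a e_b e_c e_d e_ab e_cd e_ac e_ad e_bc e_bd Z.1 Z.2 hZ2 hZx
    obtain ⟨-, -, -, -, -, hσo⟩ := double_apply e_ab e_cd e_ac e_ad e_bc e_bd
    set R := U \ {sa, sb, sc, sd} with hR
    have hRc : R.card = k - 5 := by
      rw [hR, card_sdiff_of_subset (by
        intro q hq; simp only [mem_insert, mem_singleton] at hq
        rcases hq with rfl | rfl | rfl | rfl <;> assumption), hU,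
        card_four e_ab e_cd e_ac e_ad e_bc e_bd]
      omega
    have hRf : R ⊆ fixedSet Z.1 := fun q hq => by
      rw [hR, mem_sdiff] at hq
      rw [mem_fixedSet, hZx q hq.1, hσo q hq.2]
    obtain ⟨w₁, w₂, hw12, hwR⟩ := card_eq_two.mp
      (by rw [card_sdiff_of_subset hRf, hf, hRc]; omega : (fixedSet Z.1 \ R).card = 2)
    have hwfix : ∀ q, Z.1 q = q → Z.1 (w.1 q) = w.1 q := fun q hq => by
      have h3 := congrArg (fun r : G => r.1 q) hwC
      simp only [Subgroup.coe_mul, Equiv.Perm.mul_apply] at h3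
      rw [hq] at h3
      exact h3.symm
    have hwU : ∀ q ∈ U, w.1 q = q := mem_fixG.mp hwK
    obtain ⟨hsw2, hswa, hswb, hswc, hswd, -⟩ := double_apply e_ab e_cd e_ac e_ad e_bc e_bd
    have houtU : ∀ q, q ∈ fixedSet Z.1 \ R → q ∉ U := by
      intro q hq hqU
      rw [mem_sdiff, mem_fixedSet, hZx q hqU] at hq
      refine hq.2 (mem_sdiff.mpr ⟨hqU, fun hm => ?_⟩)
      simp only [mem_insert, mem_singleton] at hm
      rcases hm with rfl | rfl | rfl | rfl
      · rw [hswa] at hq; exact e_ab hq.1.symm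
      · rw [hswb] at hq; exact e_ab hq.1
      · rw [hswc] at hq; exact e_cd hq.1.symm
      · rw [hswd] at hq; exact e_cd hq.1
    have hperm : ∀ q ∈ fixedSet Z.1 \ R, w.1 q ∈ fixedSet Z.1 \ R := by
      intro q hq
      rw [mem_sdiff]
      refine ⟨mem_fixedSet.mpr (hwfix q (mem_fixedSet.mp (mem_sdiff.mp hq).1)), fun h => ?_⟩
      have hU' : w.1 q ∈ U := (mem_sdiff.mp h).1
      have h' := w.1.injective (hwU _ hU')
      exact houtU q hq (h' ▸ hU')
    -- `w²` fixes `k` points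
    have hsq : ∀ q ∈ fixedSet Z.1 \ R, w.1 (w.1 q) = q := by
      intro q hq
      have h1 := hperm q hq
      have h2 := hperm _ h1
      rw [hwR] at hq h1 h2
      simp only [mem_insert, mem_singleton] at hq h1 h2
      rcases hq with rfl | rfl <;> rcases h1 with h1 | h1 <;> rcases h2 with h2 | h2 <;>
        first
          | exact h2
          | (rw [h1] at h2; exact (h1.trans h1.symm ▸ h2))
          | (exfalso; rw [h1] at h2; first | exact hw12 (h1.symm.trans h2) | exact hw12 (h2.symm.trans h1))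
          | skip
      all_goals
        exfalso
        first
          | exact hw12 ((w.1.injective (h2.trans h1.symm)).symm.trans h1)
          | exact hw12 (h1.symm.trans (w.1.injective (h2.trans h1.symm)))
    have hw₁m : w₁ ∈ fixedSet Z.1 \ R := by rw [hwR]; simp
    have hsq1 : w.1 * w.1 = 1 := hfree _ (G.mul_mem w.2 w.2) (le_trans
      (by rw [card_insert_of_notMem (houtU w₁ hw₁m), hU]; omega)
      (card_le_card (show insert w₁ U ⊆ fixedSet (w.1 * w.1) from fun q hq => by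
        rw [mem_fixedSet, Equiv.Perm.mul_apply]
        rcases mem_insert.mp hq with rfl | hq
        · exact hsq q hw₁m
        · rw [hwU q hq, hwU q hq])))
    obtain ⟨l, hl⟩ := hoddK U hU
    have h7 : w ^ (2 * l + 1) = 1 := by
      rw [← hl]
      exact congrArg Subtype.val (pow_card_eq_one' (x := (⟨w, hwK⟩ : K)))
    rw [pow_succ', pow_mul, pow_two, show w * w = 1 from Subtype.ext hsq1, one_pow, mul_one] at h7
    rw [Subgroup.mem_bot]
    exact h7
  rw [hbot, Subgroup.card_bot]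

/-- Some `(k+1)`-set has all its even permutations induced. -/
theorem hasInducedAlt {k : ℕ} (hk : 4 ≤ k) (hkn : k < Fintype.card α)
    (ht : IsMultiplyPretransitive G α k) : HasInducedAlt G (k + 1) := by
  classical
  suffices ∀ (n : ℕ) (β : Type u) [Fintype β] [DecidableEq β] (G' : Subgroup (Equiv.Perm β)),
      Fintype.card β = n → k < n → IsMultiplyPretransitive G' β k → HasInducedAlt G' (k + 1) from
    this _ α G rfl hkn ht
  intro n
  induction n using Nat.strong_induction_on with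
  | _ n ih =>
    intro β _ _ G' hn hkn ht
    subst hn
    by_cases hsmall : Fintype.card β ≤ k + 2
    · exact hasInducedAlt_of_small ht hkn hsmall
    by_cases hbig : ∃ w ∈ G', w ≠ 1 ∧ k + 1 ≤ (fixedSet w).card
    · obtain ⟨w, hw, hw1, hwf⟩ := hbig
      exact reduce hk hkn ht (fun γ _ _ H hlt hkc hH => ih _ hlt γ H rfl hkc hH) hw hw1 hwf
    push Not at hbig
    have hfree : ∀ g ∈ G', k + 1 ≤ (fixedSet g).card → g = 1 := fun g hg hc => by
      by_contra h1
      exact absurd hc (not_le.mpr (hbig g hg h1))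
    have hone : ∀ B : Finset β, B.card = k + 1 → Nat.card (fixG G' B) = 1 := fun B hB => by
      have : fixG G' B = ⊥ := by
        rw [Subgroup.eq_bot_iff_forall]
        exact fun g hg => Subtype.ext (hfree g.1 g.2 (hB ▸ card_le_card fun v hv =>
          mem_fixedSet.mpr (mem_fixG.mp hg v hv)))
      rw [this, Subgroup.card_bot]
    have ht' : IsMultiplyPretransitive G' β (k + 1 - 1) := ht
    obtain ⟨U₀, -, hU₀⟩ := exists_subset_card_eq (s := (univ : Finset β)) (n := k)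
      (by rw [card_univ]; omega)
    by_cases h2 : 2 ∣ Nat.card (fixG G' U₀)
    · obtain ⟨x, hx⟩ := exists_class_top_of_even_odd (G := G') (k := k + 1) (by omega) (by omega)
        (fun B hB => by rw [hone B hB]; exact odd_one)
        (fun U hU => by rw [card_fixG_eq_of_trans ht (by omega) (by omega : U.card = k) hU₀]; exact h2)
      exact hasInducedAlt_of_top x hx
    have hoddK : ∀ U : Finset β, U.card = k + 1 - 1 → Odd (Nat.card (fixG G' U)) := fun U hU => by
      rw [card_fixG_eq_of_trans ht (by omega) (by omega : U.card = k) hU₀, Nat.odd_iff]; omega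
    obtain ⟨F, -, hF⟩ := exists_subset_card_eq (s := (univ : Finset β)) (n := k - 2)
      (by rw [card_univ]; omega)
    obtain ⟨a, ha, b, hb, hab⟩ := one_lt_card.mp (by rw [card_compl, hF]; omega : 1 < Fᶜ.card)
    rw [mem_compl] at ha hb
    set U : Finset β := insert a (insert b F) with hU
    have hUc : U.card = k := by
      rw [hU, card_insert_of_notMem (by simp [ha, hab]), card_insert_of_notMem hb, hF]; omega
    obtain ⟨g, hg, hgU⟩ := exists_map ht (by omega) (ι := U) (by rw [Fintype.card_coe, hUc])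
      (Function.Embedding.subtype _)
      ((Function.Embedding.subtype _).trans (Equiv.swap a b).toEmbedding)
    have hgU' : ∀ u ∈ U, g u = Equiv.swap a b u := fun u hu => hgU ⟨u, hu⟩
    have hsU : ∀ u ∈ U, Equiv.swap a b u ∈ U := fun u hu => by
      rw [Equiv.swap_apply_def]
      split_ifs <;> simp_all
    obtain ⟨z, hz, hz2, hzg⟩ := involution_of_odd (hoddK U (by omega)) hg fun u hu => by
      rw [hgU' u hu, hgU' _ (hsU u hu), Equiv.swap_apply_self]
    have hza : z a = b := by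
      rw [hzg a (by simp [hU]), hgU' a (by simp [hU]), Equiv.swap_apply_left]
    have hzb : z b = a := by
      rw [hzg b (by simp [hU]), hgU' b (by simp [hU]), Equiv.swap_apply_right]
    have hzF : F ⊆ fixedSet z := fun u hu => by
      rw [mem_fixedSet, hzg u (by simp [hU, hu]), hgU' u (by simp [hU, hu]),
        Equiv.swap_apply_of_ne_of_ne (ne_of_mem_of_not_mem hu ha) (ne_of_mem_of_not_mem hu hb)]
    have hzz : ∀ u, z (z u) = u := fun u => by
      rw [← Equiv.Perm.mul_apply, hz2, Equiv.Perm.one_apply]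
    have hz1 : z ≠ 1 := fun e => hab (by rw [← hza, e, Equiv.Perm.one_apply])
    have hlt := fixed_lt_of_odd (k := k + 2) (fun F hF => hoddK F (by omega)) hz hz2 hz1
    have hge := card_le_card hzF
    have hmod := fixedSet_card_mod_two hz2
    by_cases hpar : 2 ∣ Fintype.card β - (k + 1)
    · have hfc : (fixedSet z).card = k + 1 - 2 := by omega
      obtain ⟨x, c, d, hcd, hσ⟩ := exists_swap_class (k := k + 1) (by omega) hz hz2
        (show z a ≠ a by rw [hza]; exact hab.symm) hfc fun t ht => mem_fixedSet.mp ht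
      exact hasInducedAlt_of_top x (class_top_of_swap (by omega) (by omega) ht' hoddK hcd hσ)
    exfalso
    have hkn' : k + 1 + 3 ≤ Fintype.card β := by omega
    have hfc : (fixedSet z).card = k - 2 := by omega
    have haf : a ∉ fixedSet z := by rw [mem_fixedSet, hza]; exact hab.symm
    have hbf : b ∉ fixedSet z := by rw [mem_fixedSet, hzb]; exact hab
    obtain ⟨e, -, he⟩ := exists_mem_notMem_of_card_lt_card (s := fixedSet z ∪ {a, b}) (t := univ)
      (lt_of_le_of_lt (card_union_le _ _) (by rw [card_univ, card_pair hab]; omega))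
    simp only [mem_union, mem_fixedSet, mem_insert, mem_singleton, not_or] at he
    have hea : z e ≠ a := fun h => he.2.2 (by rw [← hza, ← h, hzz])
    have heb : z e ≠ b := fun h => he.2.1 (by rw [← hzb, ← h, hzz])
    have hef : e ∉ fixedSet z := by rw [mem_fixedSet]; exact he.1
    have hzef : z e ∉ fixedSet z := by rw [mem_fixedSet, hzz]; exact Ne.symm he.1
    obtain ⟨T, hTs, hT⟩ := exists_subset_card_eq (s := fixedSet z) (n := k - 3) (by omega)
    have haT : a ∉ T := fun h => haf (hTs h)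
    have hbT : b ∉ T := fun h => hbf (hTs h)
    have heT : e ∉ T := fun h => hef (hTs h)
    obtain ⟨x, hxW, hxm⟩ := exists_embedding (m := k + 1)
      (W := insert a (insert b (insert e (insert (z e) T)))) (by
        rw [card_insert_of_notMem (by simp [hab, Ne.symm he.2.1, hea.symm, haT]),
          card_insert_of_notMem (by simp [Ne.symm he.2.2, heb.symm, hbT]),
          card_insert_of_notMem (by simp [Ne.symm he.1, heT]),
          card_insert_of_notMem (fun h => hzef (hTs h)), hT]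
        omega)
    obtain ⟨i₁, h1⟩ := hxW a (by simp)
    obtain ⟨i₂, h2'⟩ := hxW b (by simp)
    obtain ⟨i₃, h3⟩ := hxW e (by simp)
    obtain ⟨i₄, h4⟩ := hxW (z e) (by simp)
    have hne : ∀ {i j : Fin (k + 1)} {v w : β}, x i = v → x j = w → v ≠ w → i ≠ j :=
      fun hi hj h e => h (by rw [← hi, ← hj, e])
    have n12 := hne h1 h2' hab
    have n34 := hne h3 h4 (Ne.symm he.1)
    have n13 := hne h1 h3 (Ne.symm he.2.1)
    have n14 := hne h1 h4 hea.symm
    have n23 := hne h2' h3 (Ne.symm he.2.2)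
    have n24 := hne h2' h4 heb.symm
    have hzσ : ∀ i, z (x i) = x ((Equiv.swap i₁ i₂ * Equiv.swap i₃ i₄) i) := by
      intro i
      rw [Equiv.Perm.mul_apply, ← x.injective.swap_apply, ← x.injective.swap_apply, h1, h2', h3, h4]
      have hi := hxm i
      simp only [mem_insert] at hi
      rcases hi with h | h | h | h | h
      · rw [h, Equiv.swap_apply_of_ne_of_ne (Ne.symm he.2.1) hea.symm, Equiv.swap_apply_left, hza]
      · rw [h, Equiv.swap_apply_of_ne_of_ne (Ne.symm he.2.2) heb.symm, Equiv.swap_apply_right, hzb]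
      · rw [h, Equiv.swap_apply_left, Equiv.swap_apply_of_ne_of_ne hea heb]
      · rw [h, Equiv.swap_apply_right, Equiv.swap_apply_of_ne_of_ne he.2.1 he.2.2, hzz]
      · have hf := hTs h
        rw [Equiv.swap_apply_of_ne_of_ne (ne_of_mem_of_not_mem hf hef) (ne_of_mem_of_not_mem hf hzef),
          Equiv.swap_apply_of_ne_of_ne (ne_of_mem_of_not_mem hf haf) (ne_of_mem_of_not_mem hf hbf)]
        exact mem_fixedSet.mp hf
    obtain ⟨p, -, hp⟩ := exists_mem_notMem_of_card_lt_card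
      (s := ({i₁, i₂, i₃, i₄} : Finset (Fin (k + 1)))) (t := univ)
      (by rw [card_univ, Fintype.card_fin, card_four n12 n34 n13 n14 n23 n24]; omega)
    set V := (univ.erase p).image x with hV
    have hVc : V.card = k := by
      rw [hV, card_image_of_injective _ x.injective, card_erase_of_mem (mem_univ _), card_univ,
        Fintype.card_fin]
      omega
    have hxV : ∀ i ∈ ({i₁, i₂, i₃, i₄} : Finset (Fin (k + 1))), x i ∈ V := fun i hi =>
      mem_image_of_mem x (mem_erase.mpr ⟨ne_of_mem_of_not_mem hi hp, mem_univ i⟩)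
    have hzV : ∀ v ∈ V, z v = (Equiv.swap (x i₁) (x i₂) * Equiv.swap (x i₃) (x i₄)) v := by
      intro v hv
      obtain ⟨i, -, rfl⟩ := mem_image.mp hv
      rw [hzσ, Equiv.Perm.mul_apply, Equiv.Perm.mul_apply, x.injective.swap_apply,
        x.injective.swap_apply]
    -- involutions with such a pattern on `V` fix `k - 2` points
    have hpat : ∀ a' b' c' d' : β, a' ∈ V → b' ∈ V → c' ∈ V → d' ∈ V → a' ≠ b' → c' ≠ d' →
        a' ≠ c' → a' ≠ d' → b' ≠ c' → b' ≠ d' → ∀ z' ∈ G', z' * z' = 1 →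
        (∀ v ∈ V, z' v = (Equiv.swap a' b' * Equiv.swap c' d') v) →
        (fixedSet z').card = k + 1 - 3 := by
      intro a' b' c' d' ha' hb' hc' hd' k12 k34 k13 k14 k23 k24 z' hz' hz'2 hz'V
      -- a permutation of `V` carrying one pattern to the other
      obtain ⟨π, hπ1, hπ2, hπ3, hπ4⟩ : ∃ π : Equiv.Perm {v // v ∈ V},
          π ⟨x i₁, hxV _ (by simp)⟩ = ⟨a', ha'⟩ ∧ π ⟨x i₂, hxV _ (by simp)⟩ = ⟨b', hb'⟩ ∧
          π ⟨x i₃, hxV _ (by simp)⟩ = ⟨c', hc'⟩ ∧ π ⟨x i₄, hxV _ (by simp)⟩ = ⟨d', hd'⟩ := by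
        have hinj : ∀ (p q r s : {v // v ∈ V}), p ≠ q → r ≠ s → p ≠ r → p ≠ s → q ≠ r → q ≠ s →
            Function.Injective ![p, q, r, s] := by
          intro p q r s h1 h2 h3 h4 h5 h6 i j hij
          fin_cases i <;> fin_cases j <;>
            simp [h1, h2, h3, h4, h5, h6, h1.symm, h2.symm, h3.symm, h4.symm, h5.symm, h6.symm]
              at hij ⊢
        haveI := Equiv.Perm.isMultiplyPretransitive {v // v ∈ V} 4
        have hne2 : ∀ {i j : Fin (k + 1)} (hi : x i ∈ V) (hj : x j ∈ V), i ≠ j →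
            (⟨x i, hi⟩ : {v // v ∈ V}) ≠ ⟨x j, hj⟩ :=
          fun _ _ h e => h (x.injective (congrArg Subtype.val e))
        obtain ⟨π, hπ⟩ := MulAction.exists_smul_eq (Equiv.Perm {v // v ∈ V})
          (⟨_, hinj ⟨x i₁, hxV _ (by simp)⟩ ⟨x i₂, hxV _ (by simp)⟩ ⟨x i₃, hxV _ (by simp)⟩
            ⟨x i₄, hxV _ (by simp)⟩ (hne2 _ _ n12) (hne2 _ _ n34) (hne2 _ _ n13) (hne2 _ _ n14)
            (hne2 _ _ n23) (hne2 _ _ n24)⟩ : Fin 4 ↪ {v // v ∈ V})
          ⟨_, hinj ⟨a', ha'⟩ ⟨b', hb'⟩ ⟨c', hc'⟩ ⟨d', hd'⟩ (by simpa using k12) (by simpa using k34)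
            (by simpa using k13) (by simpa using k14) (by simpa using k23) (by simpa using k24)⟩
        exact ⟨π, DFunLike.congr_fun hπ 0, DFunLike.congr_fun hπ 1, DFunLike.congr_fun hπ 2,
          DFunLike.congr_fun hπ 3⟩
      obtain ⟨h, hh, hhV⟩ := exists_map ht (by omega) (ι := V) (by rw [Fintype.card_coe, hVc])
        (Function.Embedding.subtype _) (π.toEmbedding.trans (Function.Embedding.subtype _))
      have hh1 : h (x i₁) = a' := (hhV ⟨_, hxV i₁ (by simp)⟩).trans (congrArg Subtype.val hπ1)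
      have hh2 : h (x i₂) = b' := (hhV ⟨_, hxV i₂ (by simp)⟩).trans (congrArg Subtype.val hπ2)
      have hh3 : h (x i₃) = c' := (hhV ⟨_, hxV i₃ (by simp)⟩).trans (congrArg Subtype.val hπ3)
      have hh4 : h (x i₄) = d' := (hhV ⟨_, hxV i₄ (by simp)⟩).trans (congrArg Subtype.val hπ4)
      obtain ⟨w, hw, -, hwz⟩ := conj_of_odd (hoddK V (by omega))
        hz (G'.mul_mem (G'.mul_mem (G'.inv_mem hh) hz') hh) hz2
        (show h⁻¹ * z' * h * (h⁻¹ * z' * h) = 1 by
          rw [show h⁻¹ * z' * h * (h⁻¹ * z' * h) = h⁻¹ * (z' * z') * h by group, hz'2, mul_one,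
            inv_mul_cancel])
        (fun v hv => by
          have hhv : h v ∈ V := (hhV ⟨v, hv⟩).symm ▸ (π ⟨v, hv⟩).2
          rw [Equiv.Perm.mul_apply, Equiv.Perm.mul_apply, hz'V _ hhv, hzV v hv,
            Equiv.Perm.inv_eq_iff_eq, Equiv.Perm.mul_apply, Equiv.Perm.mul_apply, ← hh1, ← hh2,
            ← hh3, ← hh4, h.injective.swap_apply, h.injective.swap_apply])
      rw [← card_fixedSet_conj h z', hwz, card_fixedSet_conj, hfc]
      omega
    have hbot := generated_by_fixed (k := k + 1) (by omega) hkn' hfree ht' hoddK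
      (by omega : V.card = k + 1 - 1)
      (hxV i₁ (by simp)) (hxV i₂ (by simp)) (hxV i₃ (by simp)) (hxV i₄ (by simp))
      (x.injective.ne n12) (x.injective.ne n34) (x.injective.ne n13) (x.injective.ne n14)
      (x.injective.ne n23) (x.injective.ne n24) hpat
    obtain ⟨qT, qD, hq, hqd⟩ := count_invol (k := k + 1) (by omega) hkn' ht' hoddK hpar
      n12 n34 n13 n14 n23 n24 hp ⟨z, hz, hzσ⟩
    rw [← hV, hbot, Nat.dvd_one] at hqd
    subst hqd
    have h9 : Fintype.card β - (k + 1 - 1) ≤ 2 := Nat.le_of_dvd two_pos ⟨qT, hq.symm⟩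
    omega

end Cfsg.Agent.Lib.Perm.LivingstoneWagner
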