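import Cfsg.Agent.Lib.Perm.LivingstoneWagnerClasses
import Cfsg.Agent.Lib.Coprime.Generation

/-!
The theorem of Livingstone and Wagner, second form: the case in which the stabilizers of
`k - 1` points have odd order.
-/

open Equiv Finset MulAction
open scoped Pointwise

namespace Cfsg.Agent.Lib.Perm.LivingstoneWagner

variable {α : Type*} [Fintype α] [DecidableEq α] {G : Subgroup (Equiv.Perm α)}

theorem card_four {β : Type*} [DecidableEq β] {c d e f : β} (hcd : c ≠ d) (hef : e ≠ f)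
    (hce : c ≠ e) (hcf : c ≠ f) (hde : d ≠ e) (hdf : d ≠ f) :
    ({c, d, e, f} : Finset β).card = 4 := by
  rw [card_insert_of_notMem (by simp [hcd, hce, hcf]),
    card_insert_of_notMem (by simp [hde, hdf]), card_pair hef]

theorem double_apply {β : Type*} [DecidableEq β] {c d e f : β} (hcd : c ≠ d) (hef : e ≠ f)
    (hce : c ≠ e) (hcf : c ≠ f) (hde : d ≠ e) (hdf : d ≠ f) :
    (Equiv.swap c d * Equiv.swap e f) * (Equiv.swap c d * Equiv.swap e f) = 1 ∧
    (Equiv.swap c d * Equiv.swap e f) c = d ∧ (Equiv.swap c d * Equiv.swap e f) d = c ∧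
    (Equiv.swap c d * Equiv.swap e f) e = f ∧ (Equiv.swap c d * Equiv.swap e f) f = e ∧
    ∀ i, i ∉ ({c, d, e, f} : Finset β) → (Equiv.swap c d * Equiv.swap e f) i = i := by
  refine ⟨?_, ?_, ?_, ?_, ?_, ?_⟩
  · have hcomm : Equiv.swap e f * Equiv.swap c d = Equiv.swap c d * Equiv.swap e f := by
      rw [Equiv.mul_swap_eq_swap_mul, Equiv.swap_apply_of_ne_of_ne hce hcf,
        Equiv.swap_apply_of_ne_of_ne hde hdf]
    rw [mul_assoc, ← mul_assoc (Equiv.swap e f), hcomm, mul_assoc (Equiv.swap c d),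
      Equiv.swap_mul_self, mul_one, Equiv.swap_mul_self]
  · rw [Equiv.Perm.mul_apply, Equiv.swap_apply_of_ne_of_ne hce hcf, Equiv.swap_apply_left]
  · rw [Equiv.Perm.mul_apply, Equiv.swap_apply_of_ne_of_ne hde hdf, Equiv.swap_apply_right]
  · rw [Equiv.Perm.mul_apply, Equiv.swap_apply_left,
      Equiv.swap_apply_of_ne_of_ne hcf.symm hdf.symm]
  · rw [Equiv.Perm.mul_apply, Equiv.swap_apply_right,
      Equiv.swap_apply_of_ne_of_ne hce.symm hde.symm]
  · intro i hi
    simp only [mem_insert, mem_singleton, not_or] at hi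
    rw [Equiv.Perm.mul_apply, Equiv.swap_apply_of_ne_of_ne hi.2.2.1 hi.2.2.2,
      Equiv.swap_apply_of_ne_of_ne hi.1 hi.2.1]

theorem swap_comm_disjoint {β : Type*} [DecidableEq β] {c d e f : β}
    (hce : c ≠ e) (hcf : c ≠ f) (hde : d ≠ e) (hdf : d ≠ f) :
    Equiv.swap e f * Equiv.swap c d = Equiv.swap c d * Equiv.swap e f := by
  rw [Equiv.mul_swap_eq_swap_mul, Equiv.swap_apply_of_ne_of_ne hce hcf,
    Equiv.swap_apply_of_ne_of_ne hde hdf]

/-- In the odd case with `n - k` odd, no transposition fixes a class. -/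
theorem no_swap {k : ℕ} (hk : 5 ≤ k) (hkn : k ≤ Fintype.card α)
    (hoddK : ∀ U : Finset α, U.card = k - 1 → Odd (Nat.card (fixG G U)))
    (hpar : ¬ 2 ∣ Fintype.card α - k) {x : Fin k ↪ α} {c d : Fin k} (hcd : c ≠ d) :
    Equiv.swap c d ∉ classSubgroup G x := by
  intro hσ
  have hUc : ((univ.erase c).image x).card = k - 1 := by
    rw [card_image_of_injective _ x.injective, card_erase_of_mem (mem_univ _), card_univ,
      Fintype.card_fin]
  obtain ⟨z, hz, hz2, hzx⟩ := exists_invol_lift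
    (odd_fixG_of_subset (image_subset_image (erase_subset c univ)) (hoddK _ hUc))
    (Equiv.swap_mul_self c d) hσ
  have hz1 : z ≠ 1 := fun e' => hcd (x.injective (by
    have := hzx c
    rwa [e', Equiv.Perm.one_apply, Equiv.swap_apply_left] at this))
  have hsub : (univ \ {c, d}).image x ⊆ fixedSet z := fun v hv => by
    obtain ⟨i, hi, rfl⟩ := mem_image.mp hv
    simp only [mem_sdiff, mem_univ, true_and, mem_insert, mem_singleton, not_or] at hi
    rw [mem_fixedSet, hzx, Equiv.swap_apply_of_ne_of_ne hi.1 hi.2]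
  have h1 := card_le_card hsub
  rw [card_image_of_injective _ x.injective, card_sdiff_of_subset (subset_univ _), card_univ,
    Fintype.card_fin, card_pair hcd] at h1
  have h2 := fixed_lt_of_odd (k := k + 1) (fun F hF => hoddK F (by omega)) hz hz2 hz1
  have h3 := fixedSet_card_mod_two hz2
  omega

/-- The fixed points of an involution inducing a double transposition on a `k`-tuple. -/
theorem double_fixed {k : ℕ} (hk : 5 ≤ k) (hkn : k ≤ Fintype.card α)
    (hoddK : ∀ U : Finset α, U.card = k - 1 → Odd (Nat.card (fixG G U)))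
    (hpar : ¬ 2 ∣ Fintype.card α - k) {x : Fin k ↪ α} {c d e f : Fin k}
    (hcd : c ≠ d) (hef : e ≠ f) (hce : c ≠ e) (hcf : c ≠ f) (hde : d ≠ e) (hdf : d ≠ f)
    {z : Equiv.Perm α} (hz : z ∈ G) (hz2 : z * z = 1)
    (hzx : ∀ i, z (x i) = x ((Equiv.swap c d * Equiv.swap e f) i)) :
    (fixedSet z).card = k - 3 ∧ ∃ w, z w = w ∧ (∀ i, x i ≠ w) ∧
      ∀ v, z v = v → v = w ∨ ∃ i, i ∉ ({c, d, e, f} : Finset (Fin k)) ∧ x i = v := by
  obtain ⟨hσ2, hσc, hσd, hσe, hσf, hσo⟩ := double_apply hcd hef hce hcf hde hdf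
  set σ := Equiv.swap c d * Equiv.swap e f with hσdef
  have hz1 : z ≠ 1 := fun e' => hcd (x.injective (by
    have := hzx c
    rwa [e', Equiv.Perm.one_apply, hσc] at this))
  set R := (univ \ {c, d, e, f}).image x with hR
  have hRc : R.card = k - 4 := by
    rw [hR, card_image_of_injective _ x.injective, card_sdiff_of_subset (subset_univ _), card_univ,
      Fintype.card_fin, card_four hcd hef hce hcf hde hdf]
  have hRf : R ⊆ fixedSet z := fun v hv => by
    obtain ⟨i, hi, rfl⟩ := mem_image.mp hv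
    rw [mem_fixedSet, hzx, hσo i (mem_sdiff.mp hi).2]
  have hf : (fixedSet z).card = k - 3 := by
    have h1 := fixed_lt_of_odd (k := k + 1) (fun F hF => hoddK F (by omega)) hz hz2 hz1
    have h2 := card_le_card hRf
    have h3 := fixedSet_card_mod_two hz2
    omega
  obtain ⟨w, hwR⟩ := card_eq_one.mp
    (by rw [card_sdiff_of_subset hRf, hf, hRc]; omega : (fixedSet z \ R).card = 1)
  have hw' : w ∈ fixedSet z \ R := by rw [hwR]; simp
  rw [mem_sdiff, mem_fixedSet] at hw'
  refine ⟨hf, w, hw'.1, fun i hi => ?_, fun v hv => ?_⟩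
  · have hsi : σ i = i := x.injective (by rw [← hzx, hi]; exact hw'.1)
    refine hw'.2 (hi ▸ mem_image_of_mem x (mem_sdiff.mpr ⟨mem_univ i, ?_⟩))
    intro hm
    simp only [mem_insert, mem_singleton] at hm
    rcases hm with rfl | rfl | rfl | rfl
    · exact hcd (hsi.symm.trans hσc)
    · exact hcd ((hsi.symm.trans hσd).symm)
    · exact hef (hsi.symm.trans hσe)
    · exact hef ((hsi.symm.trans hσf).symm)
  · by_cases hvR : v ∈ R
    · obtain ⟨i, hi, rfl⟩ := mem_image.mp hvR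
      exact Or.inr ⟨i, (mem_sdiff.mp hi).2, rfl⟩
    · have : v ∈ fixedSet z \ R := mem_sdiff.mpr ⟨mem_fixedSet.mpr hv, hvR⟩
      rw [hwR, mem_singleton] at this
      exact Or.inl this

/-- A permutation commuting with a double transposition `(c d)(e f)` fixing a class fixes it, or
does after multiplying with `(c d)`. -/
theorem dichotomy {k : ℕ} (hk : 5 ≤ k) (hkn : k ≤ Fintype.card α)
    (ht : IsMultiplyPretransitive G α (k - 1))
    (hoddK : ∀ U : Finset α, U.card = k - 1 → Odd (Nat.card (fixG G U)))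
    (hpar : ¬ 2 ∣ Fintype.card α - k) {x : Fin k ↪ α} {c d e f : Fin k}
    (hcd : c ≠ d) (hef : e ≠ f) (hce : c ≠ e) (hcf : c ≠ f) (hde : d ≠ e) (hdf : d ≠ f)
    (hσx : Equiv.swap c d * Equiv.swap e f ∈ classSubgroup G x) {π : Equiv.Perm (Fin k)}
    (hπ : ∀ i, π ((Equiv.swap c d * Equiv.swap e f) i) = (Equiv.swap c d * Equiv.swap e f) (π i)) :
    π ∈ classSubgroup G x ∨ Equiv.swap c d * π⁻¹ ∈ classSubgroup G x := by
  classical
  obtain ⟨hσ2, hσc, hσd, hσe, hσf, hσo⟩ := double_apply hcd hef hce hcf hde hdf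
  set σ := Equiv.swap c d * Equiv.swap e f with hσdef
  set τ := Equiv.swap c d with hτ
  have hτσ : ∀ i, τ (σ i) = σ (τ i) := fun i => by
    have h : τ * σ = σ * τ := by
      rw [hσdef, mul_assoc, swap_comm_disjoint hce hcf hde hdf]
    exact congrArg (fun q : Equiv.Perm (Fin k) => q i) h
  obtain ⟨p, hp⟩ : ∃ p, p ∉ ({c, d, e, f} : Finset (Fin k)) := by
    obtain ⟨p, -, hp⟩ := exists_mem_notMem_of_card_lt_card (s := ({c, d, e, f} : Finset (Fin k)))
      (t := univ) (by rw [card_univ, Fintype.card_fin, card_four hcd hef hce hcf hde hdf]; omega)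
    exact ⟨p, hp⟩
  have hUc : ((univ.erase p).image x).card = k - 1 := by
    rw [card_image_of_injective _ x.injective, card_erase_of_mem (mem_univ _), card_univ,
      Fintype.card_fin]
  obtain ⟨z, hz, hz2, hzx⟩ := exists_invol_lift
    (odd_fixG_of_subset (image_subset_image (erase_subset p univ)) (hoddK _ hUc)) hσ2 hσx
  obtain ⟨-, w, hwz, hwx, hwall⟩ := double_fixed hk hkn hoddK hpar hcd hef hce hcf hde hdf hz hz2 hzx
  have key : ∀ ρ : Equiv.Perm (Fin k), (∀ i, ρ (σ i) = σ (ρ i)) →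
      ∃ h ∈ G, (∀ i, i ≠ p → h (x (ρ i)) = x i) ∧ (h (x (ρ p)) = x p ∨ h (x (ρ p)) = w) := by
    intro ρ hρ
    have hy : σ ∈ classSubgroup G (ρ.toEmbedding.trans x) := by
      obtain ⟨g, hg, hgx⟩ := hσx
      refine ⟨g, hg, fun i => ?_⟩
      change g (x (ρ i)) = x (ρ (σ i))
      rw [hgx, hρ]
    obtain ⟨h, hh, h1, h2, h3⟩ :=
      align hkn ht hoddK hσ2 (hσo p hp) hy hz hz2 fun i _ => hzx i
    refine ⟨h, hh, h1, ?_⟩
    rcases hwall _ h2 with h4 | ⟨i, -, hi⟩
    · exact Or.inr h4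
    · by_cases hip : i = p
      · exact Or.inl (hip ▸ hi.symm)
      · exact absurd hi.symm (h3 i hip)
  have hmem : ∀ (ρ : Equiv.Perm (Fin k)) (h : Equiv.Perm α), h ∈ G →
      (∀ i, h (x (ρ i)) = x i) → ρ ∈ classSubgroup G x := by
    intro ρ h hh h1
    have : ρ⁻¹ ∈ classSubgroup G x := ⟨h, hh, fun i => by
      have := h1 (ρ⁻¹ i)
      rwa [Equiv.Perm.coe_inv, Equiv.apply_symm_apply] at this⟩
    exact inv_inv ρ ▸ inv_mem this
  obtain ⟨h₁, hh₁, h11, h12 | h12⟩ := key π hπ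
  · exact Or.inl (hmem π h₁ hh₁ fun i => by
      by_cases hi : i = p
      · rw [hi]; exact h12
      · exact h11 i hi)
  obtain ⟨h₂, hh₂, h21, h22 | h22⟩ := key τ hτσ
  · exact absurd (hmem τ h₂ hh₂ fun i => by
      by_cases hi : i = p
      · rw [hi]; exact h22
      · exact h21 i hi) (no_swap hk hkn hoddK hpar hcd)
  refine Or.inr ⟨h₂⁻¹ * h₁, G.mul_mem (G.inv_mem hh₂) hh₁, fun j => ?_⟩
  rw [Equiv.Perm.mul_apply, Equiv.Perm.inv_eq_iff_eq, Equiv.Perm.mul_apply]
  by_cases hj : π⁻¹ j = p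
  · rw [hj, h22]
    have := h12
    rwa [← hj, Equiv.Perm.coe_inv, Equiv.apply_symm_apply] at this
  · rw [h21 _ hj]
    have := h11 _ hj
    rwa [Equiv.Perm.coe_inv, Equiv.apply_symm_apply] at this

/-! ### Counting involutions -/

set_option maxHeartbeats 1600000 in

theorem count_invol {k : ℕ} (hk : 5 ≤ k) (hkn : k + 3 ≤ Fintype.card α)
    (ht : IsMultiplyPretransitive G α (k - 1))
    (hoddK : ∀ U : Finset α, U.card = k - 1 → Odd (Nat.card (fixG G U)))
    (hpar : ¬ 2 ∣ Fintype.card α - k) {x : Fin k ↪ α} {c d e f p : Fin k}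
    (hcd : c ≠ d) (hef : e ≠ f) (hce : c ≠ e) (hcf : c ≠ f) (hde : d ≠ e) (hdf : d ≠ f)
    (hp : p ∉ ({c, d, e, f} : Finset (Fin k)))
    (hσx : Equiv.swap c d * Equiv.swap e f ∈ classSubgroup G x) :
    ∃ qT qD : ℕ, (Fintype.card α - (k - 1)) * qT = 2 * qD ∧
      qD ∣ Nat.card (fixG G ((univ.erase p).image x)) := by
  classical
  obtain ⟨hσ2, hσc, hσd, hσe, hσf, hσo⟩ := double_apply hcd hef hce hcf hde hdf
  set σ := Equiv.swap c d * Equiv.swap e f with hσdef
  set U := (univ.erase p).image x with hU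
  have hUc : U.card = k - 1 := by
    rw [hU, card_image_of_injective _ x.injective, card_erase_of_mem (mem_univ _), card_univ,
      Fintype.card_fin]
  obtain ⟨z₁, hz₁, hz₁2, hz₁x⟩ := exists_invol_lift
    (odd_fixG_of_subset (image_subset_image (erase_subset p univ)) (hoddK _ hUc)) hσ2 hσx
  obtain ⟨hz₁f, -⟩ := double_fixed hk (by omega) hoddK hpar hcd hef hce hcf hde hdf hz₁ hz₁2 hz₁x
  set R := (univ \ {c, d, e, f, p}).image x with hR
  have h5 : ({c, d, e, f, p} : Finset (Fin k)).card = 5 := by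
    simp only [mem_insert, mem_singleton, not_or] at hp
    rw [card_insert_of_notMem (by simp [hcd, hce, hcf, Ne.symm hp.1]),
      card_insert_of_notMem (by simp [hde, hdf, Ne.symm hp.2.1]),
      card_insert_of_notMem (by simp [hef, Ne.symm hp.2.2.1]), card_pair (Ne.symm hp.2.2.2)]
  have hRc : R.card = k - 5 := by
    rw [hR, card_image_of_injective _ x.injective, card_sdiff_of_subset (subset_univ _), card_univ,
      Fintype.card_fin, h5]
  have hRm : ∀ i, i ∈ ({c, d, e, f, p} : Finset (Fin k)) → x i ∉ R := fun i hi h => by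
    obtain ⟨j, hj, hji⟩ := mem_image.mp h
    exact (mem_sdiff.mp hj).2 (x.injective hji ▸ hi)
  set a := x c with ha
  set b := x d with hb
  have haR : a ∉ R := hRm c (by simp)
  have hbR : b ∉ R := hRm d (by simp)
  have hab : a ≠ b := x.injective.ne hcd
  set D := insert a (insert b R) with hD
  have hDc : D.card = k - 3 := by
    rw [hD, card_insert_of_notMem (by simp [haR, hab]), card_insert_of_notMem hbR, hRc]; omega
  have hmemD : ∀ v, v ∈ D ↔ v = a ∨ v = b ∨ v ∈ R := fun v => by simp [hD]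
  have heD : x e ∉ D := by
    simp [hmemD, ha, hb, hce.symm, hde.symm, hRm e]
  have hfD : x f ∉ D := by
    simp [hmemD, ha, hb, hcf.symm, hdf.symm, hRm f]
  have hUeq : U = insert (x e) (insert (x f) D) := by
    symm
    refine eq_of_subset_of_card_le (fun v hv => ?_) ?_
    · simp only [mem_insert, hmemD] at hv
      simp only [mem_insert, mem_singleton, not_or] at hp
      rcases hv with rfl | rfl | rfl | rfl | hv
      · exact mem_image_of_mem x (by simp [Ne.symm hp.2.2.1])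
      · exact mem_image_of_mem x (by simp [Ne.symm hp.2.2.2])
      · exact mem_image_of_mem x (by simp [Ne.symm hp.1])
      · exact mem_image_of_mem x (by simp [Ne.symm hp.2.1])
      · obtain ⟨i, hi, rfl⟩ := mem_image.mp hv
        simp only [mem_sdiff, mem_univ, true_and, mem_insert, mem_singleton, not_or] at hi
        exact mem_image_of_mem x (by simp [hi.2.2.2.2])
    · rw [card_insert_of_notMem (by simp [heD, hef]), card_insert_of_notMem hfD, hDc, hUc]; omega
  have hmove : ∀ u v, u ∉ D → v ∉ D → u ≠ v →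
      ∃ h ∈ G, (∀ t ∈ D, h t = t) ∧ h (x e) = u ∧ h (x f) = v := by
    intro u v hu hv huv
    set W := insert (x e) (insert (x f) D) with hW
    let φ : α → α := fun t => if t = x e then u else if t = x f then v else t
    have hφD : ∀ t ∈ D, φ t = t := fun t ht => by
      simp only [φ]
      rw [if_neg (ne_of_mem_of_not_mem ht heD), if_neg (ne_of_mem_of_not_mem ht hfD)]
    have hφe : φ (x e) = u := by simp [φ]
    have hφf : φ (x f) = v := by simp [φ, x.injective.ne hef.symm]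
    have hinj : ∀ s ∈ W, ∀ t ∈ W, φ s = φ t → s = t := by
      intro s hs t ht hst
      simp only [hW, mem_insert] at hs ht
      rcases hs with rfl | rfl | hs <;> rcases ht with rfl | rfl | ht <;>
        (try simp only [hφe, hφf] at hst)
      · rfl
      · exact absurd hst huv
      · exact absurd (hst ▸ (hφD t ht).symm ▸ ht) hu
      · exact absurd hst.symm huv
      · rfl
      · exact absurd (hst ▸ (hφD t ht).symm ▸ ht) hv
      · exact absurd (hst ▸ (hφD s hs).symm ▸ hs) hu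
      · exact absurd (hst ▸ (hφD s hs).symm ▸ hs) hv
      · rwa [hφD s hs, hφD t ht] at hst
    obtain ⟨h, hh, hhU⟩ := exists_map ht (by omega) (ι := W)
      (by rw [Fintype.card_coe, ← hUeq, hUc]) (Function.Embedding.subtype _)
      ⟨fun t => φ t.1, fun s t hst => Subtype.ext (hinj _ s.2 _ t.2 hst)⟩
    refine ⟨h, hh, fun t htD => ?_, ?_, ?_⟩
    · exact (hhU ⟨t, by simp [hW, htD]⟩).trans (hφD t htD)
    · exact (hhU ⟨x e, by simp [hW]⟩).trans hφe
    · exact (hhU ⟨x f, by simp [hW]⟩).trans hφf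
  -- the involutions fixing `R` and swapping `a`, `b`
  let J : Finset (Equiv.Perm α) :=
    univ.filter fun z => z ∈ G ∧ z * z = 1 ∧ (∀ r ∈ R, z r = r) ∧ z a = b
  have hJ : ∀ z, z ∈ J ↔ z ∈ G ∧ z * z = 1 ∧ (∀ r ∈ R, z r = r) ∧ z a = b := fun z => by simp [J]
  have hconjJ : ∀ h ∈ G, (∀ t ∈ D, h t = t) → ∀ z ∈ J, h * z * h⁻¹ ∈ J := by
    intro h hh hhD z hz
    obtain ⟨hzG, hz2, hzR, hza⟩ := (hJ z).mp hz
    have hhD' : ∀ t ∈ D, h⁻¹ t = t := fun t ht => by
      rw [Equiv.Perm.inv_eq_iff_eq, hhD t ht]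
    refine (hJ _).mpr ⟨G.mul_mem (G.mul_mem hh hzG) (G.inv_mem hh), ?_, fun r hr => ?_, ?_⟩
    · calc h * z * h⁻¹ * (h * z * h⁻¹) = h * (z * z) * h⁻¹ := by group
        _ = 1 := by rw [hz2, mul_one, mul_inv_cancel]
    · rw [Equiv.Perm.mul_apply, Equiv.Perm.mul_apply, hhD' r ((hmemD r).mpr (Or.inr (Or.inr hr))),
        hzR r hr, hhD r ((hmemD r).mpr (Or.inr (Or.inr hr)))]
    · rw [Equiv.Perm.mul_apply, Equiv.Perm.mul_apply, hhD' a ((hmemD a).mpr (Or.inl rfl)), hza,
        hhD b ((hmemD b).mpr (Or.inr (Or.inl rfl)))]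
  have hagree : ∀ z ∈ J, z (x e) = x f → ∀ v ∈ U, z v = z₁ v := by
    intro z hz hze v hv
    obtain ⟨hzG, hz2, hzR, hza⟩ := (hJ z).mp hz
    rw [hUeq] at hv
    simp only [mem_insert, hmemD] at hv
    have hzz : ∀ u, z (z u) = u := fun u => by
      rw [← Equiv.Perm.mul_apply, hz2, Equiv.Perm.one_apply]
    rcases hv with h | h | h | h | hv
    · rw [h, hze, hz₁x, hσe]
    · have h1 : z (x f) = x e := hze ▸ hzz (x e)
      rw [h, h1, hz₁x, hσf]
    · have h1 : z₁ a = b := by rw [ha, hz₁x, hσc]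
      rw [h, hza, h1]
    · have h1 : z₁ b = a := by rw [hb, hz₁x, hσd]
      have h2 : z b = a := hza ▸ hzz a
      rw [h, h2, h1]
    · obtain ⟨i, hi, rfl⟩ := mem_image.mp hv
      have hnm : i ∉ ({c, d, e, f} : Finset (Fin k)) := fun h => (mem_sdiff.mp hi).2 (by
        simp only [mem_insert, mem_singleton] at h ⊢; rcases h with h | h | h | h <;> simp [h])
      have h1 : z₁ (x i) = x i := (hz₁x i).trans (congrArg x (hσo i hnm))
      rw [hzR _ hv, h1]
  have hout : ∀ z ∈ J, ∀ v, v ∈ Dᶜ → z v ∈ Dᶜ := by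
    intro z hz v hv
    obtain ⟨hzG, hz2, hzR, hza⟩ := (hJ z).mp hz
    have hzz : ∀ u, z (z u) = u := fun u => by
      rw [← Equiv.Perm.mul_apply, hz2, Equiv.Perm.one_apply]
    rw [mem_compl] at hv ⊢
    intro h
    rcases (hmemD _).mp h with h | h | h
    · exact hv ((hmemD _).mpr (Or.inr (Or.inl (by rw [← hza, ← h, hzz]))))
    · exact hv ((hmemD _).mpr (Or.inl (by rw [← hzz v, h, ← hza, hzz])))
    · exact hv ((hmemD _).mpr (Or.inr (Or.inr (by
        have h' := hzR _ h
        rw [hzz] at h'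
        rwa [← h'] at h))))
  have hfixJ : ∀ z ∈ J, (Dᶜ.filter fun v => z v = v).card = 2 := by
    intro z hz
    obtain ⟨hzG, hz2, hzR, hza⟩ := (hJ z).mp hz
    have hzz : ∀ u, z (z u) = u := fun u => by
      rw [← Equiv.Perm.mul_apply, hz2, Equiv.Perm.one_apply]
    have hz1 : z ≠ 1 := fun e' => hab (by rw [← hza, e', Equiv.Perm.one_apply])
    obtain ⟨u, hu, huz⟩ : ∃ u, u ∉ D ∧ z u ≠ u := by
      by_contra! hall
      have h1 := fixed_lt_of_odd (k := k + 1) (fun F hF => hoddK F (by omega)) hzG hz2 hz1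
      have h2 := card_le_card (show ({a, b} : Finset α)ᶜ ⊆ fixedSet z from fun v hv => by
        simp only [mem_compl, mem_insert, mem_singleton, not_or] at hv
        by_cases hvR : v ∈ R
        · exact mem_fixedSet.mpr (hzR v hvR)
        · exact mem_fixedSet.mpr (hall v (by simp [hmemD, hv.1, hv.2, hvR])))
      rw [card_compl, card_pair hab] at h2
      omega
    have hzu : z u ∉ D := mem_compl.mp (hout z hz u (mem_compl.mpr hu))
    obtain ⟨h, hh, hhD, hhe, hhf⟩ := hmove u (z u) hu hzu huz.symm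
    have hmem : h⁻¹ * z * h ∈ J := by
      have := hconjJ h⁻¹ (G.inv_mem hh) (fun t ht => by
        rw [Equiv.Perm.inv_eq_iff_eq, hhD t ht]) z hz
      rwa [inv_inv] at this
    have hze : (h⁻¹ * z * h) (x e) = x f := by
      rw [Equiv.Perm.mul_apply, Equiv.Perm.mul_apply, hhe, Equiv.Perm.inv_eq_iff_eq, hhf]
    obtain ⟨hcG, hc2, -, -⟩ := (hJ _).mp hmem
    obtain ⟨w, -, -, hw⟩ := conj_of_odd (hoddK U hUc) hz₁ hcG hz₁2 hc2 (hagree _ hmem hze)
    have hf : (fixedSet z).card = k - 3 := by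
      rw [← card_fixedSet_conj h z, hw, card_fixedSet_conj, hz₁f]
    have hsplit : fixedSet z = R ∪ Dᶜ.filter (fun v => z v = v) := by
      ext v
      simp only [mem_fixedSet, mem_union, mem_filter, mem_compl, hmemD]
      constructor
      · intro hv
        by_cases hvR : v ∈ R
        · exact Or.inl hvR
        · refine Or.inr ⟨?_, hv⟩
          rintro (rfl | rfl | h)
          · exact hab (hv.symm.trans hza)
          · exact hab (by rw [← hzz a, hza, hv])
          · exact hvR h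
      · rintro (h | ⟨-, h⟩)
        · exact hzR v h
        · exact h
    rw [hsplit, card_union_of_disjoint (disjoint_left.mpr fun v hv hv' => by
      simp only [mem_filter, mem_compl, hmemD, not_or] at hv'
      exact hv'.1.2.2 hv), hRc] at hf
    omega
  let qT : α × α → ℕ := fun q => (J.filter fun z => z q.1 = q.1 ∧ z q.2 = q.2).card
  let qD : α × α → ℕ := fun q => (J.filter fun z => z q.1 = q.2).card
  have hconst : ∀ q ∈ Dᶜ.offDiag, qT q = qT (x e, x f) ∧ qD q = qD (x e, x f) := by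
    rintro ⟨u, v⟩ hq
    simp only [mem_offDiag, mem_compl] at hq
    obtain ⟨h, hh, hhD, hhe, hhf⟩ := hmove u v hq.1 hq.2.1 hq.2.2
    have hinv : ∀ z ∈ J, h⁻¹ * z * h ∈ J := fun z hz => by
      have := hconjJ h⁻¹ (G.inv_mem hh) (fun t ht => by
        rw [Equiv.Perm.inv_eq_iff_eq, hhD t ht]) z hz
      rwa [inv_inv] at this
    have heu : h.symm u = x e := by rw [Equiv.symm_apply_eq, hhe]
    have hfv : h.symm v = x f := by rw [Equiv.symm_apply_eq, hhf]
    constructor
    · refine card_bij' (fun z _ => h⁻¹ * z * h) (fun z _ => h * z * h⁻¹) ?_ ?_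
        (fun z _ => by group) (fun z _ => by group)
      · intro z hz
        simp only [mem_filter] at hz ⊢
        exact ⟨hinv z hz.1, by simp [hhe, hz.2.1, heu], by simp [hhf, hz.2.2, hfv]⟩
      · intro z hz
        simp only [mem_filter] at hz ⊢
        exact ⟨hconjJ h hh hhD z hz.1, by simp [heu, hz.2.1, hhe], by simp [hfv, hz.2.2, hhf]⟩
    · refine card_bij' (fun z _ => h⁻¹ * z * h) (fun z _ => h * z * h⁻¹) ?_ ?_
        (fun z _ => by group) (fun z _ => by group)
      · intro z hz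
        simp only [mem_filter] at hz ⊢
        exact ⟨hinv z hz.1, by simp [hhe, hz.2, hfv]⟩
      · intro z hz
        simp only [mem_filter] at hz ⊢
        exact ⟨hconjJ h hh hhD z hz.1, by simp [heu, hz.2, hhf]⟩
  have hT : ∑ q ∈ Dᶜ.offDiag, qT q = J.card * 2 := by
    have h1 := Finset.sum_card_bipartiteAbove_eq_sum_card_bipartiteBelow
      (fun (z : Equiv.Perm α) (q : α × α) => z q.1 = q.1 ∧ z q.2 = q.2) (s := J) (t := Dᶜ.offDiag)
    rw [show (∑ q ∈ Dᶜ.offDiag, qT q) = _ from h1.symm]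
    refine (sum_congr rfl fun z hz => ?_).trans (by rw [sum_const, smul_eq_mul])
    change (Dᶜ.offDiag.filter fun q => z q.1 = q.1 ∧ z q.2 = q.2).card = 2
    have : (Dᶜ.offDiag.filter fun q => z q.1 = q.1 ∧ z q.2 = q.2) =
        (Dᶜ.filter fun v => z v = v).offDiag := by
      ext q
      simp only [mem_filter, mem_offDiag]
      exact ⟨fun h => ⟨⟨h.1.1, h.2.1⟩, ⟨h.1.2.1, h.2.2⟩, h.1.2.2⟩,
        fun h => ⟨⟨h.1.1, h.2.1.1, h.2.2⟩, h.1.2, h.2.1.2⟩⟩
    rw [this, offDiag_card, hfixJ z hz]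
  have hDsum : ∑ q ∈ Dᶜ.offDiag, qD q = J.card * (Fintype.card α - (k - 1)) := by
    have h1 := Finset.sum_card_bipartiteAbove_eq_sum_card_bipartiteBelow
      (fun (z : Equiv.Perm α) (q : α × α) => z q.1 = q.2) (s := J) (t := Dᶜ.offDiag)
    rw [show (∑ q ∈ Dᶜ.offDiag, qD q) = _ from h1.symm]
    refine (sum_congr rfl fun z hz => ?_).trans (by rw [sum_const, smul_eq_mul])
    change (Dᶜ.offDiag.filter fun q => z q.1 = q.2).card = Fintype.card α - (k - 1)
    have h2 : (Dᶜ.offDiag.filter fun q => z q.1 = q.2).card =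
        (Dᶜ.filter fun v => ¬ z v = v).card := by
      refine card_bij (fun q _ => q.1) ?_ ?_ ?_
      · intro q hq
        simp only [mem_filter, mem_offDiag] at hq ⊢
        exact ⟨hq.1.1, fun h => hq.1.2.2 (h.symm.trans hq.2)⟩
      · intro q hq q' hq' h
        simp only [mem_filter, mem_offDiag] at hq hq'
        exact Prod.ext h (by rw [← hq.2, ← hq'.2, h])
      · intro v hv
        simp only [mem_filter] at hv
        exact ⟨(v, z v), mem_filter.mpr ⟨mem_offDiag.mpr ⟨hv.1, hout z hz v hv.1,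
          Ne.symm hv.2⟩, rfl⟩, rfl⟩
    rw [h2]
    have h3 := card_filter_add_card_filter_not (s := Dᶜ) (fun v => z v = v)
    rw [hfixJ z hz, card_compl, hDc] at h3
    omega
  rw [sum_congr rfl fun q hq => (hconst q hq).1, sum_const, smul_eq_mul] at hT
  rw [sum_congr rfl fun q hq => (hconst q hq).2, sum_const, smul_eq_mul] at hDsum
  refine ⟨qT (x e, x f), qD (x e, x f), ?_, ?_⟩
  · have hpos : 0 < Dᶜ.offDiag.card := card_pos.mpr ⟨(x e, x f), by simp [heD, hfD, hef]⟩
    refine Nat.eq_of_mul_eq_mul_left hpos ?_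
    calc Dᶜ.offDiag.card * ((Fintype.card α - (k - 1)) * qT (x e, x f))
        = (Fintype.card α - (k - 1)) * (J.card * 2) := by rw [← hT]; ring
      _ = 2 * (J.card * (Fintype.card α - (k - 1))) := by ring
      _ = Dᶜ.offDiag.card * (2 * qD (x e, x f)) := by rw [← hDsum]; ring
  · -- a conjugacy orbit of `fixG G U`
    set K := (fixG G U).map G.subtype with hK
    set K' := K.map (ConjAct.toConjAct : Equiv.Perm α ≃* _).toMonoidHom with hK'
    have hcard : Nat.card K' = Nat.card (fixG G U) := by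
      rw [hK', hK, Subgroup.card_map_of_injective (MulEquiv.injective _),
        Subgroup.card_map_of_injective G.subtype_injective]
    have horb : (orbit K' z₁) = ((J.filter fun z => z (x e) = x f : Finset _) : Set _) := by
      have hz₁J : z₁ ∈ J := by
        refine (hJ z₁).mpr ⟨hz₁, hz₁2, fun r hr => ?_, by rw [ha, hz₁x, hσc]⟩
        obtain ⟨i, hi, rfl⟩ := mem_image.mp hr
        have hnm : i ∉ ({c, d, e, f} : Finset (Fin k)) := fun h => (mem_sdiff.mp hi).2 (by
          simp only [mem_insert, mem_singleton] at h ⊢; rcases h with h | h | h | h <;> simp [h])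
        exact (hz₁x i).trans (congrArg x (hσo i hnm))
      have hze : z₁ (x e) = x f := by rw [hz₁x, hσe]
      ext z
      simp only [coe_filter, Set.mem_ofPred_eq]
      constructor
      · rintro ⟨⟨g, hg⟩, rfl⟩
        obtain ⟨h, hh, rfl⟩ := Subgroup.mem_map.mp hg
        obtain ⟨h', hh', rfl⟩ := Subgroup.mem_map.mp hh
        have hfx : ∀ t ∈ U, h'.1 t = t := mem_fixG.mp hh'
        change ConjAct.toConjAct (h' : Equiv.Perm α) • z₁ ∈ J ∧
          (ConjAct.toConjAct (h' : Equiv.Perm α) • z₁) (x e) = x f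
        rw [ConjAct.toConjAct_smul]
        refine ⟨hconjJ _ h'.2 (fun t ht => hfx t (by rw [hUeq]; simp [ht])) z₁ hz₁J, ?_⟩
        have he' : h'.1⁻¹ (x e) = x e := by
          rw [Equiv.Perm.inv_eq_iff_eq, hfx _ (by rw [hUeq]; simp)]
        rw [Equiv.Perm.mul_apply, Equiv.Perm.mul_apply, he', hze, hfx _ (by rw [hUeq]; simp)]
      · rintro ⟨hz, hze'⟩
        obtain ⟨hzG, hz2, -, -⟩ := (hJ z).mp hz
        obtain ⟨u, hu, huU, hconj⟩ :=
          conj_of_odd (hoddK U hUc) hz₁ hzG hz₁2 hz2 (hagree z hz hze')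
        refine ⟨⟨ConjAct.toConjAct u⁻¹, Subgroup.mem_map_of_mem _ (Subgroup.mem_map.mpr
          ⟨⟨u⁻¹, G.inv_mem hu⟩, mem_fixG.mpr fun t ht => by
            change u⁻¹ t = t
            rw [Equiv.Perm.inv_eq_iff_eq, huU t ht], rfl⟩)⟩, ?_⟩
        change ConjAct.toConjAct u⁻¹ • z₁ = z
        rw [ConjAct.toConjAct_smul, inv_inv, hconj]
    have h1 := Subgroup.card_mul_index (stabilizer K' z₁)
    rw [index_stabilizer, horb, Set.ncard_coe_finset, hcard] at h1
    exact Dvd.intro_left _ h1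

/-! ### `k ≥ 7` -/

theorem exists_two_outside {m : ℕ} (s : Finset (Fin m)) (h : s.card + 2 ≤ m) :
    ∃ u v, u ≠ v ∧ u ∉ s ∧ v ∉ s := by
  obtain ⟨u, hu, v, hv, huv⟩ := Finset.one_lt_card.mp
    (by rw [card_compl, Fintype.card_fin]; omega : 1 < sᶜ.card)
  exact ⟨u, v, huv, mem_compl.mp hu, mem_compl.mp hv⟩

theorem all_products {k : ℕ} (hk : 7 ≤ k) (hkn : k ≤ Fintype.card α)
    (ht : IsMultiplyPretransitive G α (k - 1))
    (hoddK : ∀ U : Finset α, U.card = k - 1 → Odd (Nat.card (fixG G U)))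
    (hpar : ¬ 2 ∣ Fintype.card α - k) {x : Fin k ↪ α} {c d e f : Fin k}
    (hcd : c ≠ d) (hef : e ≠ f) (hce : c ≠ e) (hcf : c ≠ f) (hde : d ≠ e) (hdf : d ≠ f)
    (hσx : Equiv.swap c d * Equiv.swap e f ∈ classSubgroup G x) :
    ∀ a b u v : Fin k, a ≠ b → u ≠ v →
      Equiv.swap a b * Equiv.swap u v ∈ classSubgroup G x := by
  classical
  have hext : ∀ c d e f g h : Fin k, c ≠ d → e ≠ f → g ≠ h → c ≠ e → c ≠ f → d ≠ e → d ≠ f →
      c ≠ g → c ≠ h → d ≠ g → d ≠ h → e ≠ g → e ≠ h → f ≠ g → f ≠ h →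
      Equiv.swap c d * Equiv.swap e f ∈ classSubgroup G x →
      Equiv.swap c d * Equiv.swap g h ∈ classSubgroup G x := by
    intro c d e f g h hcd hef hgh hce hcf hde hdf hcg hch hdg hdh heg heh hfg hfh hσ
    have hπ : ∀ i, Equiv.swap g h ((Equiv.swap c d * Equiv.swap e f) i) =
        (Equiv.swap c d * Equiv.swap e f) (Equiv.swap g h i) := fun i => by
      have h1 : Equiv.swap g h * (Equiv.swap c d * Equiv.swap e f) =
          Equiv.swap c d * Equiv.swap e f * Equiv.swap g h := by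
        rw [← mul_assoc, swap_comm_disjoint hcg hch hdg hdh, mul_assoc,
          swap_comm_disjoint heg heh hfg hfh, ← mul_assoc]
      exact congrArg (fun q : Equiv.Perm (Fin k) => q i) h1
    rcases dichotomy (by omega) hkn ht hoddK hpar hcd hef hce hcf hde hdf hσ hπ with h1 | h1
    · exact absurd h1 (no_swap (by omega) hkn hoddK hpar hgh)
    · rwa [Equiv.swap_inv] at h1
  have hfix : ∀ c d e f g h : Fin k, c ≠ d → e ≠ f → g ≠ h → c ≠ e → c ≠ f → d ≠ e → d ≠ f →
      c ≠ g → c ≠ h → d ≠ g → d ≠ h →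
      Equiv.swap c d * Equiv.swap e f ∈ classSubgroup G x →
      Equiv.swap c d * Equiv.swap g h ∈ classSubgroup G x := by
    intro c d e f g h hcd hef hgh hce hcf hde hdf hcg hch hdg hdh hσ
    rcases card_four_or_distinct hef hgh with h3 | ⟨h1, h2, h3, h4⟩
    · obtain ⟨u, v, huv, hu, hv⟩ := exists_two_outside ({c, d} ∪ {e, f, g, h} : Finset (Fin k)) (by
        have := card_union_le ({c, d} : Finset (Fin k)) {e, f, g, h}
        have := card_le_two (a := c) (b := d)
        omega)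
      simp only [mem_union, mem_insert, mem_singleton, not_or] at hu hv
      obtain ⟨⟨huc, hud⟩, hue, huf, hug, huh⟩ := hu
      obtain ⟨⟨hvc, hvd⟩, hve, hvf, hvg, hvh⟩ := hv
      refine hext c d u v g h hcd huv hgh (Ne.symm huc) (Ne.symm hvc) (Ne.symm hud) (Ne.symm hvd)
        hcg hch hdg hdh hug huh hvg hvh ?_
      exact hext c d e f u v hcd hef huv hce hcf hde hdf (Ne.symm huc) (Ne.symm hvc) (Ne.symm hud)
        (Ne.symm hvd) (Ne.symm hue) (Ne.symm hve) (Ne.symm huf) (Ne.symm hvf) hσ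
    · exact hext c d e f g h hcd hef hgh hce hcf hde hdf hcg hch hdg hdh h1 h2 h3 h4 hσ
  intro a b u v hab huv
  refine swap_mul_mem (by omega) ?_ hab huv
  intro a b u v hab huv hau hav hbu hbv
  obtain ⟨g, h, hgh, hg, hh'⟩ := exists_two_outside ({c, d, a, b} : Finset (Fin k))
    (by have := card_le_four (a := c) (b := d) (c := a) (d := b); omega)
  simp only [mem_insert, mem_singleton, not_or] at hg hh'
  obtain ⟨hgc, hgd, hga, hgb⟩ := hg
  obtain ⟨hhc, hhd, hha, hhb⟩ := hh'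
  have h1 := hfix c d e f g h hcd hef hgh hce hcf hde hdf (Ne.symm hgc) (Ne.symm hhc) (Ne.symm hgd)
    (Ne.symm hhd) hσx
  rw [← swap_comm_disjoint (Ne.symm hgc) (Ne.symm hhc) (Ne.symm hgd) (Ne.symm hhd)] at h1
  have h2 := hfix g h c d a b hgh hcd hab hgc hgd hhc hhd hga hgb hha hhb h1
  rw [← swap_comm_disjoint hga hgb hha hhb] at h2
  exact hfix a b g h u v hab hgh huv (Ne.symm hga) (Ne.symm hha) (Ne.symm hgb) (Ne.symm hhb)
    hau hav hbu hbv h2

/-! ### `k = 5, 6` -/

/-- The six words in a `4`-cycle and a `3`-cycle, one of which is a transposition. -/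
def testWord {m : ℕ} (g t : Equiv.Perm (Fin m)) : Prop :=
  ∃ w ∈ [g * t, g * t * t, g * t * g * t * g * t, g * g * t * g * t, g * g * g * t * g * g * t,
      g * g * t * g * t * t * g * t * g * t * t],
    (univ.filter fun i => w i ≠ i).card = 2

instance {m : ℕ} (g t : Equiv.Perm (Fin m)) : Decidable (testWord g t) :=
  inferInstanceAs (Decidable (∃ w ∈ _, _))

theorem words_five : ∀ a b c : Fin 5, a ≠ b → b ≠ c → a ≠ c →
    testWord (Equiv.swap 0 1 * (Equiv.swap 0 2 * Equiv.swap 1 3))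
      (Equiv.swap a b * Equiv.swap b c) := by
  decide +kernel

theorem words_six : ∀ a b c : Fin 6, a ≠ b → b ≠ c → a ≠ c →
    testWord (Equiv.swap 0 1 * (Equiv.swap 0 2 * Equiv.swap 1 3))
      (Equiv.swap a b * Equiv.swap b c) := by
  decide +kernel

theorem exists_swap_of_testWord {m : ℕ} {S : Subgroup (Equiv.Perm (Fin m))}
    {g t : Equiv.Perm (Fin m)} (hg : g ∈ S) (ht : t ∈ S) (h : testWord g t) :
    ∃ a b, a ≠ b ∧ Equiv.swap a b ∈ S := by
  obtain ⟨w, hw, hc⟩ := h
  have hwS : w ∈ S := by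
    simp only [List.mem_cons, List.not_mem_nil, or_false] at hw
    rcases hw with rfl | rfl | rfl | rfl | rfl | rfl <;>
      (repeat' apply mul_mem) <;> assumption
  have hs : w.support.card = 2 := by
    rw [← hc]; congr 1
  obtain ⟨a, b, hab, rfl⟩ := Equiv.Perm.card_support_eq_two.mp hs
  exact ⟨a, b, hab, hwS⟩

/-- Two commuting double transpositions fixing a class force the `(k-1)`-point stabilizers to be
trivial, which contradicts the counting of involutions. -/
theorem false_of_four_group {k : ℕ} (hk : 5 ≤ k) (hkn : k + 3 ≤ Fintype.card α)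
    (ht : IsMultiplyPretransitive G α (k - 1))
    (hoddK : ∀ U : Finset α, U.card = k - 1 → Odd (Nat.card (fixG G U)))
    (hhk : IsPretransitive G (Set.powersetCard α k))
    (hpar : ¬ 2 ∣ Fintype.card α - k) {x : Fin k ↪ α} {a b c d p : Fin k}
    (hab : a ≠ b) (hcd : c ≠ d) (hac : a ≠ c) (had : a ≠ d) (hbc : b ≠ c) (hbd : b ≠ d)
    (hp : p ∉ ({a, b, c, d} : Finset (Fin k)))
    (h1 : Equiv.swap a b * Equiv.swap c d ∈ classSubgroup G x)
    (h2 : Equiv.swap a c * Equiv.swap b d ∈ classSubgroup G x) : False := by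
  classical
  obtain ⟨hs2, hsa, hsb, hsc, hsd, hso⟩ := double_apply hab hcd hac had hbc hbd
  obtain ⟨ht2, hta, htc, htb, htd, hto⟩ := double_apply hac hbd hab had hbc.symm hcd
  obtain ⟨hu2, hua, hud, hub, huc, huo⟩ := double_apply had hbc hab hac hbd.symm hcd.symm
  set s := Equiv.swap a b * Equiv.swap c d with hsdef
  set t := Equiv.swap a c * Equiv.swap b d with htdef
  set u := Equiv.swap a d * Equiv.swap b c with hudef
  have hst : s * t = u := by
    ext i
    by_cases hia : i = a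
    · subst hia; rw [Equiv.Perm.mul_apply, hta, hsc, hua]
    by_cases hib : i = b
    · subst hib; rw [Equiv.Perm.mul_apply, htb, hsd, hub]
    by_cases hic : i = c
    · subst hic; rw [Equiv.Perm.mul_apply, htc, hsa, huc]
    by_cases hid : i = d
    · subst hid; rw [Equiv.Perm.mul_apply, htd, hsb, hud]
    rw [Equiv.Perm.mul_apply, hto i (by simp [hia, hib, hic, hid]),
      hso i (by simp [hia, hib, hic, hid]), huo i (by simp [hia, hib, hic, hid])]
  have hUc : ((univ.erase p).image x).card = k - 1 := by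
    rw [card_image_of_injective _ x.injective, card_erase_of_mem (mem_univ _), card_univ,
      Fintype.card_fin]
  set U := (univ.erase p).image x with hU
  have hoddB : Odd (Nat.card (fixG G (univ.image x))) :=
    odd_fixG_of_subset (image_subset_image (erase_subset p univ)) (hoddK U hUc)
  obtain ⟨z₁, hz₁, hz₁2, hz₁x⟩ := exists_invol_lift hoddB hs2 h1
  obtain ⟨z₂, hz₂, hz₂2, hz₂x⟩ := exists_invol_lift hoddB ht2 h2
  obtain ⟨j, hj⟩ := hoddB
  set v := z₁ * z₂ with hv
  have hvx : ∀ i, v (x i) = x (u i) := fun i => by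
    rw [hv, Equiv.Perm.mul_apply, hz₂x, hz₁x]
    exact congrArg x (congrArg (fun q : Equiv.Perm (Fin k) => q i) hst)
  have hv2x : ∀ w ∈ univ.image x, (v * v) w = w := by
    intro w hw
    obtain ⟨i, -, rfl⟩ := mem_image.mp hw
    rw [Equiv.Perm.mul_apply, hvx, hvx, ← Equiv.Perm.mul_apply, hu2, Equiv.Perm.one_apply]
  have hvG : v ∈ G := G.mul_mem hz₁ hz₂
  have hvpow : (v * v) ^ (2 * j + 1) = 1 := by
    rw [← hj]
    exact congrArg (fun q : fixG G (univ.image x) => q.1.1) (pow_card_eq_one'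
      (x := (⟨⟨v * v, G.mul_mem hvG hvG⟩, mem_fixG.mpr hv2x⟩ : fixG G (univ.image x))))
  set z₃ := v ^ (2 * j + 1) with hz₃def
  have hz₃2 : z₃ * z₃ = 1 := by rw [hz₃def, ← (Commute.refl v).mul_pow]; exact hvpow
  have hz₃x : ∀ i, z₃ (x i) = x (u i) := fun i => by
    rw [hz₃def, pow_succ', pow_mul, pow_two, Equiv.Perm.mul_apply,
      Equiv.Perm.pow_apply_eq_self_of_apply_eq_self (hv2x _ (mem_image_of_mem x (mem_univ i))) j,
      hvx]
  have hinv₁ : z₁⁻¹ = z₁ := inv_eq_of_mul_eq_one_right hz₁2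
  have hinv₂ : z₂⁻¹ = z₂ := inv_eq_of_mul_eq_one_right hz₂2
  have hinv₃ : z₃⁻¹ = z₃ := inv_eq_of_mul_eq_one_right hz₃2
  have hcomm : z₁ * z₃ = z₃ * z₁ := by
    have h3 : z₁ * z₃ * z₁⁻¹ = z₃ := by
      rw [hz₃def, ← conj_pow]
      have h4 : z₁ * v * z₁⁻¹ = v⁻¹ := by
        rw [hv, mul_inv_rev, hinv₁, hinv₂, ← mul_assoc z₁ z₁ z₂, hz₁2, one_mul]
      rw [h4, inv_pow]
      exact hinv₃
    calc z₁ * z₃ = z₁ * z₃ * z₁⁻¹ * z₁ := by group
      _ = z₃ * z₁ := by rw [h3]
  -- the four group and its fixed points in `fixG G U`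
  let Z₁ : G := ⟨z₁, hz₁⟩
  let Z₃ : G := ⟨z₃, G.pow_mem hvG _⟩
  have e1 : Z₁ * Z₁ = 1 := Subtype.ext hz₁2
  have e3 : Z₃ * Z₃ = 1 := Subtype.ext hz₃2
  have ec : Z₁ * Z₃ = Z₃ * Z₁ := Subtype.ext hcomm
  have e1' : ∀ w : G, Z₁ * (Z₁ * w) = w := fun w => by rw [← mul_assoc, e1, one_mul]
  have e3' : ∀ w : G, Z₃ * (Z₃ * w) = w := fun w => by rw [← mul_assoc, e3, one_mul]
  have ec' : ∀ w : G, Z₃ * (Z₁ * w) = Z₁ * (Z₃ * w) := fun w => by rw [← mul_assoc, ← ec, mul_assoc]
  have hi1 : Z₁⁻¹ = Z₁ := inv_eq_of_mul_eq_one_right e1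
  have hi3 : Z₃⁻¹ = Z₃ := inv_eq_of_mul_eq_one_right e3
  let A : Subgroup G :=
    { carrier := {w | w = 1 ∨ w = Z₁ ∨ w = Z₃ ∨ w = Z₁ * Z₃}
      one_mem' := Or.inl rfl
      mul_mem' := by
        rintro p q (rfl | rfl | rfl | rfl) (rfl | rfl | rfl | rfl) <;>
          simp [e1, e3, e1', e3', ← ec, ec', mul_assoc]
      inv_mem' := by
        rintro p (rfl | rfl | rfl | rfl) <;> simp [hi1, hi3, ← ec] }
  have hAm : ∀ w, w ∈ A ↔ w = 1 ∨ w = Z₁ ∨ w = Z₃ ∨ w = Z₁ * Z₃ := fun w => Iff.rfl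
  haveI : IsMulCommutative A := ⟨⟨by
    rintro ⟨p, hp⟩ ⟨q, hq⟩
    apply Subtype.ext
    rcases (hAm p).mp hp with rfl | rfl | rfl | rfl <;>
      rcases (hAm q).mp hq with rfl | rfl | rfl | rfl <;>
        simp [e1, e3, e1', e3', ← ec, ec', mul_assoc]⟩⟩
  have hA2 : ∀ w : A, w ^ 2 = 1 := by
    rintro ⟨w, hw⟩
    apply Subtype.ext
    change w ^ 2 = 1
    rw [pow_two]
    rcases (hAm w).mp hw with rfl | rfl | rfl | rfl <;> simp [e1, e3, e1', e3', ec', mul_assoc]
  have hne1 : Z₁ ≠ 1 := fun h => hab (x.injective (by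
    have := hz₁x a
    rw [hsa, show z₁ = 1 from congrArg Subtype.val h, Equiv.Perm.one_apply] at this
    exact this))
  have hne3 : Z₃ ≠ 1 := fun h => had (x.injective (by
    have := hz₃x a
    rw [hua, show z₃ = 1 from congrArg Subtype.val h, Equiv.Perm.one_apply] at this
    exact this))
  have hne13 : Z₁ ≠ Z₃ := fun h => hbd (x.injective (by
    have h1 := hz₁x a
    rw [hsa, show z₁ = z₃ from congrArg Subtype.val h, hz₃x, hua] at h1
    exact h1.symm))
  have hA : ¬ IsCyclic A := by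
    intro hc
    obtain ⟨g, hg⟩ := hc.exists_generator
    have h2 : Nat.card A ≤ 2 := by
      rw [← orderOf_eq_card_of_forall_mem_zpowers hg]
      exact Nat.le_of_dvd two_pos (orderOf_dvd_of_pow_eq_one (hA2 g))
    have h3 := Nat.card_le_card_of_injective (fun i : Fin 3 =>
        (![⟨1, (hAm _).mpr (Or.inl rfl)⟩, ⟨Z₁, (hAm _).mpr (Or.inr (Or.inl rfl))⟩,
          ⟨Z₃, (hAm _).mpr (Or.inr (Or.inr (Or.inl rfl)))⟩] i : A)) (by
      intro i j hij
      fin_cases i <;> fin_cases j <;>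
        simp [Subtype.ext_iff, hne1, hne3, hne1.symm, hne3.symm, hne13, hne13.symm] at hij ⊢)
    rw [Nat.card_fin] at h3
    omega
  set K := fixG G U with hK
  have hp' : p ≠ a ∧ p ≠ b ∧ p ≠ c ∧ p ≠ d := by simpa using hp
  have hnorm : ∀ (Z : G) (σ : Equiv.Perm (Fin k)), σ * σ = 1 → σ p = p →
      (∀ i, Z.1 (x i) = x (σ i)) → ∀ w ∈ K, Z * w * Z⁻¹ ∈ K := by
    intro Z σ hσ hσp hZ w hw
    refine mem_fixG.mpr fun q hq => ?_
    obtain ⟨i, hi, rfl⟩ := mem_image.mp hq
    have hsi : σ i ≠ p := fun h => (mem_erase.mp hi).1 (σ.injective (h.trans hσp.symm))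
    have h1 : Z.1⁻¹ (x i) = x (σ i) := by
      rw [Equiv.Perm.inv_eq_iff_eq, hZ, ← Equiv.Perm.mul_apply, hσ, Equiv.Perm.one_apply]
    change Z.1 (w.1 (Z.1⁻¹ (x i))) = x i
    rw [h1, mem_fixG.mp hw _ (mem_image_of_mem x (mem_erase.mpr ⟨hsi, mem_univ _⟩)), hZ,
      ← Equiv.Perm.mul_apply, hσ, Equiv.Perm.one_apply]
  have hN₁ := hnorm Z₁ s hs2 (hso p hp) hz₁x
  have hN₃ := hnorm Z₃ u hu2 (huo p (by simp [hp'.1, hp'.2.1, hp'.2.2.1, hp'.2.2.2])) hz₃x
  have hAK : A ≤ Subgroup.normalizer (K : Set G) := by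
    intro Z hZ
    have hmem : ∀ Z : G, Z * Z = 1 → (∀ w ∈ K, Z * w * Z⁻¹ ∈ K) →
        Z ∈ Subgroup.normalizer (K : Set G) := by
      intro Z hZ2 hZK
      rw [Subgroup.mem_normalizer_iff]
      refine fun w => ⟨hZK w, fun hw => ?_⟩
      have := hZK _ hw
      have hZi : Z⁻¹ = Z := inv_eq_of_mul_eq_one_right hZ2
      rw [hZi, show Z * (Z * w * Z) * Z = (Z * Z) * w * (Z * Z) by group, hZ2, one_mul, mul_one]
        at this
      exact this
    rcases (hAm Z).mp hZ with rfl | rfl | rfl | rfl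
    · exact one_mem _
    · exact hmem _ e1 hN₁
    · exact hmem _ e3 hN₃
    · exact mul_mem (hmem _ e1 hN₁) (hmem _ e3 hN₃)
  haveI := Fact.mk Nat.prime_two
  have hcop : (Nat.card A).Coprime (Nat.card K) := by
    have hp2 : IsPGroup 2 A := fun w => ⟨1, by rw [pow_one]; exact hA2 w⟩
    obtain ⟨e, he⟩ := IsPGroup.iff_card.mp hp2
    rw [he]
    exact Nat.Coprime.pow_left e (Nat.coprime_two_left.mpr (hoddK U hUc))
  have hstab : K ≤ stabilizer G (x p) := by
    rw [← Coprime.iSup_centralizer_eq hA hAK hcop]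
    refine iSup₂_le fun Z hZ w hw => ?_
    obtain ⟨hwK, hwC⟩ := Subgroup.mem_inf.mp hw
    rw [Subgroup.mem_centralizer_singleton_iff] at hwC
    -- the pattern of `Z`
    obtain ⟨Z', σa, σb, σc, σd, e_ab, e_cd, e_ac, e_ad, e_bc, e_bd, hmem, hZ', hZx⟩ :
        ∃ (Z' : Equiv.Perm α) (σa σb σc σd : Fin k), σa ≠ σb ∧ σc ≠ σd ∧ σa ≠ σc ∧ σa ≠ σd ∧
          σb ≠ σc ∧ σb ≠ σd ∧ p ∉ ({σa, σb, σc, σd} : Finset (Fin k)) ∧ Z' = Z.1 ∧
          ∀ i, Z' (x i) = x ((Equiv.swap σa σb * Equiv.swap σc σd) i) := by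
      rcases (hAm Z).mp hZ.1 with rfl | rfl | rfl | rfl
      · exact absurd rfl hZ.2
      · exact ⟨_, a, b, c, d, hab, hcd, hac, had, hbc, hbd, hp, rfl, hz₁x⟩
      · exact ⟨_, a, d, b, c, had, hbc, hab, hac, hbd.symm, hcd.symm,
          by simp [hp'.1, hp'.2.1, hp'.2.2.1, hp'.2.2.2], rfl, hz₃x⟩
      · refine ⟨_, a, c, b, d, hac, hbd, hab, had, hbc.symm, hcd,
          by simp [hp'.1, hp'.2.1, hp'.2.2.1, hp'.2.2.2], rfl, fun i => ?_⟩
        change z₁ (z₃ (x i)) = x (t i)
        rw [hz₃x, hz₁x]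
        refine congrArg x (congrArg (fun q : Equiv.Perm (Fin k) => q i) (?_ : s * u = t))
        rw [← hst, ← mul_assoc, hs2, one_mul]
    have hZ2 : Z' * Z' = 1 := by
      rw [hZ']
      exact congrArg (fun q : A => q.1.1) ((pow_two (⟨Z, hZ.1⟩ : A)).symm.trans (hA2 ⟨Z, hZ.1⟩))
    obtain ⟨-, w₀, hw₀, hw₀x, hw₀all⟩ := double_fixed hk (by omega) hoddK hpar e_ab e_cd e_ac e_ad
      e_bc e_bd (hZ' ▸ Z.2) hZ2 hZx
    obtain ⟨-, -, -, -, -, hσo⟩ := double_apply e_ab e_cd e_ac e_ad e_bc e_bd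
    have hwZ : ∀ q, Z.1 q = q → Z.1 (w.1 q) = w.1 q := fun q hq => by
      have h3 := congrArg (fun r : G => r.1 q) hwC
      simp only [Subgroup.coe_mul, Equiv.Perm.mul_apply] at h3
      rw [hq] at h3
      exact h3.symm
    have hZp : Z.1 (x p) = x p := by rw [← hZ', hZx, hσo p hmem]
    have hcases : ∀ q, Z.1 q = q → (∀ i, i ≠ p → x i ≠ q) → q = x p ∨ q = w₀ := by
      intro q hq hne
      rcases hw₀all q (hZ' ▸ hq) with h | ⟨i, -, hi⟩
      · exact Or.inr h
      · by_cases hip : i = p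
        · exact Or.inl (hip ▸ hi.symm)
        · exact absurd hi (hne i hip)
    have hwU : ∀ i, i ≠ p → w.1 (x i) = x i := fun i hi =>
      mem_fixG.mp hwK _ (mem_image_of_mem x (mem_erase.mpr ⟨hi, mem_univ i⟩))
    have himg : ∀ q, (∀ i, i ≠ p → x i ≠ q) → ∀ i, i ≠ p → x i ≠ w.1 q := fun q hq i hi h =>
      hq i hi (w.1.injective (by rw [hwU i hi, h]))
    rw [mem_stabilizer_iff]
    change w.1 (x p) = x p
    have hxp : ∀ i, i ≠ p → x i ≠ x p := fun i hi => x.injective.ne hi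
    rcases hcases _ (hwZ _ hZp) (himg _ hxp) with h | h
    · exact h
    · exfalso
      have hw₀' : ∀ i, i ≠ p → x i ≠ w₀ := fun i _ => hw₀x i
      have h5 : w.1 w₀ = x p := by
        rcases hcases _ (hwZ _ (hZ' ▸ hw₀)) (himg _ hw₀') with h6 | h6
        · exact h6
        · exact absurd (w.1.injective (h.trans h6.symm)) (hw₀x p)
      obtain ⟨l, hl⟩ := hoddK U hUc
      have h7 : (w ^ (2 * l + 1) : G) = 1 := by
        rw [← hl]
        exact congrArg Subtype.val (pow_card_eq_one' (x := (⟨w, hwK⟩ : K)))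
      have h8 := congrArg (fun q : G => q.1 (x p)) h7
      simp only [SubgroupClass.coe_pow, OneMemClass.coe_one, Equiv.Perm.one_apply] at h8
      rw [pow_succ', pow_mul, pow_two, Equiv.Perm.mul_apply,
        Equiv.Perm.pow_apply_eq_self_of_apply_eq_self
          (show (w.1 * w.1) (x p) = x p by rw [Equiv.Perm.mul_apply, h, h5]) l, h] at h8
      exact hw₀x p h8.symm
  -- so `K` is trivial
  have hKB : Nat.card K = Nat.card (fixG G (univ.image x)) := by
    congr 1
    have : K = fixG G (univ.image x) := by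
      refine le_antisymm (fun w hw => mem_fixG.mpr fun q hq => ?_) (fixG_anti (image_subset_image (erase_subset p univ)))
      obtain ⟨i, -, rfl⟩ := mem_image.mp hq
      by_cases hi : i = p
      · subst hi
        exact hstab hw
      · exact mem_fixG.mp hw _ (mem_image_of_mem x (mem_erase.mpr ⟨hi, mem_univ i⟩))
    rw [this]
  have hbot : Nat.card K = 1 := by
    have : K = ⊥ := by
      rw [Subgroup.eq_bot_iff_forall]
      intro w hw
      apply Subtype.ext
      apply Equiv.ext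
      intro q
      change w.1 q = q
      by_cases hq : q ∈ U
      · exact mem_fixG.mp hw q hq
      · have hqc : (insert q U).card = k := by rw [card_insert_of_notMem hq, hUc]; omega
        have hxc : (univ.image x).card = k := by
          rw [card_image_of_injective _ x.injective, card_univ, Fintype.card_fin]
        have h3 : Nat.card (fixG G (insert q U)) = Nat.card K := by
          rw [hKB, card_fixG_eq hhk hqc hxc]
        have h4 : fixG G (insert q U) = K :=
          Subgroup.eq_of_le_of_card_ge (fixG_anti (subset_insert q U)) h3.ge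
        exact mem_fixG.mp (h4 ▸ hw) q (mem_insert_self q U)
    rw [this, Subgroup.card_bot]
  obtain ⟨qT, qD, hq, hqd⟩ := count_invol hk hkn ht hoddK hpar hab hcd hac had hbc hbd hp h1
  rw [← hK, hbot, Nat.dvd_one] at hqd
  subst hqd
  have h9 : Fintype.card α - (k - 1) ≤ 2 := Nat.le_of_dvd two_pos ⟨qT, hq.symm⟩
  omega

end Cfsg.Agent.Lib.Perm.LivingstoneWagner
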