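import Cfsg.Agent.Lib.Perm.LivingstoneWagnerOdd
import Cfsg.Agent.Lib.Perm.LivingstoneWagnerExceptions

/-!
The theorem of Livingstone and Wagner: a `k`-homogeneous group of degree at least `2k`, `k ≥ 5`,
is `k`-transitive.

Let `L`, `H` be the pointwise stabilizers of `k - 1` and of `k` points. If `H` has even order, a
Sylow `2`-subgroup of `H` fixes exactly `k` points (Gleason's lemma applies) or its normalizer
gives a smaller group. If only `L` has even order, transpositions fixing a class spread by moving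
the extra fixed point of an involution. If `L` has odd order, classes fixed by involutions are
counted.
-/

open Equiv Finset MulAction
open scoped Pointwise

namespace Cfsg.Agent.Lib.Perm.LivingstoneWagner

universe u

variable {α : Type u} [Fintype α] [DecidableEq α] {G : Subgroup (Equiv.Perm α)}

/-- The permutations of the positions induced on a tuple by its set stabilizer. -/
theorem exists_three_cycle {k : ℕ} (hk : 5 ≤ k) (hkn : k + 3 ≤ Fintype.card α)
    (hh : IsPretransitive G (Set.powersetCard α k))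
    (ht : IsMultiplyPretransitive G α (k - 1))
    (hoddK : ∀ U : Finset α, U.card = k - 1 → Odd (Nat.card (fixG G U)))
    (hpar : ¬ 2 ∣ Fintype.card α - k) {v : ℕ} (hv1 : 1 ≤ v) (hv : 2 * 3 ^ v ∣ k.factorial)
    (hv' : ¬ 3 ^ (v + 1) ∣ k.factorial) {x : Fin k ↪ α} {c d e f : Fin k}
    (hcd : c ≠ d) (hef : e ≠ f) (hce : c ≠ e) (hcf : c ≠ f) (hde : d ≠ e) (hdf : d ≠ f)
    (hσx : Equiv.swap c d * Equiv.swap e f ∈ classSubgroup G x) :
    ∃ a b t : Fin k, a ≠ b ∧ b ≠ t ∧ a ≠ t ∧
      Equiv.swap a b * Equiv.swap b t ∈ classSubgroup G x := by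
  classical
  haveI : Fact (Nat.Prime 3) := ⟨Nat.prime_three⟩
  set B := univ.image x with hB
  have hBc : B.card = k := by
    rw [hB, card_image_of_injective _ x.injective, card_univ, Fintype.card_fin]
  by_cases h3 : 3 ∣ Nat.card (fixG G B)
  · obtain ⟨w, hw⟩ := exists_prime_orderOf_dvd_card' 3 h3
    set w' : Equiv.Perm α := w.1.1 with hw'
    have hw3 : ∀ q, w' (w' (w' q)) = q := fun q => by
      have h1 : w ^ 3 = 1 := hw ▸ pow_orderOf_eq_one w
      have := congrArg (fun r : fixG G B => r.1.1 q) h1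
      simpa [pow_succ, Equiv.Perm.mul_apply] using this
    obtain ⟨q, hq⟩ : ∃ q, w' q ≠ q := by
      by_contra! h
      have : w = 1 := Subtype.ext (Subtype.ext (Equiv.ext h))
      rw [this, orderOf_one] at hw
      omega
    have hq2 : w' (w' q) ≠ q := fun h => hq (by conv_rhs => rw [← hw3 q, h])
    have hq12 : w' q ≠ w' (w' q) := fun h => hq (w'.injective h).symm
    obtain ⟨T, hTB, hT⟩ := exists_subset_card_eq (s := B) (n := k - 3) (by omega)
    have hTf : ∀ r ∈ T, w' r = r := fun r hr => mem_fixG.mp w.2 r (hTB hr)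
    have hqT : q ∉ T := fun h => hq (hTf q h)
    have hq1T : w' q ∉ T := fun h => hq (w'.injective (hTf _ h))
    have hq2T : w' (w' q) ∉ T := fun h => hq (w'.injective (w'.injective (hTf _ h)))
    obtain ⟨y, hyW, hym⟩ := exists_embedding (m := k)
      (W := insert q (insert (w' q) (insert (w' (w' q)) T))) (by
        rw [card_insert_of_notMem (by simp [hqT, hq.symm, hq2.symm]),
          card_insert_of_notMem (by simp [hq1T, hq12]), card_insert_of_notMem hq2T, hT]
        omega)
    obtain ⟨i₀, h0⟩ := hyW q (by simp)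
    obtain ⟨i₁, h1⟩ := hyW (w' q) (by simp)
    obtain ⟨i₂, h2⟩ := hyW (w' (w' q)) (by simp)
    have n01 : i₀ ≠ i₁ := fun e' => hq (h1.symm.trans ((congrArg y e').symm.trans h0))
    have n02 : i₀ ≠ i₂ := fun e' => hq2 (h2.symm.trans ((congrArg y e').symm.trans h0))
    have n12 : i₁ ≠ i₂ := fun e' => hq12 (h1.symm.trans ((congrArg y e').trans h2))
    have hyc : Equiv.swap i₀ i₁ * Equiv.swap i₁ i₂ ∈ classSubgroup G y := by
      refine ⟨w', w.1.2, fun i => ?_⟩
      rw [Equiv.Perm.mul_apply]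
      by_cases hi0 : i = i₀
      · subst hi0
        rw [Equiv.swap_apply_of_ne_of_ne n01 n02, Equiv.swap_apply_left, h0, h1]
      by_cases hi1 : i = i₁
      · subst hi1
        rw [Equiv.swap_apply_left, Equiv.swap_apply_of_ne_of_ne n02.symm n12.symm, h1, h2]
      by_cases hi2 : i = i₂
      · subst hi2
        rw [Equiv.swap_apply_right, Equiv.swap_apply_right, h2, h0, hw3]
      rw [Equiv.swap_apply_of_ne_of_ne hi1 hi2, Equiv.swap_apply_of_ne_of_ne hi0 hi1]
      refine hTf _ ?_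
      have := hym i
      simp only [mem_insert] at this
      rcases this with h | h | h | h
      · exact absurd (y.injective (h.trans h0.symm)) hi0
      · exact absurd (y.injective (h.trans h1.symm)) hi1
      · exact absurd (y.injective (h.trans h2.symm)) hi2
      · exact h
    obtain ⟨π, hπ⟩ := class_conj hh y x
    refine ⟨π⁻¹ i₀, π⁻¹ i₁, π⁻¹ i₂, (π⁻¹).injective.ne n01, (π⁻¹).injective.ne n12,
      (π⁻¹).injective.ne n02, ?_⟩
    have := hπ _ hyc
    rw [show π⁻¹ * (Equiv.swap i₀ i₁ * Equiv.swap i₁ i₂) * π =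
      (π⁻¹ * Equiv.swap i₀ i₁ * π) * (π⁻¹ * Equiv.swap i₁ i₂ * π) by group, conj_swap, conj_swap]
      at this
    exact this
  -- the image of a Sylow `3`-subgroup of the set stabilizer
  obtain ⟨p, hp⟩ : ∃ p, p ∉ ({c, d, e, f} : Finset (Fin k)) := by
    obtain ⟨p, -, hp⟩ := exists_mem_notMem_of_card_lt_card (s := ({c, d, e, f} : Finset (Fin k)))
      (t := univ) (by rw [card_univ, Fintype.card_fin, card_four hcd hef hce hcf hde hdf]; omega)
    exact ⟨p, hp⟩
  obtain ⟨qT, qD, hq, hqd⟩ := count_invol hk hkn ht hoddK hpar hcd hef hce hcf hde hdf hp hσx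
  have hUc : ((univ.erase p).image x).card = k - 1 := by
    rw [card_image_of_injective _ x.injective, card_erase_of_mem (mem_univ _), card_univ,
      Fintype.card_fin]
  set K := fixG G ((univ.erase p).image x) with hK
  haveI := hh
  set N := stabilizer G (Set.powersetCard.ofCard hBc) with hN
  have hs : (Fintype.card α).choose k * Nat.card N = Nat.card G := by
    have h1 := Subgroup.card_mul_index N
    rw [index_stabilizer_of_transitive] at h1
    rw [← h1, Set.powersetCard.card, Nat.card_eq_fintype_card (α := α), mul_comm]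
  have hs2 : (Fintype.card α - (k - 1)) * Nat.card N = k.factorial * Nat.card K := by
    have h1 := card_fixG_of_trans ht (by omega) hUc
    have h2 : (Fintype.card α).descFactorial k =
        (Fintype.card α - (k - 1)) * (Fintype.card α).descFactorial (k - 1) := by
      conv_lhs => rw [show k = (k - 1) + 1 by omega, Nat.descFactorial_succ]
    rw [← hs, ← hK] at h1
    refine Nat.eq_of_mul_eq_mul_left (Nat.choose_pos (by omega : k ≤ Fintype.card α)) ?_
    calc (Fintype.card α).choose k * ((Fintype.card α - (k - 1)) * Nat.card N)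
        = (Fintype.card α - (k - 1)) * ((Fintype.card α).choose k * Nat.card N) := by ring
      _ = (Fintype.card α).descFactorial k * Nat.card K := by rw [h1, h2]; ring
      _ = (Fintype.card α).choose k * (k.factorial * Nat.card K) := by
          rw [Nat.descFactorial_eq_factorial_mul_choose]; ring
  have hNdvd : 3 ^ v ∣ Nat.card N := by
    obtain ⟨C, hC⟩ := hqd
    obtain ⟨q, hq'⟩ := hv
    have : Nat.card N = 3 ^ v * (q * C * qT) := by
      refine Nat.eq_of_mul_eq_mul_left (by omega : 0 < Fintype.card α - (k - 1)) ?_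
      rw [hs2, hC, hq']
      calc 2 * 3 ^ v * q * (qD * C) = 3 ^ v * q * C * (2 * qD) := by ring
        _ = _ := by rw [← hq]; ring
    exact ⟨_, this⟩
  obtain ⟨R, hR⟩ := Sylow.exists_subgroup_card_pow_prime 3 hNdvd
  have hgx : ∀ g : N, ∀ i, ∃ j, (g.1 : Equiv.Perm α) (x i) = x j := fun g i => by
    have hg : B.image g.1.1 = B := by
      exact Set.powersetCard.coe_smul.symm.trans (congrArg Subtype.val g.2)
    have h1 : g.1.1 (x i) ∈ B := hg ▸ mem_image_of_mem _ (mem_image_of_mem x (mem_univ i))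
    obtain ⟨j, -, hj⟩ := mem_image.mp h1
    exact ⟨j, hj.symm⟩
  choose ψ hψ using hgx
  have hψinj : ∀ g, Function.Injective (ψ g) := fun g i j h =>
    x.injective (g.1.1.injective (by rw [hψ, hψ, h]))
  let Ψ : N →* Equiv.Perm (Fin k) :=
    { toFun := fun g => Equiv.ofBijective (ψ g) (Finite.injective_iff_bijective.mp (hψinj g))
      map_one' := by
        ext i
        refine congrArg Fin.val (x.injective ?_)
        change x (ψ 1 i) = x i
        rw [← hψ]; rfl
      map_mul' := fun g g' => by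
        ext i
        refine congrArg Fin.val (x.injective ?_)
        change x (ψ (g * g') i) = x (ψ g (ψ g' i))
        rw [← hψ, ← hψ, ← hψ]; rfl }
  have hΨmem : ∀ g, Ψ g ∈ classSubgroup G x := fun g => ⟨g.1.1, g.1.2, fun i => hψ g i⟩
  set R' := R.map Ψ with hR'
  have hinj : Function.Injective (Ψ.comp R.subtype) := by
    rw [← MonoidHom.ker_eq_bot_iff, Subgroup.eq_bot_iff_forall]
    intro r hr
    have hfix : (r.1 : G) ∈ fixG G B := mem_fixG.mpr fun a ha => by
      obtain ⟨i, -, rfl⟩ := mem_image.mp ha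
      have h1 : ψ r.1 i = i := congrArg (fun q : Equiv.Perm (Fin k) => q i) hr
      rw [hψ, h1]
    have h1 : orderOf r.1.1 ∣ Nat.card (fixG G B) := Subgroup.orderOf_dvd_natCard _ hfix
    have h2 : orderOf r ∣ 3 ^ v := hR ▸ orderOf_dvd_natCard r
    rw [Subgroup.orderOf_coe, Subgroup.orderOf_coe] at h1
    have hcop : Nat.Coprime (3 ^ v) (Nat.card (fixG G B)) :=
      Nat.Coprime.pow_left v ((Nat.prime_three.coprime_iff_not_dvd).mpr h3)
    exact orderOf_eq_one_iff.mp (Nat.eq_one_of_dvd_coprimes hcop h2 h1)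
  have hR'c : Nat.card R' = 3 ^ v := by
    rw [hR', ← hR]
    have : (Ψ.comp R.subtype).range = R.map Ψ := by
      rw [MonoidHom.range_comp, Subgroup.range_subtype]
    rw [← this]
    exact (Nat.card_congr (MonoidHom.ofInjective hinj).toEquiv).symm
  obtain ⟨P₁, hP₁⟩ := (IsPGroup.of_card hR'c).exists_le_sylow
  have hP₁eq : (P₁ : Subgroup (Equiv.Perm (Fin k))) = R' := by
    refine (Subgroup.eq_of_le_of_card_ge hP₁ ?_).symm
    obtain ⟨w, hw⟩ := IsPGroup.iff_card.mp P₁.isPGroup'
    rw [hw, hR'c]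
    refine Nat.pow_le_pow_right (by norm_num) ?_
    by_contra hlt
    apply hv'
    have h1 := Subgroup.card_subgroup_dvd_card (P₁ : Subgroup (Equiv.Perm (Fin k)))
    rw [hw, Nat.card_perm, Nat.card_fin] at h1
    exact (pow_dvd_pow 3 (by omega)).trans h1
  obtain ⟨q₀, q₁, q₂, n01, n12, n02⟩ : ∃ a b t : Fin k, a ≠ b ∧ b ≠ t ∧ a ≠ t :=
    ⟨c, d, e, hcd, hde, hce⟩
  set c₀ := Equiv.swap q₀ q₁ * Equiv.swap q₁ q₂ with hc₀
  have hc₀3 : IsPGroup 3 (Subgroup.zpowers c₀) := by
    have h3c : (Equiv.swap q₁ q₀ * Equiv.swap q₁ q₂).IsThreeCycle :=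
      Equiv.Perm.isThreeCycle_swap_mul_swap_same n01.symm n12 n02
    rw [Equiv.swap_comm q₁ q₀] at h3c
    exact IsPGroup.of_card (n := 1) (by rw [Nat.card_zpowers, hc₀, h3c.orderOf, pow_one])
  obtain ⟨P₀, hP₀⟩ := hc₀3.exists_le_sylow
  obtain ⟨π, hπ⟩ := MulAction.exists_smul_eq (Equiv.Perm (Fin k)) P₀ P₁
  have hmem : π * c₀ * π⁻¹ ∈ R' := by
    rw [← hP₁eq, ← hπ, Sylow.coe_subgroup_smul]
    exact Subgroup.smul_mem_pointwise_smul _ (MulAut.conj π) _ (hP₀ (Subgroup.mem_zpowers c₀))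
  rw [hc₀, show π * (Equiv.swap q₀ q₁ * Equiv.swap q₁ q₂) * π⁻¹ =
    (π * Equiv.swap q₀ q₁ * π⁻¹) * (π * Equiv.swap q₁ q₂ * π⁻¹) by group,
    ← Equiv.swap_apply_apply, ← Equiv.swap_apply_apply] at hmem
  refine ⟨π q₀, π q₁, π q₂, π.injective.ne n01, π.injective.ne n12, π.injective.ne n02, ?_⟩
  obtain ⟨g, -, hg⟩ := Subgroup.mem_map.mp hmem
  exact hg ▸ hΨmem g

theorem false_of_small {k : ℕ} (hk : 5 ≤ k) (hkn : k + 3 ≤ Fintype.card α)
    (hh : IsPretransitive G (Set.powersetCard α k))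
    (ht : IsMultiplyPretransitive G α (k - 1))
    (hoddK : ∀ U : Finset α, U.card = k - 1 → Odd (Nat.card (fixG G U)))
    (hpar : ¬ 2 ∣ Fintype.card α - k) {v : ℕ} (hv1 : 1 ≤ v) (hv : 2 * 3 ^ v ∣ k.factorial)
    (hv' : ¬ 3 ^ (v + 1) ∣ k.factorial) {a b c d : Fin k}
    (hab : a ≠ b) (hcd : c ≠ d) (hac : a ≠ c) (had : a ≠ d) (hbc : b ≠ c) (hbd : b ≠ d)
    (hwords : ∀ q r t : Fin k, q ≠ r → r ≠ t → q ≠ t →
      testWord (Equiv.swap a b * (Equiv.swap a c * Equiv.swap b d))
        (Equiv.swap q r * Equiv.swap r t))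
    {x₀ : Fin k ↪ α} {c₀ d₀ e₀ f₀ : Fin k}
    (hcd₀ : c₀ ≠ d₀) (hef₀ : e₀ ≠ f₀) (hce₀ : c₀ ≠ e₀) (hcf₀ : c₀ ≠ f₀) (hde₀ : d₀ ≠ e₀)
    (hdf₀ : d₀ ≠ f₀) (h₀ : Equiv.swap c₀ d₀ * Equiv.swap e₀ f₀ ∈ classSubgroup G x₀) : False := by
  classical
  -- carry the double transposition to `(a b)(c d)`
  let emb : ∀ a b c d : Fin k, a ≠ b → c ≠ d → a ≠ c → a ≠ d → b ≠ c → b ≠ d → Fin 4 ↪ Fin k :=
    fun a b c d hab hcd hac had hbc hbd => ⟨![a, b, c, d], by
      intro i j h
      fin_cases i <;> fin_cases j <;>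
        simp [hab, hcd, hac, had, hbc, hbd, hab.symm, hcd.symm, hac.symm, had.symm, hbc.symm,
          hbd.symm] at h ⊢⟩
  haveI := Equiv.Perm.isMultiplyPretransitive (Fin k) 4
  obtain ⟨π, hπ⟩ := MulAction.exists_smul_eq (Equiv.Perm (Fin k))
    (emb a b c d hab hcd hac had hbc hbd) (emb c₀ d₀ e₀ f₀ hcd₀ hef₀ hce₀ hcf₀ hde₀ hdf₀)
  have hπa : π a = c₀ := DFunLike.congr_fun hπ 0
  have hπb : π b = d₀ := DFunLike.congr_fun hπ 1
  have hπc : π c = e₀ := DFunLike.congr_fun hπ 2
  have hπd : π d = f₀ := DFunLike.congr_fun hπ 3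
  set x : Fin k ↪ α := π.toEmbedding.trans x₀ with hx
  have hσ : Equiv.swap a b * Equiv.swap c d ∈ classSubgroup G x := by
    obtain ⟨g, hg, hgx⟩ := h₀
    refine ⟨g, hg, fun i => ?_⟩
    change g (x₀ (π i)) = x₀ (π ((Equiv.swap a b * Equiv.swap c d) i))
    rw [hgx, Equiv.Perm.mul_apply, Equiv.Perm.mul_apply, ← π.injective.swap_apply,
      ← π.injective.swap_apply, hπa, hπb, hπc, hπd]
  obtain ⟨hs2, hsa, hsb, hsc, hsd, hso⟩ := double_apply hab hcd hac had hbc hbd
  obtain ⟨ht2, hta, htc, htb, htd, hto⟩ := double_apply hac hbd hab had hbc.symm hcd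
  set s := Equiv.swap a b * Equiv.swap c d with hsdef
  set t := Equiv.swap a c * Equiv.swap b d with htdef
  have hcomm : ∀ i, t (s i) = s (t i) := by
    intro i
    by_cases hia : i = a
    · subst hia; rw [hsa, htb, hta, hsc]
    by_cases hib : i = b
    · subst hib; rw [hsb, hta, htb, hsd]
    by_cases hic : i = c
    · subst hic; rw [hsc, htd, htc, hsa]
    by_cases hid : i = d
    · subst hid; rw [hsd, htc, htd, hsb]
    rw [hso i (by simp [hia, hib, hic, hid]), hto i (by simp [hia, hib, hic, hid]),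
      hso i (by simp [hia, hib, hic, hid])]
  obtain ⟨p, -, hp⟩ := exists_mem_notMem_of_card_lt_card (s := ({a, b, c, d} : Finset (Fin k)))
    (t := univ) (by rw [card_univ, Fintype.card_fin, card_four hab hcd hac had hbc hbd]; omega)
  rcases dichotomy hk (by omega) ht hoddK hpar hab hcd hac had hbc hbd hσ hcomm with h | h
  · exact false_of_four_group hk hkn ht hoddK hh hpar hab hcd hac had hbc hbd hp hσ h
  · rw [inv_eq_of_mul_eq_one_right ht2] at h
    obtain ⟨q, r, w, hqr, hrw, hqw, hc3⟩ :=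
      exists_three_cycle hk hkn hh ht hoddK hpar hv1 hv hv' hab hcd hac had hbc hbd hσ
    obtain ⟨i, j, hij, hswap⟩ := exists_swap_of_testWord h hc3 (hwords q r w hqr hrw hqw)
    exact no_swap hk (by omega) hoddK hpar hij hswap

theorem transitive_of_oddK {k : ℕ} (hk : 5 ≤ k) (hkn : 2 * k ≤ Fintype.card α)
    (hh : IsPretransitive G (Set.powersetCard α k))
    (ht : IsMultiplyPretransitive G α (k - 1))
    (hoddK : ∀ U : Finset α, U.card = k - 1 → Odd (Nat.card (fixG G U))) :
    IsMultiplyPretransitive G α k := by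
  classical
  obtain ⟨F, -, hF⟩ := exists_subset_card_eq (s := (univ : Finset α)) (n := k - 3)
    (by rw [card_univ]; omega)
  obtain ⟨a, ha, b, hb, hab⟩ := one_lt_card.mp (by rw [card_compl, hF]; omega : 1 < Fᶜ.card)
  rw [mem_compl] at ha hb
  set U : Finset α := insert a (insert b F) with hU
  have hUc : U.card = k - 1 := by
    rw [hU, card_insert_of_notMem (by simp [ha, hab]), card_insert_of_notMem hb, hF]; omega
  obtain ⟨g, hg, hgU⟩ := exists_map ht (by omega) (ι := U) (by rw [Fintype.card_coe, hUc])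
    (Function.Embedding.subtype _)
    ((Function.Embedding.subtype _).trans (Equiv.swap a b).toEmbedding)
  have hgU' : ∀ u ∈ U, g u = Equiv.swap a b u := fun u hu => hgU ⟨u, hu⟩
  have hsU : ∀ u ∈ U, Equiv.swap a b u ∈ U := fun u hu => by
    rw [hU, mem_insert, mem_insert] at hu
    rcases hu with rfl | rfl | hu
    · rw [Equiv.swap_apply_left]; simp [hU]
    · rw [Equiv.swap_apply_right]; simp [hU]
    · rw [Equiv.swap_apply_of_ne_of_ne (ne_of_mem_of_not_mem hu ha) (ne_of_mem_of_not_mem hu hb)]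
      simp [hU, hu]
  obtain ⟨z, hz, hz2, hzg⟩ := involution_of_odd (hoddK U hUc) hg fun u hu => by
    rw [hgU' u hu, hgU' _ (hsU u hu), Equiv.swap_apply_self]
  have hza : z a = b := by rw [hzg a (by simp [hU]), hgU' a (by simp [hU]), Equiv.swap_apply_left]
  have hzb : z b = a := by rw [hzg b (by simp [hU]), hgU' b (by simp [hU]), Equiv.swap_apply_right]
  have hzF : F ⊆ fixedSet z := fun u hu => by
    rw [mem_fixedSet, hzg u (by simp [hU, hu]), hgU' u (by simp [hU, hu]),
      Equiv.swap_apply_of_ne_of_ne (ne_of_mem_of_not_mem hu ha) (ne_of_mem_of_not_mem hu hb)]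
  have hzz : ∀ u, z (z u) = u := fun u => by
    rw [← Equiv.Perm.mul_apply, hz2, Equiv.Perm.one_apply]
  have hz1 : z ≠ 1 := fun e => hab (by rw [← hza, e, Equiv.Perm.one_apply])
  have hlt := fixed_lt_of_odd (k := k + 1) (fun F hF => hoddK F (by omega)) hz hz2 hz1
  have hge := card_le_card hzF
  have hmod := fixedSet_card_mod_two hz2
  by_cases hpar : 2 ∣ Fintype.card α - k
  · have hfc : (fixedSet z).card = k - 2 := by omega
    obtain ⟨x, c, d, hcd, hσ⟩ := exists_swap_class (k := k) (by omega) hz hz2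
      (show z a ≠ a by rw [hza]; exact hab.symm) hfc fun t ht => mem_fixedSet.mp ht
    exact transitive_of_swap hk (by omega) hh ht hoddK hcd hσ
  exfalso
  have hfc : (fixedSet z).card = k - 3 := by omega
  have haf : a ∉ fixedSet z := by rw [mem_fixedSet, hza]; exact hab.symm
  have hbf : b ∉ fixedSet z := by rw [mem_fixedSet, hzb]; exact hab
  obtain ⟨e, -, he⟩ := exists_mem_notMem_of_card_lt_card (s := fixedSet z ∪ {a, b}) (t := univ)
    (lt_of_le_of_lt (card_union_le _ _) (by rw [card_univ, card_pair hab]; omega))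
  simp only [mem_union, mem_fixedSet, mem_insert, mem_singleton, not_or] at he
  have hea : z e ≠ a := fun h => he.2.2 (by rw [← hza, ← h, hzz])
  have heb : z e ≠ b := fun h => he.2.1 (by rw [← hzb, ← h, hzz])
  have hef : e ∉ fixedSet z := by rw [mem_fixedSet]; exact he.1
  have hzef : z e ∉ fixedSet z := by
    rw [mem_fixedSet, hzz]; exact Ne.symm he.1
  -- a double transposition fixing a class
  obtain ⟨T, hTs, hT⟩ := exists_subset_card_eq (s := fixedSet z) (n := k - 4) (by omega)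
  have haT : a ∉ T := fun h => haf (hTs h)
  have hbT : b ∉ T := fun h => hbf (hTs h)
  have heT : e ∉ T := fun h => hef (hTs h)
  obtain ⟨x, hxW, hxm⟩ := exists_embedding (m := k) (W := insert a (insert b (insert e (insert (z e) T))))
    (by
      rw [card_insert_of_notMem (by simp [hab, Ne.symm he.2.1, hea.symm, haT]),
        card_insert_of_notMem (by simp [Ne.symm he.2.2, heb.symm, hbT]),
        card_insert_of_notMem (by simp [Ne.symm he.1, heT]),
        card_insert_of_notMem (fun h => hzef (hTs h)), hT]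
      omega)
  obtain ⟨i₁, h1⟩ := hxW a (by simp)
  obtain ⟨i₂, h2⟩ := hxW b (by simp)
  obtain ⟨i₃, h3⟩ := hxW e (by simp)
  obtain ⟨i₄, h4⟩ := hxW (z e) (by simp)
  have hne : ∀ {i j : Fin k} {v w : α}, x i = v → x j = w → v ≠ w → i ≠ j :=
    fun hi hj h e => h (by rw [← hi, ← hj, e])
  have n12 := hne h1 h2 hab
  have n34 := hne h3 h4 (Ne.symm he.1)
  have n13 := hne h1 h3 (Ne.symm he.2.1)
  have n14 := hne h1 h4 hea.symm
  have n23 := hne h2 h3 (Ne.symm he.2.2)
  have n24 := hne h2 h4 heb.symm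
  have hσ : Equiv.swap i₁ i₂ * Equiv.swap i₃ i₄ ∈ classSubgroup G x := by
    refine ⟨z, hz, fun i => ?_⟩
    rw [Equiv.Perm.mul_apply, ← x.injective.swap_apply, ← x.injective.swap_apply, h1, h2, h3, h4]
    have hi := hxm i
    simp only [mem_insert] at hi
    rcases hi with h | h | h | h | h
    · rw [h, Equiv.swap_apply_of_ne_of_ne (Ne.symm he.2.1) hea.symm, Equiv.swap_apply_left, hza]
    · rw [h, Equiv.swap_apply_of_ne_of_ne (Ne.symm he.2.2) heb.symm, Equiv.swap_apply_right, hzb]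
    · rw [h, Equiv.swap_apply_left, Equiv.swap_apply_of_ne_of_ne hea heb]
    · rw [h, Equiv.swap_apply_right, Equiv.swap_apply_of_ne_of_ne he.2.1 he.2.2, hzz]
    · have hf := hTs h
      rw [Equiv.swap_apply_of_ne_of_ne (ne_of_mem_of_not_mem hf hef) (ne_of_mem_of_not_mem hf hzef),
        Equiv.swap_apply_of_ne_of_ne (ne_of_mem_of_not_mem hf haf) (ne_of_mem_of_not_mem hf hbf)]
      exact mem_fixedSet.mp hf
  by_cases hk5 : k = 5
  · subst hk5
    exact false_of_small hk (by omega) hh ht hoddK hpar le_rfl (v := 1) (by decide) (by decide)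
      (a := 0) (b := 1) (c := 2) (d := 3) (by decide) (by decide) (by decide) (by decide)
      (by decide) (by decide) words_five n12 n34 n13 n14 n23 n24 hσ
  by_cases hk6 : k = 6
  · subst hk6
    exact false_of_small hk (by omega) hh ht hoddK hpar (v := 2) (by norm_num) (by decide)
      (by decide) (a := 0) (b := 1) (c := 2) (d := 3) (by decide) (by decide) (by decide)
      (by decide) (by decide) (by decide) words_six n12 n34 n13 n14 n23 n24 hσ
  have hk7 : 7 ≤ k := by omega
  have hall := all_products hk7 (by omega) ht hoddK hpar n12 n34 n13 n14 n23 n24 hσ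
  -- three pairs of `z`
  obtain ⟨f', -, hf'⟩ := exists_mem_notMem_of_card_lt_card
    (s := fixedSet z ∪ {a, b, e, z e}) (t := univ)
    (lt_of_le_of_lt (card_union_le _ _) (by
      rw [card_univ]
      have := card_le_four (a := a) (b := b) (c := e) (d := z e)
      omega))
  simp only [mem_union, mem_fixedSet, mem_insert, mem_singleton, not_or] at hf'
  obtain ⟨f0, fa, fb, fe, fze⟩ := hf'
  have gfa : z f' ≠ a := fun h => fb (by rw [← hza, ← h, hzz])
  have gfb : z f' ≠ b := fun h => fa (by rw [← hzb, ← h, hzz])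
  have gfe : z f' ≠ e := fun h => fze (by rw [← h, hzz])
  have gfze : z f' ≠ z e := fun h => fe (z.injective h)
  have hff : f' ∉ fixedSet z := by rw [mem_fixedSet]; exact f0
  have hzff : z f' ∉ fixedSet z := by rw [mem_fixedSet, hzz]; exact Ne.symm f0
  obtain ⟨T', hT's, hT'⟩ := exists_subset_card_eq (s := fixedSet z) (n := k - 6) (by omega)
  have haT' : a ∉ T' := fun h => haf (hT's h)
  have hbT' : b ∉ T' := fun h => hbf (hT's h)
  have heT' : e ∉ T' := fun h => hef (hT's h)
  have hzeT' : z e ∉ T' := fun h => hzef (hT's h)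
  have hfT' : f' ∉ T' := fun h => hff (hT's h)
  obtain ⟨y, hyW, hym⟩ := exists_embedding (m := k)
    (W := insert a (insert b (insert e (insert (z e) (insert f' (insert (z f') T'))))))
    (by
      rw [card_insert_of_notMem (by simp [hab, Ne.symm he.2.1, hea.symm, Ne.symm fa, gfa.symm,
          haT']),
        card_insert_of_notMem (by simp [Ne.symm he.2.2, heb.symm, Ne.symm fb, gfb.symm,
          hbT']),
        card_insert_of_notMem (by simp [Ne.symm he.1, Ne.symm fe, gfe.symm,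
          heT']),
        card_insert_of_notMem (by simp [Ne.symm fze, gfze.symm, hzeT']),
        card_insert_of_notMem (by simp [Ne.symm f0, hfT']),
        card_insert_of_notMem (fun h => hzff (hT's h)), hT']
      omega)
  obtain ⟨j₁, g1⟩ := hyW a (by simp)
  obtain ⟨j₂, g2⟩ := hyW b (by simp)
  obtain ⟨j₃, g3⟩ := hyW e (by simp)
  obtain ⟨j₄, g4⟩ := hyW (z e) (by simp)
  obtain ⟨j₅, g5⟩ := hyW f' (by simp)
  obtain ⟨j₆, g6⟩ := hyW (z f') (by simp)
  have hne' : ∀ {i j : Fin k} {v w : α}, y i = v → y j = w → v ≠ w → i ≠ j :=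
    fun hi hj h e => h (by rw [← hi, ← hj, e])
  have m12 := hne' g1 g2 hab
  have m34 := hne' g3 g4 (Ne.symm he.1)
  have m56 := hne' g5 g6 (Ne.symm f0)
  have hθ : Equiv.swap j₁ j₂ * (Equiv.swap j₃ j₄ * Equiv.swap j₅ j₆) ∈ classSubgroup G y := by
    refine ⟨z, hz, fun i => ?_⟩
    rw [Equiv.Perm.mul_apply, Equiv.Perm.mul_apply, ← y.injective.swap_apply,
      ← y.injective.swap_apply, ← y.injective.swap_apply, g1, g2, g3, g4, g5, g6]
    have hi := hym i
    simp only [mem_insert] at hi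
    rcases hi with h | h | h | h | h | h | h
    · rw [h, Equiv.swap_apply_of_ne_of_ne (Ne.symm fa) gfa.symm,
        Equiv.swap_apply_of_ne_of_ne (Ne.symm he.2.1) hea.symm, Equiv.swap_apply_left, hza]
    · rw [h, Equiv.swap_apply_of_ne_of_ne (Ne.symm fb) gfb.symm,
        Equiv.swap_apply_of_ne_of_ne (Ne.symm he.2.2) heb.symm, Equiv.swap_apply_right, hzb]
    · rw [h, Equiv.swap_apply_of_ne_of_ne (Ne.symm fe) gfe.symm, Equiv.swap_apply_left,
        Equiv.swap_apply_of_ne_of_ne hea heb]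
    · rw [h, Equiv.swap_apply_of_ne_of_ne (Ne.symm fze) gfze.symm, Equiv.swap_apply_right,
        Equiv.swap_apply_of_ne_of_ne he.2.1 he.2.2, hzz]
    · rw [h, Equiv.swap_apply_left, Equiv.swap_apply_of_ne_of_ne gfe gfze,
        Equiv.swap_apply_of_ne_of_ne gfa gfb]
    · rw [h, Equiv.swap_apply_right, Equiv.swap_apply_of_ne_of_ne fe fze,
        Equiv.swap_apply_of_ne_of_ne fa fb, hzz]
    · have hf := hT's h
      rw [Equiv.swap_apply_of_ne_of_ne (ne_of_mem_of_not_mem hf hff) (ne_of_mem_of_not_mem hf hzff),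
        Equiv.swap_apply_of_ne_of_ne (ne_of_mem_of_not_mem hf hef) (ne_of_mem_of_not_mem hf hzef),
        Equiv.swap_apply_of_ne_of_ne (ne_of_mem_of_not_mem hf haf) (ne_of_mem_of_not_mem hf hbf)]
      exact mem_fixedSet.mp hf
  obtain ⟨π, hπ⟩ := class_conj hh y x
  have h := hπ _ hθ
  rw [show π⁻¹ * (Equiv.swap j₁ j₂ * (Equiv.swap j₃ j₄ * Equiv.swap j₅ j₆)) * π =
    (π⁻¹ * Equiv.swap j₁ j₂ * π) * ((π⁻¹ * Equiv.swap j₃ j₄ * π) * (π⁻¹ * Equiv.swap j₅ j₆ * π))
    by group, conj_swap, conj_swap, conj_swap, ← mul_assoc] at h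
  have h' := mul_mem (inv_mem (hall _ _ _ _ ((π⁻¹).injective.ne m12) ((π⁻¹).injective.ne m34))) h
  rw [inv_mul_cancel_left] at h'
  exact no_swap hk (by omega) hoddK hpar ((π⁻¹).injective.ne m56) h'

/-! ### `k`-point stabilizers of even order -/

theorem transitive_of_evenH {k : ℕ} (hk : 5 ≤ k) (hkn : 2 * k ≤ Fintype.card α)
    (hh : IsPretransitive G (Set.powersetCard α k))
    (ht : IsMultiplyPretransitive G α (k - 1))
    (heven : ∀ B : Finset α, B.card = k → 2 ∣ Nat.card (fixG G B))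
    (IH : ∀ (β : Type u) [Fintype β] [DecidableEq β] (G' : Subgroup (Equiv.Perm β)),
      Fintype.card β < Fintype.card α → 2 * k ≤ Fintype.card β →
      IsPretransitive G' (Set.powersetCard β k) → IsMultiplyPretransitive G' β k) :
    IsMultiplyPretransitive G α k := by
  classical
  haveI := Fact.mk Nat.prime_two
  obtain ⟨B₀, -, hB₀⟩ := exists_subset_card_eq (s := (univ : Finset α)) (n := k)
    (by rw [card_univ]; omega)
  obtain ⟨U₀, -, hU₀⟩ := exists_subset_card_eq (s := (univ : Finset α)) (n := k - 1)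
    (by rw [card_univ]; omega)
  let S₀ : Sylow 2 (fixG G B₀) := default
  set P : Subgroup G := (S₀ : Subgroup (fixG G B₀)).map (fixG G B₀).subtype with hP
  have hP2 : IsPGroup 2 P := S₀.isPGroup'.map _
  have hPle : P ≤ fixG G B₀ := Subgroup.map_subtype_le _
  have hPc : Nat.card P = Nat.card (S₀ : Subgroup (fixG G B₀)) :=
    Subgroup.card_map_of_injective (fixG G B₀).subtype_injective
  set Φ : Finset α := univ.filter fun v => ∀ g ∈ P, (g : Equiv.Perm α) v = v with hΦ
  have hmΦ : ∀ v, v ∈ Φ ↔ ∀ g ∈ P, (g : Equiv.Perm α) v = v := fun v => by simp [hΦ]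
  have hB₀Φ : B₀ ⊆ Φ := fun v hv => (hmΦ v).mpr fun g hg => mem_fixG.mp (hPle hg) v hv
  have hPfix : ∀ U : Finset α, U ⊆ Φ → P ≤ fixG G U := fun U hU g hg =>
    mem_fixG.mpr fun v hv => (hmΦ v).mp (hU hv) g hg
  have hf : k ≤ Φ.card := hB₀ ▸ card_le_card hB₀Φ
  have hPne : P ≠ ⊥ := by
    intro hbot
    have h1 : Nat.card P = 1 := by rw [hbot, Subgroup.card_bot]
    have h2 := S₀.dvd_card_of_dvd_card (heven B₀ hB₀)
    rw [← hPc, h1] at h2
    exact Nat.not_even_one (even_iff_two_dvd.mpr h2)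
  have hflt : Φ.card < Fintype.card α := by
    by_contra hge
    apply hPne
    rw [Subgroup.eq_bot_iff_forall]
    intro g hg
    refine Subtype.ext (Equiv.ext fun v => ?_)
    have : Φ = univ := eq_univ_of_card Φ (le_antisymm (card_le_univ _) (not_lt.mp hge))
    exact (hmΦ v).mp (this ▸ mem_univ v) g hg
  -- `P` is a Sylow subgroup of the stabilizer of each of the sets in `Φ` it should be
  have hidxB : ∀ B : Finset α, B ⊆ Φ → B.card = k → ¬ 2 ∣ (P.subgroupOf (fixG G B)).index := by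
    intro B hBΦ hBc
    have h1 := Subgroup.card_mul_index (P.subgroupOf (fixG G B))
    rw [Nat.card_congr (Subgroup.subgroupOfEquivOfLe (hPfix B hBΦ)).toEquiv, hPc,
      card_fixG_eq hh hBc hB₀, ← Subgroup.card_mul_index (S₀ : Subgroup (fixG G B₀))] at h1
    rw [Nat.eq_of_mul_eq_mul_left Nat.card_pos h1]
    exact S₀.not_dvd_index
  set M := Subgroup.normalizer (P : Set G) with hM
  have witt : ∀ B : Finset α, B ⊆ Φ → ∀ g ∈ G, B.image g ⊆ Φ →
      ¬ 2 ∣ (P.subgroupOf (fixG G (B.image g))).index →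
      ∃ g' : G, g' ∈ M ∧ ∀ v ∈ B, (g' : Equiv.Perm α) v = g v := by
    intro B hBΦ g hg hgΦ hidx
    set B₂ := B.image g with hB₂
    let g₀ : G := ⟨g, hg⟩
    let S₂ : Sylow 2 (fixG G B₂) := (hP2.comap_subtype (K := fixG G B₂)).toSylow hidx
    have hconj : ∀ y ∈ P, g₀ * y * g₀⁻¹ ∈ fixG G B₂ := fun y hy => mem_fixG.mpr fun v hv => by
      obtain ⟨w, hw, rfl⟩ := mem_image.mp hv
      change g ((y : Equiv.Perm α) (g⁻¹ (g w))) = g w
      rw [show g⁻¹ (g w) = w from g.symm_apply_apply w, (hmΦ w).mp (hBΦ hw) y hy]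
    have hQ2 : IsPGroup 2 (P.map (MulAut.conj g₀).toMonoidHom) := hP2.map _
    obtain ⟨S₁, hS₁⟩ := (hQ2.comap_subtype (K := fixG G B₂)).exists_le_sylow
    obtain ⟨c, hc⟩ := MulAction.exists_smul_eq (fixG G B₂) S₁ S₂
    have hmap : ∀ y ∈ P, (c.1 * g₀) * y * (c.1 * g₀)⁻¹ ∈ P := by
      intro y hy
      have h1 : (⟨g₀ * y * g₀⁻¹, hconj y hy⟩ : fixG G B₂) ∈ S₁ := hS₁ ⟨y, hy, rfl⟩
      have h2 : c * ⟨g₀ * y * g₀⁻¹, hconj y hy⟩ * c⁻¹ ∈ (S₂ : Subgroup (fixG G B₂)) := by
        rw [← hc, Sylow.coe_subgroup_smul]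
        exact Subgroup.smul_mem_pointwise_smul _ (MulAut.conj c) _ h1
      have h3 : c.1 * (g₀ * y * g₀⁻¹) * c.1⁻¹ ∈ P := h2
      rwa [show c.1 * g₀ * y * (c.1 * g₀)⁻¹ = c.1 * (g₀ * y * g₀⁻¹) * c.1⁻¹ by group]
    refine ⟨c.1 * g₀, ?_, fun v hv => mem_fixG.mp c.2 _ (mem_image_of_mem g hv)⟩
    let η : P → P := fun y => ⟨_, hmap y.1 y.2⟩
    have hη : Function.Surjective η := Finite.injective_iff_surjective.mp fun y y' h => by
      have h' : (c.1 * g₀) * y.1 * (c.1 * g₀)⁻¹ = (c.1 * g₀) * y'.1 * (c.1 * g₀)⁻¹ :=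
        congrArg Subtype.val h
      exact Subtype.ext (mul_left_cancel (mul_right_cancel h'))
    rw [hM, Subgroup.mem_normalizer_iff]
    refine fun y => ⟨hmap y, fun hy => ?_⟩
    obtain ⟨y', hy'⟩ := hη ⟨_, hy⟩
    have h' : (c.1 * g₀) * y'.1 * (c.1 * g₀)⁻¹ = (c.1 * g₀) * y * (c.1 * g₀)⁻¹ :=
      congrArg Subtype.val hy'
    exact (mul_left_cancel (mul_right_cancel h')) ▸ y'.2
  by_cases hfk : Φ.card = k
  · have hΦB : Φ = B₀ := (eq_of_subset_of_card_le hB₀Φ (by omega)).symm
    refine gleason Nat.prime_two (k := k) (by omega) (by omega) fun B hB => ?_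
    obtain ⟨g, hg, rfl⟩ := exists_image_eq hh hB₀ hB
    refine ⟨P.map (MulAut.conj (⟨g, hg⟩ : G)).toMonoidHom, hP2.map _, ?_⟩
    ext v
    simp only [coe_image, Set.mem_image, Finset.mem_coe]
    constructor
    · intro hv
      refine ⟨g⁻¹ v, ?_, by simp⟩
      rw [← hΦB, hmΦ]
      intro y hy
      have := hv ⟨_, Subgroup.mem_map_of_mem (MulAut.conj (⟨g, hg⟩ : G)).toMonoidHom hy⟩
      change g ((y : Equiv.Perm α) (g⁻¹ v)) = v at this
      rw [Equiv.Perm.eq_inv_iff_eq]; exact this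
    · rintro ⟨w, hw, rfl⟩ ⟨y, hy⟩
      obtain ⟨y', hy', rfl⟩ := Subgroup.mem_map.mp hy
      change g ((y' : Equiv.Perm α) (g⁻¹ (g w))) = g w
      rw [show g⁻¹ (g w) = w from g.symm_apply_apply w, mem_fixG.mp (hPle hy') w hw]
  -- the group induced on `Φ`
  have hMΦ : ∀ g : M, ∀ v, (g.1 : Equiv.Perm α) v ∈ Φ ↔ v ∈ Φ := by
    have hdir : ∀ g : M, ∀ v ∈ Φ, (g.1 : Equiv.Perm α) v ∈ Φ := by
      intro g v hv
      rw [hmΦ]
      intro y hy
      have h1 : g.1⁻¹ * y * g.1 ∈ P := by
        have := (Subgroup.mem_normalizer_iff.mp (inv_mem g.2) y).mp hy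
        rwa [inv_inv] at this
      have h2 := (hmΦ v).mp hv _ h1
      change g.1.1⁻¹ ((y : Equiv.Perm α) (g.1.1 v)) = v at h2
      rwa [Equiv.Perm.inv_eq_iff_eq] at h2
    intro g v
    refine ⟨fun h => ?_, hdir g v⟩
    have := hdir g⁻¹ _ h
    simpa using this
  let ρ : M →* Equiv.Perm {v // v ∈ Φ} :=
    { toFun := fun g => (g.1 : Equiv.Perm α).subtypePerm (hMΦ g)
      map_one' := by ext v; rfl
      map_mul' := fun g g' => by ext v; rfl }
  set G' := ρ.range with hG'
  have hcardΦ : Fintype.card {v // v ∈ Φ} = Φ.card := Fintype.card_coe Φ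
  have himg : ∀ (s : Finset {v // v ∈ Φ}), (s.image Subtype.val).card = s.card ∧
      s.image Subtype.val ⊆ Φ := fun s =>
    ⟨card_image_of_injective _ Subtype.val_injective, fun v hv => by
      obtain ⟨w, -, rfl⟩ := mem_image.mp hv; exact w.2⟩
  have hhom : IsPretransitive G' (Set.powersetCard {v // v ∈ Φ} k) := by
    refine ⟨fun s t => ?_⟩
    obtain ⟨s, hs⟩ := s
    obtain ⟨t, ht'⟩ := t
    rw [Set.powersetCard.mem_iff] at hs ht'
    obtain ⟨g, hg, hgst⟩ := exists_image_eq hh (s := s.image Subtype.val) (t := t.image Subtype.val)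
      ((himg s).1.trans hs) ((himg t).1.trans ht')
    obtain ⟨g', hg'M, hg'⟩ := witt (s.image Subtype.val) (himg s).2 g hg (hgst ▸ (himg t).2)
      (hgst ▸ hidxB _ (himg t).2 ((himg t).1.trans ht'))
    refine ⟨⟨ρ ⟨g', hg'M⟩, ⟨_, rfl⟩⟩, Subtype.ext ?_⟩
    refine Set.powersetCard.coe_smul.trans ?_
    apply Finset.image_injective Subtype.val_injective
    change (s.image fun w => ρ ⟨g', hg'M⟩ w).image Subtype.val = t.image Subtype.val
    rw [← hgst, image_image, image_image]
    exact image_congr fun w hw => hg' w.1 (mem_image_of_mem _ hw)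
  -- transfer of transitivity from `Φ`
  have hlift : IsMultiplyPretransitive G' {v // v ∈ Φ} k → IsMultiplyPretransitive G α k := by
    intro hk'
    haveI := hk'
    obtain ⟨x⟩ : Nonempty (Fin k ↪ {v // v ∈ Φ}) :=
      Function.Embedding.nonempty_of_card_le (by rw [Fintype.card_fin, hcardΦ]; omega)
    refine transitive_of_classes hh (x.trans (Function.Embedding.subtype _)) fun c d _ => ?_
    obtain ⟨g, hg⟩ := exists_smul_eq G' x ((Equiv.swap c d).toEmbedding.trans x)
    obtain ⟨m, hm⟩ := g.2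
    refine ⟨m.1.1, m.1.2, fun i => ?_⟩
    have := congrArg Subtype.val (DFunLike.congr_fun hg i)
    simp only [Function.Embedding.smul_apply, Subgroup.smul_def, Equiv.Perm.smul_def] at this
    rw [← hm] at this
    exact this
  by_cases hf2 : 2 * k ≤ Φ.card
  · exact hlift (IH {v // v ∈ Φ} G' (by rw [hcardΦ]; exact hflt) (by rw [hcardΦ]; exact hf2) hhom)
  -- `(k-1)`-transitivity on `Φ`
  have hKdvd : ∀ U : Finset α, U ⊆ Φ → U.card = k - 1 →
      (P.subgroupOf (fixG G U)).index * Nat.card P = Nat.card (fixG G U₀) := by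
    intro U hUΦ hUc
    have h1 := Subgroup.card_mul_index (P.subgroupOf (fixG G U))
    rw [Nat.card_congr (Subgroup.subgroupOfEquivOfLe (hPfix U hUΦ)).toEquiv,
      card_fixG_eq_of_trans ht (by omega) hUc hU₀] at h1
    rw [← h1, mul_comm]
  have hidx_const : ∀ U V : Finset α, U ⊆ Φ → V ⊆ Φ → U.card = k - 1 → V.card = k - 1 →
      (P.subgroupOf (fixG G U)).index = (P.subgroupOf (fixG G V)).index := fun U V hU hV hUc hVc =>
    Nat.eq_of_mul_eq_mul_right Nat.card_pos ((hKdvd U hU hUc).trans (hKdvd V hV hVc).symm)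
  obtain ⟨U₁, hU₁Φ, hU₁⟩ := exists_subset_card_eq (s := Φ) (n := k - 1) (by omega)
  have ht' : IsMultiplyPretransitive G' {v // v ∈ Φ} (k - 1) := by
    by_cases hm : 2 ∣ (P.subgroupOf (fixG G U₁)).index
    · refine gleason Nat.prime_two (k := k - 1) (by omega) (by rw [hcardΦ]; omega) fun s hs => ?_
      set U := s.image Subtype.val with hU
      have hUc : U.card = k - 1 := (himg s).1.trans hs
      have hUΦ : U ⊆ Φ := (himg s).2
      set P' := P.subgroupOf (fixG G U) with hP'
      obtain ⟨Q, hQ⟩ := (hP2.comap_subtype (K := fixG G U)).exists_le_sylow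
      have hlt : P' < (Q : Subgroup (fixG G U)) := by
        refine lt_of_le_of_ne hQ fun e => ?_
        have h1 := Q.not_dvd_index
        rw [← e, hP', hidx_const U U₁ hUΦ hU₁Φ hUc hU₁] at h1
        exact h1 hm
      let R₀ : Subgroup G := M ⊓ (Q : Subgroup (fixG G U)).map (fixG G U).subtype
      have hR₀ : IsPGroup 2 R₀ := (Q.isPGroup'.map _).to_le inf_le_right
      refine ⟨((R₀.subgroupOf M).map ρ.rangeRestrict), (hR₀.comap_subtype).map _, ?_⟩
      ext w
      constructor
      · intro hw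
        by_contra hws
        rw [Finset.mem_coe] at hws
        have hwU : w.1 ∉ U := by
          rw [hU, mem_image]
          rintro ⟨w', hw', e⟩
          exact hws (Subtype.ext e ▸ hw')
        have hBc : (insert w.1 U).card = k := by rw [card_insert_of_notMem hwU, hUc]; omega
        have hBΦ : insert w.1 U ⊆ Φ := insert_subset w.2 hUΦ
        have hR₀B : R₀ ≤ fixG G (insert w.1 U) := by
          intro y hy
          refine mem_fixG.mpr fun v hv => ?_
          rcases mem_insert.mp hv with rfl | hv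
          · have hyM : (⟨y, hy.1⟩ : M) ∈ R₀.subgroupOf M := hy
            exact congrArg Subtype.val (hw ⟨_, Subgroup.mem_map_of_mem ρ.rangeRestrict hyM⟩)
          · obtain ⟨q, -, rfl⟩ := Subgroup.mem_map.mp hy.2
            exact mem_fixG.mp q.2 v hv
        have hPR : P ≤ R₀ := le_inf Subgroup.le_normalizer (fun y hy =>
          ⟨⟨y, hPfix U hUΦ hy⟩, hQ hy, rfl⟩)
        have hPmax : R₀ = P := by
          set K := fixG G (insert w.1 U) with hK
          obtain ⟨e, he⟩ := IsPGroup.iff_card.mp hR₀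
          obtain ⟨d, hd⟩ := IsPGroup.iff_card.mp hP2
          refine (Subgroup.eq_of_le_of_card_ge hPR ?_).symm
          rw [he, hd]
          refine Nat.pow_le_pow_right two_pos ?_
          by_contra hlt'
          have h1 := Subgroup.card_dvd_of_le hR₀B
          rw [he] at h1
          have h2 := Subgroup.card_mul_index (P.subgroupOf K)
          rw [Nat.card_congr (Subgroup.subgroupOfEquivOfLe (hPfix _ hBΦ)).toEquiv, hd] at h2
          rw [← h2] at h1
          have h3 : 2 ^ (d + 1) ∣ 2 ^ d * (P.subgroupOf K).index :=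
            (pow_dvd_pow 2 (by omega)).trans h1
          rw [pow_succ] at h3
          exact hidxB _ hBΦ hBc (Nat.dvd_of_mul_dvd_mul_left (pow_pos two_pos d) h3)
        -- normalizers grow in the `2`-group `Q`
        haveI : Group.IsNilpotent (Q : Subgroup (fixG G U)) := Q.isPGroup'.isNilpotent
        have hnc := normalizerCondition_of_isNilpotent (G := (Q : Subgroup (fixG G U)))
          (P'.subgroupOf Q) (lt_top_iff_ne_top.mpr fun e =>
            hlt.not_ge (Subgroup.subgroupOf_eq_top.mp e))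
        obtain ⟨y, hy, hy'⟩ := SetLike.exists_of_lt hnc
        have hyM : y.1.1 ∈ M := by
          rw [hM, Subgroup.mem_normalizer_iff]
          intro q
          constructor
          · intro hq
            exact (Subgroup.mem_normalizer_iff.mp hy ⟨⟨q, hPfix U hUΦ hq⟩, hQ hq⟩).mp hq
          · intro hq
            have hqU : q ∈ fixG G U := by
              have h1 := mul_mem (mul_mem (inv_mem y.1.2) (hPfix U hUΦ hq)) y.1.2
              rwa [show y.1.1⁻¹ * (y.1.1 * q * y.1.1⁻¹) * y.1.1 = q by group] at h1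
            have hqQ : (⟨q, hqU⟩ : fixG G U) ∈ (Q : Subgroup (fixG G U)) := by
              have h0 : y.1 * ⟨q, hqU⟩ * y.1⁻¹ ∈ (Q : Subgroup (fixG G U)) := hQ hq
              have h1 := mul_mem (mul_mem (inv_mem y.2) h0) y.2
              rwa [show y.1⁻¹ * (y.1 * ⟨q, hqU⟩ * y.1⁻¹) * y.1 = ⟨q, hqU⟩ by group] at h1
            exact (Subgroup.mem_normalizer_iff.mp hy ⟨⟨q, hqU⟩, hqQ⟩).mpr hq
        have hyP : y.1.1 ∈ P := hPmax ▸ (⟨hyM, ⟨y.1, y.2, rfl⟩⟩ : y.1.1 ∈ R₀)
        exact hy' hyP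
      · rintro hw ⟨y, hy⟩
        obtain ⟨y', hy', rfl⟩ := Subgroup.mem_map.mp hy
        obtain ⟨q, -, hqe⟩ := Subgroup.mem_map.mp (hy'.2 : y'.1 ∈ _)
        apply Subtype.ext
        change y'.1.1 w.1 = w.1
        exact (congrArg (fun g : G => (g : Equiv.Perm α) w.1) hqe).symm.trans
          (mem_fixG.mp q.2 _ (mem_image_of_mem Subtype.val (Finset.mem_coe.mp hw)))
    · refine ⟨fun x y => ?_⟩
      obtain ⟨g, hg, hgxy⟩ := exists_map ht (by omega) (ι := Fin (k - 1)) (by rw [Fintype.card_fin])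
        (x.trans (Function.Embedding.subtype _)) (y.trans (Function.Embedding.subtype _))
      set U := univ.image fun i => (x i).1 with hU
      have hUΦ : U ⊆ Φ := fun v hv => by
        obtain ⟨i, -, rfl⟩ := mem_image.mp hv; exact (x i).2
      have hgΦ : U.image g ⊆ Φ := fun v hv => by
        obtain ⟨v', hv', rfl⟩ := mem_image.mp hv
        obtain ⟨i, -, rfl⟩ := mem_image.mp hv'
        exact (hgxy i).symm ▸ (y i).2
      have hgUc : (U.image g).card = k - 1 := by
        rw [card_image_of_injective _ g.injective, hU,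
          card_image_of_injective _ (fun i j h => x.injective (Subtype.ext h)), card_univ,
          Fintype.card_fin]
      obtain ⟨g', hg'M, hg'⟩ := witt U hUΦ g hg hgΦ
        (by rw [hidx_const _ U₁ hgΦ hU₁Φ hgUc hU₁]; exact hm)
      refine ⟨⟨ρ ⟨g', hg'M⟩, ⟨_, rfl⟩⟩, ?_⟩
      ext i
      change (g' : Equiv.Perm α) (x i).1 = (y i).1
      rw [hg' _ (mem_image_of_mem _ (mem_univ i))]
      exact hgxy i
  by_cases htk : IsMultiplyPretransitive G' {v // v ∈ Φ} k
  · exact hlift htk
  exfalso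
  have hhom1 : IsPretransitive G' (Set.powersetCard {v // v ∈ Φ} (k + 1)) := by
    haveI := ht'
    have htj : IsMultiplyPretransitive G' {v // v ∈ Φ} (Φ.card - (k + 1)) :=
      isMultiplyPretransitive_of_le (n := k - 1) (by omega)
        (by rw [Nat.card_eq_fintype_card, hcardΦ]; omega)
    refine ⟨fun s t => ?_⟩
    obtain ⟨s, hs⟩ := s
    obtain ⟨t, ht''⟩ := t
    rw [Set.powersetCard.mem_iff] at hs ht''
    have hsc : sᶜ.card = Φ.card - (k + 1) := by rw [card_compl, hcardΦ, hs]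
    have htc : tᶜ.card = Φ.card - (k + 1) := by rw [card_compl, hcardΦ, ht'']
    let xs : Fin (Φ.card - (k + 1)) ↪ {v // v ∈ Φ} :=
      (equivFinOfCardEq hsc).symm.toEmbedding.trans (Function.Embedding.subtype _)
    let xt : Fin (Φ.card - (k + 1)) ↪ {v // v ∈ Φ} :=
      (equivFinOfCardEq htc).symm.toEmbedding.trans (Function.Embedding.subtype _)
    obtain ⟨g, hg⟩ := htj.exists_smul_eq xs xt
    refine ⟨g, Subtype.ext (Set.powersetCard.coe_smul.trans ?_)⟩
    have h1 : sᶜ.image g.1 ⊆ tᶜ := fun v hv => by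
      obtain ⟨w, hw, rfl⟩ := mem_image.mp hv
      have h2 : g.1 (xs (equivFinOfCardEq hsc ⟨w, hw⟩)) = xt (equivFinOfCardEq hsc ⟨w, hw⟩) :=
        DFunLike.congr_fun hg _
      simp only [xs, Function.Embedding.trans_apply, Equiv.coe_toEmbedding, Equiv.symm_apply_apply,
        Function.Embedding.coe_subtype] at h2
      rw [h2]
      exact ((equivFinOfCardEq htc).symm _).2
    have h3 : sᶜ.image g.1 = tᶜ := eq_of_subset_of_card_le h1
      (by rw [card_image_of_injective _ g.1.injective, hsc, htc])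
    change s.image g.1 = t
    have h4 : (s.image g.1)ᶜ = tᶜ := by
      rw [← h3]
      ext v
      rw [mem_compl, mem_image, mem_image]
      constructor
      · intro h
        exact ⟨g.1.symm v, mem_compl.mpr fun hm => h ⟨_, hm, by simp⟩, by simp⟩
      · rintro ⟨w, hw, rfl⟩ ⟨w', hw', e⟩
        exact mem_compl.mp hw (g.1.injective e ▸ hw')
    exact compl_injective h4
  rcases exceptions (G := G') (k := k + 1) (by omega) (by rw [Fintype.card_coe]; omega)
      (by rwa [show k + 1 - 2 = k - 1 by omega]) (by rwa [show k + 1 - 1 = k by omega])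
      (by rw [show k + 1 - 1 = k by omega]; exact hhom) hhom1 with
    ⟨hfe, hA⟩ | ⟨-, h, -⟩ | ⟨-, h, -⟩ | ⟨-, h, -⟩
  rotate_left
  · omega
  · omega
  · omega
  -- an element inducing a transposition on `Φ`
  obtain ⟨B, hBΦ, hBc⟩ := exists_subset_card_eq (s := Φ) (n := k) hf
  obtain ⟨y, hyW, hym⟩ := exists_embedding hBc
  have htau : ∃ (x : Fin k ↪ α) (c d : Fin k), c ≠ d ∧ Equiv.swap c d ∈ classSubgroup G x := by
    obtain ⟨t, ht2⟩ := exists_prime_orderOf_dvd_card' 2 (heven B₀ hB₀)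
    have ht2' : t.1.1 * t.1.1 = 1 := by
      have : t ^ 2 = 1 := ht2 ▸ pow_orderOf_eq_one t
      rw [← pow_two]
      exact congrArg (fun v : fixG G B₀ => v.1.1) this
    obtain ⟨u, hu⟩ : ∃ u, t.1.1 u ≠ u := by
      by_contra! h
      have : t = 1 := Subtype.ext (Subtype.ext (Equiv.ext h))
      rw [this, orderOf_one] at ht2
      omega
    obtain ⟨T, hTB, hT⟩ := exists_subset_card_eq (s := B₀) (n := k - 2) (by omega)
    exact exists_swap_class (by omega) t.1.2 ht2' hu hT fun v hv => mem_fixG.mp t.2 v (hTB hv)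
  obtain ⟨x₀, c₀, d₀, hcd₀, hx₀⟩ := htau
  obtain ⟨c, d, hcd, g, hg, hgy⟩ := class_swap_of_swap hh hcd₀ hx₀ y
  have hgB : B.image g = B := by
    refine eq_of_subset_of_card_le (fun v hv => ?_) (by rw [card_image_of_injective _ g.injective])
    obtain ⟨w, hw, rfl⟩ := mem_image.mp hv
    obtain ⟨i, rfl⟩ := hyW w hw
    rw [hgy]; exact hym _
  obtain ⟨g', hg'M, hg'⟩ := witt B hBΦ g hg (hgB.symm ▸ hBΦ) (hgB.symm ▸ hidxB B hBΦ hBc)
  have hmem : ρ ⟨g', hg'M⟩ ∈ G' := ⟨_, rfl⟩
  rw [hA] at hmem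
  have hswap : ρ ⟨g', hg'M⟩ =
      Equiv.swap (⟨y c, hBΦ (hym c)⟩ : {v // v ∈ Φ}) ⟨y d, hBΦ (hym d)⟩ := by
    have hone : (Φ \ B).card = 1 := by
      rw [Fintype.card_coe] at hfe
      rw [card_sdiff_of_subset hBΦ, hBc]; omega
    obtain ⟨q, hq⟩ := card_eq_one.mp hone
    ext ⟨v, hv⟩
    change (g' : Equiv.Perm α) v = _
    by_cases hvB : v ∈ B
    · obtain ⟨i, rfl⟩ := hyW v hvB
      rw [hg' _ hvB, hgy]
      by_cases hic : i = c
      · subst hic; rw [Equiv.swap_apply_left, Equiv.swap_apply_left]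
      by_cases hid : i = d
      · subst hid; rw [Equiv.swap_apply_right, Equiv.swap_apply_right]
      rw [Equiv.swap_apply_of_ne_of_ne hic hid, Equiv.swap_apply_of_ne_of_ne
        (fun e => hic (y.injective (congrArg Subtype.val e)))
        (fun e => hid (y.injective (congrArg Subtype.val e)))]
    · rw [Equiv.swap_apply_of_ne_of_ne
        (fun (e : (⟨v, hv⟩ : {v // v ∈ Φ}) = ⟨y c, hBΦ (hym c)⟩) =>
          hvB ((show v = y c from congrArg Subtype.val e) ▸ hym c))
        (fun (e : (⟨v, hv⟩ : {v // v ∈ Φ}) = ⟨y d, hBΦ (hym d)⟩) =>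
          hvB ((show v = y d from congrArg Subtype.val e) ▸ hym d))]
      have h1 : (g' : Equiv.Perm α) v ∈ Φ \ B := by
        rw [mem_sdiff]
        refine ⟨(hMΦ ⟨g', hg'M⟩ v).mpr hv, fun h => hvB ?_⟩
        rw [← hgB, mem_image] at h
        obtain ⟨w, hw, hwe⟩ := h
        rw [← hg' w hw] at hwe
        exact (g' : Equiv.Perm α).injective hwe ▸ hw
      have h2 : v ∈ Φ \ B := mem_sdiff.mpr ⟨hv, hvB⟩
      rw [hq, mem_singleton] at h1 h2
      rw [h1]; exact h2.symm
  rw [hswap, Equiv.Perm.mem_alternatingGroup,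
    Equiv.Perm.sign_swap (fun e => hcd (y.injective (congrArg Subtype.val e)))] at hmem
  exact absurd hmem (by decide)

/-- The Livingstone–Wagner theorem. -/
theorem transitive {k : ℕ} (hk : 5 ≤ k) (hkn : 2 * k ≤ Fintype.card α)
    (hh : IsPretransitive G (Set.powersetCard α k)) : IsMultiplyPretransitive G α k := by
  classical
  suffices ∀ (n : ℕ) (β : Type u) [Fintype β] [DecidableEq β] (G' : Subgroup (Equiv.Perm β)),
      Fintype.card β = n → 2 * k ≤ n → IsPretransitive G' (Set.powersetCard β k) →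
      IsMultiplyPretransitive G' β k from this _ α G rfl hkn hh
  intro n
  induction n using Nat.strong_induction_on with
  | _ n ih =>
    intro β _ _ G' hn hkn hh
    subst hn
    have ht : IsMultiplyPretransitive G' β (k - 1) := pred_transitive (by omega) hkn hh
    obtain ⟨B₀, -, hB₀⟩ := exists_subset_card_eq (s := (univ : Finset β)) (n := k)
      (by rw [card_univ]; omega)
    obtain ⟨U₀, -, hU₀⟩ := exists_subset_card_eq (s := (univ : Finset β)) (n := k - 1)
      (by rw [card_univ]; omega)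
    by_cases h1 : 2 ∣ Nat.card (fixG G' B₀)
    · exact transitive_of_evenH hk hkn hh ht (fun B hB => by rw [card_fixG_eq hh hB hB₀]; exact h1)
        fun γ _ _ H hlt h2k hH => ih _ hlt γ H rfl h2k hH
    by_cases h2 : 2 ∣ Nat.card (fixG G' U₀)
    · exact transitive_of_even_odd hk (by omega) hh
        (fun B hB => by rw [card_fixG_eq hh hB hB₀, Nat.odd_iff]; omega)
        (fun U hU => by rw [card_fixG_eq_of_trans ht (by omega) hU hU₀]; exact h2)
    exact transitive_of_oddK hk hkn hh ht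
      (fun U hU => by rw [card_fixG_eq_of_trans ht (by omega) hU hU₀, Nat.odd_iff]; omega)

end Cfsg.Agent.Lib.Perm.LivingstoneWagner
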