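import Mathlib.LinearAlgebra.Matrix.GeneralLinearGroup.Defs
import Mathlib.GroupTheory.OrderOfElement
import Mathlib.Algebra.Field.ZMod
import Mathlib.Tactic

/-!
Certificates for subgroups of `GL(2, p)` acting regularly on non-zero vectors.
-/

namespace Cfsg.Agent.Lib.Perm.MatCert

open Matrix

variable {p : ℕ}

/-- A `2 × 2` matrix as a quadruple. -/
abbrev Quad (p : ℕ) := ZMod p × ZMod p × ZMod p × ZMod p

/-- Product of quadruples. -/
def qmul (x y : Quad p) : Quad p :=
  (x.1 * y.1 + x.2.1 * y.2.2.1, x.1 * y.2.1 + x.2.1 * y.2.2.2,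
    x.2.2.1 * y.1 + x.2.2.2 * y.2.2.1, x.2.2.1 * y.2.1 + x.2.2.2 * y.2.2.2)

/-- Identity quadruple. -/
def qone : Quad p := (1, 0, 0, 1)

/-- Scalar quadruple. -/
def qscal (z : ZMod p) : Quad p := (z, 0, 0, z)

/-- The matrix of a quadruple. -/
def toM (x : Quad p) : Matrix (Fin 2) (Fin 2) (ZMod p) := !![x.1, x.2.1; x.2.2.1, x.2.2.2]

/-- Value of a word. -/
def qeval (w : List (Quad p)) : Quad p := w.foldl qmul qone

theorem toM_qmul (x y : Quad p) : toM (qmul x y) = toM x * toM y := by
  simp [toM, qmul, Matrix.mul_fin_two]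

theorem toM_qone : toM (qone : Quad p) = 1 := by simp [toM, qone, Matrix.one_fin_two]

theorem toM_qscal (z : ZMod p) : toM (qscal z) = z • 1 := by
  ext i j; fin_cases i <;> fin_cases j <;> simp [toM, qscal]

theorem toM_injective : Function.Injective (toM : Quad p → _) := by
  intro x y h
  have h00 := congrFun (congrFun h 0) 0
  have h01 := congrFun (congrFun h 0) 1
  have h10 := congrFun (congrFun h 1) 0
  have h11 := congrFun (congrFun h 1) 1
  simp [toM] at h00 h01 h10 h11
  simp [Prod.ext_iff, h00, h01, h10, h11]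

/-- The certificate: the closure of the generators is `⟨z⟩ × L` and is regular. -/
theorem regular_of_cert [hp : Fact p.Prime] (S : Set (GL (Fin 2) (ZMod p)))
    (gens : List (Quad p)) (z : ZMod p) (e : ℕ) (L : List (Quad p)) (words : List (List (Quad p)))
    (hS : ∀ g ∈ S, toM (qscal z) = (g : Matrix (Fin 2) (Fin 2) (ZMod p)) ∨
      ∃ q ∈ gens, toM q = (g : Matrix (Fin 2) (Fin 2) (ZMod p)))
    (hgens : ∀ q ∈ gens, ∃ g ∈ S, (g : Matrix (Fin 2) (Fin 2) (ZMod p)) = toM q)
    (hzS : z = 1 ∨ ∃ g ∈ S, (g : Matrix (Fin 2) (Fin 2) (ZMod p)) = toM (qscal z))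
    (hz : z ^ e = 1) (he : ((List.range e).map (z ^ ·)).Nodup)
    (hone : qone ∈ L) (hnd : L.Nodup) (hL : L = words.map qeval)
    (hwordsB : (words.all fun w => w.all fun q => gens.contains q) = true)
    (hclosedB : (gens.all fun q => L.all fun M => L.contains (qmul M q)) = true)
    (hstabB : (L.all fun M => decide (M.2.2.1 ≠ 0) || decide (M.1 ^ e ≠ 1) || decide (M = qone)) = true)
    (hcount : e * L.length + 1 = p * p) :
    Nat.card (Subgroup.closure S) = e * L.length ∧ ∀ v w : Fin 2 → ZMod p, v ≠ 0 → w ≠ 0 →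
      ∃! h : Subgroup.closure S,
        Matrix.mulVec ((h : GL (Fin 2) (ZMod p)) : Matrix (Fin 2) (Fin 2) (ZMod p)) v = w := by
  have hwords : ∀ w ∈ words, ∀ q ∈ w, q ∈ gens := fun w hw q hq =>
    List.contains_iff_mem.mp (List.all_eq_true.mp (List.all_eq_true.mp hwordsB w hw) q hq)
  have hclosed : ∀ q ∈ gens, ∀ M ∈ L, qmul M q ∈ L := fun q hq M hM =>
    List.contains_iff_mem.mp (List.all_eq_true.mp (List.all_eq_true.mp hclosedB q hq) M hM)
  have hstab : ∀ M ∈ L, M.2.2.1 = 0 → M.1 ^ e = 1 → M = qone := fun M hM h1 h2 => by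
    have := List.all_eq_true.mp hstabB M hM
    simpa [h1, h2] using this
  classical
  set H := Subgroup.closure S
  have he0 : 0 < e := by
    rcases Nat.eq_zero_or_pos e with h | h
    · subst h
      have := hp.out.two_le
      nlinarith
    · exact h
  have hz0 : z ≠ 0 := fun h => by simp [h, zero_pow he0.ne'] at hz
  -- every word gives an element of the closure
  have hword : ∀ M ∈ L, ∃ g ∈ H, (g : Matrix (Fin 2) (Fin 2) (ZMod p)) = toM M := by
    intro M hM
    rw [hL, List.mem_map] at hM
    obtain ⟨w, hw, rfl⟩ := hM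
    have hw' := hwords w hw
    clear hw
    induction w using List.reverseRecOn with
    | nil => exact ⟨1, H.one_mem, by simp [qeval, toM_qone]⟩
    | append_singleton w q ih =>
      obtain ⟨g, hg, hgv⟩ := ih fun r hr => hw' r (List.mem_append_left _ hr)
      obtain ⟨k, hk, hkv⟩ := hgens q (hw' q (by simp))
      refine ⟨g * k, H.mul_mem hg (Subgroup.subset_closure hk), ?_⟩
      simp [qeval, List.foldl_append, toM_qmul, hgv, hkv]
  have hmulL : ∀ M ∈ L, ∀ N ∈ L, qmul M N ∈ L := by
    intro M hM N hN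
    rw [hL, List.mem_map] at hN
    obtain ⟨w, hw, rfl⟩ := hN
    have hw' := hwords w hw
    clear hw
    induction w using List.reverseRecOn with
    | nil =>
      have : qmul M (qeval []) = M := toM_injective (by simp [qeval, toM_qmul, toM_qone])
      rwa [this]
    | append_singleton w q ih =>
      have h1 := hclosed q (hw' q (by simp)) _ (ih fun r hr => hw' r (List.mem_append_left _ hr))
      have : qmul M (qeval (w ++ [q])) = qmul (qmul M (qeval w)) q :=
        toM_injective (by simp [qeval, List.foldl_append, toM_qmul, Matrix.mul_assoc])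
      rwa [this]
  have hform : ∀ g ∈ H, ∃ i, ∃ M ∈ L, (g : Matrix (Fin 2) (Fin 2) (ZMod p)) = z ^ i • toM M := by
    intro g hg
    let T : Submonoid (GL (Fin 2) (ZMod p)) :=
      { carrier := {x | ∀ M ∈ L, ∀ i, ∃ j, ∃ N ∈ L,
          (z ^ i • toM M) * (x : Matrix (Fin 2) (Fin 2) (ZMod p)) = z ^ j • toM N}
        one_mem' := fun M hM i => ⟨i, M, hM, by simp⟩
        mul_mem' := fun {x y} hx hy M hM i => by
          obtain ⟨j, N, hN, h1⟩ := hx M hM i
          obtain ⟨k, P, hP, h2⟩ := hy N hN j
          exact ⟨k, P, hP, by rw [Units.val_mul, ← mul_assoc, h1, h2]⟩ }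
    have hT : g ∈ T := by
      induction hg using Subgroup.closure_induction with
      | mem x hx =>
        intro M hM i
        rcases hS x hx with h | ⟨q, hq, h⟩
        · exact ⟨i + 1, M, hM, by rw [← h, toM_qscal, Matrix.mul_smul, mul_one, smul_smul, pow_succ']⟩
        · exact ⟨i, qmul M q, hclosed q hq M hM, by rw [← h, Matrix.smul_mul, toM_qmul]⟩
      | one => exact T.one_mem
      | mul x y _ _ hx hy => exact T.mul_mem hx hy
      | inv x _ hx =>
        have : x⁻¹ = x ^ (orderOf x - 1) := by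
          apply inv_eq_of_mul_eq_one_right
          rw [← pow_succ', Nat.sub_add_cancel (orderOf_pos x), pow_orderOf_eq_one]
        rw [this]
        exact T.pow_mem hx _
    obtain ⟨j, N, hN, h⟩ := hT qone hone 0
    exact ⟨j, N, hN, by simpa [toM_qone] using h⟩
  have hzI : ∀ i : ℕ, ∃ g ∈ H, (g : Matrix (Fin 2) (Fin 2) (ZMod p)) = z ^ i • 1 := by
    intro i
    rcases hzS with h | ⟨g, hg, hgv⟩
    · exact ⟨1, H.one_mem, by simp [h]⟩
    · exact ⟨g ^ i, H.pow_mem (Subgroup.subset_closure hg) i, by
        rw [Units.val_pow_eq_pow_val, hgv, toM_qscal, smul_pow, one_pow]⟩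
  have hfix : ∀ g ∈ H, (g : Matrix (Fin 2) (Fin 2) (ZMod p)) *ᵥ ![1, 0] = ![1, 0] → g = 1 := by
    intro g hg hgf
    obtain ⟨i, M, hM, hgM⟩ := hform g hg
    have h0 := congrFun hgf 0
    have h1 := congrFun hgf 1
    simp [hgM, toM, Matrix.mulVec, dotProduct, Fin.sum_univ_two] at h0 h1
    have hc : M.2.2.1 = 0 := by
      rcases h1 with h | h
      · exact absurd h (by simp [hz0])
      · exact h
    have ha : M.1 ^ e = 1 := by
      have h2 : (z ^ i * M.1) ^ e = 1 := by rw [h0, one_pow]
      rwa [mul_pow, ← pow_mul, mul_comm i e, pow_mul, hz, one_pow, one_mul] at h2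
    have := hstab M hM hc ha
    subst this
    have : z ^ i = 1 := by simpa [qone] using h0
    exact Units.ext (by rw [hgM, this, one_smul, toM_qone, Units.val_one])
  let φ : H → {v : Fin 2 → ZMod p // v ≠ 0} := fun h =>
    ⟨((h : GL (Fin 2) (ZMod p)) : Matrix (Fin 2) (Fin 2) (ZMod p)) *ᵥ ![1, 0], fun h0 => by
      have := congrArg (((h : GL (Fin 2) (ZMod p))⁻¹ : GL (Fin 2) (ZMod p)).1 *ᵥ ·) h0
      simp at this⟩
  have hφ : Function.Injective φ := by
    intro g h hgh
    have h1 : ((h : GL (Fin 2) (ZMod p))⁻¹ * g : GL (Fin 2) (ZMod p)) = 1 := by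
      apply hfix _ (H.mul_mem (H.inv_mem h.2) g.2)
      have h2 := congrArg Subtype.val hgh
      simp only [φ] at h2
      rw [Units.val_mul, ← Matrix.mulVec_mulVec, h2, Matrix.mulVec_mulVec, ← Units.val_mul,
        inv_mul_cancel, Units.val_one, Matrix.one_mulVec]
    exact Subtype.ext (inv_mul_eq_one.mp h1).symm
  have hcardle : Nat.card H ≤ e * L.length := by
    refine (Nat.card_le_card_of_injective φ hφ).trans ?_
    haveI : NeZero p := ⟨hp.out.ne_zero⟩
    rw [Nat.card_eq_fintype_card, Fintype.card_subtype_compl, Fintype.card_subtype_eq,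
      Fintype.card_fun, ZMod.card, Fintype.card_fin, pow_two]
    omega
  choose gz hgz hgzv using hzI
  choose gL hgL hgLv using hword
  let ψ : Fin e × Fin L.length → H := fun x =>
    ⟨gz x.1 * gL (L.get x.2) (List.get_mem L x.2), H.mul_mem (hgz _) (hgL _ _)⟩
  have hψ : Function.Injective ψ := by
    rintro ⟨i, a⟩ ⟨j, b⟩ hab
    have h1 := congrArg (fun x : H => ((x : GL (Fin 2) (ZMod p)) : Matrix (Fin 2) (Fin 2) (ZMod p))) hab
    simp only [ψ, Units.val_mul, hgzv, hgLv, Matrix.smul_mul, Matrix.one_mul] at h1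
    set M := L.get a with hMdef
    set M' := L.get b with hM'def
    have hM : M ∈ L := List.get_mem L a
    have hM' : M' ∈ L := List.get_mem L b
    have hu : IsUnit (toM M) := by rw [← hgLv M hM]; exact Units.isUnit _
    obtain ⟨N, hN, hMN⟩ : ∃ N ∈ L, qmul M N = M' := by
      have himg : L.toFinset.image (qmul M) = L.toFinset := by
        refine Finset.eq_of_subset_of_card_le ?_ ?_
        · intro x hx
          obtain ⟨N, hN, rfl⟩ := Finset.mem_image.mp hx
          exact List.mem_toFinset.mpr (hmulL M hM N (List.mem_toFinset.mp hN))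
        · rw [Finset.card_image_of_injective]
          intro x y hxy
          have := congrArg toM hxy
          rw [toM_qmul, toM_qmul] at this
          exact toM_injective (hu.mul_left_cancel this)
      obtain ⟨N, hN, h⟩ := Finset.mem_image.mp (himg.symm ▸ List.mem_toFinset.mpr hM')
      exact ⟨N, List.mem_toFinset.mp hN, h⟩
    rw [← hMN, toM_qmul, ← Matrix.mul_smul] at h1
    have h2 : toM M * ((z ^ (i : ℕ)) • 1) = toM M * ((z ^ (j : ℕ)) • toM N) := by
      rw [Matrix.mul_smul, mul_one]
      exact h1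
    have h3 := hu.mul_left_cancel h2
    have hc := congrFun (congrFun h3 1) 0
    have ha := congrFun (congrFun h3 0) 0
    simp [toM, hz0] at hc ha
    have hpow : N.1 ^ e = 1 := by
      have := congrArg (· ^ e) ha
      simp only [mul_pow, ← pow_mul, mul_comm _ e] at this
      simp only [pow_mul, hz, one_pow, one_mul] at this
      exact this.symm
    have hN1 := hstab N hN hc hpow
    subst hN1
    have hMM : M = M' := by
      apply toM_injective
      rw [← hMN, toM_qmul, toM_qone, mul_one]
    have hab' : a = b := hnd.injective_get hMM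
    simp [qone] at ha
    have hij := he
    rw [List.nodup_map_iff_inj_on List.nodup_range] at hij
    exact Prod.ext (Fin.ext (hij _ (by simp) _ (by simp) ha)) hab'
  have hcard : Nat.card H = e * L.length := by
    refine le_antisymm hcardle ?_
    simpa [Nat.card_eq_fintype_card] using Nat.card_le_card_of_injective ψ hψ
  refine ⟨hcard, ?_⟩
  have hsurj : Function.Surjective φ := by
    haveI : NeZero p := ⟨hp.out.ne_zero⟩
    apply (Function.Injective.bijective_of_nat_card_le hφ ?_).2
    rw [hcard, Nat.card_eq_fintype_card, Fintype.card_subtype_compl, Fintype.card_subtype_eq,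
      Fintype.card_fun, ZMod.card, Fintype.card_fin, pow_two]
    omega
  intro v w hv hw
  obtain ⟨g, hg⟩ := hsurj ⟨v, hv⟩
  obtain ⟨k, hk⟩ := hsurj ⟨w, hw⟩
  have hg' := congrArg Subtype.val hg
  have hk' := congrArg Subtype.val hk
  simp only [φ] at hg' hk'
  refine ⟨k * g⁻¹, ?_, fun h hh => ?_⟩
  · dsimp only
    rw [← hg', Matrix.mulVec_mulVec, ← Units.val_mul, ← Subgroup.coe_mul, inv_mul_cancel_right]
    exact hk'
  · have : h * g = k := by
      apply hφ
      apply Subtype.ext
      simp only [φ]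
      rw [Subgroup.coe_mul, Units.val_mul, ← Matrix.mulVec_mulVec, hg', hh, hk']
    rw [← this, mul_inv_cancel_right]

end Cfsg.Agent.Lib.Perm.MatCert
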