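import Cfsg.Agent.Lib.Perm.PermModule
import Cfsg.Agent.Lib.Perm.Homogeneous
import Mathlib.RepresentationTheory.Intertwining

/-!
Equivariant maps from the sum-zero functions to functions on unordered pairs.
-/

open MulAction

namespace Cfsg.Agent.Lib.Perm

theorem three_transitive_of_hom_pairs {G : Type*} [Group G] [Finite G] {K : Type*} [Field K]
    {Ω : Type*} [Fintype Ω] [DecidableEq Ω] [MulAction G Ω] [FaithfulSMul G Ω]
    (h2 : IsMultiplyPretransitive G Ω 2)
    (heven : ∀ a : Ω, Even (Nat.card (stabilizer G a)))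
    (h : ∀ f : Representation.IntertwiningMap (Cfsg.permSumZero K G Ω).toRepresentation
        (Cfsg.permRep K G (Set.powersetCard Ω 2)),
      (∀ v : (Cfsg.permSumZero K G Ω).toSubmodule,
        (v : Ω → K) ∈ (Cfsg.permConstants K G Ω).toSubmodule → f v = 0) → f = 0) :
    IsMultiplyPretransitive G Ω 3 := by
  classical
  by_cases hn : Nat.card Ω < 3
  · refine ⟨fun x => ?_⟩
    have := Nat.card_le_card_of_injective x x.injective
    simp [Nat.card_eq_fintype_card] at this hn
    omega
  push Not at hn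
  haveI hpre : IsPretransitive G Ω := by
    rw [← is_one_pretransitive_iff]
    exact isMultiplyPretransitive_of_le (n := 2) (by omega) (by omega)
  have hpair : ∀ {a b c d : Ω}, a ≠ b → c ≠ d → ∃ g : G, g • a = c ∧ g • b = d :=
    fun hab hcd => exists_smul_eq_pair h2 hab hcd
  -- the stabilizer of an unordered pair is transitive on the remaining points
  have key : ∀ a b c d : Ω, a ≠ b → c ≠ a → c ≠ b → d ≠ a → d ≠ b →
      ∃ g : G, ((g • a = a ∧ g • b = b) ∨ (g • a = b ∧ g • b = a)) ∧ g • c = d := by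
    intro a b c d hab hca hcb hda hdb
    by_contra hno
    let s₀ : Set.powersetCard Ω 2 := Set.powersetCard.ofCard (Finset.card_pair hab)
    have hs₀ : ∀ g : G, g • s₀ = s₀ ↔ (g • a = a ∧ g • b = b) ∨ (g • a = b ∧ g • b = a) := by
      intro g
      rw [Subtype.ext_iff, Finset.ext_iff]
      simp only [Set.powersetCard.coe_smul, s₀, Set.powersetCard.val_ofCard,
        Finset.smul_finset_insert, Finset.smul_finset_singleton, Finset.mem_insert,
        Finset.mem_singleton]
      constructor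
      · intro hh
        have hne : g • a ≠ g • b := fun e => hab (smul_left_cancel g e)
        rcases (hh (g • a)).mp (Or.inl rfl) with h1 | h1 <;>
          rcases (hh (g • b)).mp (Or.inr rfl) with h2 | h2
        · exact absurd (h1.trans h2.symm) hne
        · exact Or.inl ⟨h1, h2⟩
        · exact Or.inr ⟨h1, h2⟩
        · exact absurd (h1.trans h2.symm) hne
      · rintro (⟨h1, h2⟩ | ⟨h1, h2⟩) z
        · rw [h1, h2]
        · rw [h1, h2]; tauto
    have htr : ∀ q : Set.powersetCard Ω 2, ∃ g : G, g • s₀ = q := by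
      rintro ⟨q, hq⟩
      obtain ⟨x, y, hxy, rfl⟩ := Finset.card_eq_two.mp hq
      obtain ⟨g, hg1, hg2⟩ := hpair hab hxy
      refine ⟨g, ?_⟩
      apply Subtype.ext
      simp only [Set.powersetCard.coe_smul, s₀, Set.powersetCard.val_ofCard,
        Finset.smul_finset_insert, Finset.smul_finset_singleton, hg1, hg2]
    choose gq hgq using htr
    let Δ : Finset Ω := Finset.univ.filter fun x => ∃ g : G, g • s₀ = s₀ ∧ g • c = x
    have hΔ : ∀ (g : G) x, g • s₀ = s₀ → (g • x ∈ Δ ↔ x ∈ Δ) := by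
      intro g x hg
      simp only [Δ, Finset.mem_filter, Finset.mem_univ, true_and]
      constructor
      · rintro ⟨k, hk, hkc⟩
        exact ⟨g⁻¹ * k, by rw [mul_smul, hk, inv_smul_eq_iff, hg],
          by rw [mul_smul, hkc, inv_smul_smul]⟩
      · rintro ⟨k, hk, hkc⟩
        exact ⟨g * k, by rw [mul_smul, hk, hg], by rw [mul_smul, hkc]⟩
    have hcΔ : c ∈ Δ := by
      simp only [Δ, Finset.mem_filter, Finset.mem_univ, true_and]
      exact ⟨1, one_smul _ _, one_smul _ _⟩
    have hdΔ : d ∉ Δ := by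
      simp only [Δ, Finset.mem_filter, Finset.mem_univ, true_and]
      rintro ⟨g, hg, hgc⟩
      exact hno ⟨g, (hs₀ g).mp hg, hgc⟩
    have haΔ : ∀ x, x = a ∨ x = b → x ∉ Δ := by
      intro x hx
      simp only [Δ, Finset.mem_filter, Finset.mem_univ, true_and]
      rintro ⟨g, hg, hgc⟩
      rcases hx with rfl | rfl <;> rcases (hs₀ g).mp hg with ⟨h1, h2⟩ | ⟨h1, h2⟩
      · exact hca (smul_left_cancel g (hgc.trans h1.symm))
      · exact hcb (smul_left_cancel g (hgc.trans h2.symm))
      · exact hcb (smul_left_cancel g (hgc.trans h2.symm))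
      · exact hca (smul_left_cancel g (hgc.trans h1.symm))
    obtain ⟨μ, ν, hsum0, hnz⟩ : ∃ μ ν : K, 2 * μ + (Δ.card : K) * ν = 0 ∧ (μ ≠ 0 ∨ ν ≠ 0) := by
      by_cases h0 : (2 : K) = 0
      · exact ⟨1, 0, by rw [h0]; simp, Or.inl one_ne_zero⟩
      · exact ⟨(Δ.card : K), -2, by ring, Or.inr (neg_ne_zero.mpr h0)⟩
    let u : Ω → K := fun x => (if x = a ∨ x = b then μ else 0) + (if x ∈ Δ then ν else 0)
    have hu : ∀ (g : G) x, g • s₀ = s₀ → u (g • x) = u x := by
      intro g x hg
      have h1 : (g • x = a ∨ g • x = b) ↔ (x = a ∨ x = b) := by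
        rcases (hs₀ g).mp hg with ⟨e1, e2⟩ | ⟨e1, e2⟩
        · constructor
          · rintro (hx | hx)
            · exact Or.inl (smul_left_cancel g (hx.trans e1.symm))
            · exact Or.inr (smul_left_cancel g (hx.trans e2.symm))
          · rintro (rfl | rfl)
            · exact Or.inl e1
            · exact Or.inr e2
        · constructor
          · rintro (hx | hx)
            · exact Or.inr (smul_left_cancel g (hx.trans e2.symm))
            · exact Or.inl (smul_left_cancel g (hx.trans e1.symm))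
          · rintro (rfl | rfl)
            · exact Or.inr e1
            · exact Or.inl e2
      simp only [u, h1, hΔ g x hg]
    have husum : ∑ x, u x = 0 := by
      rw [← hsum0]
      simp only [u, Finset.sum_add_distrib]
      congr 1
      · rw [Finset.sum_ite, Finset.sum_const_zero, add_zero, Finset.sum_const]
        have : (Finset.univ.filter fun x => x = a ∨ x = b) = {a, b} := by ext x; simp
        rw [this, Finset.card_pair hab, nsmul_eq_mul, Nat.cast_ofNat]
      · rw [Finset.sum_ite_mem, Finset.univ_inter, Finset.sum_const, nsmul_eq_mul]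
    let k : Set.powersetCard Ω 2 → Ω → K := fun q x => u ((gq q)⁻¹ • x)
    have hk : ∀ (g : G) q x, k (g • q) (g • x) = k q x := by
      intro g q x
      have hfix : ((gq (g • q))⁻¹ * g * gq q) • s₀ = s₀ := by
        rw [mul_smul, mul_smul, hgq, inv_smul_eq_iff, hgq]
      have := hu _ ((gq q)⁻¹ • x) hfix
      rw [mul_smul, mul_smul, smul_inv_smul] at this
      exact this
    have hk₀ : ∀ x, k s₀ x = u x := fun x =>
      hu _ x (by rw [inv_smul_eq_iff, hgq])
    let F : Representation.IntertwiningMap (Cfsg.permSumZero K G Ω).toRepresentation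
        (Cfsg.permRep K G (Set.powersetCard Ω 2)) :=
      LinearMap.intertwiningMap_of_isIntertwiningMap
        (f := (kernelMap k).comp (Cfsg.permSumZero K G Ω).toSubmodule.subtype) _ _
        (fun g v => kernelMap_permRep k hk g (v : Ω → K))
    have hF : F = 0 := h F fun v hv => by
      obtain ⟨r, hr⟩ := mem_permConstants.mp hv
      funext q
      change kernelMap k (v : Ω → K) q = 0
      rw [hr, kernelMap_apply, ← Finset.sum_mul]
      rw [show ∑ x, k q x = ∑ x, u x from
        Fintype.sum_equiv (MulAction.toPerm (gq q)⁻¹) _ _ fun x => rfl, husum, zero_mul]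
    obtain ⟨z, hz⟩ : ∃ z, u z ≠ u d := by
      by_cases hμ : μ = 0
      · refine ⟨c, ?_⟩
        simp [u, hμ, hcΔ, hdΔ, hca, hcb, hda, hdb, hnz.resolve_left (not_not.mpr hμ)]
      · refine ⟨a, ?_⟩
        simp [u, haΔ a (Or.inl rfl), hdΔ, hda, hdb, hμ]
    have hv : (Pi.single z 1 - Pi.single d 1 : Ω → K) ∈ (Cfsg.permSumZero K G Ω).toSubmodule := by
      rw [mem_permSumZero]
      simp [Finset.sum_sub_distrib]
    have h0 : kernelMap k (Pi.single z 1 - Pi.single d 1 : Ω → K) s₀ = 0 := by
      have := congrArg (fun φ : Representation.IntertwiningMap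
        (Cfsg.permSumZero K G Ω).toRepresentation (Cfsg.permRep K G (Set.powersetCard Ω 2)) =>
          φ ⟨_, hv⟩ s₀) hF
      exact this
    rw [map_sub, Pi.sub_apply, kernelMap_pi_single, kernelMap_pi_single, hk₀, hk₀, sub_eq_zero] at h0
    exact hz h0
  obtain ⟨c⟩ : Nonempty Ω := (Nat.card_pos_iff.mp (by omega : 0 < Nat.card Ω)).1
  rw [SubMulAction.ofStabilizer.isMultiplyPretransitive (a := c)]
  haveI : FaithfulSMul (stabilizer G c) (SubMulAction.ofStabilizer G c) := ⟨fun {g₁ g₂} hg => by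
    apply Subtype.ext
    apply eq_of_smul_eq_smul (α := Ω)
    intro x
    by_cases hx : x = c
    · subst hx
      exact g₁.2.trans g₂.2.symm
    · exact congrArg Subtype.val (hg ⟨x, hx⟩)⟩
  refine two_transitive_of_homogeneous_even ?_ (heven c)
  rintro ⟨a₁, ha₁⟩ ⟨b₁, hb₁⟩ ⟨a₂, ha₂⟩ ⟨b₂, hb₂⟩ h₁ h₂'
  have hne₁ : a₁ ≠ b₁ := fun e => h₁ (Subtype.ext e)
  have hne₂ : a₂ ≠ b₂ := fun e => h₂' (Subtype.ext e)
  obtain ⟨g, hga, hgb⟩ := hpair hne₁ hne₂
  have hca : g • c ≠ a₂ := fun e => ha₁ (smul_left_cancel g (hga.trans e.symm))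
  have hcb : g • c ≠ b₂ := fun e => hb₁ (smul_left_cancel g (hgb.trans e.symm))
  obtain ⟨k, hkab, hkc⟩ := key a₂ b₂ (g • c) c hne₂ hca hcb (Ne.symm ha₂) (Ne.symm hb₂)
  refine ⟨⟨k * g, by rw [mem_stabilizer_iff, mul_smul, hkc]⟩, ?_⟩
  rcases hkab with ⟨e1, e2⟩ | ⟨e1, e2⟩
  · exact Or.inl ⟨Subtype.ext (by change (k * g) • a₁ = a₂; rw [mul_smul, hga, e1]),
      Subtype.ext (by change (k * g) • b₁ = b₂; rw [mul_smul, hgb, e2])⟩
  · exact Or.inr ⟨Subtype.ext (by change (k * g) • a₁ = b₂; rw [mul_smul, hga, e1]),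
      Subtype.ext (by change (k * g) • b₁ = a₂; rw [mul_smul, hgb, e2])⟩

end Cfsg.Agent.Lib.Perm
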