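import Cfsg.Prelude.Def_Perm
import Cfsg.Agent.Lib.Perm.Basic
import Mathlib.GroupTheory.PGroup
import Mathlib.GroupTheory.Sylow
import Mathlib.Algebra.CharP.Lemmas
import Mathlib.LinearAlgebra.Dual.Lemmas
import Mathlib.LinearAlgebra.StdBasis
import Mathlib.GroupTheory.GroupAction.Transitive

/-!
The permutation module: constants, sum-zero functions, intertwining maps from invariant kernels.
-/

open MulAction

namespace Cfsg.Agent.Lib.Perm

variable {K : Type*} [Field K] {G : Type*} [Group G] {Ω : Type*} [MulAction G Ω]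

theorem permRep_apply (g : G) (f : Ω → K) (x : Ω) : Cfsg.permRep K G Ω g f x = f (g⁻¹ • x) := rfl

theorem permRep_pi_single [DecidableEq Ω] (g : G) (x : Ω) :
    Cfsg.permRep K G Ω g (Pi.single x 1) = Pi.single (g • x) 1 := by
  funext y
  rw [permRep_apply, Pi.single_apply, Pi.single_apply]
  simp [inv_smul_eq_iff]

theorem mem_permConstants {v : Ω → K} :
    v ∈ (Cfsg.permConstants K G Ω).toSubmodule ↔ ∃ c : K, v = fun _ => c := by
  change v ∈ Submodule.span K {fun _ : Ω => (1 : K)} ↔ _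
  rw [Submodule.mem_span_singleton]
  constructor
  · rintro ⟨c, rfl⟩
    exact ⟨c, funext fun x => by simp⟩
  · rintro ⟨c, rfl⟩
    exact ⟨c, funext fun x => by simp⟩

theorem mem_permSumZero [Fintype Ω] {v : Ω → K} :
    v ∈ (Cfsg.permSumZero K G Ω).toSubmodule ↔ ∑ x, v x = 0 := Iff.rfl

theorem const_mem_of_mem_of_ne_zero (W : Submodule K (Ω → K)) {v : Ω → K} {c : K}
    (hv : v ∈ W) (hvc : v = fun _ => c) (hc : c ≠ 0) :
    (Cfsg.permConstants K G Ω).toSubmodule ≤ W := by
  intro u hu
  obtain ⟨d, rfl⟩ := mem_permConstants.mp hu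
  convert W.smul_mem (d / c) hv using 1
  funext x
  simp [hvc, hc]

/-- The linear map with kernel function `k`. -/
def kernelMap {Ω₂ : Type*} [Fintype Ω] (k : Ω₂ → Ω → K) : (Ω → K) →ₗ[K] (Ω₂ → K) where
  toFun f x := ∑ y, k x y * f y
  map_add' f₁ f₂ := by
    funext x
    simp [mul_add, Finset.sum_add_distrib]
  map_smul' c f := by
    funext x
    simp [Finset.mul_sum, mul_left_comm]

theorem kernelMap_apply {Ω₂ : Type*} [Fintype Ω] (k : Ω₂ → Ω → K) (f : Ω → K) (x : Ω₂) :
    kernelMap k f x = ∑ y, k x y * f y := rfl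

theorem kernelMap_permRep {Ω₂ : Type*} [MulAction G Ω₂] [Fintype Ω] (k : Ω₂ → Ω → K)
    (hk : ∀ (g : G) x y, k (g • x) (g • y) = k x y) (g : G) (f : Ω → K) :
    kernelMap k (Cfsg.permRep K G Ω g f) = Cfsg.permRep K G Ω₂ g (kernelMap k f) := by
  funext x
  rw [permRep_apply, kernelMap_apply, kernelMap_apply]
  refine Fintype.sum_equiv (MulAction.toPerm g⁻¹) _ _ fun y => ?_
  rw [permRep_apply, MulAction.toPerm_apply, hk]

theorem kernelMap_pi_single {Ω₂ : Type*} [Fintype Ω] [DecidableEq Ω] (k : Ω₂ → Ω → K) (y : Ω)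
    (x : Ω₂) : kernelMap k (Pi.single y 1) x = k x y := by
  rw [kernelMap_apply, Finset.sum_eq_single y]
  · simp
  · intro z _ hz; simp [hz]
  · simp

/-- A transitive action of degree `p ^ f` has a transitive `p`-subgroup. -/
theorem exists_transitive_pSubgroup [Finite G] [Finite Ω] {p f : ℕ} [hp : Fact p.Prime]
    [IsPretransitive G Ω] (hcard : Nat.card Ω = p ^ f) :
    ∃ P : Subgroup G, IsPGroup p P ∧ IsPretransitive P Ω := by
  obtain ⟨P⟩ : Nonempty (Sylow p G) := inferInstance
  refine ⟨P, P.isPGroup', ?_⟩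
  have hne : Nonempty Ω := by
    have : 0 < Nat.card Ω := hcard ▸ pow_pos hp.out.pos f
    exact (Nat.card_pos_iff.mp this).1
  obtain ⟨a⟩ := hne
  have hdvd : Nat.card (stabilizer P a) ∣ Nat.card (stabilizer G a) :=
    Subgroup.card_dvd_of_injective
      ({ toFun := fun x => ⟨((x : P) : G), x.2⟩, map_one' := rfl, map_mul' := fun _ _ => rfl } :
        stabilizer P a →* stabilizer G a)
      (fun x y h => by
        apply Subtype.ext
        apply Subtype.ext
        exact congrArg (fun z : stabilizer G a => (z : G)) h)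
  have hG : Nat.card G = p ^ f * Nat.card (stabilizer G a) := by
    rw [← hcard, mul_comm, ← index_stabilizer_of_transitive G a, Subgroup.card_mul_index]
  obtain ⟨j, hj⟩ := IsPGroup.iff_card.mp (P.isPGroup'.to_subgroup (stabilizer P a))
  have hP : Nat.card P = p ^ (f + (Nat.card (stabilizer G a)).factorization p) := by
    have h1 := P.card_eq_multiplicity
    rw [h1, hG, Nat.factorization_mul (pow_ne_zero _ hp.out.ne_zero) Nat.card_pos.ne']
    simp [hp.out.factorization_self]
  have hjle : j ≤ (Nat.card (stabilizer G a)).factorization p := by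
    rw [← hp.out.pow_dvd_iff_le_factorization Nat.card_pos.ne', ← hj]
    exact hdvd
  have horb : p ^ f ≤ (orbit P a).ncard := by
    have h1 := Subgroup.card_mul_index (stabilizer P a)
    rw [index_stabilizer, hj, hP] at h1
    refine le_of_mul_le_mul_left ?_ (pow_pos hp.out.pos j)
    rw [h1, ← pow_add]
    exact Nat.pow_le_pow_right hp.out.pos (by omega)
  have huniv : orbit P a = Set.univ := by
    refine Set.eq_of_subset_of_ncard_le (Set.subset_univ _) ?_
    rw [Set.ncard_univ, hcard]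
    exact horb
  exact (isPretransitive_iff_orbit_eq_univ (G := P) a).mpr huniv

/-- A non-zero invariant subspace in characteristic `p` contains the constants as soon as some
`p`-subgroup is transitive. -/
theorem constants_le_of_ne_bot [Finite G] [Fintype Ω] {p : ℕ} [hp : Fact p.Prime] [CharP K p]
    (P : Subgroup G) (hP : IsPGroup p P) [IsPretransitive P Ω] (W : Submodule K (Ω → K))
    (hW : ∀ (g : G), ∀ v ∈ W, Cfsg.permRep K G Ω g v ∈ W) (hne : W ≠ ⊥) :
    (Cfsg.permConstants K G Ω).toSubmodule ≤ W := by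
  obtain ⟨v, hvW, hv⟩ := Submodule.exists_mem_ne_zero_of_ne_bot hne
  have : Fintype G := Fintype.ofFinite G
  let L : (G → ZMod p) →+ (Ω → K) :=
    { toFun := fun c => ∑ g, (ZMod.castHom (dvd_refl p) K (c g)) • Cfsg.permRep K G Ω g v
      map_zero' := by simp
      map_add' := fun c d => by
        simp [add_smul, Finset.sum_add_distrib] }
  let A := L.range
  have : Finite A := by
    apply Finite.of_surjective (fun c => (⟨L c, c, rfl⟩ : A))
    rintro ⟨_, c, rfl⟩
    exact ⟨c, rfl⟩
  have hAW : ∀ u ∈ A, u ∈ W := by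
    rintro _ ⟨c, rfl⟩
    exact W.sum_mem fun g _ => W.smul_mem _ (hW g v hvW)
  have hAP : ∀ (h : G), ∀ u ∈ A, Cfsg.permRep K G Ω h u ∈ A := by
    rintro h _ ⟨c, rfl⟩
    refine ⟨fun g => c (h⁻¹ * g), ?_⟩
    change ∑ g, (ZMod.castHom (dvd_refl p) K (c (h⁻¹ * g))) • Cfsg.permRep K G Ω g v =
      Cfsg.permRep K G Ω h (∑ g, (ZMod.castHom (dvd_refl p) K (c g)) • Cfsg.permRep K G Ω g v)
    rw [map_sum]
    refine Fintype.sum_equiv (Equiv.mulLeft h⁻¹) _ _ fun g => ?_
    rw [map_smul, ← Module.End.mul_apply, ← map_mul]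
    simp
  have hvA : v ∈ A := by
    classical
    refine ⟨Pi.single 1 1, ?_⟩
    change ∑ g, (ZMod.castHom (dvd_refl p) K ((Pi.single 1 1 : G → ZMod p) g)) •
      Cfsg.permRep K G Ω g v = v
    rw [Finset.sum_eq_single 1]
    · simp
    · intro g _ hg; simp [hg]
    · simp
  let act : MulAction P A :=
    { smul := fun h u => ⟨Cfsg.permRep K G Ω (h : G) u, hAP _ _ u.2⟩
      one_smul := fun u => Subtype.ext (by
        change Cfsg.permRep K G Ω ((1 : P) : G) (u : Ω → K) = u
        simp)
      mul_smul := fun g h u => Subtype.ext (by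
        change Cfsg.permRep K G Ω ((g * h : P) : G) (u : Ω → K) = _
        rw [Subgroup.coe_mul, map_mul]
        rfl) }
  have hzero : (0 : A) ∈ fixedPoints P A := fun h => Subtype.ext (map_zero _)
  have hpA : p ∣ Nat.card A := by
    have h1 : addOrderOf (⟨v, hvA⟩ : A) = p := by
      apply addOrderOf_eq_prime
      · apply Subtype.ext
        funext x
        simp [AddSubgroup.coe_nsmul, nsmul_eq_mul]
      · intro h
        exact hv (congrArg Subtype.val h)
    exact h1 ▸ addOrderOf_dvd_natCard _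
  obtain ⟨w, hw, hw0⟩ := hP.exists_fixed_point_of_prime_dvd_card_of_fixed_point A hpA hzero
  obtain ⟨x₀, hx₀⟩ : ∃ x₀, (w : Ω → K) x₀ ≠ 0 := by
    by_contra h
    push Not at h
    exact hw0 (Subtype.ext (funext h).symm)
  refine const_mem_of_mem_of_ne_zero (G := G) W (c := (w : Ω → K) x₀) (hAW _ w.2) ?_ hx₀
  funext x
  obtain ⟨h, hh⟩ := exists_smul_eq P x x₀
  have h1 := congrFun (congrArg Subtype.val (hw h)) x₀
  change (w : Ω → K) ((h : G)⁻¹ • x₀) = (w : Ω → K) x₀ at h1
  rw [← hh] at h1 ⊢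
  change (w : Ω → K) ((h : G)⁻¹ • (h : G) • x) = _ at h1
  rw [inv_smul_smul] at h1
  exact h1

/-- Dually, a proper invariant subspace consists of functions with sum zero. -/
theorem le_sumZero_of_ne_top [Finite G] [Fintype Ω] {p : ℕ} [hp : Fact p.Prime] [CharP K p]
    (P : Subgroup G) (hP : IsPGroup p P) [IsPretransitive P Ω] (W : Submodule K (Ω → K))
    (hW : ∀ (g : G), ∀ v ∈ W, Cfsg.permRep K G Ω g v ∈ W) (hne : W ≠ ⊤) :
    W ≤ (Cfsg.permSumZero K G Ω).toSubmodule := by
  classical
  let U : Submodule K (Ω → K) :=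
    { carrier := {u | ∀ w ∈ W, ∑ x, u x * w x = 0}
      zero_mem' := fun w _ => by simp
      add_mem' := fun {a b} ha hb w hw => by
        simp [add_mul, Finset.sum_add_distrib, ha w hw, hb w hw]
      smul_mem' := fun c u hu w hw => by
        simp [mul_assoc, ← Finset.mul_sum, hu w hw] }
  have hU : ∀ (g : G), ∀ u ∈ U, Cfsg.permRep K G Ω g u ∈ U := by
    intro g u hu w hw
    rw [← hu _ (hW g⁻¹ w hw)]
    refine Fintype.sum_equiv (MulAction.toPerm g⁻¹) _ _ fun y => ?_
    simp [permRep_apply]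
  obtain ⟨φ, hφ0, hφ⟩ := Submodule.exists_le_ker_of_lt_top W hne.lt_top
  have hUne : U ≠ ⊥ := by
    rw [Submodule.ne_bot_iff]
    refine ⟨fun x => φ (Pi.single x 1), fun w hw => ?_, fun h => hφ0 ?_⟩
    · have h0 : φ w = 0 := hφ hw
      rw [pi_eq_sum_univ' w, map_sum] at h0
      simpa [mul_comm] using h0
    · ext x
      simpa using congrFun h x
  have h1 := constants_le_of_ne_bot P hP U hU hUne
  intro w hw
  have h2 : (fun _ : Ω => (1 : K)) ∈ U := h1 (mem_permConstants.mpr ⟨1, rfl⟩)
  rw [mem_permSumZero]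
  simpa using h2 w hw

end Cfsg.Agent.Lib.Perm
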