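import Mathlib
import Cfsg.Prelude
import Cfsg.Agent.Lib.Perm.PermModule
import Cfsg.Agent.Lib.Characters.Perm
import Cfsg.Agent.Lib.Characters.Convolution
import Cfsg.Agent.Lib.Characters.FrobeniusSchur

/-!
# The permutation character and the centraliser ring
-/

set_option autoImplicit false
set_option linter.unusedSectionVars false
set_option linter.style.haveILetI false

namespace Cfsg.Agent.Lib.Perm.PermCharacter

open Cfsg Cfsg.Agent.Lib.Characters Module
open scoped ComplexConjugate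

universe u v

variable {G : Type u} [Group G] [Fintype G] {Ω : Type v} [Fintype Ω] [MulAction G Ω]

local notation "π" => (fun g : G => (Nat.card (MulAction.fixedBy Ω g) : ℂ))
local notation "ρ" => (Cfsg.permRep ℂ G Ω)

theorem permRep_char : (ρ).character = π := by
  classical
  funext g
  rw [Representation.character, LinearMap.trace_eq_matrix_trace ℂ (Pi.basisFun ℂ Ω), Matrix.trace]
  simp only [Matrix.diag_apply, LinearMap.toMatrix_apply, Pi.basisFun_repr, Pi.basisFun_apply,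
    Lib.Perm.permRep_pi_single, Pi.single_apply]
  rw [Finset.sum_boole, Nat.cast_inj, ← Fintype.card_subtype, ← Nat.card_eq_fintype_card]
  exact Nat.card_congr (Equiv.subtypeEquivRight fun x => eq_comm)

/-- The multiplicity of an irreducible character. -/
noncomputable def mult (χ : IrrCharacter G) : ℕ :=
  (IsCharacter.exists_classInner_nat (isCharacter_permChar (G := G) Ω) (irr_isCharacter χ)).choose

theorem classInner_mult (χ : IrrCharacter G) :
    classInner π (χ : G → ℂ) = (mult (Ω := Ω) χ : ℂ) :=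
  (IsCharacter.exists_classInner_nat (isCharacter_permChar (G := G) Ω) (irr_isCharacter χ)).choose_spec

theorem decomp [Fintype (IrrCharacter G)] :
    π = ∑ χ : IrrCharacter G, (mult (Ω := Ω) χ : ℂ) • (χ : G → ℂ) := by
  conv_lhs => rw [eq_sum_classInner (IsCharacter.isClassFunction (isCharacter_permChar (G := G) Ω))]
  simp only [classInner_mult]

theorem mult_triv [MulAction.IsPretransitive G Ω] [Nonempty Ω] :
    mult (Ω := Ω) (trivIrr G) = 1 := by
  have h := classInner_mult (Ω := Ω) (trivIrr G)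
  rw [show ((trivIrr G : IrrCharacter G) : G → ℂ) = fun _ => 1 from rfl, classInner_permChar_one] at h
  have h1 : Subsingleton (Quotient (MulAction.orbitRel G Ω)) :=
    MulAction.pretransitive_iff_subsingleton_quotient G Ω |>.mp inferInstance
  haveI : Nonempty (Quotient (MulAction.orbitRel G Ω)) := ⟨Quotient.mk _ (Classical.arbitrary Ω)⟩
  rw [Nat.card_of_subsingleton (Classical.arbitrary _)] at h
  exact_mod_cast h.symm

theorem sum_mult_sq [Fintype (IrrCharacter G)] :
    ∑ χ : IrrCharacter G, mult (Ω := Ω) χ ^ 2 =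
      Nat.card (Quotient (MulAction.orbitRel G (Ω × Ω))) := by
  have h := classInner_permChar_self (G := G) Ω
  rw [classInner_eq_sum_irr (IsCharacter.isClassFunction (isCharacter_permChar (G := G) Ω))
    (IsCharacter.isClassFunction (isCharacter_permChar (G := G) Ω))] at h
  simp only [classInner_mult, map_natCast] at h
  have h' : ∑ χ : IrrCharacter G, mult (Ω := Ω) χ * mult (Ω := Ω) χ =
      Nat.card (Quotient (MulAction.orbitRel G (Ω × Ω))) := by exact_mod_cast h
  simpa [sq] using h'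

theorem sum_mult_degree [Fintype (IrrCharacter G)] :
    ∑ χ : IrrCharacter G, (mult (Ω := Ω) χ : ℂ) * (χ : G → ℂ) 1 = (Fintype.card Ω : ℂ) := by
  have h := congrFun (decomp (G := G) (Ω := Ω)) 1
  simp only [Finset.sum_apply, Pi.smul_apply, smul_eq_mul] at h
  rw [← h, MulAction.fixedBy_one_eq_univ, Nat.card_univ, Nat.card_eq_fintype_card]

theorem finrank_commutant :
    finrank ℂ ((ρ).linHom (ρ)).invariants = Nat.card (Quotient (MulAction.orbitRel G (Ω × Ω))) := by
  have h := classInner_char_eq_finrank (ρ) (ρ)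
  rw [permRep_char, classInner_permChar_self, Nat.cast_inj] at h
  rw [h]
  exact ((ρ).invariantsEquivIntertwiningMap (ρ)).finrank_eq

theorem mem_commutant {T : End ℂ (Ω → ℂ)} :
    T ∈ ((ρ).linHom (ρ)).invariants ↔ ∀ g, T * ρ g = ρ g * T := by
  have e : T ∈ ((ρ).linHom (ρ)).invariants ↔ ∀ g : G, ρ g ∘ₗ T ∘ₗ ρ g⁻¹ = T := Iff.rfl
  rw [e, Representation.mem_linHom_invariants_iff_isIntertwining]
  constructor
  · intro h g
    exact LinearMap.ext fun x => h.isIntertwining g x
  · intro h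
    exact ⟨fun g x => LinearMap.congr_fun (h g) x⟩

/-! ### The central operators -/

/-- The operator attached to an irreducible character. -/
noncomputable def proj (χ : IrrCharacter G) : End ℂ (Ω → ℂ) :=
  opSum (ρ) fun g => (χ : G → ℂ) g⁻¹

theorem proj_classFun (χ : IrrCharacter G) (g h : G) :
    (χ : G → ℂ) (h * g * h⁻¹)⁻¹ = (χ : G → ℂ) g⁻¹ := by
  rw [← IsCharacter.conj_apply (irr_isCharacter χ) g⁻¹ h]
  group

theorem proj_comm (χ : IrrCharacter G) (g : G) :
    proj (Ω := Ω) χ * ρ g = ρ g * proj χ :=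
  opSum_comm (ρ) _ (proj_classFun χ) g

theorem proj_mem (χ : IrrCharacter G) : proj (Ω := Ω) χ ∈ ((ρ).linHom (ρ)).invariants :=
  mem_commutant.mpr (proj_comm χ)

theorem proj_comm_commutant (χ : IrrCharacter G) {T : End ℂ (Ω → ℂ)}
    (hT : T ∈ ((ρ).linHom (ρ)).invariants) : proj χ * T = T * proj χ := by
  have h := mem_commutant.mp hT
  simp only [proj, opSum, Finset.sum_mul, Finset.mul_sum, smul_mul_assoc, mul_smul_comm]
  exact Finset.sum_congr rfl fun g _ => by rw [h g]

theorem trace_proj_mul [Fintype (IrrCharacter G)] (χ : IrrCharacter G) (a : G) :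
    LinearMap.trace ℂ _ (proj (Ω := Ω) χ * ρ a) =
      (mult (Ω := Ω) χ : ℂ) * ((Nat.card G : ℂ) / (χ : G → ℂ) 1 * (χ : G → ℂ) a) := by
  classical
  have h1 : LinearMap.trace ℂ _ (proj (Ω := Ω) χ * ρ a) =
      ∑ h : G, (χ : G → ℂ) h⁻¹ * (ρ).character (h * a) := by
    simp only [proj, opSum, Finset.sum_mul, smul_mul_assoc, map_sum, map_smul, smul_eq_mul, ← map_mul]
    rfl
  rw [h1, permRep_char, decomp]
  simp only [Finset.sum_apply, Pi.smul_apply, smul_eq_mul, Finset.mul_sum]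
  rw [Finset.sum_comm, Finset.sum_eq_single χ]
  · rw [← Fintype.sum_equiv (Equiv.inv G) (fun h => (mult (Ω := Ω) χ : ℂ) *
      ((χ : G → ℂ) h * (χ : G → ℂ) (h⁻¹ * a))) _ fun h => by
        simp only [Equiv.inv_apply, inv_inv]; ring, ← Finset.mul_sum,
      IsIrrCharacter.sum_mul_convolution χ.2 χ.2, if_pos rfl]
  · intro ψ _ hψ
    rw [← Fintype.sum_equiv (Equiv.inv G) (fun h => (mult (Ω := Ω) ψ : ℂ) *
      ((χ : G → ℂ) h * (ψ : G → ℂ) (h⁻¹ * a))) _ fun h => by
        simp only [Equiv.inv_apply, inv_inv]; ring, ← Finset.mul_sum,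
      IsIrrCharacter.sum_mul_convolution χ.2 ψ.2, if_neg fun e => hψ (Subtype.ext e).symm, mul_zero]
  · simp

theorem linearIndependent_proj [Fintype (IrrCharacter G)] :
    LinearIndependent ℂ fun χ : {χ : IrrCharacter G // mult (Ω := Ω) χ ≠ 0} => proj (Ω := Ω) χ.1 := by
  classical
  refine Fintype.linearIndependent_iff.mpr fun c hc' χ => ?_
  have hli : LinearIndependent ℂ (fun χ : {χ : IrrCharacter G // mult (Ω := Ω) χ ≠ 0} => (χ.1 : G → ℂ)) :=
    irr_linearIndependent.comp _ Subtype.val_injective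
  have := Fintype.linearIndependent_iff.mp hli
    (fun ψ => c ψ * ((mult (Ω := Ω) ψ.1 : ℂ) * ((Nat.card G : ℂ) / (ψ.1 : G → ℂ) 1))) ?_ χ
  · rcases mul_eq_zero.mp this with h | h
    · exact h
    · rcases mul_eq_zero.mp h with h | h
      · exact absurd (Nat.cast_eq_zero.mp h) χ.2
      · exact absurd h (div_ne_zero natCard_ne_zero_complex (IsIrrCharacter.apply_one_ne_zero χ.1.2))
  · funext a
    have h2 := congrArg (fun T => LinearMap.trace ℂ _ (T * ρ a)) hc'
    simp only [Finset.sum_mul, smul_mul_assoc, map_sum, map_smul, trace_proj_mul, smul_eq_mul,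
      zero_mul, map_zero] at h2
    simp only [Finset.sum_apply, Pi.smul_apply, smul_eq_mul, Pi.zero_apply]
    rw [← h2]
    exact Finset.sum_congr rfl fun ψ _ => by ring

/-- In the multiplicity-free case the central operators span the centraliser ring. -/
theorem exists_sum_proj [Fintype (IrrCharacter G)] (hmf : ∀ χ, mult (G := G) (Ω := Ω) χ ≤ 1)
    {T : End ℂ (Ω → ℂ)} (hT : T ∈ ((ρ).linHom (ρ)).invariants) :
    ∃ c : {χ : IrrCharacter G // mult (Ω := Ω) χ ≠ 0} → ℂ, T = ∑ χ, c χ • proj χ.1 := by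
  classical
  have hcard : Fintype.card {χ : IrrCharacter G // mult (Ω := Ω) χ ≠ 0} =
      finrank ℂ ((ρ).linHom (ρ)).invariants := by
    rw [finrank_commutant, ← sum_mult_sq, Fintype.card_subtype, Finset.card_eq_sum_ones,
      Finset.sum_filter]
    refine Finset.sum_congr rfl fun χ _ => ?_
    have := hmf χ
    interval_cases h : mult (Ω := Ω) χ <;> simp
  set K := ((ρ).linHom (ρ)).invariants with hK
  have hle : Submodule.span ℂ (Set.range fun χ : {χ : IrrCharacter G // mult (Ω := Ω) χ ≠ 0} =>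
      proj (Ω := Ω) χ.1) ≤ K := by
    rw [Submodule.span_le]
    rintro _ ⟨χ, rfl⟩
    exact proj_mem χ.1
  have heq := Submodule.eq_of_le_of_finrank_le hle
    ((finrank_span_eq_card linearIndependent_proj).trans hcard).ge
  obtain ⟨c, hc⟩ := (Submodule.mem_span_range_iff_exists_fun ℂ).mp (heq ▸ hT)
  exact ⟨c, hc.symm⟩

theorem commute_of_mult_le_one (hmf : ∀ χ, mult (G := G) (Ω := Ω) χ ≤ 1) {S T : End ℂ (Ω → ℂ)}
    (hS : S ∈ ((ρ).linHom (ρ)).invariants) (hT : T ∈ ((ρ).linHom (ρ)).invariants) :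
    S * T = T * S := by
  haveI := Fintype.ofFinite (IrrCharacter G)
  obtain ⟨c, rfl⟩ := exists_sum_proj hmf hS
  rw [Finset.sum_mul, Finset.mul_sum]
  exact Finset.sum_congr rfl fun χ _ => by rw [smul_mul_assoc, mul_smul_comm, proj_comm_commutant _ hT]

theorem mult_le_one_of_commute
    (h : ∀ S T : End ℂ (Ω → ℂ), S ∈ ((ρ).linHom (ρ)).invariants →
      T ∈ ((ρ).linHom (ρ)).invariants → S * T = T * S) (χ : IrrCharacter G) :
    mult (Ω := Ω) χ ≤ 1 := by
  by_contra hlt
  push Not at hlt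
  obtain ⟨n, σ, hσ, hχ⟩ := χ.2
  have hf : finrank ℂ (σ.IntertwiningMap (ρ)) = mult (Ω := Ω) χ := by
    have h1 := classInner_char_eq_finrank σ (ρ)
    rw [permRep_char, hχ, classInner_mult] at h1
    exact_mod_cast h1.symm
  haveI : Nontrivial (σ.IntertwiningMap (ρ)) := Module.nontrivial_of_finrank_pos (R := ℂ) (by omega)
  obtain ⟨ι₁, hι₁⟩ := exists_ne (0 : σ.IntertwiningMap (ρ))
  have hinj : LinearMap.ker ι₁.toLinearMap = ⊥ := by
    refine (((isIrreducible_iff_forall σ).mp hσ).2 (LinearMap.ker ι₁.toLinearMap) fun g x hx => ?_).resolve_right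
      fun htop => hι₁ ?_
    · rw [LinearMap.mem_ker] at hx ⊢
      rw [show ι₁.toLinearMap (σ g x) = ρ g (ι₁.toLinearMap x) from Representation.IntertwiningMap.isIntertwining σ (ρ) ι₁ g x, hx, map_zero]
    · exact Representation.IntertwiningMap.ext_iff.mpr (by rw [LinearMap.ker_eq_top.mp htop]; rfl)
  obtain ⟨L, hL⟩ := ι₁.toLinearMap.exists_leftInverse_of_injective hinj
  set P : (Ω → ℂ) →ₗ[ℂ] (Fin n → ℂ) := (Nat.card G : ℂ)⁻¹ • ∑ g : G, σ g ∘ₗ L ∘ₗ ρ g⁻¹ with hPdef
  have hP : ∀ g x, P (ρ g x) = σ g (P x) := by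
    intro g x
    simp only [hPdef, LinearMap.smul_apply, LinearMap.sum_apply, map_smul, map_sum,
      LinearMap.comp_apply]
    congr 1
    refine Fintype.sum_equiv (Equiv.mulLeft g⁻¹) _ _ fun k => ?_
    simp only [Equiv.coe_mulLeft, mul_inv_rev, inv_inv, map_mul, Module.End.mul_apply]
    simp [← Module.End.mul_apply, ← map_mul]
  have hP1 : ∀ x, P (ι₁ x) = x := by
    intro x
    have hterm : ∀ g : G, σ g (L (ρ g⁻¹ (ι₁.toLinearMap x))) = x := by
      intro g
      have e1 : ρ g⁻¹ (ι₁.toLinearMap x) = ι₁.toLinearMap (σ g⁻¹ x) := (Representation.IntertwiningMap.isIntertwining σ (ρ) ι₁ g⁻¹ x).symm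
      have e2 : L (ι₁.toLinearMap (σ g⁻¹ x)) = σ g⁻¹ x := LinearMap.congr_fun hL _
      rw [e1, e2, ← Module.End.mul_apply, ← map_mul, mul_inv_cancel, map_one, Module.End.one_apply]
    show P (ι₁.toLinearMap x) = x
    simp only [hPdef, LinearMap.smul_apply, LinearMap.sum_apply, LinearMap.comp_apply, hterm,
      Finset.sum_const, Finset.card_univ, ← Nat.card_eq_fintype_card]
    rw [← Nat.cast_smul_eq_nsmul ℂ, smul_smul, inv_mul_cancel₀ natCard_ne_zero_complex, one_smul]
  obtain ⟨ι, hι⟩ : ∃ ι : σ.IntertwiningMap (ρ), ∀ c : ℂ, c • ι₁ ≠ ι := by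
    by_contra hc
    push Not at hc
    have := finrank_le_one ι₁ hc
    omega
  obtain ⟨c, hc⟩ := exists_smul_of_commute σ (P ∘ₗ ι.toLinearMap) fun g => LinearMap.ext fun x => by
    show P (ι.toLinearMap (σ g x)) = σ g (P (ι.toLinearMap x))
    rw [show ι.toLinearMap (σ g x) = ρ g (ι.toLinearMap x) from Representation.IntertwiningMap.isIntertwining σ (ρ) ι g x, hP]
  set J := ι - c • ι₁ with hJ
  have hJ0 : J ≠ 0 := fun e => hι c (sub_eq_zero.mp e).symm
  have hPJ : ∀ x, P (J.toLinearMap x) = 0 := by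
    intro x
    have h1 : P (ι.toLinearMap x) = c • x := LinearMap.congr_fun hc x
    show P (ι.toLinearMap x - c • ι₁.toLinearMap x) = 0
    rw [map_sub, map_smul, h1, show P (ι₁.toLinearMap x) = x from hP1 x, sub_self]
  have hmem : ∀ κ : σ.IntertwiningMap (ρ), κ.toLinearMap ∘ₗ P ∈ ((ρ).linHom (ρ)).invariants :=
    fun κ => mem_commutant.mpr fun g => LinearMap.ext fun x => by
      show κ.toLinearMap (P (ρ g x)) = ρ g (κ.toLinearMap (P x))
      rw [hP]
      exact Representation.IntertwiningMap.isIntertwining σ (ρ) κ g _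
  have hcomm := h _ _ (hmem ι₁) (hmem J)
  apply hJ0
  refine Representation.IntertwiningMap.ext_iff.mpr (LinearMap.ext fun u => ?_)
  have h2 : ι₁.toLinearMap (P (J.toLinearMap (P (ι₁.toLinearMap u)))) =
      J.toLinearMap (P (ι₁.toLinearMap (P (ι₁.toLinearMap u)))) :=
    LinearMap.congr_fun hcomm (ι₁.toLinearMap u)
  rw [hPJ, map_zero, show P (ι₁.toLinearMap u) = u from hP1 u,
    show P (ι₁.toLinearMap u) = u from hP1 u] at h2
  exact h2.symm

/-! ### Orbital matrices -/

/-- The relation `(x, y)` lies in the orbital of `(a, b)`. -/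
def InOrbital (a b x y : Ω) : Prop := ∃ g : G, g • a = x ∧ g • b = y

open scoped Classical in
/-- The orbital operator. -/
noncomputable def orbitalOp (a b : Ω) : End ℂ (Ω → ℂ) :=
  Lib.Perm.kernelMap fun x y => if InOrbital (G := G) a b x y then (1 : ℂ) else 0

theorem inOrbital_smul (a b x y : Ω) (g : G) :
    InOrbital (G := G) a b (g • x) (g • y) ↔ InOrbital (G := G) a b x y :=
  ⟨fun ⟨k, h1, h2⟩ => ⟨g⁻¹ * k, by rw [mul_smul, h1, inv_smul_smul], by rw [mul_smul, h2, inv_smul_smul]⟩,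
    fun ⟨k, h1, h2⟩ => ⟨g * k, by rw [mul_smul, h1], by rw [mul_smul, h2]⟩⟩

theorem orbitalOp_comm (a b : Ω) (g : G) :
    orbitalOp (G := G) a b * ρ g = ρ g * orbitalOp (G := G) a b := by
  classical
  refine LinearMap.ext fun f => Lib.Perm.kernelMap_permRep _ (fun g x y => ?_) g f
  simp only [inOrbital_smul]

theorem symm_of_mult_le_one (hmf : ∀ χ, mult (G := G) (Ω := Ω) χ ≤ 1)
    (hreal : ∀ χ : IrrCharacter G, mult (Ω := Ω) χ ≠ 0 → ∀ g, conj ((χ : G → ℂ) g) = (χ : G → ℂ) g)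
    (a b : Ω) : ∃ g : G, g • a = b ∧ g • b = a := by
  classical
  haveI := Fintype.ofFinite (IrrCharacter G)
  set A := orbitalOp (G := G) a b
  obtain ⟨c, hc⟩ := exists_sum_proj hmf (mem_commutant.mpr (orbitalOp_comm a b))
  have hQ : ∀ χ : {χ : IrrCharacter G // mult (Ω := Ω) χ ≠ 0}, ∀ x y : Ω,
      proj χ.1 (Pi.single y (1 : ℂ)) x = proj χ.1 (Pi.single x (1 : ℂ)) y := by
    intro χ x y
    simp only [proj, opSum_apply, Finset.sum_apply, Pi.smul_apply, Lib.Perm.permRep_pi_single,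
      Pi.single_apply, smul_eq_mul]
    refine Fintype.sum_equiv (Equiv.inv G) _ _ fun g => ?_
    simp only [Equiv.inv_apply, inv_inv]
    have h1 : (χ.1 : G → ℂ) g⁻¹ = (χ.1 : G → ℂ) g := by
      rw [IsCharacter.apply_inv (irr_isCharacter χ.1)]
      exact hreal χ.1 χ.2 g
    rw [h1]
    congr 1
    simp only [eq_inv_smul_iff, eq_comm]
  have hA : ∀ x y : Ω, A (Pi.single y (1 : ℂ)) x = A (Pi.single x (1 : ℂ)) y := by
    intro x y
    show orbitalOp (G := G) a b (Pi.single y (1 : ℂ)) x = orbitalOp (G := G) a b (Pi.single x (1 : ℂ)) y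
    rw [hc]
    simp only [LinearMap.sum_apply, LinearMap.smul_apply, Finset.sum_apply, Pi.smul_apply, hQ _ x y]
  have hv : ∀ x y : Ω, A (Pi.single y (1 : ℂ)) x = if InOrbital (G := G) a b x y then 1 else 0 := by
    intro x y
    simp only [A, orbitalOp, Lib.Perm.kernelMap_apply]
    rw [Finset.sum_eq_single y (fun z _ hz => by rw [Pi.single_eq_of_ne hz, mul_zero]) (by simp),
      Pi.single_eq_same, mul_one]
  have h2 := hA a b
  rw [hv, hv, if_pos ⟨1, one_smul G a, one_smul G b⟩] at h2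
  by_cases hba : InOrbital (G := G) a b b a
  · exact hba
  · rw [if_neg hba] at h2
    exact absurd h2 one_ne_zero

/-! ### Self-paired orbitals -/

theorem sum_mult_indicator [Fintype (IrrCharacter G)] :
    ∑ χ : IrrCharacter G, (mult (Ω := Ω) χ : ℂ) * ((Nat.card G : ℂ)⁻¹ * ∑ s : G, (χ : G → ℂ) (s * s)) =
      (Nat.card G : ℂ)⁻¹ * ∑ s : G, (Nat.card (MulAction.fixedBy Ω (s * s)) : ℂ) := by
  rw [show (∑ s : G, (Nat.card (MulAction.fixedBy Ω (s * s)) : ℂ)) = ∑ s : G, π (s * s) from rfl,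
    decomp]
  simp only [Finset.sum_apply, Pi.smul_apply, smul_eq_mul, Finset.mul_sum]
  rw [Finset.sum_comm]
  exact Finset.sum_congr rfl fun χ _ => Finset.sum_congr rfl fun s _ => by ring

theorem sum_card_fixedBy_sq (hsp : ∀ a b : Ω, ∃ g : G, g • a = b ∧ g • b = a) :
    ∑ s : G, Nat.card (MulAction.fixedBy Ω (s * s)) =
      Nat.card (Quotient (MulAction.orbitRel G (Ω × Ω))) * Nat.card G := by
  classical
  haveI := Fintype.ofFinite (Quotient (MulAction.orbitRel G (Ω × Ω)))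
  have hB : ∑ g : G, Nat.card (MulAction.fixedBy (Ω × Ω) g) =
      Nat.card (Quotient (MulAction.orbitRel G (Ω × Ω))) * Nat.card G := by
    have h := MulAction.sum_card_fixedBy_eq_card_orbits_mul_card_group G (Ω × Ω)
    simpa only [← Nat.card_eq_fintype_card] using h
  rw [← hB]
  choose t ht using hsp
  simp only [Nat.card_eq_fintype_card]
  rw [← Fintype.card_sigma, ← Fintype.card_sigma]
  have e1 : ∀ g x, x ∈ MulAction.fixedBy Ω (g * g) → (g⁻¹ * t x (g • x)) • x = x := fun g x _ => by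
    rw [mul_smul, (ht x (g • x)).1, inv_smul_smul]
  have e2 : ∀ g x, x ∈ MulAction.fixedBy Ω (g * g) → (g⁻¹ * t x (g • x)) • (g • x) = g • x :=
    fun g x hx => by
      rw [mul_smul, (ht x (g • x)).2, inv_smul_eq_iff, ← mul_smul]
      exact hx.symm
  refine Fintype.card_congr
    { toFun := fun q => ⟨q.1⁻¹ * t q.2.1 (q.1 • q.2.1), (q.2.1, q.1 • q.2.1),
        Prod.ext (e1 _ _ q.2.2) (e2 _ _ q.2.2)⟩
      invFun := fun q => ⟨t q.2.1.1 q.2.1.2 * q.1⁻¹, q.2.1.1, ?_⟩
      left_inv := ?_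
      right_inv := ?_ }
  · have h1 : q.1 • q.2.1.1 = q.2.1.1 := congrArg Prod.fst q.2.2
    have h2 : q.1 • q.2.1.2 = q.2.1.2 := congrArg Prod.snd q.2.2
    have h3 : (t q.2.1.1 q.2.1.2 * q.1⁻¹) • q.2.1.1 = q.2.1.2 := by
      rw [mul_smul, inv_smul_eq_iff.mpr h1.symm, (ht _ _).1]
    rw [MulAction.mem_fixedBy, mul_smul, h3, mul_smul, inv_smul_eq_iff.mpr h2.symm, (ht _ _).2]
  · rintro ⟨g, x, hx⟩
    refine Sigma.subtype_ext ?_ rfl
    simp
  · rintro ⟨g, ⟨x, y⟩, hxy⟩
    have h1 : g • x = x := congrArg Prod.fst hxy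
    have h3 : (t x y * g⁻¹) • x = y := by rw [mul_smul, inv_smul_eq_iff.mpr h1.symm, (ht _ _).1]
    refine Sigma.subtype_ext ?_ ?_
    · simp [h3]
    · simp [h3]

theorem real_of_self_paired (hsp : ∀ a b : Ω, ∃ g : G, g • a = b ∧ g • b = a) (χ : IrrCharacter G)
    (hχ : mult (Ω := Ω) χ ≠ 0) :
    mult (Ω := Ω) χ = 1 ∧ ∀ g, conj ((χ : G → ℂ) g) = (χ : G → ℂ) g := by
  classical
  haveI := Fintype.ofFinite (IrrCharacter G)
  let ν : IrrCharacter G → ℂ := fun ψ => (Nat.card G : ℂ)⁻¹ * ∑ s : G, (ψ : G → ℂ) (s * s)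
  have hν : ∀ ψ : IrrCharacter G, ν ψ = 0 ∨
      ((∀ g, conj ((ψ : G → ℂ) g) = (ψ : G → ℂ) g) ∧ (ν ψ = 1 ∨ ν ψ = -1)) := by
    intro ψ
    by_cases h : ∀ s : G, ((ψ : G → ℂ) s).im = 0
    · obtain ⟨n, B, ε, -, -, hε, -, hεν⟩ := (frobeniusSchur ψ.2).2 h
      exact Or.inr ⟨fun g => Complex.conj_eq_iff_im.mpr (h g), hε.imp (hεν.trans ·) (hεν.trans ·)⟩
    · push Not at h
      exact Or.inl ((frobeniusSchur ψ.2).1 h)
  have htot : ∑ ψ : IrrCharacter G, (mult (Ω := Ω) ψ : ℂ) * ν ψ =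
      ∑ ψ : IrrCharacter G, ((mult (Ω := Ω) ψ : ℕ) : ℂ) ^ 2 := by
    rw [sum_mult_indicator, ← Nat.cast_sum, sum_card_fixedBy_sq hsp, Nat.cast_mul,
      mul_comm _ (Nat.card G : ℂ), ← mul_assoc, inv_mul_cancel₀ natCard_ne_zero_complex, one_mul,
      ← sum_mult_sq]
    push_cast
    rfl
  have hre := congrArg Complex.re htot
  simp only [Complex.re_sum] at hre
  have hterm : ∀ ψ : IrrCharacter G, ((mult (Ω := Ω) ψ : ℂ) * ν ψ).re ≤
      (((mult (Ω := Ω) ψ : ℕ) : ℂ) ^ 2).re := by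
    intro ψ
    have hsq : (mult (Ω := Ω) ψ : ℝ) ≤ (mult (Ω := Ω) ψ : ℝ) ^ 2 := by
      exact_mod_cast Nat.le_self_pow two_ne_zero _
    have h0 : (0 : ℝ) ≤ (mult (Ω := Ω) ψ : ℝ) := by positivity
    rcases hν ψ with e | ⟨-, e | e⟩ <;> simp [e, ← Complex.ofReal_natCast, ← Complex.ofReal_pow] <;> linarith
  have heq := (Finset.sum_eq_sum_iff_of_le fun ψ _ => hterm ψ).mp hre χ (Finset.mem_univ χ)
  have hm : 1 ≤ (mult (Ω := Ω) χ : ℝ) := by exact_mod_cast Nat.one_le_iff_ne_zero.mpr hχ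
  rcases hν χ with e | ⟨hr, e | e⟩
  · simp [e, ← Complex.ofReal_natCast, ← Complex.ofReal_pow] at heq
    exact absurd heq.symm (by simpa using hχ)
  · simp [e, ← Complex.ofReal_natCast, ← Complex.ofReal_pow] at heq
    refine ⟨?_, hr⟩
    have : (mult (Ω := Ω) χ : ℝ) = 1 := by nlinarith
    exact_mod_cast this
  · simp [e, ← Complex.ofReal_natCast, ← Complex.ofReal_pow] at heq
    nlinarith

/-! ### Degrees of constituents and subdegrees -/

theorem finrank_mod [MulAction.IsPretransitive G Ω] [Nonempty Ω] (f : ℕ)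
    (hf : ∀ χ : IrrCharacter G, χ ≠ trivIrr G → mult (Ω := Ω) χ ≠ 0 → ∃ m : ℕ, (χ : G → ℂ) 1 = (f : ℂ) * m)
    (S : Subrepresentation (ρ)) :
    ∃ k : ℕ, finrank ℂ S.toSubmodule =
      finrank ℂ S.toRepresentation.invariants + f * k := by
  classical
  haveI := Fintype.ofFinite (IrrCharacter G)
  obtain ⟨T, hT⟩ := exists_isCompl_toSubmodule (ρ) S
  have hadd := char_eq_add_of_isCompl (ρ) S T hT
  have hs := isCharacter_of_rep S.toRepresentation
  obtain ⟨m, hdec, hm⟩ := IsCharacter.exists_nat_decomp hs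
  have hle : ∀ χ, m χ ≤ mult (Ω := Ω) χ := by
    intro χ
    obtain ⟨k, hk⟩ := IsCharacter.exists_classInner_nat (isCharacter_of_rep T.toRepresentation) (irr_isCharacter χ)
    have h1 := classInner_mult (Ω := Ω) χ
    rw [← permRep_char, hadd, classInner_add_left, hm, hk] at h1
    have h2 : m χ + k = mult (Ω := Ω) χ := by exact_mod_cast h1
    omega
  have htriv : m (trivIrr G) = finrank ℂ S.toRepresentation.invariants := by
    haveI : Invertible (Nat.card G : ℂ) := invertibleOfNonzero natCard_ne_zero_complex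
    have h1 := hm (trivIrr G)
    rw [show ((trivIrr G : IrrCharacter G) : G → ℂ) = fun _ => 1 from rfl] at h1
    have h2 := Representation.card_inv_mul_sum_char_eq_finrank S.toRepresentation
    rw [classInner] at h1
    simp only [map_one, mul_one] at h1
    rw [h2] at h1
    exact_mod_cast h1.symm
  have hex : ∀ χ, χ ≠ trivIrr G → ∃ j : ℕ, (m χ : ℂ) * (χ : G → ℂ) 1 = (f : ℂ) * j := by
    intro χ hχ
    by_cases h0 : m χ = 0
    · exact ⟨0, by simp [h0]⟩
    · obtain ⟨j, hj⟩ := hf χ hχ (by have := hle χ; omega)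
      exact ⟨m χ * j, by rw [hj]; push_cast; ring⟩
  choose j hj using hex
  refine ⟨∑ χ ∈ (Finset.univ.erase (trivIrr G)).attach, j χ.1 (Finset.ne_of_mem_erase χ.2), ?_⟩
  have h1 := congrFun hdec 1
  rw [Representation.char_one, Finset.sum_apply, ← Finset.add_sum_erase _ _ (Finset.mem_univ (trivIrr G)),
    ← Finset.sum_attach] at h1
  simp only [Pi.smul_apply, smul_eq_mul] at h1
  rw [Finset.sum_congr rfl (fun χ _ => hj χ.1 (Finset.ne_of_mem_erase χ.2)), ← Finset.mul_sum, htriv,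
    show ((trivIrr G : IrrCharacter G) : G → ℂ) 1 = 1 from rfl, mul_one] at h1
  exact_mod_cast h1

theorem invariant_const [MulAction.IsPretransitive G Ω] {v : Ω → ℂ} (hv : ∀ g : G, ρ g v = v) (x y : Ω) :
    v x = v y := by
  obtain ⟨g, rfl⟩ := MulAction.exists_smul_eq G x y
  conv_rhs => rw [← hv g, Lib.Perm.permRep_apply, inv_smul_smul]

open scoped Classical in
theorem orbitalOp_one [MulAction.IsPretransitive G Ω] (a b : Ω) :
    orbitalOp (G := G) a b (fun _ => 1) =
      (Nat.card (MulAction.orbit (MulAction.stabilizer G a) b) : ℂ) • fun _ => (1 : ℂ) := by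
  funext x
  obtain ⟨g, rfl⟩ := MulAction.exists_smul_eq G a x
  simp only [orbitalOp, Lib.Perm.kernelMap_apply, mul_one, Pi.smul_apply, smul_eq_mul]
  rw [Finset.sum_boole, Nat.cast_inj, ← Fintype.card_subtype, ← Nat.card_eq_fintype_card]
  refine Nat.card_congr ((MulAction.toPerm g⁻¹).subtypeEquiv fun y => ?_)
  rw [MulAction.toPerm_apply, ← inOrbital_smul a b (g • a) y g⁻¹, inv_smul_smul]
  constructor
  · rintro ⟨k, h1, h2⟩
    exact ⟨⟨k, h1⟩, h2⟩
  · rintro ⟨⟨k, h1⟩, h2⟩
    exact ⟨k, h1, h2⟩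

theorem dvd_subdegree [MulAction.IsPretransitive G Ω] (f : ℕ)
    (hf : ∀ χ : IrrCharacter G, χ ≠ trivIrr G → mult (Ω := Ω) χ ≠ 0 → ∃ m : ℕ, (χ : G → ℂ) 1 = (f : ℂ) * m)
    (a b : Ω) (hab : b ≠ a) : f ∣ Nat.card (MulAction.orbit (MulAction.stabilizer G a) b) := by
  classical
  haveI : Nonempty Ω := ⟨a⟩
  set d := Nat.card (MulAction.orbit (MulAction.stabilizer G a) b) with hd
  set A := orbitalOp (G := G) a b with hA
  set M := LinearMap.toMatrix (Pi.basisFun ℂ Ω) (Pi.basisFun ℂ Ω) A with hM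
  have hMv : ∀ x y, M x y = if InOrbital (G := G) a b x y then 1 else 0 := by
    intro x y
    simp only [hM, LinearMap.toMatrix_apply, Pi.basisFun_repr, Pi.basisFun_apply, hA, orbitalOp,
      Lib.Perm.kernelMap_apply]
    rw [Finset.sum_eq_single y (fun z _ hz => by rw [Pi.single_eq_of_ne hz, mul_zero]) (by simp),
      Pi.single_eq_same, mul_one]
  have htr : M.trace = 0 := Finset.sum_eq_zero fun x _ => by
    rw [Matrix.diag_apply, hMv, if_neg]
    rintro ⟨g, h1, h2⟩
    exact hab (MulAction.injective g (h2.trans h1.symm))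
  let M₀ : Matrix Ω Ω ℤ := fun x y => if InOrbital (G := G) a b x y then 1 else 0
  have hM0 : M = M₀.map (Int.castRingHom ℂ) := by
    ext x y
    rw [hMv, Matrix.map_apply]
    show _ = (Int.castRingHom ℂ) (if InOrbital (G := G) a b x y then 1 else 0)
    split_ifs <;> simp
  have hint : ∀ μ ∈ M.charpoly.roots, IsIntegral ℤ μ := by
    intro μ hμ
    refine ⟨M₀.charpoly, M₀.charpoly_monic, ?_⟩
    have h1 := (Polynomial.mem_roots'.mp hμ).2
    rw [hM0, Matrix.charpoly_map, Polynomial.IsRoot, Polynomial.eval_map] at h1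
    exact h1
  have hcount : ∀ μ : ℂ, M.charpoly.roots.count μ = finrank ℂ (A.maxGenEigenspace μ) := by
    intro μ
    rw [LinearMap.finrank_maxGenEigenspace_eq, Polynomial.count_roots, hM, LinearMap.charpoly_toMatrix]
  let S : ℂ → Subrepresentation (ρ) := fun μ => ⟨A.maxGenEigenspace μ, fun g v hv =>
    Module.End.mapsTo_maxGenEigenspace_of_comm (show Commute A (ρ g) from orbitalOp_comm a b g) μ hv⟩
  have hone : (fun _ => (1 : ℂ)) ∈ A.maxGenEigenspace (d : ℂ) := by
    apply Module.End.eigenspace_le_maxGenEigenspace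
    rw [Module.End.mem_eigenspace_iff, hA, orbitalOp_one]
  have hinv : ∀ μ : ℂ, finrank ℂ (S μ).toRepresentation.invariants = if μ = (d : ℂ) then 1 else 0 := by
    intro μ
    have hc : ∀ v : (S μ).toSubmodule, v ∈ (S μ).toRepresentation.invariants →
        ∃ c : ℂ, (v : Ω → ℂ) = c • fun _ => (1 : ℂ) := fun v hv =>
      ⟨(v : Ω → ℂ) a, funext fun x => by
        simpa using (invariant_const (G := G) (fun g => congrArg Subtype.val (hv g)) x a)⟩
    split_ifs with hμ
    · have h1 : (⟨fun _ => 1, hμ ▸ hone⟩ : (S μ).toSubmodule) ∈ (S μ).toRepresentation.invariants :=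
        fun g => Subtype.ext (funext fun x => rfl)
      refine finrank_eq_one (R := ℂ) ⟨_, h1⟩ (fun e => one_ne_zero (congrFun (congrArg Subtype.val (congrArg Subtype.val e)) a)) ?_
      rintro ⟨v, hv⟩
      obtain ⟨c, hc⟩ := hc v hv
      exact ⟨c, Subtype.ext (Subtype.ext hc.symm)⟩
    · rw [Submodule.finrank_eq_zero, eq_bot_iff]
      intro v hv
      obtain ⟨c, hc⟩ := hc v hv
      rw [Submodule.mem_bot]
      by_contra hv0
      have hc0 : c ≠ 0 := fun e => hv0 (Subtype.ext (by rw [hc, e, zero_smul]; rfl))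
      have h1 : (fun _ => (1 : ℂ)) ∈ A.maxGenEigenspace μ := by
        have := (A.maxGenEigenspace μ).smul_mem c⁻¹ v.2
        rwa [hc, smul_smul, inv_mul_cancel₀ hc0, one_smul] at this
      have h2 := Submodule.disjoint_def.mp (Module.End.disjoint_genEigenspace A hμ ⊤ ⊤) _ h1 hone
      exact one_ne_zero (congrFun h2 a)
  choose k hk using fun μ => finrank_mod f hf (S μ)
  have hd1 : (d : ℂ) ∈ M.charpoly.roots.toFinset := by
    rw [Multiset.mem_toFinset, ← Multiset.count_pos, hcount,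
      show finrank ℂ (A.maxGenEigenspace (d : ℂ)) = _ from hk d, hinv, if_pos rfl]
    omega
  have hsum := M.trace_eq_sum_roots_charpoly
  rw [htr, Finset.sum_multiset_count] at hsum
  simp only [hcount, show ∀ μ, finrank ℂ (A.maxGenEigenspace μ) = _ from fun μ => hk μ, hinv,
    nsmul_eq_mul, Nat.cast_add, Nat.cast_mul, Nat.cast_ite, Nat.cast_one, Nat.cast_zero, add_mul,
    Finset.sum_add_distrib, ite_mul, one_mul, zero_mul, Finset.sum_ite_eq', hd1, if_true,
    mul_assoc, ← Finset.mul_sum] at hsum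
  rcases Nat.eq_zero_or_pos f with rfl | hf0
  · simp only [Nat.cast_zero, zero_mul, add_zero] at hsum
    have : d = 0 := by exact_mod_cast hsum.symm
    rw [this]
  · refine dvd_of_isIntegral_div hf0.ne' ?_
    rw [show (d : ℂ) / f = -∑ μ ∈ M.charpoly.roots.toFinset, (k μ : ℂ) * μ by
      rw [div_eq_iff (Nat.cast_ne_zero.mpr hf0.ne')]
      linear_combination -hsum]
    exact (IsIntegral.sum _ fun μ hμ =>
      (isIntegral_algebraMap (R := ℤ) (x := (k μ : ℤ))).mul (hint μ (Multiset.mem_toFinset.mp hμ))).neg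

theorem card_orbits_prod [MulAction.IsPretransitive G Ω] (a : Ω) :
    Nat.card (Quotient (MulAction.orbitRel G (Ω × Ω))) =
      Nat.card (MulAction.orbitRel.Quotient (MulAction.stabilizer G a) Ω) := by
  symm
  refine Nat.card_eq_of_bijective
    (Quotient.map' (fun y => (a, y)) (fun y z h => ?_)) ⟨?_, ?_⟩
  · obtain ⟨⟨g, hg⟩, h1⟩ := h
    exact ⟨g, Prod.ext hg h1⟩
  · rintro ⟨y⟩ ⟨z⟩ h
    obtain ⟨g, hg⟩ := Quotient.exact h
    exact Quotient.sound ⟨⟨g, congrArg Prod.fst hg⟩, congrArg Prod.snd hg⟩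
  · rintro ⟨x, y⟩
    obtain ⟨g, hg⟩ := MulAction.exists_smul_eq G x a
    exact ⟨Quotient.mk'' (g • y), Quotient.sound ⟨g, Prod.ext hg rfl⟩⟩

theorem equal_degrees [MulAction.IsPretransitive G Ω] (a : Ω) (f : ℕ)
    (hf : ∀ χ : IrrCharacter G, χ ≠ trivIrr G → mult (Ω := Ω) χ ≠ 0 → (χ : G → ℂ) 1 = (f : ℂ)) :
    (∀ χ : IrrCharacter G, mult (Ω := Ω) χ ≤ 1) ∧
      ∀ b : Ω, b ≠ a → Nat.card (MulAction.orbit (MulAction.stabilizer G a) b) = f := by
  classical
  haveI : Nonempty Ω := ⟨a⟩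
  haveI := Fintype.ofFinite (IrrCharacter G)
  have hf' : ∀ χ : IrrCharacter G, χ ≠ trivIrr G → mult (Ω := Ω) χ ≠ 0 →
      ∃ m : ℕ, (χ : G → ℂ) 1 = (f : ℂ) * m := fun χ h1 h2 => ⟨1, by rw [hf χ h1 h2, Nat.cast_one, mul_one]⟩
  set H := MulAction.stabilizer G a
  set N := Finset.univ.erase (trivIrr G) with hN
  set Mm := ∑ χ ∈ N, mult (Ω := Ω) χ with hMm
  set Msq := ∑ χ ∈ N, mult (Ω := Ω) χ ^ 2 with hMsq
  haveI := Fintype.ofFinite (MulAction.orbitRel.Quotient H Ω)
  set R := MulAction.orbitRel.Quotient H Ω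
  let q₀ : R := Quotient.mk'' a
  have hr : 1 + Msq = Fintype.card R := by
    rw [← Nat.card_eq_fintype_card, ← card_orbits_prod a, ← sum_mult_sq,
      ← Finset.add_sum_erase _ _ (Finset.mem_univ (trivIrr G)), mult_triv, one_pow]
  have hn : 1 + f * Mm = Fintype.card Ω := by
    have h1 := sum_mult_degree (G := G) (Ω := Ω)
    rw [← Finset.add_sum_erase _ _ (Finset.mem_univ (trivIrr G)), mult_triv,
      show ((trivIrr G : IrrCharacter G) : G → ℂ) 1 = 1 from rfl, Nat.cast_one, one_mul,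
      Finset.sum_congr rfl (g := fun χ => ((f * mult (Ω := Ω) χ : ℕ) : ℂ)) fun χ hχ => by
        by_cases h0 : mult (Ω := Ω) χ = 0
        · simp [h0]
        · rw [hf χ (Finset.ne_of_mem_erase hχ) h0]; push_cast; ring,
      ← Nat.cast_sum, ← Finset.mul_sum] at h1
    exact_mod_cast h1
  have horb : Fintype.card Ω = ∑ q : R, Nat.card q.orbit := by
    rw [← Nat.card_eq_fintype_card, Nat.card_congr (MulAction.selfEquivSigmaOrbits' H Ω), Nat.card_sigma]
  have hsize : ∀ y : Ω, Nat.card (MulAction.orbitRel.Quotient.orbit (Quotient.mk'' y : R)) =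
      Nat.card (MulAction.orbit H y) := fun y => by rw [MulAction.orbitRel.Quotient.orbit_mk]
  have hq0 : Nat.card q₀.orbit = 1 := by
    rw [hsize]
    haveI : Subsingleton (MulAction.orbit H a) := ⟨by
      rintro ⟨x, g, rfl⟩ ⟨y, g', rfl⟩
      exact Subtype.ext (g.2.trans g'.2.symm)⟩
    exact Nat.card_of_subsingleton ⟨a, MulAction.mem_orbit_self a⟩
  have hge : ∀ q ∈ (Finset.univ.erase q₀ : Finset R), f ≤ Nat.card q.orbit := by
    intro q hq
    obtain ⟨y, rfl⟩ := Quotient.exists_rep q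
    have hy : y ≠ a := fun e => Finset.ne_of_mem_erase hq (e ▸ rfl)
    rw [show (⟦y⟧ : R) = Quotient.mk'' y from rfl, hsize]
    exact Nat.le_of_dvd (Nat.card_pos_iff.mpr ⟨⟨⟨y, MulAction.mem_orbit_self y⟩⟩, inferInstance⟩)
      (dvd_subdegree f hf' a y hy)
  have hle := Finset.sum_le_sum hge
  rw [Finset.sum_const, Finset.card_erase_of_mem (Finset.mem_univ q₀), Finset.card_univ, smul_eq_mul] at hle
  rw [← Finset.add_sum_erase _ _ (Finset.mem_univ q₀), hq0] at horb
  have hcard : Fintype.card R - 1 = Msq := by omega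
  rw [hcard] at hle
  have hMle : Mm ≤ Msq := Finset.sum_le_sum fun χ _ => Nat.le_self_pow two_ne_zero _
  have hfM : f * Msq ≤ f * Mm := by
    rw [mul_comm f Msq]; omega
  have hpos : Mm ≠ 0 → 0 < f := by
    intro h0
    obtain ⟨χ, hχ, hχ0⟩ := Finset.exists_ne_zero_of_sum_ne_zero h0
    rw [pos_iff_ne_zero]
    intro e
    have := hf χ (Finset.ne_of_mem_erase hχ) hχ0
    rw [e, Nat.cast_zero] at this
    exact IsIrrCharacter.apply_one_ne_zero χ.2 this
  have heq : Mm = Msq := by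
    rcases Nat.eq_zero_or_pos f with hf0 | hf0
    · have h0 : Mm = 0 := by by_contra h; have := hpos h; omega
      refine le_antisymm hMle (le_of_eq ?_)
      rw [h0, hMsq]
      exact Finset.sum_eq_zero fun χ hχ => by
        rw [(Finset.sum_eq_zero_iff.mp h0) χ hχ]; rfl
    · exact le_antisymm hMle (Nat.le_of_mul_le_mul_left hfM hf0)
  constructor
  · intro χ
    by_cases hχ : χ = trivIrr G
    · rw [hχ, mult_triv]
    · have := (Finset.sum_eq_sum_iff_of_le fun χ _ => Nat.le_self_pow two_ne_zero _).mp heq χ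
        (Finset.mem_erase.mpr ⟨hχ, Finset.mem_univ χ⟩)
      nlinarith
  · intro b hb
    have hmem : (Quotient.mk'' b : R) ∈ (Finset.univ.erase q₀ : Finset R) := by
      refine Finset.mem_erase.mpr ⟨fun e => hb ?_, Finset.mem_univ _⟩
      obtain ⟨g, hg⟩ := Quotient.exact' e
      exact hg.symm.trans g.2
    have hsumeq : ∑ q ∈ (Finset.univ.erase q₀ : Finset R), Nat.card q.orbit =
        ∑ q ∈ (Finset.univ.erase q₀ : Finset R), f := by
      rw [Finset.sum_const, Finset.card_erase_of_mem (Finset.mem_univ q₀), Finset.card_univ, smul_eq_mul,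
        hcard]
      rw [heq] at hn
      rw [mul_comm] at hn
      omega
    have := (Finset.sum_eq_sum_iff_of_le hge).mp hsumeq.symm _ hmem
    rw [hsize] at this
    exact this.symm

end Cfsg.Agent.Lib.Perm.PermCharacter
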