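import Cfsg.Agent.Lib.Perm.PrimeDegree
import Cfsg.Agent.Lib.Perm.Pairs
import Mathlib.Data.Nat.Choose.Factorization

/-!
Transitive groups of prime degree with a Sylow normalizer of even order.
-/

open MulAction

namespace Cfsg.Agent.Lib.Perm

variable {α : Type*} [Fintype α] [DecidableEq α] {p : ℕ} [hp : Fact p.Prime]

theorem not_sq_dvd_factorial : ¬ p ^ 2 ∣ p.factorial := by
  intro h
  obtain ⟨q, hq⟩ : ∃ q, p = q + 1 := ⟨p - 1, by have := hp.out.pos; omega⟩
  rw [hq, Nat.factorial_succ, ← hq, pow_two] at h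
  have h1 : p ∣ q.factorial := Nat.dvd_of_mul_dvd_mul_left hp.out.pos h
  have := hp.out.dvd_factorial.mp h1
  omega

/-- A Sylow subgroup of a transitive group of prime degree has order `p`. -/
theorem card_sylow_of_prime_degree (hα : Fintype.card α = p) (G : Subgroup (Equiv.Perm α))
    [IsPretransitive G α] (P : Sylow p G) : Nat.card P = p := by
  obtain ⟨j, hj⟩ := IsPGroup.iff_card.mp P.isPGroup'
  obtain ⟨a⟩ : Nonempty α := Fintype.card_pos_iff.mp (hα ▸ hp.out.pos)
  have hdvd : p ∣ Nat.card G := by
    rw [← hα, ← Nat.card_eq_fintype_card, ← index_stabilizer_of_transitive G a]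
    exact Subgroup.index_dvd_card _
  have h1 : 1 ≤ j := by
    have := P.card_eq_multiplicity
    rw [hj] at this
    have hj' := Nat.pow_right_injective hp.out.two_le this
    rw [hj']
    exact hp.out.factorization_pos_of_dvd Nat.card_pos.ne' hdvd
  have h2 : j ≤ 1 := by
    by_contra hj2
    apply not_sq_dvd_factorial (p := p)
    have h4 : Nat.card P ∣ (Fintype.card α).factorial := by
      rw [← Fintype.card_perm, ← Nat.card_eq_fintype_card]
      exact (Subgroup.card_subgroup_dvd_card _).trans (Subgroup.card_subgroup_dvd_card G)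
    have h3 : Nat.card P ∣ p.factorial := by simpa only [hα] using h4
    rw [hj] at h3
    exact (pow_dvd_pow p (by omega : 2 ≤ j)).trans h3
  rw [hj, le_antisymm h2 h1, pow_one]

/-- With an even Sylow normalizer there are coordinates in which `G` contains translation and
negation. -/
theorem exists_negation (hα : Fintype.card α = p) (hp2 : p ≠ 2) (G : Subgroup (Equiv.Perm α))
    [IsPretransitive G α] (P : Sylow p G)
    (heven : Even (Nat.card (Subgroup.normalizer ((P : Subgroup G) : Set G)))) :
    ∃ (τ t : G) (e : ZMod p ≃ α), (∀ i, (τ : Equiv.Perm α) (e i) = e (i + 1)) ∧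
      (∀ i, (t : Equiv.Perm α) (e i) = e (-i)) ∧ orderOf t = 2 := by
  have hP := card_sylow_of_prime_degree hα G P
  haveI : Fact (Nat.Prime 2) := ⟨Nat.prime_two⟩
  obtain ⟨⟨t, htN⟩, ht⟩ := exists_prime_orderOf_dvd_card'
    (G := Subgroup.normalizer ((P : Subgroup G) : Set G)) 2 (even_iff_two_dvd.mp heven)
  rw [Subgroup.orderOf_mk] at ht
  obtain ⟨⟨τ, hτP⟩, hgen⟩ := (isCyclic_of_prime_card (p := p) hP).exists_generator
  have hτ : orderOf τ = p := by
    rw [← Subgroup.orderOf_mk (a := τ) (ha := hτP), orderOf_eq_card_of_forall_mem_zpowers hgen]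
    exact hP
  obtain ⟨e, he⟩ := exists_coord_of_orderOf hα (τ : Equiv.Perm α)
    (by rw [Subgroup.orderOf_coe, hτ])
  have hepow : ∀ (n : ℕ) i, ((τ : Equiv.Perm α) ^ n) (e i) = e (i + n) := by
    intro n
    induction n with
    | zero => intro i; simp
    | succ n ih =>
      intro i
      rw [pow_succ', Equiv.Perm.mul_apply, ih, he, Nat.cast_succ, add_assoc]
  obtain ⟨k, hk⟩ : ∃ k : ℕ, t * τ * t⁻¹ = τ ^ k := by
    have h1 : t * τ * t⁻¹ ∈ (P : Subgroup G) := (Subgroup.mem_normalizer_iff.mp htN τ).mp hτP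
    obtain ⟨k, hk⟩ := mem_powers_iff_mem_zpowers.mpr (hgen ⟨_, h1⟩)
    exact ⟨k, (congrArg Subtype.val hk).symm⟩
  let γ : ZMod p → ZMod p := fun j => e.symm ((t : Equiv.Perm α) (e j))
  have hγ : ∀ j, (t : Equiv.Perm α) (e j) = e (γ j) := fun j => by simp [γ]
  have hstep : ∀ j, γ (j + 1) = γ j + k := by
    intro j
    apply e.injective
    rw [← hγ, ← he, ← hepow, ← hγ, ← Subgroup.coe_pow, ← hk]
    simp
  have hlin : ∀ j, γ j = γ 0 + k * j := by
    have hn : ∀ n : ℕ, γ n = γ 0 + k * n := by
      intro n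
      induction n with
      | zero => simp
      | succ n ih => rw [Nat.cast_succ, hstep, ih]; ring
    intro j
    rw [← ZMod.natCast_zmod_val j]
    exact hn _
  have hinv : ∀ j, γ (γ j) = j := by
    intro j
    apply e.injective
    rw [← hγ, ← hγ, ← Equiv.Perm.mul_apply, ← Subgroup.coe_mul]
    have : t * t = 1 := by rw [← pow_two, ← ht]; exact pow_orderOf_eq_one t
    rw [this]
    rfl
  have h00 := hinv 0
  have h11 := hinv 1
  rw [hlin (γ 0)] at h00
  rw [hlin (γ 1), hlin 1] at h11
  have hk2 : ((k : ZMod p) - 1) * ((k : ZMod p) + 1) = 0 := by linear_combination h11 - h00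
  have htwo : (2 : ZMod p) ≠ 0 := by
    intro h
    have h' : ((2 : ℕ) : ZMod p) = 0 := by exact_mod_cast h
    rw [ZMod.natCast_eq_zero_iff] at h'
    exact hp2 ((Nat.prime_dvd_prime_iff_eq hp.out Nat.prime_two).mp h')
  have hkneg : (k : ZMod p) = -1 := by
    rcases mul_eq_zero.mp hk2 with h | h
    · exfalso
      have hk1 : (k : ZMod p) = 1 := sub_eq_zero.mp h
      rw [hk1, one_mul] at h00
      have hb : γ 0 = 0 := by
        have : (2 : ZMod p) * γ 0 = 0 := by linear_combination h00
        exact (mul_eq_zero.mp this).resolve_left htwo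
      have : t = 1 := by
        apply Subtype.ext
        ext x
        obtain ⟨j, rfl⟩ := e.surjective x
        rw [hγ, hlin, hb, hk1]
        simp
      rw [this, orderOf_one] at ht
      omega
    · exact eq_neg_of_add_eq_zero_left h
  refine ⟨τ, τ ^ (-γ 0).val * t, e, he, fun i => ?_, ?_⟩
  · rw [Subgroup.coe_mul, Subgroup.coe_pow, Equiv.Perm.mul_apply, hγ, hepow, hlin, hkneg,
      ZMod.natCast_zmod_val]
    ring_nf
  · rw [orderOf_eq_iff two_pos]
    refine ⟨?_, ?_⟩
    · apply Subtype.ext
      ext x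
      obtain ⟨j, rfl⟩ := e.surjective x
      rw [pow_two, Subgroup.coe_mul, Subgroup.coe_mul, Subgroup.coe_pow, Equiv.Perm.mul_apply,
        Equiv.Perm.mul_apply, Equiv.Perm.mul_apply, hγ, hepow, hγ, hepow, hlin, hlin j, hkneg,
        ZMod.natCast_zmod_val]
      simp
    · intro m hm hm0 h1
      obtain rfl : m = 1 := by omega
      rw [pow_one] at h1
      have h2 := congrArg (fun g : G => (g : Equiv.Perm α) (e 1)) h1
      simp only [Subgroup.coe_mul, Subgroup.coe_pow, Equiv.Perm.mul_apply, hγ, hepow, hlin 1, hkneg,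
        ZMod.natCast_zmod_val, OneMemClass.coe_one, Equiv.Perm.one_apply] at h2
      have h3 := e.injective h2
      exact htwo (by linear_combination -h3)

/-- A non-solvable group of prime degree with even Sylow normalizer is triply transitive. -/
theorem three_transitive_of_even_normalizer (hα : Fintype.card α = p)
    (G : Subgroup (Equiv.Perm α)) [IsPretransitive G α] (hG : ¬ Group.IsSolvable G) (P : Sylow p G)
    (heven : Even (Nat.card (Subgroup.normalizer ((P : Subgroup G) : Set G)))) :
    IsMultiplyPretransitive G α 3 := by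
  have hp2 : p ≠ 2 := by
    intro h
    subst h
    obtain ⟨τ, e, he⟩ := exists_coord hα G
    exact hG (isSolvable_of_affine G e fun g => affine_small_two _
      (fun x y h => e.injective ((g : Equiv.Perm α).injective (e.symm.injective h))))
  obtain ⟨τ, t, e, he, ht, ht2⟩ := exists_negation hα hp2 G P heven
  have hfix : t ∈ stabilizer G (e 0) := (show (t : Equiv.Perm α) (e 0) = e 0 by rw [ht, neg_zero])
  haveI : Nonempty α := ⟨e 0⟩
  refine three_transitive_of_hom_pairs (K := ZMod p) (two_transitive_of_not_solvable hα G hG) ?_ ?_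
  · intro a
    have h1 := Subgroup.card_mul_index (stabilizer G a)
    rw [index_stabilizer_of_transitive, ← Subgroup.card_mul_index (stabilizer G (e 0)),
      index_stabilizer_of_transitive] at h1
    rw [Nat.eq_of_mul_eq_mul_right Nat.card_pos h1, even_iff_two_dvd, ← ht2,
      ← Subgroup.orderOf_mk (a := t) (ha := hfix)]
    exact orderOf_dvd_natCard _
  intro f hf
  set ι := ZMod.castHom (dvd_refl p) (ZMod p) with hι
  let v₀ : α → ZMod p := fun x => ι (e.symm x)
  have hv₀ : v₀ ∈ (Cfsg.permSumZero (ZMod p) G α).toSubmodule := by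
    rw [mem_permSumZero]
    refine (Fintype.sum_equiv e (fun j => ι j ^ 1) v₀ fun j => by simp [v₀]).symm.trans ?_
    rw [castHom_pow_sum, if_neg]
    rintro ⟨-, hd⟩
    have := Nat.le_of_dvd one_pos hd
    have := hp.out.two_le
    omega
  have h1 : (fun _ : α => (1 : ZMod p)) ∈ (Cfsg.permSumZero (ZMod p) G α).toSubmodule := by
    rw [mem_permSumZero]
    simp [hα]
  set v : (Cfsg.permSumZero (ZMod p) G α).toSubmodule := ⟨v₀, hv₀⟩ with hv
  set u := f v with hu
  have hτinv : ∀ j, (τ : Equiv.Perm α).symm (e j) = e (j - 1) := fun j => by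
    rw [Equiv.symm_apply_eq, he, sub_add_cancel]
  have hτv : (Cfsg.permSumZero (ZMod p) G α).toRepresentation τ v = v - ⟨_, h1⟩ := by
    apply Subtype.ext
    funext x
    obtain ⟨j, rfl⟩ := e.surjective x
    change Cfsg.permRep (ZMod p) G α τ v₀ (e j) = v₀ (e j) - 1
    rw [permRep_apply, show τ⁻¹ • e j = (τ : Equiv.Perm α).symm (e j) from rfl, hτinv]
    simp [v₀]
  have htv : (Cfsg.permSumZero (ZMod p) G α).toRepresentation t v = -v := by
    apply Subtype.ext
    funext x
    obtain ⟨j, rfl⟩ := e.surjective x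
    change Cfsg.permRep (ZMod p) G α t v₀ (e j) = -v₀ (e j)
    rw [permRep_apply, show t⁻¹ • e j = (t : Equiv.Perm α).symm (e j) from rfl,
      show (t : Equiv.Perm α).symm (e j) = e (-j) by rw [Equiv.symm_apply_eq, ht, neg_neg]]
    simp [v₀]
  have hτu : Cfsg.permRep (ZMod p) G _ τ u = u := by
    refine (Representation.IntertwiningMap.isIntertwining _ _ f τ v).symm.trans ?_
    rw [hτv, map_sub, hf ⟨_, h1⟩ (mem_permConstants.mpr ⟨1, rfl⟩), sub_zero]
  have htu : Cfsg.permRep (ZMod p) G _ t u = -u := by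
    refine (Representation.IntertwiningMap.isIntertwining _ _ f t v).symm.trans ?_
    rw [htv, map_neg]
  have hτn : ∀ (n : ℕ) q, u (τ ^ n • q) = u q := by
    intro n
    induction n with
    | zero => intro q; rw [pow_zero, one_smul]
    | succ n ih =>
      intro q
      rw [pow_succ', mul_smul]
      conv_lhs => rw [← hτu, permRep_apply, inv_smul_smul]
      exact ih q
  have hu0 : u = 0 := by
    funext q
    have hq1 : u (t • q) = -u q := by
      have := congrFun htu (t • q)
      rw [permRep_apply, inv_smul_smul, Pi.neg_apply] at this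
      rw [this, neg_neg]
    obtain ⟨a, b, hab, hq⟩ := Finset.card_eq_two.mp q.2
    obtain ⟨x, rfl⟩ := e.surjective a
    obtain ⟨y, rfl⟩ := e.surjective b
    have hepow : ∀ (n : ℕ) i, τ ^ n • e i = e (i + n) := by
      intro n
      induction n with
      | zero => intro i; simp
      | succ n ih =>
        intro i
        rw [pow_succ', mul_smul, ih, Nat.cast_succ, ← add_assoc]
        exact he _
    have hset : t • q = τ ^ (-(x + y)).val • q := by
      apply Subtype.ext
      refine Set.powersetCard.coe_smul.trans (Eq.trans ?_ Set.powersetCard.coe_smul.symm)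
      rw [hq]
      simp only [Finset.smul_finset_insert, Finset.smul_finset_singleton, hepow,
        ZMod.natCast_zmod_val]
      rw [show t • e x = e (-x) from ht x, show t • e y = e (-y) from ht y, Finset.pair_comm]
      ring_nf
    rw [hset, hτn] at hq1
    have : ((2 : ℕ) : ZMod p) * u q = 0 := by push_cast; linear_combination hq1
    refine (mul_eq_zero.mp this).resolve_left fun h => ?_
    rw [ZMod.natCast_eq_zero_iff] at h
    exact hp2 ((Nat.prime_dvd_prime_iff_eq hp.out Nat.prime_two).mp h)
  let W : Subrepresentation (Cfsg.permRep (ZMod p) G α) :=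
    { toSubmodule := (LinearMap.ker f.toLinearMap).map (Cfsg.permSumZero (ZMod p) G α).toSubmodule.subtype
      apply_mem_toSubmodule := by
        rintro g _ ⟨w, hw, rfl⟩
        refine ⟨(Cfsg.permSumZero (ZMod p) G α).toRepresentation g w, ?_, rfl⟩
        have hw' : f w = 0 := hw
        change f ((Cfsg.permSumZero (ZMod p) G α).toRepresentation g w) = 0
        rw [Representation.IntertwiningMap.isIntertwining, hw', map_zero] }
  have hW1 : (Cfsg.permConstants (ZMod p) G α).toSubmodule ≤ W.toSubmodule := by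
    intro w hw
    obtain ⟨c, rfl⟩ := mem_permConstants.mp hw
    have hc : (fun _ : α => c) ∈ (Cfsg.permSumZero (ZMod p) G α).toSubmodule := by
      rw [mem_permSumZero]
      simp [hα]
    exact ⟨⟨_, hc⟩, hf ⟨_, hc⟩ (mem_permConstants.mpr ⟨c, rfl⟩), rfl⟩
  have hW2 : W.toSubmodule ≤ (Cfsg.permSumZero (ZMod p) G α).toSubmodule := by
    rintro _ ⟨w, -, rfl⟩
    exact w.2
  have hv0W : v₀ ∈ W.toSubmodule := ⟨v, hu0, rfl⟩
  rcases heart_irreducible hα G hG W hW1 hW2 with h | h
  · exfalso
    rw [h] at hv0W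
    obtain ⟨c, hc⟩ := mem_permConstants.mp hv0W
    have h0 := congrFun hc (e 0)
    have h1' := congrFun hc (e 1)
    simp [v₀] at h0 h1'
    rw [← h0] at h1'
    simp at h1'
  · ext w : 2
    obtain ⟨w', hw', hww⟩ : (w : α → ZMod p) ∈ W.toSubmodule := by rw [h]; exact w.2
    rw [← Subtype.ext hww]
    exact hw'

end Cfsg.Agent.Lib.Perm
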