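import Cfsg.Agent.Lib.Perm.Basic
import Mathlib.GroupTheory.GroupAction.MultiplePrimitivity
import Mathlib.GroupTheory.PGroup
import Mathlib.GroupTheory.Perm.Cycle.Type

/-!
Regular normal subgroups of multiply primitive groups.
-/

open MulAction
open scoped Pointwise

namespace Cfsg.Agent.Lib.Perm

variable {G X : Type*} [Group G] [MulAction G X]

theorem eq_of_smul_eq_of_free {N : Subgroup G} (hreg : ∀ x : X, stabilizer N x = ⊥) {n m : G}
    (hn : n ∈ N) (hm : m ∈ N) {x : X} (h : n • x = m • x) : n = m := by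
  have h1 : (⟨m⁻¹ * n, N.mul_mem (N.inv_mem hm) hn⟩ : N) ∈ stabilizer N x := by
    rw [mem_stabilizer_iff]
    change (m⁻¹ * n) • x = x
    rw [mul_smul, h, inv_smul_smul]
  rw [hreg, Subgroup.mem_bot] at h1
  exact (inv_mul_eq_one.mp (congrArg Subtype.val h1)).symm

theorem conj_smul_of_fix {h n : G} {x : X} (hh : h • x = x) :
    h • n • x = (h * n * h⁻¹) • x := by
  rw [mul_smul, mul_smul, inv_smul_eq_iff.mpr hh.symm]

/-- Regular normal subgroups of doubly primitive groups have exponent 2 unless the degree is 3. -/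
theorem regular_normal_sq [Fintype X] (hX : 2 ≤ Fintype.card X)
    (h2 : IsMultiplyPreprimitive G X 2) (N : Subgroup G) [N.Normal]
    (hreg : ∀ x : X, stabilizer N x = ⊥) :
    Fintype.card X = 3 ∨ ∀ n ∈ N, n ^ 2 = 1 := by
  classical
  by_contra hcon
  rw [not_or] at hcon
  obtain ⟨h3, hcon⟩ := hcon
  push Not at hcon
  obtain ⟨n, hn, hn2⟩ := hcon
  haveI := h2.isMultiplyPretransitive
  haveI : IsPretransitive G X := by
    rw [← is_one_pretransitive_iff]
    exact isMultiplyPretransitive_of_le' (n := 2) one_le_two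
      (by rw [ENat.card_eq_coe_fintype_card]; exact_mod_cast hX)
  obtain ⟨x₀⟩ : Nonempty X := Fintype.card_pos_iff.mp (by omega)
  have hprim : IsPreprimitive (stabilizer G x₀) (SubMulAction.ofStabilizer G x₀) :=
    (is_one_preprimitive_iff _ _).mp
      ((isMultiplyPreprimitive_succ_iff_ofStabilizer G X (le_refl 1) (a := x₀)).mp h2)
  have hn1 : n ≠ 1 := fun e => hn2 (by rw [e, one_pow])
  have hne : ∀ m ∈ N, m ≠ 1 → m • x₀ ≠ x₀ := fun m hm hm1 h =>
    hm1 (eq_of_smul_eq_of_free hreg hm N.one_mem (h.trans (one_smul G x₀).symm))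
  let a : SubMulAction.ofStabilizer G x₀ :=
    ⟨n • x₀, hne n hn hn1⟩
  let b : SubMulAction.ofStabilizer G x₀ :=
    ⟨n⁻¹ • x₀, hne _ (N.inv_mem hn) (inv_ne_one.mpr hn1)⟩
  have hB : IsBlock (stabilizer G x₀) ({a, b} : Set (SubMulAction.ofStabilizer G x₀)) := by
    rw [isBlock_iff_smul_eq_of_nonempty]
    rintro ⟨h, hh⟩ ⟨z, hz, hz'⟩
    rw [mem_stabilizer_iff] at hh
    set m := h * n * h⁻¹ with hmdef
    have hm : m ∈ N := Subgroup.Normal.conj_mem ‹_› n hn h
    have ha : ((⟨h, hh⟩ : stabilizer G x₀) • a : SubMulAction.ofStabilizer G x₀).1 = m • x₀ :=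
      conj_smul_of_fix hh
    have hb : ((⟨h, hh⟩ : stabilizer G x₀) • b : SubMulAction.ofStabilizer G x₀).1 = m⁻¹ • x₀ := by
      rw [show m⁻¹ = h * n⁻¹ * h⁻¹ by rw [hmdef]; group]
      exact conj_smul_of_fix hh
    have hmn : m = n ∨ m = n⁻¹ := by
      obtain ⟨w, hw, rfl⟩ := hz
      simp only [Set.mem_insert_iff, Set.mem_singleton_iff] at hw hz'
      rcases hw with hw | hw <;> rcases hz' with hz' | hz' <;> subst hw <;>
        have h4 := congrArg Subtype.val hz'
      · exact Or.inl (eq_of_smul_eq_of_free hreg hm hn (ha.symm.trans h4))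
      · exact Or.inr (eq_of_smul_eq_of_free hreg hm (N.inv_mem hn) (ha.symm.trans h4))
      · exact Or.inr (inv_eq_iff_eq_inv.mp
          (eq_of_smul_eq_of_free hreg (N.inv_mem hm) hn (hb.symm.trans h4)))
      · exact Or.inl (inv_injective
          (eq_of_smul_eq_of_free hreg (N.inv_mem hm) (N.inv_mem hn) (hb.symm.trans h4)))
    rw [Set.smul_set_insert, Set.smul_set_singleton]
    rcases hmn with e | e
    · rw [show (⟨h, hh⟩ : stabilizer G x₀) • a = a from Subtype.ext (by rw [ha, e]),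
        show (⟨h, hh⟩ : stabilizer G x₀) • b = b from Subtype.ext (by rw [hb, e])]
    · rw [show (⟨h, hh⟩ : stabilizer G x₀) • a = b from Subtype.ext (by rw [ha, e]),
        show (⟨h, hh⟩ : stabilizer G x₀) • b = a from Subtype.ext (by rw [hb, e, inv_inv]),
        Set.pair_comm]
  have hab : a ≠ b := by
    intro h
    have h4 := eq_of_smul_eq_of_free hreg hn (N.inv_mem hn) (congrArg Subtype.val h)
    apply hn2
    rw [pow_two]
    nth_rewrite 1 [h4]
    exact inv_mul_cancel n
  rcases hprim.isTrivialBlock_of_isBlock hB with h | h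
  · exact hab (h (by simp) (by simp))
  · apply h3
    have h5 := SubMulAction.nat_card_ofStabilizer_add_one_eq G x₀
    rw [← Set.ncard_univ, ← h, Set.ncard_pair hab, Nat.card_eq_fintype_card] at h5
    omega

theorem regular_normal_two_primitive [Fintype X] (hX : 2 ≤ Fintype.card X)
    (h2 : IsMultiplyPreprimitive G X 2) (N : Subgroup G) [N.Normal] (htrans : IsPretransitive N X)
    (hreg : ∀ x : X, stabilizer N x = ⊥) :
    Fintype.card X = 3 ∨ (IsMulCommutative N ∧ (∀ n ∈ N, n ^ 2 = 1) ∧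
      ∃ m : ℕ, Fintype.card X = 2 ^ m) := by
  classical
  rcases regular_normal_sq hX h2 N hreg with h | h
  · exact Or.inl h
  obtain ⟨x₀⟩ : Nonempty X := Fintype.card_pos_iff.mp (by omega)
  have hbij : Function.Bijective fun n : N => n • x₀ :=
    ⟨fun n m hnm => Subtype.ext (eq_of_smul_eq_of_free hreg n.2 m.2 hnm),
      fun y => exists_smul_eq N x₀ y⟩
  haveI : Finite N := Finite.of_injective _ hbij.1
  refine Or.inr ⟨⟨⟨fun u v => ?_⟩⟩, h, ?_⟩
  · have hinv : ∀ w : N, w⁻¹ = w := fun w => by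
      apply inv_eq_of_mul_eq_one_right
      exact Subtype.ext (by rw [Subgroup.coe_mul, ← pow_two, h _ w.2, Subgroup.coe_one])
    calc u * v = (u * v)⁻¹ := (hinv _).symm
      _ = v * u := by rw [mul_inv_rev, hinv, hinv]
  · haveI := Fact.mk Nat.prime_two
    obtain ⟨m, hm⟩ := (IsPGroup.iff_card (p := 2) (G := N)).mp fun u =>
      ⟨1, Subtype.ext (by rw [pow_one, SubgroupClass.coe_pow, h _ u.2, Subgroup.coe_one])⟩
    exact ⟨m, by rw [← Nat.card_eq_fintype_card, ← Nat.card_congr (Equiv.ofBijective _ hbij), hm]⟩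

theorem regular_normal_three_primitive [Fintype X] (hX : 3 ≤ Fintype.card X)
    (h3 : IsMultiplyPreprimitive G X 3) (N : Subgroup G) [N.Normal] (htrans : IsPretransitive N X)
    (hreg : ∀ x : X, stabilizer N x = ⊥) :
    Fintype.card X = 3 ∨ Fintype.card X = 4 := by
  classical
  have hE : ((3 : ℕ) : ℕ∞) ≤ ENat.card X := by
    rw [ENat.card_eq_coe_fintype_card]; exact_mod_cast hX
  have h2 : IsMultiplyPreprimitive G X 2 := isMultiplyPreprimitive_of_le G X h3 (by omega) hE
  rcases regular_normal_sq (by omega) h2 N hreg with h | hsq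
  · exact Or.inl h
  by_contra hcon
  rw [not_or] at hcon
  obtain ⟨hc3, hc4⟩ := hcon
  haveI := h3.isMultiplyPretransitive
  haveI : IsPretransitive G X := by
    rw [← is_one_pretransitive_iff]
    exact isMultiplyPretransitive_of_le' (n := 3) (by omega) hE
  obtain ⟨x₀⟩ : Nonempty X := Fintype.card_pos_iff.mp (by omega)
  have hne : ∀ m ∈ N, m ≠ 1 → m • x₀ ≠ x₀ := fun m hm hm1 h =>
    hm1 (eq_of_smul_eq_of_free hreg hm N.one_mem (h.trans (one_smul G x₀).symm))
  have hex : ∀ x : X, ∃ m ∈ N, m • x₀ = x := fun x => by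
    obtain ⟨m, hm⟩ := exists_smul_eq N x₀ x
    exact ⟨m, m.2, hm⟩
  obtain ⟨x₁, x₂, x₃, h01, h02, -⟩ : ∃ x₁ x₂ : X, ∃ _ : X, x₁ ≠ x₀ ∧ x₂ ≠ x₀ ∧ x₁ ≠ x₂ ∧ True := by
    obtain ⟨u, hu, v, hv, huv⟩ := Finset.one_lt_card.mp
      (show 1 < (Finset.univ.erase x₀).card by
        rw [Finset.card_erase_of_mem (Finset.mem_univ _), Finset.card_univ]; omega)
    exact ⟨u, v, u, (Finset.mem_erase.mp hu).1, (Finset.mem_erase.mp hv).1, huv, trivial⟩
  obtain ⟨n₁, hn₁, rfl⟩ := hex x₁
  let x₁' : SubMulAction.ofStabilizer G x₀ := ⟨n₁ • x₀, h01⟩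
  have hS := (isMultiplyPreprimitive_succ_iff_ofStabilizer G X (n := 2) (by omega) (a := x₀)).mp h3
  haveI : IsPretransitive (stabilizer G x₀) (SubMulAction.ofStabilizer G x₀) := by
    haveI := hS.isMultiplyPretransitive
    rw [← is_one_pretransitive_iff]
    refine isMultiplyPretransitive_of_le' (n := 2) (by omega) ?_
    have h5 := SubMulAction.nat_card_ofStabilizer_add_one_eq G x₀
    rw [Nat.card_eq_fintype_card (α := X), Nat.card_eq_fintype_card] at h5
    rw [ENat.card_eq_coe_fintype_card]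
    exact_mod_cast (by omega : 2 ≤ Fintype.card (SubMulAction.ofStabilizer G x₀))
  have hprim := (is_one_preprimitive_iff _ _).mp
      ((isMultiplyPreprimitive_succ_iff_ofStabilizer (stabilizer G x₀)
        (SubMulAction.ofStabilizer G x₀) (le_refl 1) (a := x₁')).mp hS)
  -- a third point
  obtain ⟨x, hx⟩ : ∃ x : X, x ∉ ({x₀, n₁ • x₀} : Finset X) := by
    by_contra hh
    push Not at hh
    have := Finset.card_le_card (fun x _ => hh x : (Finset.univ : Finset X) ⊆ {x₀, n₁ • x₀})
    rw [Finset.card_univ, Finset.card_pair h01.symm] at this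
    omega
  simp only [Finset.mem_insert, Finset.mem_singleton, not_or] at hx
  obtain ⟨n, hn, rfl⟩ := hex x
  have hn₁1 : n₁ ≠ 1 := fun e => h01 (by rw [e, one_smul])
  have hnn₁ : n ≠ n₁ := fun e => hx.2 (by rw [e])
  have hn1 : n ≠ 1 := fun e => hx.1 (by rw [e, one_smul])
  have hinv : ∀ m ∈ N, m⁻¹ = m := fun m hm => inv_eq_of_mul_eq_one_right (by rw [← pow_two, hsq m hm])
  have hprod : n₁ * n ≠ 1 := fun e => hnn₁ ((inv_eq_of_mul_eq_one_right e).symm.trans (hinv n₁ hn₁))
  have hprod' : n₁ * n ≠ n₁ := fun e => hn1 (mul_eq_left.mp e)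
  let a : SubMulAction.ofStabilizer (stabilizer G x₀) x₁' :=
    ⟨⟨n • x₀, hne n hn hn1⟩, fun e => hnn₁ (eq_of_smul_eq_of_free hreg hn hn₁
      (congrArg Subtype.val e))⟩
  let b : SubMulAction.ofStabilizer (stabilizer G x₀) x₁' :=
    ⟨⟨(n₁ * n) • x₀, hne _ (N.mul_mem hn₁ hn) hprod⟩, fun e =>
      hprod' (eq_of_smul_eq_of_free hreg (N.mul_mem hn₁ hn) hn₁ (congrArg Subtype.val e))⟩
  have hB : IsBlock (stabilizer (stabilizer G x₀) x₁')
      ({a, b} : Set (SubMulAction.ofStabilizer (stabilizer G x₀) x₁')) := by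
    rw [isBlock_iff_smul_eq_of_nonempty]
    rintro ⟨⟨h, hh⟩, hh1⟩ ⟨z, hz, hz'⟩
    rw [mem_stabilizer_iff] at hh
    have hfix : h * n₁ * h⁻¹ = n₁ :=
      eq_of_smul_eq_of_free hreg (Subgroup.Normal.conj_mem ‹_› _ hn₁ h) hn₁
        ((conj_smul_of_fix hh).symm.trans (congrArg Subtype.val (mem_stabilizer_iff.mp hh1)))
    set m := h * n * h⁻¹ with hmdef
    have hm : m ∈ N := Subgroup.Normal.conj_mem ‹_› n hn h
    set k : stabilizer (stabilizer G x₀) x₁' := ⟨⟨h, hh⟩, hh1⟩
    have ha : (k • a : SubMulAction.ofStabilizer (stabilizer G x₀) x₁').1.1 = m • x₀ :=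
      conj_smul_of_fix hh
    have hb : (k • b : SubMulAction.ofStabilizer (stabilizer G x₀) x₁').1.1 = (n₁ * m) • x₀ := by
      rw [show n₁ * m = h * (n₁ * n) * h⁻¹ by
        conv_lhs => rw [← hfix]
        rw [hmdef]; group]
      exact conj_smul_of_fix hh
    have hcancel : n₁ * (n₁ * n) = n := by rw [← mul_assoc, ← pow_two, hsq n₁ hn₁, one_mul]
    have hmn : m = n ∨ m = n₁ * n := by
      obtain ⟨w, hw, rfl⟩ := hz
      simp only [Set.mem_insert_iff, Set.mem_singleton_iff] at hw hz'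
      rcases hw with hw | hw <;> rcases hz' with hz' | hz' <;> subst hw <;>
        have h4 := congrArg (fun z : SubMulAction.ofStabilizer (stabilizer G x₀) x₁' => z.1.1) hz'
      · exact Or.inl (eq_of_smul_eq_of_free hreg hm hn (ha.symm.trans h4))
      · exact Or.inr (eq_of_smul_eq_of_free hreg hm (N.mul_mem hn₁ hn) (ha.symm.trans h4))
      · have := eq_of_smul_eq_of_free hreg (N.mul_mem hn₁ hm) hn (hb.symm.trans h4)
        right
        rw [← this, ← mul_assoc, ← pow_two, hsq n₁ hn₁, one_mul]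
      · exact Or.inl (mul_left_cancel
          (eq_of_smul_eq_of_free hreg (N.mul_mem hn₁ hm) (N.mul_mem hn₁ hn) (hb.symm.trans h4)))
    rw [Set.smul_set_insert, Set.smul_set_singleton]
    rcases hmn with e | e
    · rw [show k • a = a from Subtype.ext (Subtype.ext (by rw [ha, e])),
        show k • b = b from Subtype.ext (Subtype.ext (by rw [hb, e]))]
    · rw [show k • a = b from Subtype.ext (Subtype.ext (by rw [ha, e])),
        show k • b = a from Subtype.ext (Subtype.ext (by rw [hb, e, hcancel])),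
        Set.pair_comm]
  have hab : a ≠ b := fun h => hn₁1 (by
    have h4 := eq_of_smul_eq_of_free hreg hn (N.mul_mem hn₁ hn)
      (congrArg (fun z : SubMulAction.ofStabilizer (stabilizer G x₀) x₁' => z.1.1) h)
    exact (mul_eq_right.mp h4.symm))
  rcases hprim.isTrivialBlock_of_isBlock hB with h | h
  · exact hab (h (by simp) (by simp))
  · apply hc4
    have h5 := SubMulAction.nat_card_ofStabilizer_add_one_eq G x₀
    have h6 := SubMulAction.nat_card_ofStabilizer_add_one_eq (stabilizer G x₀) x₁'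
    rw [← Set.ncard_univ (SubMulAction.ofStabilizer (stabilizer G x₀) x₁'), ← h,
      Set.ncard_pair hab] at h6
    rw [← h6, Nat.card_eq_fintype_card] at h5
    omega

end Cfsg.Agent.Lib.Perm
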