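import Mathlib

/-!
# Schur's theorem on primitive groups with a regular abelian subgroup

A primitive group containing a regular abelian subgroup `C` of order `n ≥ p ^ 2`, whose elements of
order dividing the prime `p` form a subgroup of order exactly `p`, is doubly transitive.
-/

set_option autoImplicit false

namespace Cfsg.Agent.Lib.Perm.SchurB

open MulAction
open scoped Pointwise

variable {G Ω : Type*} [Group G] [MulAction G Ω] {C : Type*} [CommGroup C] [Finite C]
  (e : C ≃ Ω) (t : C →* G)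

/-- The permutation induced on the regular subgroup. -/
def perm (g : G) : C ≃ C := e.trans ((MulAction.toPerm g).trans e.symm)

theorem perm_mul (g h : G) (x : C) : perm e (g * h) x = perm e g (perm e h x) := by
  simp [perm, mul_smul]

/-- An invariant subset. -/
def Inv {R : Type*} (a : Ω) (f : C → R) : Prop :=
  ∀ g ∈ stabilizer G a, ∀ x, f (perm e g x) = f x

variable (a : Ω) (he : ∀ c, e c = t c • a)

include he

theorem perm_t (c x : C) : perm e (t c) x = c * x := by
  apply e.injective
  show e (e.symm (t c • e x)) = e (c * x)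
  rw [e.apply_symm_apply, he, he, map_mul, mul_smul]

theorem perm_one_of_stab {g : G} (hg : g ∈ stabilizer G a) : perm e g 1 = 1 := by
  apply e.injective
  have : e 1 = a := by rw [he, map_one, one_smul]
  simp [perm, this, mem_stabilizer_iff.mp hg]

/-- Differences stay inside the orbit. -/
theorem diff (g : G) (u v : C) :
    ∃ h ∈ stabilizer G a, perm e h (u⁻¹ * v) = (perm e g u)⁻¹ * perm e g v := by
  refine ⟨t ((perm e g u)⁻¹) * g * t u, ?_, ?_⟩
  · rw [mem_stabilizer_iff, mul_smul, mul_smul, ← he u]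
    have h1 : g • e u = e (perm e g u) := by simp [perm]
    rw [h1, he, ← mul_smul, ← map_mul, inv_mul_cancel, map_one, one_smul]
  · rw [perm_mul, perm_mul, perm_t e t a he, perm_t e t a he, mul_inv_cancel_left]

theorem diff_inv {R : Type*} {f : C → R} (hf : Inv (G := G) e a f) (g : G) (u v : C) :
    f ((perm e g u)⁻¹ * perm e g v) = f (u⁻¹ * v) := by
  obtain ⟨h, hh, e1⟩ := diff e t a he g u v
  rw [← e1, hf h hh]

theorem inv_pow {p : ℕ} [Fintype C] [DecidableEq C] (F : MonoidAlgebra (ZMod p) C)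
    (hF : Inv (G := G) e a (fun x => F.coeff x)) (k : ℕ) :
    Inv (G := G) e a (fun x => (F ^ k).coeff x) := by
  classical
  induction k with
  | zero =>
    intro g hg x
    simp only [pow_zero, MonoidAlgebra.one_def, MonoidAlgebra.coeff_single, Finsupp.single_apply]
    refine if_congr ⟨fun h => ?_, fun h => ?_⟩ rfl rfl
    · exact (perm e g).injective ((perm_one_of_stab e t a he hg).trans h)
    · rw [← h, perm_one_of_stab e t a he hg]
  | succ k ih =>
    intro g hg x
    simp only [pow_succ]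
    rw [MonoidAlgebra.coeff_mul_apply_left, MonoidAlgebra.coeff_mul_apply_left,
      Finsupp.sum_fintype _ _ (by simp), Finsupp.sum_fintype _ _ (by simp)]
    refine (Fintype.sum_equiv (perm e g) _ _ fun y => ?_).symm
    rw [show (F ^ k).coeff (perm e g y) = (F ^ k).coeff y from ih g hg y,
      show F.coeff ((perm e g y)⁻¹ * perm e g x) = F.coeff (y⁻¹ * x) from diff_inv e t a he hF g y x]

/-- The number of representations `y * x ∈ T`, `y ∈ T`. -/
noncomputable def count (T : Set C) (x : C) : ℕ := Nat.card {y : C // y ∈ T ∧ y * x ∈ T}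

theorem count_inv (T : Set C) (hT : Inv (G := G) e a (· ∈ T)) : Inv (G := G) e a (count T) := by
  intro g hg x
  have hrw : ∀ z : C, count T z = Nat.card {w : C // z⁻¹ * w ∈ T ∧ w ∈ T} := fun z =>
    Nat.card_congr ((Equiv.mulRight z).subtypeEquiv fun y => by
      simp [mul_comm y z])
  rw [hrw, hrw]
  refine (Nat.card_congr ((perm e g).subtypeEquiv fun w => ?_)).symm
  rw [show ((perm e g x)⁻¹ * perm e g w ∈ T) = (x⁻¹ * w ∈ T) from diff_inv e t a he hT g x w,
    show (perm e g w ∈ T) = (w ∈ T) from hT g hg w]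

theorem eq_bot_or_top [hprim : IsPreprimitive G Ω] (S : Set C) (hS : Inv (G := G) e a (· ∈ S)) :
    Subgroup.closure S = ⊥ ∨ Subgroup.closure S = ⊤ := by
  set K := Subgroup.closure S with hK
  have key : ∀ k ∈ K, ∀ (g : G) (u : C), (perm e g u)⁻¹ * perm e g (u * k) ∈ K := by
    intro k hk
    induction hk using Subgroup.closure_induction with
    | mem s hs =>
      intro g u
      refine Subgroup.subset_closure ?_
      rw [show ((perm e g u)⁻¹ * perm e g (u * s) ∈ S) = (u⁻¹ * (u * s) ∈ S) from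
        diff_inv e t a he hS g u (u * s), inv_mul_cancel_left]
      exact hs
    | one => intro g u; rw [mul_one, inv_mul_cancel]; exact one_mem _
    | mul x y _ _ ihx ihy =>
      intro g u
      have := mul_mem (ihx g u) (ihy g (u * x))
      simpa [mul_assoc] using this
    | inv x _ ih =>
      intro g u
      have := inv_mem (ih g (u * x⁻¹))
      simpa using this
  set B : Set Ω := e '' (K : Set C) with hB
  have hblock : IsBlock G B := by
    rw [isBlock_iff_smul_eq_of_mem]
    intro g b hb hgb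
    obtain ⟨k, hk, rfl⟩ := hb
    obtain ⟨k', hk', e'⟩ := hgb
    have hg : perm e g k = k' := by
      apply e.injective; simp [perm, e']
    apply Set.Subset.antisymm
    · rintro _ ⟨_, ⟨j, hj, rfl⟩, rfl⟩
      refine ⟨perm e g j, ?_, by simp [perm]⟩
      have h := key (k⁻¹ * j) (mul_mem (inv_mem hk) hj) g k
      rw [mul_inv_cancel_left, hg] at h
      simpa using mul_mem hk' h
    · rintro _ ⟨j, hj, rfl⟩
      refine ⟨g⁻¹ • e j, ?_, smul_inv_smul g _⟩
      refine ⟨perm e g⁻¹ j, ?_, by simp [perm]⟩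
      have h1 : perm e g⁻¹ k' = k := by apply e.injective; simp [perm, e']
      have h := key (k'⁻¹ * j) (mul_mem (inv_mem hk') hj) g⁻¹ k'
      rw [mul_inv_cancel_left, h1] at h
      simpa using mul_mem hk h
  rcases hprim.isTrivialBlock_of_isBlock hblock with h | h
  · left
    rw [eq_bot_iff]
    intro x hx
    exact Subgroup.mem_bot.mpr (e.injective (h ⟨x, hx, rfl⟩ ⟨1, one_mem K, rfl⟩))
  · right
    rw [eq_top_iff]
    intro x _
    obtain ⟨y, hy, hyx⟩ := h.ge (Set.mem_univ (e x))
    exact e.injective hyx ▸ hy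

theorem subset_one [IsPreprimitive G Ω] (S : Set C) (hS : Inv (G := G) e a (· ∈ S)) {H : Subgroup C}
    (hH : H ≠ ⊤) (hSH : S ⊆ H) : S ⊆ {1} := by
  rcases eq_bot_or_top e t a he S hS with h | h
  · intro x hx
    exact Subgroup.mem_bot.mp (h ▸ Subgroup.subset_closure hx)
  · exact absurd (top_le_iff.mp (h ▸ (Subgroup.closure_le H).mpr hSH)) hH

variable {p : ℕ} [hp : Fact p.Prime]

theorem coset_subset [IsPreprimitive G Ω] (hP : Nat.card {x : C // x ^ p = 1} = p)
    (T : Set C) (hT : Inv (G := G) e a (· ∈ T)) {y x : C} (hy : y ∈ T) (hyp : y ^ p ≠ 1) (hx : x ^ p = 1) :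
    y * x ∈ T := by
  classical
  have := Fintype.ofFinite C
  by_contra hyx
  set F : MonoidAlgebra (ZMod p) C := ∑ w ∈ T.toFinite.toFinset, MonoidAlgebra.single w 1 with hF
  have hFc : ∀ z, F.coeff z = if z ∈ T then 1 else 0 := fun z => by
    rw [hF, MonoidAlgebra.coeff_sum, Finsupp.finsetSum_apply]
    simp [MonoidAlgebra.coeff_single, Finsupp.single_apply]
  haveI : CharP (MonoidAlgebra (ZMod p) C) p :=
    charP_of_injective_algebraMap (algebraMap (ZMod p) (MonoidAlgebra (ZMod p) C)).injective p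
  have hFp : ∀ z, (F ^ p).coeff z = (Nat.card {w : C // w ∈ T ∧ w ^ p = z} : ZMod p) := fun z => by
    rw [hF, sum_pow_char, MonoidAlgebra.coeff_sum, Finsupp.finsetSum_apply]
    simp only [MonoidAlgebra.single_pow, one_pow, MonoidAlgebra.coeff_single, Finsupp.single_apply]
    rw [Finset.sum_boole]
    congr 1
    rw [Nat.card_eq_fintype_card, Fintype.card_subtype]
    refine congrArg Finset.card (Finset.ext fun w => ?_)
    simp
  set S : Set C := {z | (F ^ p).coeff z ≠ 0} with hS
  have hSinv : Inv (G := G) e a (· ∈ S) := fun g hg z => by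
    have := inv_pow e t a he F (fun g hg w => by
      simp only [hFc]
      exact if_congr (Iff.of_eq (hT g hg w)) rfl rfl) p g hg z
    simp only [hS, Set.mem_ofPred_eq]
    exact congrArg (· ≠ 0) this
  have hH : (powMonoidHom p : C →* C).range ≠ ⊤ := by
    intro htop
    have hsurj : Function.Surjective (powMonoidHom p : C →* C) := MonoidHom.range_eq_top.mp htop
    have hinj := Finite.injective_iff_surjective.mpr hsurj
    have : Nat.card {x : C // x ^ p = 1} ≤ 1 := Finite.card_le_one_iff_subsingleton.mpr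
      ⟨fun u v => Subtype.ext (hinj (u.2.trans v.2.symm))⟩
    rw [hP] at this
    exact absurd this (not_le.mpr hp.out.one_lt)
  have hsub : S ⊆ ((powMonoidHom p : C →* C).range : Set C) := by
    intro z hz
    have : Nat.card {w : C // w ∈ T ∧ w ^ p = z} ≠ 0 := fun h => hz (by rw [hFp, h, Nat.cast_zero])
    obtain ⟨⟨w, -, hw⟩⟩ := (Nat.card_ne_zero.mp this).1
    exact ⟨w, hw⟩
  have hzS : y ^ p ∈ S := by
    show (F ^ p).coeff (y ^ p) ≠ 0
    rw [hFp, Ne, ZMod.natCast_eq_zero_iff]
    have hlt : Nat.card {w : C // w ∈ T ∧ w ^ p = y ^ p} < p := by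
      conv_rhs => rw [← hP]
      let f : {w : C // w ∈ T ∧ w ^ p = y ^ p} → {x : C // x ^ p = 1} := fun w =>
        ⟨y⁻¹ * w, by rw [mul_pow, _root_.inv_pow, w.2.2, inv_mul_cancel]⟩
      have hfi : Function.Injective f := fun u v h =>
        Subtype.ext (mul_left_cancel (congrArg Subtype.val h))
      refine lt_of_le_of_ne (Nat.card_le_card_of_injective f hfi) fun hc => hyx ?_
      obtain ⟨w, hw⟩ := ((Nat.bijective_iff_injective_and_card f).mpr ⟨hfi, hc⟩).2 ⟨x, hx⟩
      have hw' : y⁻¹ * (w : C) = x := congrArg Subtype.val hw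
      rw [← hw', mul_inv_cancel_left]
      exact w.2.1
    have hpos : 0 < Nat.card {w : C // w ∈ T ∧ w ^ p = y ^ p} :=
      Nat.card_pos_iff.mpr ⟨⟨⟨y, hy, rfl⟩⟩, inferInstance⟩
    exact fun hd => absurd (Nat.le_of_dvd hpos hd) (not_le.mpr hlt)
  exact hyp (subset_one e t a he S hSinv hH hsub hzS)

/-- Facts about a proper invariant set: it meets the `p`-torsion, is not inside it, and the counting
inequality. -/
theorem set_bound [IsPreprimitive G Ω] (hP : Nat.card {x : C // x ^ p = 1} = p) (hn : p ^ 2 ≤ Nat.card C)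
    (T : Set C) (hT : Inv (G := G) e a (· ∈ T)) (hne : T.Nonempty) (h1 : (1 : C) ∉ T)
    (hmeet : ∀ x : C, x ≠ 1 → ∃ g ∈ stabilizer G a, perm e g x ^ p = 1) :
    p + 1 ≤ Nat.card T ∧
      Nat.card T + (Nat.card C - 1) * (Nat.card T - Nat.card {x : C // x ∈ T ∧ x ^ p = 1}) ≤
        Nat.card T * Nat.card T := by
  classical
  have := Fintype.ofFinite C
  set P : Subgroup C := (powMonoidHom p : C →* C).ker with hPdef
  have hPc : Nat.card P = p := (Nat.card_congr (Equiv.refl _)).trans hP
  have hPtop : P ≠ ⊤ := fun h => by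
    rw [h, Subgroup.card_top] at hPc
    rw [hPc] at hn
    nlinarith [hp.out.two_le]
  constructor
  · obtain ⟨y, hy, hyP⟩ : ∃ y ∈ T, y ^ p ≠ 1 := by
      by_contra h
      push Not at h
      obtain ⟨y, hy⟩ := hne
      exact h1 (subset_one e t a he T hT hPtop (fun x hx => MonoidHom.mem_ker.mpr (h x hx)) hy ▸ hy)
    obtain ⟨g, hg, hgp⟩ := hmeet y (fun h => h1 (h ▸ hy))
    have hz : perm e g y ∈ T := cast (hT g hg y).symm hy
    let f : Option {x : C // x ^ p = 1} → T := fun o =>
      o.elim ⟨perm e g y, hz⟩ fun x => ⟨y * x, coset_subset e t a he hP T hT hy hyP x.2⟩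
    have hf : Function.Injective f := by
      have hne : ∀ x : {x : C // x ^ p = 1}, y * (x : C) ≠ perm e g y := fun x h => hyP (by
        have := congrArg (· ^ p) h
        simp only [mul_pow, x.2, mul_one, hgp] at this
        exact this)
      rintro (_ | u) (_ | v) h
      · rfl
      · exact absurd (congrArg Subtype.val h).symm (hne v)
      · exact absurd (congrArg Subtype.val h) (hne u)
      · exact congrArg some (Subtype.ext (mul_left_cancel (congrArg Subtype.val h)))
    have := Nat.card_le_card_of_injective f hf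
    rwa [Finite.card_option, hP] at this
  · set s := Nat.card {x : C // x ∈ T ∧ x ^ p = 1}
    have hlow : ∀ x : C, x ≠ 1 → Nat.card T - s ≤ count T x := by
      intro x hx
      obtain ⟨g, hg, hgp⟩ := hmeet x hx
      rw [← count_inv e t a he T hT g hg x]
      set z := perm e g x
      let f : {y : T // (y : C) ^ p ≠ 1} → {y : C // y ∈ T ∧ y * z ∈ T} := fun y =>
        ⟨y.1, y.1.2, coset_subset e t a he hP T hT y.1.2 y.2 hgp⟩
      have hf : Function.Injective f := fun u v h =>
        Subtype.ext (Subtype.ext (congrArg (fun w : {y : C // y ∈ T ∧ y * z ∈ T} => (w : C)) h))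
      refine le_trans ?_ (Nat.card_le_card_of_injective f hf)
      have e2 : Nat.card {y : T // (y : C) ^ p = 1} = s :=
        Nat.card_congr (Equiv.subtypeSubtypeEquivSubtypeInter (fun y : C => y ∈ T) (fun y => y ^ p = 1))
      have e3 : Nat.card {y : T // (y : C) ^ p = 1} + Nat.card {y : T // (y : C) ^ p ≠ 1} = Nat.card T := by
        rw [← Nat.card_sum]
        exact Nat.card_congr (Equiv.sumCompl _)
      omega
    have htot : ∑ x : C, count T x = Nat.card T * Nat.card T := by
      unfold count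
      rw [← Nat.card_sigma, ← Nat.card_prod]
      exact Nat.card_congr
        { toFun := fun w => (⟨w.2.1, w.2.2.1⟩, ⟨w.2.1 * w.1, w.2.2.2⟩)
          invFun := fun w => ⟨(w.1 : C)⁻¹ * w.2, w.1.1, w.1.2, by simp [w.2.2]⟩
          left_inv := fun ⟨x, y, h1, h2⟩ => by
            refine Sigma.subtype_ext ?_ rfl
            simp
          right_inv := fun w => by
            refine Prod.ext rfl (Subtype.ext ?_)
            simp }
    have h0 : count T 1 = Nat.card T := by
      unfold count
      exact Nat.card_congr (Equiv.subtypeEquivRight (fun y => by simp))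
    rw [← htot, ← Finset.add_sum_erase _ _ (Finset.mem_univ (1 : C)), h0]
    refine Nat.add_le_add_left ?_ _
    have := Finset.card_nsmul_le_sum (Finset.univ.erase (1 : C)) (count T) (Nat.card T - s)
      (fun x hx => hlow x (Finset.ne_of_mem_erase hx))
    rw [Finset.card_erase_of_mem (Finset.mem_univ _), Finset.card_univ, smul_eq_mul,
      ← Nat.card_eq_fintype_card] at this
    exact this

/-- Schur: the point stabilizer is transitive on the remaining points. -/
theorem orbit_all [IsPreprimitive G Ω] (hP : Nat.card {x : C // x ^ p = 1} = p) (hn : p ^ 2 ≤ Nat.card C)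
    {x y : C} (hx : x ≠ 1) (hy : y ≠ 1) : ∃ g ∈ stabilizer G a, perm e g x = y := by
  classical
  set T : Set C := {z | ∃ g ∈ stabilizer G a, perm e g x = z} with hTdef
  have hone : ∀ g ∈ stabilizer G a, ∀ w, perm e g w = 1 → w = 1 := fun g hg w h =>
    (perm e g).injective (h.trans (perm_one_of_stab e t a he hg).symm)
  have horb : ∀ (z : C), Inv (G := G) e a (· ∈ {w | ∃ g ∈ stabilizer G a, perm e g z = w}) := by
    intro z g hg w
    refine propext ⟨?_, ?_⟩
    · rintro ⟨h, hh, e1⟩
      exact ⟨g⁻¹ * h, mul_mem (inv_mem hg) hh, by rw [perm_mul, e1, ← perm_mul, inv_mul_cancel]; simp [perm]⟩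
    · rintro ⟨h, hh, e1⟩
      exact ⟨g * h, mul_mem hg hh, by rw [perm_mul, e1]⟩
  set P : Subgroup C := (powMonoidHom p : C →* C).ker with hPdef
  have hPc : Nat.card P = p := (Nat.card_congr (Equiv.refl _)).trans hP
  -- every orbit meets the `p`-torsion
  have hmeet : ∀ z : C, z ≠ 1 → ∃ g ∈ stabilizer G a, perm e g z ^ p = 1 := by
    intro z hz
    by_contra hno
    push Not at hno
    set U : Set C := {w | ∃ g ∈ stabilizer G a, perm e g z = w} with hU
    have hzU : z ∈ U := ⟨1, one_mem _, by simp [perm]⟩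
    have h1U : (1 : C) ∉ U := fun ⟨g, hg, e1⟩ => hz (hone g hg z e1)
    let L : Subgroup C :=
      { carrier := {h | ∀ w, w ∈ U ↔ w * h ∈ U}
        one_mem' := fun w => by rw [mul_one]
        mul_mem' := fun {u v} hu hv w => by rw [← mul_assoc, ← hv, ← hu]
        inv_mem' := fun {u} hu w => by
          have := hu (w * u⁻¹)
          rw [inv_mul_cancel_right] at this
          exact this.symm }
    have hLinv : Inv (G := G) e a (· ∈ (L : Set C)) := by
      intro g hg h
      have hiff : ∀ k : C, k ∈ (L : Set C) ↔ count U k = Nat.card U := by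
        intro k
        unfold count
        constructor
        · intro hk
          exact Nat.card_congr (Equiv.subtypeEquivRight fun w => ⟨fun h => h.1, fun h => ⟨h, (hk w).mp h⟩⟩)
        · intro hc w
          let f : {w : C // w ∈ U ∧ w * k ∈ U} → U := fun w => ⟨w.1 * k, w.2.2⟩
          let f' : {w : C // w ∈ U ∧ w * k ∈ U} → U := fun w => ⟨w.1, w.2.1⟩
          have hb := (Nat.bijective_iff_injective_and_card f).mpr
            ⟨fun u v h => Subtype.ext (mul_right_cancel (congrArg Subtype.val h)), hc⟩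
          have hb' := (Nat.bijective_iff_injective_and_card f').mpr
            ⟨fun u v h => Subtype.ext (congrArg (fun q : U => (q : C)) h), hc⟩
          constructor
          · intro hw
            obtain ⟨u, hu⟩ := hb'.2 ⟨w, hw⟩
            rw [← show u.1 = w from congrArg Subtype.val hu]
            exact u.2.2
          · intro hw
            obtain ⟨u, hu⟩ := hb.2 ⟨w * k, hw⟩
            rw [← mul_right_cancel (show u.1 * k = w * k from congrArg Subtype.val hu)]
            exact u.2.1
      simp only [hiff]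
      rw [count_inv e t a he U (horb z) g hg h]
    have hLtop : L ≠ ⊤ := fun h => h1U (by
      have := ((h ▸ Subgroup.mem_top z⁻¹ : z⁻¹ ∈ L) z).mp hzU
      rwa [mul_inv_cancel] at this)
    have hPL : ∀ h : C, h ^ p = 1 → h ∈ L := by
      intro h hh w
      constructor
      · rintro ⟨g, hg, rfl⟩
        exact coset_subset e t a he hP U (horb z) ⟨g, hg, rfl⟩ (hno g hg) hh
      · rintro ⟨g, hg, e1⟩
        have := coset_subset e t a he hP U (horb z) ⟨g, hg, rfl⟩ (hno g hg)
          (x := h⁻¹) (by rw [_root_.inv_pow, hh, inv_one])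
        rwa [e1, mul_inv_cancel_right] at this
    have hbot : P = ⊥ := by
      rw [eq_bot_iff]
      intro h hh
      exact Subgroup.mem_bot.mpr (subset_one e t a he (L : Set C) hLinv hLtop (Set.Subset.refl _) (hPL h hh))
    rw [hbot, Subgroup.card_bot] at hPc
    exact hp.out.one_lt.ne hPc
  by_contra hxy
  set U : Set C := {z | z ≠ 1 ∧ z ∉ T} with hUdef
  have hTinv : Inv (G := G) e a (· ∈ T) := horb x
  have hUinv : Inv (G := G) e a (· ∈ U) := fun g hg z => by
    refine propext (and_congr ⟨fun h h' => h (h' ▸ perm_one_of_stab e t a he hg), fun h h' => h (hone g hg z h')⟩ ?_)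
    exact not_congr (Iff.of_eq (hTinv g hg z))
  have hxT : x ∈ T := ⟨1, one_mem _, by simp [perm]⟩
  have h1T : (1 : C) ∉ T := fun ⟨g, hg, e1⟩ => hx (hone g hg x e1)
  obtain ⟨ht, htb⟩ := set_bound e t a he hP hn T hTinv ⟨x, hxT⟩ h1T hmeet
  obtain ⟨hu, hub⟩ := set_bound e t a he hP hn U hUinv ⟨y, hy, hxy⟩ (fun h => h.1 rfl) hmeet
  obtain ⟨g, hg, hgs⟩ := hmeet x hx
  obtain ⟨g', hg', hgr⟩ := hmeet y hy
  have hs1 : 1 ≤ Nat.card {z : C // z ∈ T ∧ z ^ p = 1} :=
    Nat.card_pos_iff.mpr ⟨⟨⟨_, ⟨g, hg, rfl⟩, hgs⟩⟩, inferInstance⟩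
  have hr1 : 1 ≤ Nat.card {z : C // z ∈ U ∧ z ^ p = 1} :=
    Nat.card_pos_iff.mpr ⟨⟨⟨perm e g' y, cast (hUinv g' hg' y).symm ⟨hy, hxy⟩, hgr⟩⟩, inferInstance⟩
  have hsplit : Nat.card T + Nat.card U + 1 = Nat.card C := by
    rw [← Nat.card_sum, ← Finite.card_option]
    refine Nat.card_congr (Equiv.ofBijective
      (fun o => o.elim 1 (Sum.elim Subtype.val Subtype.val)) ⟨?_, ?_⟩)
    · rintro (_ | ⟨u, hu'⟩ | ⟨u, hu'⟩) (_ | ⟨v, hv'⟩ | ⟨v, hv'⟩) h <;> simp only [Option.elim, Sum.elim_inl, Sum.elim_inr] at h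
      · rfl
      · exact absurd (h ▸ hv') h1T
      · exact absurd h.symm hv'.1
      · exact absurd (h ▸ hu') h1T
      · subst h; rfl
      · exact absurd (h ▸ hu') hv'.2
      · exact absurd h hu'.1
      · exact absurd (h.symm ▸ hv') hu'.2
      · subst h; rfl
    · intro z
      by_cases hz : z = 1
      · exact ⟨none, hz.symm⟩
      by_cases hzT : z ∈ T
      · exact ⟨some (Sum.inl ⟨z, hzT⟩), rfl⟩
      · exact ⟨some (Sum.inr ⟨z, hz, hzT⟩), rfl⟩
  have hsplitP : Nat.card {z : C // z ∈ T ∧ z ^ p = 1} + Nat.card {z : C // z ∈ U ∧ z ^ p = 1} + 1 = p := by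
    conv_rhs => rw [← hP]
    rw [← Nat.card_sum, ← Finite.card_option]
    refine Nat.card_congr (Equiv.ofBijective
      (fun o => o.elim ⟨1, one_pow p⟩ (Sum.elim (fun z => ⟨z.1, z.2.2⟩) (fun z => ⟨z.1, z.2.2⟩))) ⟨?_, ?_⟩)
    · rintro (_ | ⟨u, hu1, hu2⟩ | ⟨u, hu1, hu2⟩) (_ | ⟨v, hv1, hv2⟩ | ⟨v, hv1, hv2⟩) h <;>
        simp only [Option.elim, Sum.elim_inl, Sum.elim_inr, Subtype.mk.injEq] at h
      · rfl
      · exact absurd (h ▸ hv1) h1T
      · exact absurd h.symm hv1.1
      · exact absurd (h ▸ hu1) h1T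
      · subst h; rfl
      · exact absurd (h ▸ hu1) hv1.2
      · exact absurd h hu1.1
      · exact absurd (h.symm ▸ hv1) hu1.2
      · subst h; rfl
    · rintro ⟨z, hzp⟩
      by_cases hz : z = 1
      · exact ⟨none, Subtype.ext hz.symm⟩
      by_cases hzT : z ∈ T
      · exact ⟨some (Sum.inl ⟨z, hzT, hzp⟩), rfl⟩
      · exact ⟨some (Sum.inr ⟨z, ⟨hz, hzT⟩, hzp⟩), rfl⟩
  generalize Nat.card T = A at *
  generalize Nat.card U = B at *
  generalize Nat.card {z : C // z ∈ T ∧ z ^ p = 1} = s at *
  generalize Nat.card {z : C // z ∈ U ∧ z ^ p = 1} = r at *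
  generalize Nat.card C = n at *
  obtain ⟨A', rfl⟩ : ∃ A', A = A' + s := ⟨A - s, by omega⟩
  obtain ⟨B', rfl⟩ : ∃ B', B = B' + r := ⟨B - r, by omega⟩
  subst hsplitP
  subst hsplit
  simp only [Nat.add_sub_cancel] at htb hub
  nlinarith [Nat.mul_le_mul ht hu]

/-- Schur's theorem. -/
theorem two_transitive [IsPretransitive G Ω] [IsPreprimitive G Ω] (hP : Nat.card {x : C // x ^ p = 1} = p)
    (hn : p ^ 2 ≤ Nat.card C) : IsMultiplyPretransitive G Ω 2 := by
  rw [is_two_pretransitive_iff]
  intro u v w z huv hwz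
  obtain ⟨g₁, hg₁⟩ := exists_smul_eq G u a
  obtain ⟨g₂, hg₂⟩ := exists_smul_eq G w a
  have h1 : e 1 = a := by rw [he, map_one, one_smul]
  obtain ⟨x, hx⟩ := e.surjective (g₁ • v)
  obtain ⟨y, hy⟩ := e.surjective (g₂ • z)
  have hx1 : x ≠ 1 := fun h => huv (smul_left_cancel g₁ (by rw [hg₁, ← hx, h, h1]))
  have hy1 : y ≠ 1 := fun h => hwz (smul_left_cancel g₂ (by rw [hg₂, ← hy, h, h1]))
  obtain ⟨g, hg, hgx⟩ := orbit_all e t a he hP hn hx1 hy1
  refine ⟨g₂⁻¹ * g * g₁, ?_, ?_⟩
  · rw [mul_smul, mul_smul, hg₁, mem_stabilizer_iff.mp hg, ← hg₂, inv_smul_smul]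
  · rw [mul_smul, mul_smul, ← hx]
    have : g • e x = e y := by rw [← hgx]; simp [perm]
    rw [this, hy, inv_smul_smul]

end Cfsg.Agent.Lib.Perm.SchurB
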