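import Mathlib

/-!
Sharply 3-transitive groups: the number of elements of order 3.
-/

open MulAction

namespace Cfsg.Agent.Lib.Perm.SharpThree

variable {α : Type*} [Fintype α] [DecidableEq α] {G : Subgroup (Equiv.Perm α)}

/-- Three distinct points as an embedding. -/
def emb3 {x y z : α} (hxy : x ≠ y) (hxz : x ≠ z) (hyz : y ≠ z) : Fin 3 ↪ α :=
  ⟨![x, y, z], by
    intro i j hij
    fin_cases i <;> fin_cases j <;> simp_all⟩

/-- An element fixing three points is trivial. -/
theorem eq_one_of_fix (hsharp : ∀ x : Fin 3 ↪ α, stabilizer G x = ⊥) {g : G} {x y z : α}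
    (hxy : x ≠ y) (hxz : x ≠ z) (hyz : y ≠ z) (hx : g • x = x) (hy : g • y = y)
    (hz : g • z = z) : g = 1 := by
  rw [← Subgroup.mem_bot, ← hsharp (emb3 hxy hxz hyz), mem_stabilizer_iff]
  ext i
  fin_cases i <;> simpa [emb3]

/-- Exactly one element maps a triple to another. -/
theorem existsUnique_map (h3 : IsMultiplyPretransitive G α 3)
    (hsharp : ∀ x : Fin 3 ↪ α, stabilizer G x = ⊥) {x y z x' y' z' : α}
    (hxy : x ≠ y) (hxz : x ≠ z) (hyz : y ≠ z) (hxy' : x' ≠ y') (hxz' : x' ≠ z')
    (hyz' : y' ≠ z') : ∃! g : G, g • x = x' ∧ g • y = y' ∧ g • z = z' := by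
  obtain ⟨g, hg⟩ := h3.exists_smul_eq (emb3 hxy hxz hyz) (emb3 hxy' hxz' hyz')
  have e := fun i => DFunLike.congr_fun hg i
  have hgx : g • x = x' := e 0
  have hgy : g • y = y' := e 1
  have hgz : g • z = z' := e 2
  refine ⟨g, ⟨hgx, hgy, hgz⟩, fun k ⟨hx, hy, hz⟩ => ?_⟩
  have h1 : g⁻¹ * k = 1 := eq_one_of_fix hsharp hxy hxz hyz
    (by rw [mul_smul, hx, inv_smul_eq_iff, hgx]) (by rw [mul_smul, hy, inv_smul_eq_iff, hgy])
    (by rw [mul_smul, hz, inv_smul_eq_iff, hgz])
  exact (inv_mul_eq_one.mp h1).symm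

/-- The fixed points of an element, as a finite set. -/
def fixF (g : G) : Finset α := Finset.univ.filter (fun x => g • x = x)

theorem mem_fixF {g : G} {x : α} : x ∈ fixF g ↔ g • x = x := by simp [fixF]

theorem card_fixF_le (hsharp : ∀ x : Fin 3 ↪ α, stabilizer G x = ⊥) {g : G} (hg : g ≠ 1) :
    (fixF g).card ≤ 2 := by
  by_contra h
  push Not at h
  obtain ⟨x, hx, y, hy, z, hz, hxy, hxz, hyz⟩ := Finset.two_lt_card.mp h
  exact hg (eq_one_of_fix hsharp hxy hxz hyz (mem_fixF.mp hx) (mem_fixF.mp hy) (mem_fixF.mp hz))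

theorem card_fixF_modEq {p : ℕ} [Fact p.Prime] {g : G} (hg : g ^ p = 1) :
    (fixF g).card ≡ Fintype.card α [MOD p] := by
  have h := Equiv.Perm.card_compl_support_modEq (p := p) (n := 1) (σ := (g : Equiv.Perm α))
    (by rw [pow_one, ← Subgroup.coe_pow, hg, Subgroup.coe_one])
  have e : ((g : Equiv.Perm α).support)ᶜ = fixF g := by
    ext x
    rw [Finset.mem_compl, Equiv.Perm.mem_support, not_not, mem_fixF]
    rfl
  rwa [e] at h

/-- A fixed pair of points is fixed by at most two elements of order three. -/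
theorem card_three_le_two [Fintype G] (h3 : IsMultiplyPretransitive G α 3)
    (hsharp : ∀ x : Fin 3 ↪ α, stabilizer G x = ⊥) (hn : Fintype.card α % 3 = 2)
    (hn3 : 3 ≤ Fintype.card α) {a b : α} (hab : a ≠ b) :
    (Finset.univ.filter (fun g : G => g ≠ 1 ∧ g ^ 3 = 1 ∧ g • a = a ∧ g • b = b)).card ≤ 2 := by
  classical
  haveI : Fact (Nat.Prime 3) := ⟨by norm_num⟩
  set n := Fintype.card α with hnα
  let P : Finset G := Finset.univ.filter (fun g : G => g ≠ 1 ∧ g ^ 3 = 1)
  have hP : ∀ g, g ∈ P ↔ g ≠ 1 ∧ g ^ 3 = 1 := fun g => by simp [P]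
  have hfix : ∀ g ∈ P, (fixF g).card = 2 := by
    intro g hg
    obtain ⟨hg1, hg3⟩ := (hP g).mp hg
    have h1 := card_fixF_le hsharp hg1
    have h2 : (fixF g).card % 3 = n % 3 := card_fixF_modEq hg3
    omega
  have hne : ∀ g : G, g ^ 3 = 1 → ∀ x : α, g • g • g • x = x := by
    intro g hg x
    rw [← mul_smul, ← mul_smul, show g * g * g = g ^ 3 by rw [pow_succ, pow_two],
      hg, one_smul]
  -- ordered triples
  have hcount : P.card * (n - 2) = n * (n - 1) * (n - 2) := by
    have hE : Fintype.card (Fin 3 ↪ α) = n * (n - 1) * (n - 2) := by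
      rw [Fintype.card_embedding_eq, Fintype.card_fin]
      simp [Nat.descFactorial_succ, ← hnα]
      ring
    rw [← hE]
    have hS : (P.sigma (fun g => (fixF g)ᶜ)).card = P.card * (n - 2) := by
      rw [Finset.card_sigma, Finset.sum_congr rfl (fun g hg => by
        rw [Finset.card_compl, hfix g hg]), Finset.sum_const, smul_eq_mul]
    rw [← hS, ← Fintype.card_coe]
    have hmem : ∀ u : ↥(P.sigma (fun g => (fixF g)ᶜ)),
        u.1.1 ≠ 1 ∧ u.1.1 ^ 3 = 1 ∧ u.1.1 • u.1.2 ≠ u.1.2 := fun u => by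
      have hu := Finset.mem_sigma.mp u.2
      exact ⟨((hP _).mp hu.1).1, ((hP _).mp hu.1).2, fun h =>
        Finset.mem_compl.mp hu.2 (mem_fixF.mpr h)⟩
    let f : ↥(P.sigma (fun g => (fixF g)ᶜ)) → (Fin 3 ↪ α) := fun u =>
      emb3 (x := u.1.2) (y := u.1.1 • u.1.2) (z := u.1.1 • u.1.1 • u.1.2) (hmem u).2.2.symm
        (fun h => (hmem u).2.2 (by
          have h' := congrArg (fun w => u.1.1 • w) h
          simp only [hne _ (hmem u).2.1] at h'
          exact h'))
        (fun h => (hmem u).2.2 (smul_left_cancel _ h).symm)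
    refine Fintype.card_of_bijective (f := f) ⟨?_, ?_⟩
    · intro u v huv
      have e0 : u.1.2 = v.1.2 := DFunLike.congr_fun huv 0
      have e1 : u.1.1 • u.1.2 = v.1.1 • v.1.2 := DFunLike.congr_fun huv 1
      have e2 : u.1.1 • u.1.1 • u.1.2 = v.1.1 • v.1.1 • v.1.2 := DFunLike.congr_fun huv 2
      set g := u.1.1 with hgdef
      set k := v.1.1 with hkdef
      set x := u.1.2 with hxdef
      rw [← e0] at e1 e2
      rw [← e1] at e2
      have hx := (hmem u).2.2
      have hgk : k⁻¹ * g = 1 := eq_one_of_fix hsharp (x := x) (y := g • x) (z := g • g • x)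
        hx.symm
        (fun h => hx (by
          have h' := congrArg (fun w => g • w) h
          simp only [hne g (hmem u).2.1] at h'
          exact h'))
        (fun h => hx (smul_left_cancel g h).symm)
        (by rw [mul_smul, inv_smul_eq_iff]; exact e1)
        (by rw [mul_smul, inv_smul_eq_iff]; exact e2)
        (by
          rw [mul_smul, inv_smul_eq_iff, hne g (hmem u).2.1, e2]
          conv_rhs => rw [e1]
          exact (hne k (hmem v).2.1 x).symm)
      have hgk' : k = g := inv_mul_eq_one.mp hgk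
      exact Subtype.ext (Sigma.ext hgk'.symm (heq_of_eq e0))
    · intro e
      have n01 : e 0 ≠ e 1 := fun h => absurd (e.injective h) (by decide)
      have n02 : e 0 ≠ e 2 := fun h => absurd (e.injective h) (by decide)
      have n12 : e 1 ≠ e 2 := fun h => absurd (e.injective h) (by decide)
      obtain ⟨g, ⟨g0, g1, g2⟩, -⟩ :=
        existsUnique_map h3 hsharp n01 n02 n12 n12 n01.symm n02.symm
      have h31 : g ^ 3 = 1 := eq_one_of_fix hsharp n01 n02 n12
        (by rw [pow_succ, pow_two, mul_smul, mul_smul, g0, g1, g2])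
        (by rw [pow_succ, pow_two, mul_smul, mul_smul, g1, g2, g0])
        (by rw [pow_succ, pow_two, mul_smul, mul_smul, g2, g0, g1])
      have hg1 : g ≠ 1 := fun h => n01 (by rwa [h, one_smul] at g0)
      refine ⟨⟨⟨g, e 0⟩, Finset.mem_sigma.mpr ⟨(hP g).mpr ⟨hg1, h31⟩,
        Finset.mem_compl.mpr fun h => n01 (g0 ▸ (mem_fixF.mp h).symm)⟩⟩, ?_⟩
      ext i
      fin_cases i
      · rfl
      · exact g0
      · show g • g • e 0 = e 2
        rw [g0, g1]
  have hPn : P.card = n * (n - 1) := Nat.eq_of_mul_eq_mul_right (by omega) hcount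
  -- fibres over unordered pairs
  let k := (P.filter (fun g => fixF g = {a, b})).card
  have hfib : ∀ S ∈ Finset.powersetCard 2 (Finset.univ : Finset α),
      (P.filter (fun g => fixF g = S)).card = k := by
    intro S hS
    obtain ⟨x, y, hxy, rfl⟩ := Finset.card_eq_two.mp (Finset.mem_powersetCard.mp hS).2
    haveI : IsMultiplyPretransitive G α 2 :=
      isMultiplyPretransitive_of_le (n := 3) (by norm_num) (by simp [Nat.card_eq_fintype_card]; omega)
    obtain ⟨h, hha, hhb⟩ := (is_two_pretransitive_iff (G := G) (α := α)).mp inferInstance hab hxy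
    symm
    refine Finset.card_equiv (MulAut.conj h).toEquiv fun g => ?_
    simp only [Finset.mem_filter, hP, MulEquiv.toEquiv_eq_coe, EquivLike.coe_coe,
      MulAut.conj_apply]
    have hmap : fixF (h * g * h⁻¹) = (fixF g).map (MulAction.toPerm h).toEmbedding := by
      ext z
      simp only [mem_fixF, Finset.mem_map_equiv, MulAction.toPerm_symm_apply, mul_smul]
      exact ⟨fun e => by rw [← inv_smul_smul h (g • h⁻¹ • z), e],
        fun e => by rw [e, smul_inv_smul]⟩
    have himg : ({x, y} : Finset α) = ({a, b} : Finset α).map (MulAction.toPerm h).toEmbedding := by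
      simp [Finset.map_insert, hha, hhb]
    rw [hmap, himg, Finset.map_inj]
    refine and_congr (and_congr ?_ ?_) Iff.rfl
    · rw [ne_eq, ne_eq, conj_eq_one_iff]
    · rw [conj_pow, conj_eq_one_iff]
  have htot : P.card = n.choose 2 * k := by
    rw [Finset.card_eq_sum_card_fiberwise (f := fixF) (t := Finset.powersetCard 2 Finset.univ)
      (fun g hg => Finset.mem_powersetCard.mpr ⟨Finset.subset_univ _, hfix g hg⟩),
      Finset.sum_congr rfl hfib, Finset.sum_const, Finset.card_powersetCard, Finset.card_univ,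
      smul_eq_mul]
  have hch : n.choose 2 * 2 = n * (n - 1) := by
    rw [Nat.choose_two_right, Nat.div_mul_cancel (Nat.even_mul_pred_self n).two_dvd]
  have hk : k = 2 := by
    have hpos : 0 < n.choose 2 := Nat.choose_pos (by omega)
    exact Nat.eq_of_mul_eq_mul_left hpos (by rw [← htot, hPn, hch])
  refine le_of_le_of_eq (Finset.card_le_card fun g hg => ?_) hk
  simp only [Finset.mem_filter, Finset.mem_univ, true_and] at hg
  obtain ⟨hg1, hg3, hga, hgb⟩ := hg
  have hgP : g ∈ P := (hP g).mpr ⟨hg1, hg3⟩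
  refine Finset.mem_filter.mpr ⟨hgP, (Finset.eq_of_subset_of_card_le ?_ ?_).symm⟩
  · intro z hz
    rcases Finset.mem_insert.mp hz with rfl | hz'
    · exact mem_fixF.mpr hga
    · rw [Finset.mem_singleton.mp hz']; exact mem_fixF.mpr hgb
  · rw [hfix g hgP, Finset.card_pair hab]

end Cfsg.Agent.Lib.Perm.SharpThree
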