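import Cfsg.Prelude.Def_Perm
import Cfsg.Agent.Lib.Perm.Basic
import Mathlib.GroupTheory.Sylow
import Mathlib.GroupTheory.Perm.Cycle.Type
import Mathlib.GroupTheory.GroupAction.CardCommute

/-!
Finite sharply doubly transitive groups: the translations and the near-field.
-/

open MulAction

namespace Cfsg.Agent.Lib.Perm

variable {G α : Type*} [Group G] [MulAction G α]

theorem eq_one_of_fix_two (hsharp : ∀ x : Fin 2 ↪ α, stabilizer G x = ⊥) {g : G} {a b : α}
    (hab : a ≠ b) (ha : g • a = a) (hb : g • b = b) : g = 1 := by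
  let x : Fin 2 ↪ α := ⟨![a, b], by intro i j; fin_cases i <;> fin_cases j <;> simp [hab, hab.symm]⟩
  have hg : g ∈ stabilizer G x := by
    rw [mem_stabilizer_iff]
    ext i
    fin_cases i
    · exact ha
    · exact hb
  rw [hsharp] at hg
  exact hg

/-- The fixed-point-free elements of a finite sharply 2-transitive group form, with the identity,
a regular abelian normal subgroup of exponent `p`. -/
theorem exists_translation_subgroup [Fintype α] [Finite G] (h2 : IsMultiplyPretransitive G α 2)
    (hsharp : ∀ x : Fin 2 ↪ α, stabilizer G x = ⊥) (hcard : 2 ≤ Fintype.card α) :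
    ∃ (N : Subgroup G) (p j : ℕ), N.Normal ∧ p.Prime ∧ 1 ≤ j ∧ Fintype.card α = p ^ j ∧
      Nat.card N = p ^ j ∧ Nat.card G = p ^ j * (p ^ j - 1) ∧
      (∀ x ∈ N, ∀ y ∈ N, x * y = y * x) ∧ (∀ x ∈ N, x ^ p = 1) ∧
      IsPretransitive N α ∧ (∀ a : α, stabilizer N a = ⊥) ∧
      ∀ g : G, g ∈ N ↔ g = 1 ∨ ∀ a : α, g • a ≠ a := by
  classical
  haveI : Fintype G := Fintype.ofFinite G
  haveI hpre : IsPretransitive G α := by
    rw [← is_one_pretransitive_iff]
    exact isMultiplyPretransitive_of_le (n := 2) (by omega) (by rw [Nat.card_eq_fintype_card]; omega)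
  haveI : Nonempty α := Fintype.card_pos_iff.mp (by omega)
  have hfix := fun {g : G} {a b : α} => eq_one_of_fix_two hsharp (g := g) (a := a) (b := b)
  set n := Fintype.card α with hn
  have hother : ∀ a : α, ∃ b, b ≠ a := by
    intro a
    obtain ⟨b, hb⟩ := Fintype.exists_ne_of_one_lt_card (by omega : 1 < Fintype.card α) a
    exact ⟨b, hb⟩
  have hstab : ∀ a : α, (Finset.univ.filter fun g : G => g • a = a).card = n - 1 := by
    intro a
    obtain ⟨b, hb⟩ := hother a
    rw [hn, ← Finset.card_univ, ← Finset.card_erase_of_mem (Finset.mem_univ a)]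
    refine Finset.card_bij (fun g _ => g • b) ?_ ?_ ?_
    · intro g hg
      rw [Finset.mem_filter] at hg
      refine Finset.mem_erase.mpr ⟨fun e => hb (smul_left_cancel g (e.trans hg.2.symm)),
        Finset.mem_univ _⟩
    · intro g hg g' hg' h
      rw [Finset.mem_filter] at hg hg'
      refine (inv_mul_eq_one.mp (hfix hb.symm (g := g⁻¹ * g') ?_ ?_))
      · rw [mul_smul, hg'.2, inv_smul_eq_iff, hg.2]
      · rw [mul_smul, ← h, inv_smul_smul]
    · intro y hy
      obtain ⟨g, hga, hgb⟩ := exists_smul_eq_pair h2 hb.symm (Finset.mem_erase.mp hy).1.symm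
      exact ⟨g, Finset.mem_filter.mpr ⟨Finset.mem_univ _, hga⟩, hgb⟩
  have hG : Fintype.card G = n * (n - 1) := by
    obtain ⟨a⟩ := ‹Nonempty α›
    have h1 := Subgroup.card_mul_index (stabilizer G a)
    rw [index_stabilizer_of_transitive, Nat.card_eq_fintype_card (α := α),
      Nat.card_eq_fintype_card (α := G)] at h1
    rw [← h1, mul_comm, ← hn]
    congr 1
    rw [Nat.card_eq_fintype_card, Fintype.card_subtype]
    exact hstab a
  let F : Finset G := Finset.univ.filter fun g => ∀ a : α, g • a ≠ a
  have hFcard : F.card = n - 1 := by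
    let D : α → Finset G := fun a => (Finset.univ.filter fun g : G => g • a = a).erase 1
    have hD : ∀ a, (D a).card = n - 2 := fun a => by
      rw [Finset.card_erase_of_mem (by simp), hstab]; omega
    have hunion : Finset.univ = insert 1 (F ∪ Finset.univ.biUnion D) := by
      ext g
      simp only [F, D, Finset.mem_insert, Finset.mem_union, Finset.mem_filter, Finset.mem_univ,
        true_and, Finset.mem_biUnion, Finset.mem_erase]
      by_cases hg : g = 1
      · simp [hg]
      · by_cases hf : ∀ a : α, g • a ≠ a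
        · simp [hf]
        · push Not at hf
          obtain ⟨a, ha⟩ := hf
          simp [hg]
          exact Or.inr ⟨a, ha⟩
    have hc := congrArg Finset.card hunion
    rw [Finset.card_univ, hG, Finset.card_insert_of_notMem, Finset.card_union_of_disjoint,
      Finset.card_biUnion] at hc
    · simp only [hD, Finset.sum_const, Finset.card_univ, smul_eq_mul, ← hn] at hc
      obtain ⟨m, hm⟩ : ∃ m, n = m + 2 := ⟨n - 2, by omega⟩
      rw [hm] at hc ⊢
      simp at hc
      ring_nf at hc ⊢
      omega
    · intro a _ b _ hab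
      rw [Function.onFun, Finset.disjoint_left]
      intro g hga hgb
      simp only [D, Finset.mem_erase, Finset.mem_filter] at hga hgb
      exact hga.1 (hfix hab hga.2.2 hgb.2.2)
    · rw [Finset.disjoint_left]
      intro g hg hg'
      simp only [F, D, Finset.mem_filter, Finset.mem_biUnion, Finset.mem_erase] at hg hg'
      obtain ⟨a, -, -, -, ha⟩ := hg'
      exact hg.2 a ha
    · simp only [F, D, Finset.mem_union, Finset.mem_filter, Finset.mem_biUnion, Finset.mem_erase]
      rintro (h | ⟨a, -, h, -⟩)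
      · obtain ⟨a⟩ := ‹Nonempty α›
        exact h.2 a (one_smul G a)
      · exact h rfl
  have hconjF : ∀ (g : G), ∀ t ∈ F, g * t * g⁻¹ ∈ F := by
    intro g t ht
    simp only [F, Finset.mem_filter, Finset.mem_univ, true_and] at ht ⊢
    intro a ha
    rw [mul_smul, mul_smul] at ha
    exact ht (g⁻¹ • a) (by rw [eq_inv_smul_iff, ha])
  have hclass : ∀ t ∈ F, ∀ s ∈ F, ∃ g : G, g * t * g⁻¹ = s := by
    intro t ht s hs
    obtain ⟨a⟩ := ‹Nonempty α›
    have himg : (Finset.univ.filter fun g : G => g • a = a).image (fun g => g * t * g⁻¹) = F := by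
      refine Finset.eq_of_subset_of_card_le ?_ ?_
      · intro x hx
        obtain ⟨g, -, rfl⟩ := Finset.mem_image.mp hx
        exact hconjF g t ht
      · rw [hFcard, Finset.card_image_of_injOn, hstab]
        intro g hg g' hg' h
        simp only [Finset.coe_filter, Finset.mem_univ, true_and, Set.mem_ofPred_eq] at hg hg'
        have hc : (g⁻¹ * g') * t = t * (g⁻¹ * g') := by
          have h' : g * t * g⁻¹ = g' * t * g'⁻¹ := h
          calc g⁻¹ * g' * t = g⁻¹ * (g' * t * g'⁻¹) * g' := by group
            _ = g⁻¹ * (g * t * g⁻¹) * g' := by rw [h']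
            _ = t * (g⁻¹ * g') := by group
        refine inv_mul_eq_one.mp (hfix (a := a) (b := t • a) ?_ ?_ ?_)
        · exact Ne.symm ((Finset.mem_filter.mp ht).2 a)
        · rw [mul_smul, hg', inv_smul_eq_iff, hg]
        · rw [← mul_smul, hc, mul_smul]
          congr 1
          rw [mul_smul, hg', inv_smul_eq_iff, hg]
    rw [← himg] at hs
    obtain ⟨g, -, hg⟩ := Finset.mem_image.mp hs
    exact ⟨g, hg⟩
  have hcomm : ∀ t ∈ F, ∀ g : G, g * t = t * g ↔ g = 1 ∨ g ∈ F := by
    intro t ht
    let C : Finset G := Finset.univ.filter fun g => g * t = t * g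
    have hsub : C ⊆ insert 1 F := by
      intro g hg
      rw [Finset.mem_insert]
      by_cases hgF : ∀ a : α, g • a ≠ a
      · exact Or.inr (Finset.mem_filter.mpr ⟨Finset.mem_univ _, hgF⟩)
      · push Not at hgF
        obtain ⟨a, ha⟩ := hgF
        refine Or.inl (hfix (a := a) (b := t • a) (Ne.symm ((Finset.mem_filter.mp ht).2 a)) ha ?_)
        rw [← mul_smul, (Finset.mem_filter.mp hg).2, mul_smul, ha]
    have hC : C.card * F.card = n * (n - 1) := by
      rw [← hG, ← Finset.card_univ]
      rw [Finset.card_eq_sum_card_fiberwise (s := Finset.univ) (t := F) (f := fun g : G => g * t * g⁻¹)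
        (fun g _ => hconjF g t ht)]
      rw [mul_comm, ← smul_eq_mul, ← Finset.sum_const]
      refine Finset.sum_congr rfl fun s hs => ?_
      obtain ⟨g₀, hg₀⟩ := hclass t ht s hs
      refine Finset.card_bij (fun c _ => g₀ * c) ?_ ?_ ?_
      · intro c hc
        rw [Finset.mem_filter] at hc ⊢
        refine ⟨Finset.mem_univ _, ?_⟩
        rw [← hg₀]
        calc g₀ * c * t * (g₀ * c)⁻¹ = g₀ * (c * t) * c⁻¹ * g₀⁻¹ := by group
          _ = g₀ * (t * c) * c⁻¹ * g₀⁻¹ := by rw [hc.2]
          _ = g₀ * t * g₀⁻¹ := by group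
      · intro _ _ _ _ h
        exact mul_left_cancel h
      · intro g hg
        rw [Finset.mem_filter] at hg
        refine ⟨g₀⁻¹ * g, Finset.mem_filter.mpr ⟨Finset.mem_univ _, ?_⟩, mul_inv_cancel_left _ _⟩
        calc g₀⁻¹ * g * t = g₀⁻¹ * (g * t * g⁻¹) * g := by group
          _ = g₀⁻¹ * (g₀ * t * g₀⁻¹) * g := by rw [hg.2, hg₀]
          _ = t * (g₀⁻¹ * g) := by group
    rw [hFcard] at hC
    have hC' : C.card = n := Nat.eq_of_mul_eq_mul_right (by omega) hC
    have heq : C = insert 1 F := by
      refine Finset.eq_of_subset_of_card_le hsub ?_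
      rw [Finset.card_insert_of_notMem, hFcard, hC']
      · omega
      · intro h1
        obtain ⟨a⟩ := ‹Nonempty α›
        exact (Finset.mem_filter.mp h1).2 a (one_smul G a)
    intro g
    rw [← Finset.mem_insert, ← heq]
    simp [C]
  obtain ⟨t, ht⟩ : F.Nonempty := Finset.card_pos.mp (by omega)
  let N : Subgroup G := Subgroup.centralizer {t}
  have hmemN : ∀ g : G, g ∈ N ↔ g = 1 ∨ ∀ a : α, g • a ≠ a := by
    intro g
    rw [Subgroup.mem_centralizer_singleton_iff, hcomm t ht g]
    simp [F]
  have hab : ∀ x ∈ N, ∀ y ∈ N, x * y = y * x := by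
    intro x hx y hy
    rcases (hmemN x).mp hx with rfl | hx'
    · simp
    · rcases (hmemN y).mp hy with rfl | hy'
      · simp
      · exact (hcomm y (by simp [F]; exact hy') x).mpr (Or.inr (by simp [F]; exact hx'))
  have hsemi : ∀ a : α, stabilizer N a = ⊥ := by
    intro a
    rw [Subgroup.eq_bot_iff_forall]
    intro x hx
    rcases (hmemN x).mp x.2 with h | h
    · exact Subtype.ext h
    · exact absurd hx (h a)
  have hNcard : Nat.card N = n := by
    rw [Nat.card_eq_fintype_card, Fintype.card_subtype]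
    have : (Finset.univ.filter fun g => g ∈ N) = insert 1 F := by
      ext g
      simp only [Finset.mem_filter, Finset.mem_univ, true_and, Finset.mem_insert, F, hmemN]
    rw [this, Finset.card_insert_of_notMem, hFcard]
    · omega
    · intro h1
      obtain ⟨a⟩ := ‹Nonempty α›
      exact (Finset.mem_filter.mp h1).2 a (one_smul G a)
  have hNt : IsPretransitive N α := by
    obtain ⟨a⟩ := ‹Nonempty α›
    rw [isPretransitive_iff_orbit_eq_univ a]
    refine Set.eq_of_subset_of_ncard_le (Set.subset_univ _) ?_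
    rw [Set.ncard_univ, Nat.card_eq_fintype_card, ← hn, ← index_stabilizer, hsemi,
      Subgroup.index_bot, hNcard]
  haveI : Nontrivial N := Finite.one_lt_card_iff_nontrivial.mp (by omega)
  obtain ⟨p, hp, hpd⟩ := Nat.exists_prime_and_dvd (n := Nat.card N) Finite.one_lt_card.ne'
  haveI := Fact.mk hp
  obtain ⟨⟨x, hxN⟩, hx⟩ := exists_prime_orderOf_dvd_card' p hpd
  rw [Subgroup.orderOf_mk] at hx
  have hx1 : x ≠ 1 := fun e => by rw [e, orderOf_one] at hx; exact hp.one_lt.ne hx
  have hexp : ∀ y ∈ N, y ^ p = 1 := by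
    intro y hy
    rcases (hmemN y).mp hy with rfl | hy'
    · simp
    · obtain ⟨g, rfl⟩ := hclass x (by simp [F]; exact ((hmemN x).mp hxN).resolve_left hx1) y
        (by simp [F]; exact hy')
      rw [conj_pow, ← hx, pow_orderOf_eq_one, mul_one, mul_inv_cancel]
  have hpN : IsPGroup p N := fun y => ⟨1, by
    apply Subtype.ext
    simp [hexp y y.2]⟩
  obtain ⟨j, hj⟩ := IsPGroup.iff_card.mp hpN
  have hnj : n = p ^ j := hNcard.symm.trans hj
  refine ⟨N, p, j, ⟨fun y hy g => ?_⟩, hp, ?_, hnj, hj, ?_, hab, hexp, hNt, hsemi, hmemN⟩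
  · rw [hmemN] at hy ⊢
    rcases hy with rfl | hy
    · exact Or.inl (by group)
    · refine Or.inr fun a ha => hy (g⁻¹ • a) ?_
      rw [mul_smul, mul_smul] at ha
      rw [eq_inv_smul_iff, ha]
  · rcases Nat.eq_zero_or_pos j with h | h
    · rw [h, pow_zero] at hnj
      omega
    · exact h
  · rw [Nat.card_eq_fintype_card, hG, hnj]

end Cfsg.Agent.Lib.Perm
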