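import Cfsg.Agent.Lib.Perm.Basic
import Mathlib.GroupTheory.PGroup
import Mathlib.GroupTheory.GroupAction.SubMulAction.OfFixingSubgroup

/-!
Criteria for multiple transitivity.
-/

open MulAction

namespace Cfsg.Agent.Lib.Perm

/-- `k`-transitivity from transitivity of the pointwise stabilizers of the sets with fewer than `k`
points. -/
theorem isMultiplyPretransitive_of_fixing {G α : Type*} [Group G] [MulAction G α] [Finite α]
    {k : ℕ} (hk : k ≤ Nat.card α)
    (h : ∀ t : Finset α, t.card < k → ∀ x y : α, x ∉ t → y ∉ t →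
      ∃ g : G, (∀ z ∈ t, g • z = z) ∧ g • x = y) :
    IsMultiplyPretransitive G α k := by
  classical
  haveI := Fintype.ofFinite α
  induction k with
  | zero => exact is_zero_pretransitive
  | succ k ih =>
    have hk' : IsMultiplyPretransitive G α k := ih (by omega) fun t ht => h t (by omega)
    obtain ⟨t, -, ht⟩ := Finset.exists_subset_card_eq (s := (Finset.univ : Finset α)) (n := k)
      (by rw [Finset.card_univ, ← Nat.card_eq_fintype_card]; omega)
    refine isMultiplyPretransitive_add hk' (s := (t : Set α)) (by rw [Set.ncard_coe_finset, ht]) ?_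
    rw [is_one_pretransitive_iff]
    refine ⟨fun ⟨x, hx⟩ ⟨y, hy⟩ => ?_⟩
    obtain ⟨g, hg, hgx⟩ := h t (by omega) x y hx hy
    exact ⟨⟨g, (mem_fixingSubgroup_iff G).mpr hg⟩, Subtype.ext hgx⟩

theorem gleason {G α : Type*} [Group G] [MulAction G α] [Fintype α] {p : ℕ} (hp : p.Prime) {k : ℕ}
    (hk : 1 ≤ k) (hkn : k < Fintype.card α)
    (h : ∀ s : Finset α, s.card = k → ∃ P : Subgroup G, IsPGroup p P ∧
      fixedPoints P α = (s : Set α)) :
    IsMultiplyPretransitive G α k := by
  classical
  haveI := Fact.mk hp
  induction k, hk using Nat.le_induction generalizing G α with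
  | base =>
    rw [is_one_pretransitive_iff]
    refine ⟨fun a b => ?_⟩
    by_contra hno
    have key : ∀ c : α, ∃ P : Subgroup G, IsPGroup p P ∧
        Nat.card (orbit G b) ≡ Nat.card {z : orbit G b | (z : α) = c} [MOD p] := by
      intro c
      obtain ⟨P, hP, hfix⟩ := h {c} (Finset.card_singleton c)
      refine ⟨P, hP, ?_⟩
      let act : MulAction P (orbit G b) :=
        MulAction.compHom (orbit G b) P.subtype
      have := hP.card_modEq_card_fixedPoints (orbit G b)
      convert this using 3
      ext z
      have h1 := Set.ext_iff.mp hfix (z : α)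
      simp only [Finset.coe_singleton, Set.mem_singleton_iff] at h1
      change (z : α) = c ↔ z ∈ fixedPoints P (orbit G b)
      rw [← h1]
      exact ⟨fun hz q => Subtype.ext (hz q), fun hz q => congrArg Subtype.val (hz q)⟩
    obtain ⟨P, -, hP⟩ := key a
    obtain ⟨Q, -, hQ⟩ := key b
    have ha : Nat.card {z : orbit G b | (z : α) = a} = 0 := by
      rw [Nat.card_eq_zero]
      refine Or.inl ⟨fun ⟨⟨z, hz⟩, hza⟩ => ?_⟩
      obtain ⟨g, hg⟩ := hz
      have hza' : z = a := hza
      subst hza'
      exact hno ⟨g⁻¹, by rw [inv_smul_eq_iff]; exact hg.symm⟩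
    have hb : Nat.card {z : orbit G b | (z : α) = b} = 1 := by
      rw [Nat.card_eq_one_iff_unique]
      exact ⟨⟨fun x y => Subtype.ext (Subtype.ext (x.2.trans y.2.symm))⟩,
        ⟨⟨⟨b, mem_orbit_self b⟩, rfl⟩⟩⟩
    rw [ha] at hP
    rw [hb] at hQ
    have := hP.symm.trans hQ
    rw [Nat.ModEq, Nat.zero_mod, Nat.one_mod_eq_one.mpr hp.ne_one] at this
    omega
  | succ k hk ih =>
    have hstab : ∀ a : α, IsMultiplyPretransitive (stabilizer G a) (SubMulAction.ofStabilizer G a) k := by
      intro a
      haveI : Fintype (SubMulAction.ofStabilizer G a) := Fintype.ofFinite _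
      refine ih (G := stabilizer G a) (α := SubMulAction.ofStabilizer G a) ?_ fun s hs => ?_
      · have := SubMulAction.nat_card_ofStabilizer_add_one_eq G a
        rw [Nat.card_eq_fintype_card, Nat.card_eq_fintype_card] at this
        omega
      · have ha : a ∉ s.image Subtype.val := by
          simp only [Finset.mem_image, not_exists, not_and]
          intro x _ hxa
          exact x.2 hxa
        obtain ⟨P, hP, hfix⟩ := h (insert a (s.image Subtype.val))
          (by rw [Finset.card_insert_of_notMem ha, Finset.card_image_of_injective _ Subtype.val_injective, hs])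
        have hle : P ≤ stabilizer G a := by
          intro g hg
          have : a ∈ fixedPoints P α := by rw [hfix]; simp
          exact this ⟨g, hg⟩
        refine ⟨P.subgroupOf (stabilizer G a), hP.comap_subtype, ?_⟩
        ext x
        have h1 := Set.ext_iff.mp hfix (x : α)
        simp only [Finset.coe_insert, Finset.coe_image, Set.mem_insert_iff] at h1
        constructor
        · intro hx
          rcases h1.mp (fun q => congrArg Subtype.val (hx ⟨⟨q, hle q.2⟩, q.2⟩)) with h2 | ⟨y, hy, hy'⟩
          · exact absurd h2 x.2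
          · exact Subtype.ext hy' ▸ hy
        · intro hx q
          exact Subtype.ext (h1.mpr (Or.inr ⟨x, hx, rfl⟩) ⟨_, q.2⟩)
    haveI hpre : IsPretransitive G α := by
      refine ⟨fun x y => ?_⟩
      obtain ⟨a, -, ha⟩ := Finset.exists_mem_notMem_of_card_lt_card (s := ({x, y} : Finset α))
        (t := Finset.univ) (by
          rw [Finset.card_univ]
          exact Finset.card_le_two.trans_lt (by omega))
      simp only [Finset.mem_insert, Finset.mem_singleton, not_or] at ha
      haveI : IsPretransitive (stabilizer G a) (SubMulAction.ofStabilizer G a) := by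
        rw [← is_one_pretransitive_iff]
        haveI := hstab a
        refine isMultiplyPretransitive_of_le (n := k) hk ?_
        have := SubMulAction.nat_card_ofStabilizer_add_one_eq G a
        rw [Nat.card_eq_fintype_card (α := α)] at this
        omega
      obtain ⟨g, hg⟩ := exists_smul_eq (stabilizer G a)
        (⟨x, Ne.symm ha.1⟩ : SubMulAction.ofStabilizer G a) ⟨y, Ne.symm ha.2⟩
      exact ⟨g, congrArg Subtype.val hg⟩
    obtain ⟨a⟩ : Nonempty α := Fintype.card_pos_iff.mp (by omega)
    exact SubMulAction.ofStabilizer.isMultiplyPretransitive.mpr (hstab a)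

/-- If the orbits of a group on an invariant set all have `r` elements, `r` divides its size. -/
theorem dvd_card_of_orbits {G α : Type*} [Group G] [MulAction G α] (S : Finset α)
    (hS : ∀ g : G, ∀ x ∈ S, g • x ∈ S) {r : ℕ} (hr : ∀ x ∈ S, (orbit G x).ncard = r) :
    r ∣ S.card := by
  classical
  rw [Finset.card_eq_sum_card_image (fun x => (Quotient.mk'' x : orbitRel.Quotient G α)) S]
  refine Finset.dvd_sum fun q hq => ?_
  obtain ⟨x, hx, rfl⟩ := Finset.mem_image.mp hq
  apply dvd_of_eq
  rw [← hr x hx, ← Set.ncard_coe_finset]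
  congr 1
  ext y
  simp only [Finset.coe_filter, Set.mem_ofPred_eq, Quotient.eq'']
  constructor
  · rintro ⟨g, rfl⟩
    exact ⟨hS g x hx, ⟨g, rfl⟩⟩
  · rintro ⟨-, h⟩
    exact h

/-- If the pointwise stabilizers of all `(k-1)`-sets have order `l > 1` and those of all `k`-sets
have order `m`, the group is `(k-1)`-transitive. -/
theorem pred_transitive_of_const {α : Type*} [Fintype α] [DecidableEq α]
    (G : Subgroup (Equiv.Perm α)) {k : ℕ} (hk : 1 < k) (hkn : k ≤ Fintype.card α) {l m : ℕ}
    (hl : 1 < l) (hkm1 : ∀ s : Finset α, s.card = k - 1 → Nat.card (fixingSubgroup G (s : Set α)) = l)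
    (hkm : ∀ s : Finset α, s.card = k → Nat.card (fixingSubgroup G (s : Set α)) = m) :
    IsMultiplyPretransitive G α (k - 1) := by
  classical
  have horb : ∀ s : Finset α, s.card = k - 1 → ∀ x ∉ s,
      (orbit (fixingSubgroup G (s : Set α)) x).ncard * m = l := by
    intro s hs x hx
    have h1 := Subgroup.card_mul_index (stabilizer (fixingSubgroup G (s : Set α)) x)
    rw [index_stabilizer, hkm1 s hs] at h1
    have h2 : Nat.card (stabilizer (fixingSubgroup G (s : Set α)) x) = m := by
      rw [← hkm (insert x s) (by rw [Finset.card_insert_of_notMem hx, hs]; omega)]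
      refine Nat.card_congr
        { toFun := fun g => ⟨g.1.1, (mem_fixingSubgroup_iff G).mpr ?_⟩
          invFun := fun g => ⟨⟨g.1, (mem_fixingSubgroup_iff G).mpr fun z hz =>
            (mem_fixingSubgroup_iff G).mp g.2 z (Finset.mem_insert_of_mem hz)⟩,
            (mem_fixingSubgroup_iff G).mp g.2 x (Finset.mem_insert_self x s)⟩
          left_inv := fun g => rfl
          right_inv := fun g => rfl }
      intro z hz
      rcases Finset.mem_insert.mp hz with rfl | hz
      · exact g.2
      · exact (mem_fixingSubgroup_iff G).mp g.1.2 z hz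
    rw [h2] at h1
    rw [← h1, mul_comm]
  obtain ⟨s₀, -, hs₀⟩ := Finset.exists_subset_card_eq (s := (Finset.univ : Finset α)) (n := k)
    (by rw [Finset.card_univ]; omega)
  have hm : 0 < m := hkm s₀ hs₀ ▸ Nat.card_pos
  set r := l / m with hrdef
  have horb' : ∀ s : Finset α, s.card = k - 1 → ∀ x ∉ s,
      (orbit (fixingSubgroup G (s : Set α)) x).ncard = r := by
    intro s hs x hx
    rw [hrdef, ← horb s hs x hx, Nat.mul_div_cancel _ hm]
  have hr : r ≠ 1 := by
    intro hr
    obtain ⟨s, -, hs⟩ := Finset.exists_subset_card_eq (s := (Finset.univ : Finset α)) (n := k - 1)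
      (by rw [Finset.card_univ]; omega)
    have hbot : fixingSubgroup G (s : Set α) = ⊥ := by
      rw [Subgroup.eq_bot_iff_forall]
      intro g hg
      apply eq_of_smul_eq_smul (α := α)
      intro x
      rw [one_smul]
      by_cases hx : x ∈ s
      · exact (mem_fixingSubgroup_iff G).mp hg x hx
      · obtain ⟨y, hy⟩ := Set.ncard_eq_one.mp ((horb' s hs x hx).trans hr)
        have h1 : g • x ∈ orbit (fixingSubgroup G (s : Set α)) x := ⟨⟨g, hg⟩, rfl⟩
        have h2 := mem_orbit_self (M := fixingSubgroup G (s : Set α)) x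
        rw [hy, Set.mem_singleton_iff] at h1 h2
        rw [h1, h2]
    have := hkm1 s hs
    rw [hbot, Subgroup.card_bot] at this
    omega
  refine isMultiplyPretransitive_of_fixing (by rw [Nat.card_eq_fintype_card]; omega) ?_
  suffices ∀ (d : ℕ) (t : Finset α), t.card + d + 2 = k → ∀ x y : α, x ∉ t → y ∉ t →
      ∃ g : G, (∀ z ∈ t, g • z = z) ∧ g • x = y by
    intro t ht x y hx hy
    exact this (k - 2 - t.card) t (by omega) x y hx hy
  intro d
  induction d with
  | succ d ih =>
    intro t ht x y hx hy
    obtain ⟨a, -, ha⟩ := Finset.exists_mem_notMem_of_card_lt_card (s := t ∪ {x, y}) (t := Finset.univ)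
      (by
        refine ((Finset.card_union_le _ _).trans (Nat.add_le_add_left Finset.card_le_two _)).trans_lt ?_
        rw [Finset.card_univ]
        omega)
    simp only [Finset.mem_union, Finset.mem_insert, Finset.mem_singleton, not_or] at ha
    obtain ⟨g, hg, hgx⟩ := ih (insert a t) (by rw [Finset.card_insert_of_notMem ha.1]; omega) x y
      (by simp [hx, Ne.symm ha.2.1]) (by simp [hy, Ne.symm ha.2.2])
    exact ⟨g, fun z hz => hg z (Finset.mem_insert_of_mem hz), hgx⟩
  | zero =>
    intro t ht x y hx hy
    by_contra hno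
    set K := fixingSubgroup G (t : Set α) with hK
    let O : Finset α := Finset.univ.filter fun z => z ∈ orbit K y
    have hKt : ∀ (g : K) z, z ∈ t → g • z = z := fun g z hz =>
      (mem_fixingSubgroup_iff G).mp g.2 z hz
    have hOt : ∀ z ∈ O, z ∉ t := by
      intro z hz hzt
      simp only [O, Finset.mem_filter, Finset.mem_univ, true_and] at hz
      obtain ⟨g, rfl⟩ := hz
      apply hy
      change g • y ∈ t at hzt
      have := hKt g⁻¹ (g • y) hzt
      rw [inv_smul_smul] at this
      rwa [← this] at hzt
    have key : ∀ a, a ∉ t → r ∣ (O.erase a).card := by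
      intro a ha
      have hs : (insert a t).card = k - 1 := by rw [Finset.card_insert_of_notMem ha]; omega
      refine dvd_card_of_orbits (G := fixingSubgroup G ((insert a t : Finset α) : Set α)) _ ?_ ?_
      · intro g z hz
        have hfix := (mem_fixingSubgroup_iff G).mp g.2
        have hga : g • a = a := hfix a (Finset.mem_insert_self a t)
        simp only [O, Finset.mem_erase, Finset.mem_filter, Finset.mem_univ, true_and] at hz ⊢
        refine ⟨fun e => hz.1 (smul_left_cancel g (e.trans hga.symm)), ?_⟩
        exact mem_orbit_of_mem_orbit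
          (⟨(g : G), (mem_fixingSubgroup_iff G).mpr fun w hw => hfix w (Finset.mem_insert_of_mem hw)⟩ : K)
          hz.2
      · intro z hz
        rw [Finset.mem_erase] at hz
        exact horb' _ hs z (by simp [hz.1, hOt z hz.2])
    have hxO : x ∉ O := by
      simp only [O, Finset.mem_filter, Finset.mem_univ, true_and]
      rintro ⟨g, hg⟩
      exact hno ⟨((g⁻¹ : K) : G), fun z hz => hKt g⁻¹ z hz, by
        change (g⁻¹ : K) • x = y
        rw [← hg, inv_smul_smul]⟩
    have hyO : y ∈ O := by simp [O, mem_orbit_self]
    have h1 := key x hx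
    have h2 := key y hy
    rw [Finset.erase_eq_of_notMem hxO] at h1
    rw [Finset.card_erase_of_mem hyO] at h2
    have h3 := Nat.dvd_sub h1 h2
    rw [Nat.sub_sub_self (Finset.card_pos.mpr ⟨y, hyO⟩)] at h3
    exact hr (Nat.dvd_one.mp h3)

end Cfsg.Agent.Lib.Perm
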