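import Cfsg.Agent.Lib.Perm.PermCharacter

/-!
# Rank three groups of degree `2m` with constituents of degrees `m - 1` and `m`
-/

set_option autoImplicit false
set_option linter.unusedSectionVars false

namespace Cfsg.Agent.Lib.Perm.WielandtType

open Cfsg Cfsg.Agent.Lib.Characters Module Cfsg.Agent.Lib.Perm.PermCharacter

universe u v

variable {G : Type u} [Group G] [Fintype G] {Ω : Type v} [Fintype Ω] [MulAction G Ω]

theorem proj_mul_proj [DecidableEq (IrrCharacter G)] (χ ψ : IrrCharacter G) :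
    proj (Ω := Ω) χ * proj ψ =
      if χ = ψ then ((Nat.card G : ℂ) / (χ : G → ℂ) 1) • proj χ else 0 := by
  have hinner : ∀ g : G, ∑ h : G, (χ : G → ℂ) h⁻¹ * (ψ : G → ℂ) (g⁻¹ * h) =
      if χ = ψ then (Nat.card G : ℂ) / (χ : G → ℂ) 1 * (χ : G → ℂ) g⁻¹ else 0 := by
    intro g
    have h1 : ∑ h : G, (χ : G → ℂ) h⁻¹ * (ψ : G → ℂ) (g⁻¹ * h) =
        ∑ h : G, (χ : G → ℂ) h * (ψ : G → ℂ) (h⁻¹ * g⁻¹) := by
      refine Fintype.sum_equiv (Equiv.inv G) _ _ fun h => ?_
      simp only [Equiv.inv_apply, inv_inv]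
      congr 1
      rw [← IsCharacter.conj_apply (irr_isCharacter ψ) (h * g⁻¹) h⁻¹]
      group
    rw [h1, IsIrrCharacter.sum_mul_convolution χ.2 ψ.2]
    by_cases h : χ = ψ
    · rw [if_pos h, if_pos (congrArg Subtype.val h)]
    · rw [if_neg h, if_neg fun e => h (Subtype.ext e)]
  have h2 : proj (Ω := Ω) χ * proj ψ =
      ∑ g : G, (∑ h : G, (χ : G → ℂ) h⁻¹ * (ψ : G → ℂ) (g⁻¹ * h)) • Cfsg.permRep ℂ G Ω g := by
    simp only [proj, opSum]
    rw [Finset.sum_mul]
    simp only [Finset.mul_sum, Finset.sum_smul]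
    rw [Finset.sum_comm (f := fun (g : G) (h : G) =>
      ((χ : G → ℂ) h⁻¹ * (ψ : G → ℂ) (g⁻¹ * h)) • Cfsg.permRep ℂ G Ω g)]
    refine Finset.sum_congr rfl fun h _ => ?_
    refine Fintype.sum_equiv (Equiv.mulLeft h) _ _ fun k => ?_
    simp only [Equiv.coe_mulLeft, mul_inv_rev, inv_mul_cancel_right, map_mul]
    rw [smul_mul_assoc, mul_smul_comm, smul_smul]
  rw [h2]
  simp only [hinner]
  split_ifs with h
  · simp only [proj, opSum, Finset.smul_sum, smul_smul]
  · simp

theorem sum_char_inv (χ : IrrCharacter G) [Decidable ((χ : G → ℂ) = fun _ => 1)] :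
    ∑ g : G, (χ : G → ℂ) g⁻¹ = if (χ : G → ℂ) = fun _ => 1 then (Nat.card G : ℂ) else 0 := by
  classical
  have h := IsIrrCharacter.sum_mul_convolution χ.2 (trivIrr G).2 1
  rw [show ((trivIrr G : IrrCharacter G) : G → ℂ) = fun _ => 1 from rfl] at h
  simp only [mul_one] at h
  rw [Fintype.sum_equiv (Equiv.inv G) (fun g => (χ : G → ℂ) g⁻¹) (χ : G → ℂ) fun g => rfl, h]
  by_cases e : (χ : G → ℂ) = fun _ => 1
  · rw [if_pos e, if_pos e, congrFun e 1, div_one, mul_one]
  · rw [if_neg e, if_neg e]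

theorem proj_one (χ : IrrCharacter G) :
    proj (Ω := Ω) χ (fun _ => 1) = (∑ g : G, (χ : G → ℂ) g⁻¹) • fun _ => (1 : ℂ) := by
  rw [proj, opSum_apply, Finset.sum_smul]
  rfl

/-- The all-ones operator. -/
noncomputable def allOp (Ω : Type v) [Fintype Ω] : End ℂ (Ω → ℂ) :=
  Lib.Perm.kernelMap fun _ _ => (1 : ℂ)

theorem allOp_comm (g : G) : allOp Ω * Cfsg.permRep ℂ G Ω g = allOp Ω := by
  refine LinearMap.ext fun f => funext fun x => ?_
  show Lib.Perm.kernelMap (fun _ _ => (1 : ℂ)) (Cfsg.permRep ℂ G Ω g f) x =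
    Lib.Perm.kernelMap (fun _ _ => (1 : ℂ)) f x
  simp only [Lib.Perm.kernelMap_apply, one_mul, Lib.Perm.permRep_apply]
  exact Fintype.sum_equiv (MulAction.toPerm g⁻¹) _ _ fun y => rfl

theorem allOp_proj (χ : IrrCharacter G) :
    allOp Ω * proj χ = (∑ g : G, (χ : G → ℂ) g⁻¹) • allOp Ω := by
  simp only [proj, opSum, Finset.mul_sum, mul_smul_comm, allOp_comm, Finset.sum_smul]

/-- Arithmetic of the eigenvalue relations. -/
theorem arithmetic {k m s c : ℤ} (hk : 2 ≤ k) (hkm : k + 2 ≤ 2 * m - 1) (hks : k = s - m * c)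
    (h2 : k ^ 2 + (m - 1) * s ^ 2 + m * (c - s) ^ 2 = 2 * m * k) :
    ∃ a : ℕ, 0 < a ∧ m = 2 * (a : ℤ) ^ 2 + 2 * a + 1 ∧
      (k = (a : ℤ) * (2 * a + 1) ∨ k = ((a : ℤ) + 1) * (2 * a + 1)) := by
  subst hks
  have h3 : m * (m * (c * (c + 2)) - (2 * s - 2 * s ^ 2 + 4 * s * c - c ^ 2)) = 0 := by
    linear_combination h2
  have h4 : m * (c * (c + 2)) = 2 * s - 2 * s ^ 2 + 4 * s * c - c ^ 2 := by
    rcases mul_eq_zero.mp h3 with h | h <;> linarith
  rcases lt_trichotomy (c + 1) 0 with hc | hc | hc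
  · exfalso
    rcases eq_or_lt_of_le (show c ≤ -2 by omega) with rfl | hc'
    · have : (s + 1) * (s + 2) = 0 := by nlinarith
      rcases mul_eq_zero.mp this with h | h <;>
      · obtain rfl : s = _ := eq_neg_of_add_eq_zero_left h
        linarith
    · have hcc : 3 ≤ c * (c + 2) := by nlinarith
      nlinarith [sq_nonneg (4 * s - (4 * c + 2)),
        mul_le_mul_of_nonneg_left hcc (show 0 ≤ m - 1 by linarith)]
  · obtain rfl : c = -1 := by omega
    have hm : m = 2 * s ^ 2 + 2 * s + 1 := by linarith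
    rcases le_or_gt 0 s with hs | hs
    · refine ⟨s.toNat, ?_, ?_, Or.inr ?_⟩
      · rcases eq_or_lt_of_le hs with rfl | h
        · norm_num at hm; omega
        · omega
      · rw [Int.toNat_of_nonneg hs]; exact hm
      · rw [Int.toNat_of_nonneg hs, hm]; ring
    · refine ⟨(-s - 1).toNat, ?_, ?_, Or.inl ?_⟩
      · rcases eq_or_lt_of_le (show s ≤ -1 by omega) with rfl | h
        · norm_num at hm; omega
        · omega
      · rw [Int.toNat_of_nonneg (by omega : 0 ≤ -s - 1), hm]; ring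
      · rw [Int.toNat_of_nonneg (by omega : 0 ≤ -s - 1), hm]; ring
  · exfalso
    rcases eq_or_lt_of_le (show 0 ≤ c by omega) with rfl | hc'
    · have : s * (s - 1) = 0 := by nlinarith
      rcases mul_eq_zero.mp this with h | h <;> linarith
    · have hcc : 3 ≤ c * (c + 2) := by nlinarith
      nlinarith [sq_nonneg (4 * s - (4 * c + 2)),
        mul_le_mul_of_nonneg_left hcc (show 0 ≤ m - 1 by linarith)]

open scoped Classical in
theorem card_inOrbital [MulAction.IsPretransitive G Ω] (a b x : Ω) :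
    (Finset.univ.filter fun y => InOrbital (G := G) a b x y).card =
      Nat.card (MulAction.orbit (MulAction.stabilizer G a) b) := by
  have h := congrFun (orbitalOp_one (G := G) a b) x
  simp only [orbitalOp, Lib.Perm.kernelMap_apply, mul_one, Pi.smul_apply, smul_eq_mul] at h
  rw [Finset.sum_boole] at h
  exact_mod_cast h

theorem subdegree (hprim : MulAction.IsPreprimitive G Ω) {m : ℕ} (hm : Fintype.card Ω = 2 * m)
    (a₀ : Ω) (hrank : Nat.card (MulAction.orbitRel.Quotient (MulAction.stabilizer G a₀) Ω) = 3)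
    (χ₁ χ₂ : G → ℂ) (h₁ : Cfsg.IsIrrCharacter G χ₁) (h₂ : Cfsg.IsIrrCharacter G χ₂)
    (hπ : (fun g : G => (Nat.card (MulAction.fixedBy Ω g) : ℂ)) = fun g => 1 + χ₁ g + χ₂ g)
    (hd₁ : χ₁ 1 = (m : ℂ) - 1) (hd₂ : χ₂ 1 = m) (b : Ω) (hb : b ≠ a₀) :
    ∃ a : ℕ, 0 < a ∧ m = 2 * a ^ 2 + 2 * a + 1 ∧
      (Nat.card (MulAction.orbit (MulAction.stabilizer G a₀) b) = a * (2 * a + 1) ∨
        Nat.card (MulAction.orbit (MulAction.stabilizer G a₀) b) = (a + 1) * (2 * a + 1)) := by
  classical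
  haveI : Nonempty Ω := ⟨a₀⟩
  haveI := hprim.toIsPretransitive
  haveI := Fintype.ofFinite (IrrCharacter G)
  haveI := Fintype.ofFinite (MulAction.orbitRel.Quotient (MulAction.stabilizer G a₀) Ω)
  set H := MulAction.stabilizer G a₀
  set k := Nat.card (MulAction.orbit H b) with hk
  -- the three orbits
  let cls : Ω → MulAction.orbitRel.Quotient H Ω := fun x => Quotient.mk'' x
  have hmk : ∀ x y : Ω, cls x = cls y ↔ x ∈ MulAction.orbit H y := fun x y => by
    show Quotient.mk'' x = Quotient.mk'' y ↔ _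
    rw [Quotient.eq'']
    exact MulAction.orbitRel_apply
  have ha : ∀ x, cls x = cls a₀ → x = a₀ := fun x hx => by
    obtain ⟨⟨h, hh⟩, rfl⟩ := (hmk _ _).mp hx
    exact hh
  have hab : cls b ≠ cls a₀ := fun h => hb (ha b h)
  have herase : ((Finset.univ.erase (cls a₀)).erase (cls b)).card = 1 := by
    rw [Finset.card_erase_of_mem (Finset.mem_erase.mpr ⟨hab, Finset.mem_univ _⟩),
      Finset.card_erase_of_mem (Finset.mem_univ _), Finset.card_univ, ← Nat.card_eq_fintype_card,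
      hrank]
  obtain ⟨qc, hqc⟩ := Finset.card_eq_one.mp herase
  obtain ⟨c, rfl⟩ : ∃ c, cls c = qc := Quotient.mk''_surjective qc
  have hc := Finset.mem_erase.mp (hqc.ge (Finset.mem_singleton_self (cls c)))
  have hcb : cls c ≠ cls b := hc.1
  have hca : c ≠ a₀ := fun h => (Finset.mem_erase.mp hc.2).1 (congrArg cls h)
  have hcov : ∀ x, x ≠ a₀ → x ∈ MulAction.orbit H b ∨ x ∈ MulAction.orbit H c := by
    intro x hx
    by_cases h : cls x = cls b
    · exact Or.inl ((hmk _ _).mp h)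
    · refine Or.inr ((hmk _ _).mp (Finset.mem_singleton.mp (hqc.le ?_)))
      exact Finset.mem_erase.mpr ⟨h, Finset.mem_erase.mpr ⟨fun e => hx (ha x e), Finset.mem_univ _⟩⟩
  set l := Nat.card (MulAction.orbit H c) with hl
  have hsum : 1 + k + l = 2 * m := by
    have hfib : ∀ y : Ω, (Finset.univ.filter fun x => cls x = cls y).card =
        Nat.card (MulAction.orbit H y) := by
      intro y
      rw [← Fintype.card_subtype, ← Nat.card_eq_fintype_card]
      exact Nat.card_congr (Equiv.subtypeEquivRight fun x => hmk x y)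
    have h3 := Finset.card_eq_sum_card_fiberwise (f := cls) (s := (Finset.univ : Finset Ω))
      (t := Finset.univ) fun x _ => Finset.mem_univ _
    rw [← Finset.add_sum_erase _ _ (Finset.mem_univ (cls a₀)),
      ← Finset.add_sum_erase _ _ (Finset.mem_erase.mpr ⟨hab, Finset.mem_univ _⟩), hqc,
      Finset.sum_singleton, hfib, hfib, hfib, Finset.card_univ, hm] at h3
    have h1 : Nat.card (MulAction.orbit H a₀) = 1 := by
      rw [← hfib, Finset.card_eq_one]
      exact ⟨a₀, Finset.ext fun x => by simpa using ⟨ha x, fun h => congrArg cls h⟩⟩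
    omega
  have hkpos : ∀ y : Ω, 0 < Nat.card (MulAction.orbit H y) := fun y =>
    haveI : Nonempty (MulAction.orbit H y) := ⟨⟨y, MulAction.mem_orbit_self y⟩⟩
    Nat.card_pos
  -- self-pairing
  have hkl : k ≠ l := by omega
  have hexg : ∃ g : G, g • a₀ = b ∧ g • b = a₀ := by
    obtain ⟨g, hg⟩ := MulAction.exists_smul_eq G b a₀
    have hb' : g • a₀ ≠ a₀ := fun e => hb (MulAction.injective g (hg.trans e.symm))
    rcases hcov _ hb' with ⟨⟨h, hh⟩, e⟩ | ⟨⟨h, hh⟩, e⟩
    · change h • b = g • a₀ at e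
      refine ⟨h⁻¹ * g, ?_, ?_⟩
      · rw [mul_smul, ← e, inv_smul_smul]
      · rw [mul_smul, hg]
        exact inv_smul_eq_iff.mpr hh.symm
    · exfalso
      change h • c = g • a₀ at e
      have hiff : ∀ x y : Ω, InOrbital (G := G) a₀ b y x ↔ InOrbital (G := G) a₀ c x y := by
        intro x y
        constructor
        · rintro ⟨u, h1, h2⟩
          refine ⟨u * g⁻¹ * h, ?_, ?_⟩
          · rw [mul_smul, show h • a₀ = a₀ from hh, mul_smul, inv_smul_eq_iff.mpr hg.symm, h2]
          · rw [mul_smul, e, mul_smul, inv_smul_smul, h1]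
        · rintro ⟨u, h1, h2⟩
          refine ⟨u * h⁻¹ * g, ?_, ?_⟩
          · rw [mul_smul, ← e, mul_smul, inv_smul_smul, h2]
          · rw [mul_smul, hg, mul_smul, inv_smul_eq_iff.mpr (show a₀ = h • a₀ from hh.symm), h1]
      have e1 : ∑ x : Ω, (Finset.univ.filter fun y => InOrbital (G := G) a₀ c x y).card =
          ∑ y : Ω, (Finset.univ.filter fun x => InOrbital (G := G) a₀ b y x).card := by
        simp only [Finset.card_filter]
        rw [Finset.sum_comm]
        simp only [hiff]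
      simp only [card_inOrbital, Finset.sum_const, Finset.card_univ, smul_eq_mul] at e1
      exact hkl (Nat.eq_of_mul_eq_mul_left Fintype.card_pos e1).symm
  obtain ⟨g₀, hg₀a, hg₀b⟩ := hexg
  have hsymm : ∀ x y, InOrbital (G := G) a₀ b x y → InOrbital (G := G) a₀ b y x :=
    fun x y ⟨u, h1, h2⟩ => ⟨u * g₀, by rw [mul_smul, hg₀a, h2], by rw [mul_smul, hg₀b, h1]⟩
  have hirr : ∀ x, ¬ InOrbital (G := G) a₀ b x x :=
    fun x ⟨u, h1, h2⟩ => hb (MulAction.injective u (h2.trans h1.symm))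
  -- primitivity excludes subdegree one
  have hk2 : ∀ d, d ≠ a₀ → (∃ g : G, g • a₀ = d ∧ g • d = a₀) →
      2 ≤ Nat.card (MulAction.orbit H d) := by
    intro d hd ⟨g, hga, hgd⟩
    by_contra hlt
    have h1 : Nat.card (MulAction.orbit H d) = 1 := by have := hkpos d; omega
    have huniq : ∀ x y z : Ω, InOrbital (G := G) a₀ d x y → InOrbital (G := G) a₀ d x z → y = z := by
      intro x y z hy hz
      have := card_inOrbital (G := G) a₀ d x
      rw [h1] at this
      exact Finset.card_le_one.mp this.le y (by simp [hy]) z (by simp [hz])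
    have hblock : MulAction.IsBlock G ({a₀, d} : Set Ω) := by
      refine MulAction.isBlock_iff_smul_eq_of_mem.mpr fun u x hx hux => ?_
      have hp1 : InOrbital (G := G) a₀ d (u • a₀) (u • d) := ⟨u, rfl, rfl⟩
      have hp2 : InOrbital (G := G) a₀ d (u • d) (u • a₀) :=
        ⟨u * g, by rw [mul_smul, hga], by rw [mul_smul, hgd]⟩
      have hq1 : InOrbital (G := G) a₀ d a₀ d := ⟨1, one_smul _ _, one_smul _ _⟩
      have hq2 : InOrbital (G := G) a₀ d d a₀ := ⟨g, hga, hgd⟩
      rw [Set.smul_set_insert, Set.smul_set_singleton]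
      simp only [Set.mem_insert_iff, Set.mem_singleton_iff] at hx hux
      rcases hx with rfl | rfl <;> rcases hux with e | e <;> rw [e] at hp1 hp2 ⊢
      · rw [huniq _ _ _ hp1 hq1]
      · rw [huniq _ _ _ hp1 hq2]; exact Set.pair_comm _ _
      · rw [huniq _ _ _ hp2 hq1]; exact Set.pair_comm _ _
      · rw [huniq _ _ _ hp2 hq2]
    rcases hprim.isTrivialBlock_of_isBlock hblock with h | h
    · exact hd (h (Set.mem_insert_of_mem _ rfl) (Set.mem_insert _ _))
    · have h' : (Set.univ : Set Ω).ncard = 2 := by rw [← h, Set.ncard_pair (Ne.symm hd)]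
      rw [Set.ncard_univ, Nat.card_eq_fintype_card, hm] at h'
      have := hkpos b
      have := hkpos c
      omega
  have hk2b : 2 ≤ k := hk2 b hb ⟨g₀, hg₀a, hg₀b⟩
  have hk2c : 2 ≤ l := by
    refine hk2 c hca ?_
    obtain ⟨g, hg⟩ := MulAction.exists_smul_eq G c a₀
    have hc' : g • a₀ ≠ a₀ := fun e => hca (MulAction.injective g (hg.trans e.symm))
    rcases hcov _ hc' with ⟨⟨h, hh⟩, e⟩ | ⟨⟨h, hh⟩, e⟩
    · exfalso
      change h • b = g • a₀ at e
      have h3 : InOrbital (G := G) a₀ b a₀ (g • a₀) := ⟨h, hh, e⟩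
      obtain ⟨u, h1, h2⟩ := hsymm _ _ h3
      have h4 : (g⁻¹ * u) • a₀ = a₀ := by rw [mul_smul, h1, inv_smul_smul]
      have h5 : (g⁻¹ * u) • b = c := by rw [mul_smul, h2, inv_smul_eq_iff, hg]
      exact hcb ((hmk _ _).mpr ⟨⟨g⁻¹ * u, h4⟩, h5⟩)
    · change h • c = g • a₀ at e
      refine ⟨h⁻¹ * g, ?_, ?_⟩
      · rw [mul_smul, ← e, inv_smul_smul]
      · rw [mul_smul, hg]
        exact inv_smul_eq_iff.mpr hh.symm
  -- the operator
  set A := orbitalOp (G := G) a₀ b with hA
  have hAv : ∀ x y, A (Pi.single y (1 : ℂ)) x = if InOrbital (G := G) a₀ b x y then 1 else 0 := by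
    intro x y
    simp only [hA, orbitalOp, Lib.Perm.kernelMap_pi_single]
  let N : Ω → Ω → ℕ := fun x y =>
    (Finset.univ.filter fun z => InOrbital (G := G) a₀ b x z ∧ InOrbital (G := G) a₀ b z y).card
  have hNinv : ∀ (g : G) x y, N (g • x) (g • y) = N x y := by
    intro g x y
    refine (Finset.card_equiv (MulAction.toPerm g) fun z => ?_).symm
    simp only [Finset.mem_filter, Finset.mem_univ, true_and, MulAction.toPerm_apply,
      inOrbital_smul]
  have hNdiag : ∀ x, N x x = k := by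
    intro x
    rw [hk, ← card_inOrbital (G := G) a₀ b x]
    exact congrArg Finset.card (Finset.filter_congr fun z _ => ⟨And.left, fun h => ⟨h, hsymm _ _ h⟩⟩)
  set lam := N a₀ b
  set mu := N a₀ c
  have hNval : ∀ x y, N x y =
      if x = y then k else if InOrbital (G := G) a₀ b x y then lam else mu := by
    intro x y
    split_ifs with h1 h2
    · subst h1; exact hNdiag x
    · obtain ⟨u, rfl, rfl⟩ := h2
      exact hNinv u a₀ b
    · obtain ⟨u, rfl⟩ := MulAction.exists_smul_eq G a₀ x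
      obtain ⟨z, rfl⟩ : ∃ z, u • z = y := ⟨u⁻¹ • y, smul_inv_smul _ _⟩
      have hz : z ≠ a₀ := fun e => h1 (by rw [e])
      rcases hcov z hz with ⟨⟨h, hh⟩, e⟩ | ⟨⟨h, hh⟩, e⟩
      · change h • b = z at e
        exact absurd ⟨u * h, by rw [mul_smul, show h • a₀ = a₀ from hh], by rw [mul_smul, e]⟩ h2
      · change h • c = z at e
        rw [hNinv, ← e]
        conv_lhs => arg 1; rw [← show h • a₀ = a₀ from hh]
        exact hNinv h a₀ c
  have hAA : A * A = ((k : ℂ) - mu) • (1 : End ℂ (Ω → ℂ)) + ((lam : ℂ) - mu) • A +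
      (mu : ℂ) • allOp Ω := by
    refine (Pi.basisFun ℂ Ω).ext fun y => funext fun x => ?_
    simp only [Pi.basisFun_apply, LinearMap.add_apply, LinearMap.smul_apply, Pi.add_apply,
      Pi.smul_apply, smul_eq_mul, Module.End.one_apply, Module.End.mul_apply, hAv, allOp,
      Lib.Perm.kernelMap_pi_single, mul_one]
    have e : A (A (Pi.single y 1)) x = (N x y : ℂ) := by
      rw [show A (Pi.single y (1 : ℂ)) = fun z => if InOrbital (G := G) a₀ b z y then 1 else 0 from
        funext fun z => hAv z y]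
      simp only [hA, orbitalOp, Lib.Perm.kernelMap_apply]
      simp only [N, Finset.card_filter, Nat.cast_sum, ite_mul, one_mul, zero_mul, ← ite_and,
        Nat.cast_ite, Nat.cast_one, Nat.cast_zero]
    rw [e, hNval, Pi.single_apply]
    split_ifs with h1 h2
    · exact absurd (h1 ▸ h2) (hirr y)
    all_goals push_cast; ring
  -- the constituents
  set t := trivIrr G with ht
  let x₁ : IrrCharacter G := ⟨χ₁, h₁⟩
  let x₂ : IrrCharacter G := ⟨χ₂, h₂⟩
  have hmult : ∀ ψ : IrrCharacter G, mult (Ω := Ω) ψ =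
      (if t = ψ then 1 else 0) + (if x₁ = ψ then 1 else 0) + (if x₂ = ψ then 1 else 0) := by
    intro ψ
    have e := classInner_mult (Ω := Ω) ψ
    rw [hπ, show (fun g : G => 1 + χ₁ g + χ₂ g) =
        ((t : G → ℂ) + (x₁ : G → ℂ)) + (x₂ : G → ℂ) from rfl,
      classInner_add_left, classInner_add_left, classInner_irr, classInner_irr, classInner_irr] at e
    exact_mod_cast e.symm
  have hne1 : t ≠ x₁ := by
    intro e
    have := hmult t
    rw [mult_triv, if_pos rfl, if_pos e.symm] at this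
    omega
  have hne2 : t ≠ x₂ := by
    intro e
    have := hmult t
    rw [mult_triv, if_pos rfl, if_pos e.symm] at this
    omega
  have hne12 : x₁ ≠ x₂ := fun e => by
    have := congrFun (congrArg Subtype.val e) 1
    simp only [x₁, x₂, hd₁, hd₂] at this
    simp at this
  have hS : ∀ ψ, ψ ∈ ({t, x₁, x₂} : Finset (IrrCharacter G)) ↔ mult (Ω := Ω) ψ ≠ 0 := by
    intro ψ
    simp only [Finset.mem_insert, Finset.mem_singleton, hmult]
    constructor
    · rintro (rfl | rfl | rfl) <;> simp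
    · intro h
      by_contra hc
      push Not at hc
      exact h (by simp [Ne.symm hc.1, Ne.symm hc.2.1, Ne.symm hc.2.2])
  have hmf : ∀ ψ, mult (G := G) (Ω := Ω) ψ ≤ 1 := by
    intro ψ
    rw [hmult]
    split_ifs with e1 e2 e3 <;> first | omega | (subst_vars; contradiction) |
      exact absurd (‹t = ψ›.trans (Eq.symm ‹_›)) (by assumption) |
      exact absurd (‹x₁ = ψ›.trans (Eq.symm ‹_›)) (by assumption)
  obtain ⟨co, hco⟩ := exists_sum_proj hmf (mem_commutant.mpr (orbitalOp_comm a₀ b))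
  let co' : IrrCharacter G → ℂ := fun ψ => if h : mult (Ω := Ω) ψ ≠ 0 then co ⟨ψ, h⟩ else 0
  have hA3 : A = co' t • proj t + co' x₁ • proj x₁ + co' x₂ • proj x₂ := by
    rw [hA, hco]
    have e := Finset.sum_subtype (F := inferInstance) ({t, x₁, x₂} : Finset (IrrCharacter G)) hS
      (fun ψ => co' ψ • proj (Ω := Ω) ψ)
    rw [Finset.sum_insert (by simp [hne1, hne2]), Finset.sum_insert (by simp [hne12]),
      Finset.sum_singleton, ← add_assoc] at e
    rw [e]
    exact Finset.sum_congr rfl fun ψ _ => by simp only [co', dif_pos ψ.2]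
  let ev : IrrCharacter G → ℂ := fun ψ => co' ψ * ((Nat.card G : ℂ) / (ψ : G → ℂ) 1)
  have hAP : ∀ ψ, ψ = t ∨ ψ = x₁ ∨ ψ = x₂ → A * proj ψ = ev ψ • proj ψ := by
    intro ψ hψ
    rw [hA3, add_mul, add_mul, smul_mul_assoc, smul_mul_assoc, smul_mul_assoc,
      proj_mul_proj, proj_mul_proj, proj_mul_proj]
    rcases hψ with rfl | rfl | rfl
    · rw [if_pos rfl, if_neg (Ne.symm hne1), if_neg (Ne.symm hne2)]
      simp [ev, smul_smul]
    · rw [if_neg hne1, if_pos rfl, if_neg (Ne.symm hne12)]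
      simp [ev, smul_smul]
    · rw [if_neg hne2, if_neg hne12, if_pos rfl]
      simp [ev, smul_smul]
  have htrP : ∀ ψ : IrrCharacter G, mult (Ω := Ω) ψ = 1 →
      LinearMap.trace ℂ _ (proj (Ω := Ω) ψ) = (Nat.card G : ℂ) := by
    intro ψ hψ
    have := trace_proj_mul (Ω := Ω) ψ 1
    rwa [map_one, mul_one, hψ, Nat.cast_one, one_mul,
      div_mul_cancel₀ _ (IsIrrCharacter.apply_one_ne_zero ψ.2)] at this
  have hm1 : mult (Ω := Ω) x₁ = 1 := by
    rw [hmult, if_neg hne1, if_pos rfl, if_neg (Ne.symm hne12)]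
  have hm2 : mult (Ω := Ω) x₂ = 1 := by
    rw [hmult, if_neg hne2, if_neg hne12, if_pos rfl]
  have hG0 : (Nat.card G : ℂ) ≠ 0 := natCard_ne_zero_complex
  have hsum0 : ∀ ψ, ψ ≠ t → ∑ g : G, (ψ : G → ℂ) g⁻¹ = 0 := fun ψ hψ => by
    rw [sum_char_inv, if_neg (show ¬ ((ψ : G → ℂ) = fun _ => 1) from fun e => hψ (Subtype.ext e))]
  have ht1 : ((t : IrrCharacter G) : G → ℂ) 1 = 1 := rfl
  have het : ev t = k := by
    have e := congrArg (fun T : End ℂ (Ω → ℂ) => T (fun _ => 1) a₀) hA3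
    simp only [hA, orbitalOp_one, LinearMap.add_apply, LinearMap.smul_apply, proj_one,
      hsum0 x₁ (Ne.symm hne1), hsum0 x₂ (Ne.symm hne2), zero_smul, smul_zero, add_zero,
      Pi.smul_apply, smul_eq_mul, mul_one] at e
    rw [sum_char_inv, if_pos (show ((t : IrrCharacter G) : G → ℂ) = fun _ => 1 from rfl)] at e
    simp only [ev, ht1, div_one]
    exact e.symm
  have hmC : (m : ℂ) - 1 ≠ 0 := hd₁ ▸ IsIrrCharacter.apply_one_ne_zero h₁
  have hmC2 : (m : ℂ) ≠ 0 := hd₂ ▸ IsIrrCharacter.apply_one_ne_zero h₂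
  have hco1 : co' x₁ * (Nat.card G : ℂ) = ((m : ℂ) - 1) * ev x₁ := by
    simp only [ev, x₁, hd₁]
    field_simp
  have hco2 : co' x₂ * (Nat.card G : ℂ) = (m : ℂ) * ev x₂ := by
    simp only [ev, x₂, hd₂]
    field_simp
  have hcot : co' t * (Nat.card G : ℂ) = k := by
    rw [← het]; simp only [ev, ht1, div_one]
  have htrA : LinearMap.trace ℂ _ A = 0 := by
    rw [LinearMap.trace_eq_matrix_trace ℂ (Pi.basisFun ℂ Ω), Matrix.trace]
    refine Finset.sum_eq_zero fun x _ => ?_
    rw [Matrix.diag_apply, LinearMap.toMatrix_apply, Pi.basisFun_repr, Pi.basisFun_apply, hAv,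
      if_neg (hirr x)]
  have htrJ : LinearMap.trace ℂ _ (allOp Ω) = (2 * m : ℂ) := by
    rw [LinearMap.trace_eq_matrix_trace ℂ (Pi.basisFun ℂ Ω), Matrix.trace]
    simp only [Matrix.diag_apply, LinearMap.toMatrix_apply, Pi.basisFun_repr, Pi.basisFun_apply,
      allOp, Lib.Perm.kernelMap_pi_single, Finset.sum_const, Finset.card_univ, nsmul_eq_mul,
      mul_one, hm]
    push_cast
    rfl
  have htr1 : LinearMap.trace ℂ _ (1 : End ℂ (Ω → ℂ)) = (2 * m : ℂ) := by
    rw [LinearMap.trace_one, Module.finrank_fintype_fun_eq_card, hm]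
    push_cast
    rfl
  have eq1 : (k : ℂ) + ((m : ℂ) - 1) * ev x₁ + (m : ℂ) * ev x₂ = 0 := by
    have e := congrArg (LinearMap.trace ℂ (Ω → ℂ)) hA3
    rw [htrA] at e
    simp only [map_add, map_smul, htrP _ (mult_triv (G := G) (Ω := Ω)), htrP _ hm1, htrP _ hm2,
      smul_eq_mul, ht, hco1, hco2] at e
    rw [← ht, hcot] at e
    exact e.symm
  have eq2 : (k : ℂ) ^ 2 + ((m : ℂ) - 1) * ev x₁ ^ 2 + (m : ℂ) * ev x₂ ^ 2 =
      2 * (m : ℂ) * k := by
    have e := congrArg (LinearMap.trace ℂ (Ω → ℂ)) hAA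
    have e' : A * A = co' t • (A * proj t) + co' x₁ • (A * proj x₁) + co' x₂ • (A * proj x₂) := by
      conv_lhs => arg 2; rw [hA3]
      rw [mul_add, mul_add, mul_smul_comm, mul_smul_comm, mul_smul_comm]
    rw [e', hAP t (Or.inl rfl), hAP x₁ (Or.inr (Or.inl rfl)), hAP x₂ (Or.inr (Or.inr rfl))] at e
    simp only [map_add, map_smul, htrP t (mult_triv (G := G) (Ω := Ω)), htrP _ hm1, htrP _ hm2,
      smul_eq_mul, htrA, htrJ, htr1] at e
    rw [het] at e
    linear_combination e - (k : ℂ) * hcot - ev x₁ * hco1 - ev x₂ * hco2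
  have hquad : ∀ ψ, ψ = x₁ ∨ ψ = x₂ →
      ev ψ ^ 2 = ((k : ℂ) - mu) + ((lam : ℂ) - mu) * ev ψ := by
    intro ψ hψ
    have hψt : ψ ≠ t := by
      rcases hψ with rfl | rfl
      exacts [Ne.symm hne1, Ne.symm hne2]
    have hψm : mult (Ω := Ω) ψ = 1 := by
      rcases hψ with rfl | rfl
      exacts [hm1, hm2]
    have h := congrArg (fun T => LinearMap.trace ℂ (Ω → ℂ) (T * proj ψ)) hAA
    simp only [add_mul, smul_mul_assoc, one_mul, allOp_proj, hsum0 ψ hψt, zero_smul, smul_zero,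
      add_zero, mul_assoc, hAP ψ (Or.inr hψ), mul_smul_comm, smul_smul, map_add, map_smul,
      htrP ψ hψm, smul_eq_mul] at h
    have : ev ψ * ev ψ * (Nat.card G : ℂ) =
        (((k : ℂ) - mu) + ((lam : ℂ) - mu) * ev ψ) * (Nat.card G : ℂ) := by
      linear_combination h
    rw [sq]
    exact mul_right_cancel₀ hG0 this
  have hne : ev x₁ ≠ ev x₂ := by
    intro e
    rw [← e] at eq1 eq2
    have h2m : ((2 * m : ℂ) - 1) * ((2 * m : ℂ) * k * (k - ((2 * m : ℂ) - 1))) = 0 := by
      linear_combination ((2 * m : ℂ) - 1) ^ 2 * eq2 -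
        ((2 * m : ℂ) - 1) * (((2 * m : ℂ) - 1) * ev x₁ - k) * eq1
    rcases mul_eq_zero.mp h2m with h | h
    · have : ((2 * m : ℕ) : ℂ) = ((1 : ℕ) : ℂ) := by push_cast; linear_combination h
      have := Nat.cast_injective this
      omega
    · rcases mul_eq_zero.mp h with h | h
      · rcases mul_eq_zero.mp h with h | h
        · exact hmC2 (by simpa using h)
        · have : k = 0 := by exact_mod_cast h
          omega
      · have : ((k + 1 : ℕ) : ℂ) = ((2 * m : ℕ) : ℂ) := by push_cast; linear_combination h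
        have := Nat.cast_injective this
        omega
  have hsum12 : ev x₁ + ev x₂ = (lam : ℂ) - mu := by
    have h := hquad x₁ (Or.inl rfl)
    have h' := hquad x₂ (Or.inr rfl)
    exact mul_left_cancel₀ (sub_ne_zero.mpr hne) (by linear_combination h - h')
  set cz : ℤ := (lam : ℤ) - mu with hcz
  set sz : ℤ := (k : ℤ) + m * cz with hsz
  have hs : ev x₁ = (sz : ℂ) := by
    simp only [hsz, hcz]
    push_cast
    linear_combination -eq1 + (m : ℂ) * hsum12
  have ht' : ev x₂ = ((cz - sz : ℤ) : ℂ) := by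
    simp only [hsz, hcz]
    push_cast
    linear_combination eq1 + (1 - (m : ℂ)) * hsum12
  have h2z : (k : ℤ) ^ 2 + ((m : ℤ) - 1) * sz ^ 2 + (m : ℤ) * (cz - sz) ^ 2 = 2 * (m : ℤ) * k := by
    rw [hs, ht'] at eq2
    exact_mod_cast eq2
  obtain ⟨a, ha0, ham, hak⟩ := arithmetic (k := (k : ℤ)) (m := (m : ℤ)) (s := sz) (c := cz)
    (by exact_mod_cast hk2b) (by omega) (by rw [hsz]; ring) h2z
  exact ⟨a, ha0, by exact_mod_cast ham, hak.imp (fun h => by exact_mod_cast h)
    (fun h => by exact_mod_cast h)⟩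

end Cfsg.Agent.Lib.Perm.WielandtType
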