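import Cfsg.Agent.Lib.Characters.Perm
import Cfsg.Agent.Lib.Characters.Ortho
import Mathlib.GroupTheory.SpecificGroups.Alternating

/-!
# The characters of the partitions (n-1,1), (n-2,2) and (n-2,1,1)

They stay irreducible on every group that is as transitive as the alternating group on the
tuples of at most four points.
-/

set_option autoImplicit false
set_option linter.style.haveILetI false

namespace Cfsg.Agent.Lib.Perm.TwoRowChars

open Cfsg Cfsg.Agent.Lib.Characters
open scoped ComplexConjugate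

/-- Tuples of length at most four with one equality pattern lie in one orbit. -/
def TupleTrans (G : Type*) [Group G] (α : Type*) [MulAction G α] : Prop :=
  ∀ (k : ℕ), k ≤ 4 → ∀ x y : Fin k → α, (∀ i j, x i = x j ↔ y i = y j) → ∃ g : G, ∀ i, g • x i = y i

theorem exists_even_perm {α : Type*} [Fintype α] [DecidableEq α] {k : ℕ} (hk : k + 2 ≤ Fintype.card α)
    (x y : Fin k → α) (h : ∀ i j, x i = x j ↔ y i = y j) :
    ∃ σ : Equiv.Perm α, Equiv.Perm.sign σ = 1 ∧ ∀ i, σ (x i) = y i := by
  classical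
  have hb : ∃ f : {a // a ∈ Finset.univ.image x} ≃ {a // a ∈ Finset.univ.image y},
      ∀ i (hi : x i ∈ Finset.univ.image x), (f ⟨x i, hi⟩ : α) = y i := by
    have hx : ∀ a : {a // a ∈ Finset.univ.image x}, ∃ i, x i = a.1 := fun a => by
      obtain ⟨i, -, hi⟩ := Finset.mem_image.1 a.2; exact ⟨i, hi⟩
    choose r hr using hx
    let f : {a // a ∈ Finset.univ.image x} → {a // a ∈ Finset.univ.image y} :=
      fun a => ⟨y (r a), Finset.mem_image_of_mem _ (Finset.mem_univ _)⟩
    have hbij : Function.Bijective f := by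
      constructor
      · intro a b e
        have e' : y (r a) = y (r b) := congrArg Subtype.val e
        exact Subtype.ext (by rw [← hr a, ← hr b]; exact (h _ _).2 e')
      · rintro ⟨b, hb⟩
        obtain ⟨i, -, rfl⟩ := Finset.mem_image.1 hb
        refine ⟨⟨x i, Finset.mem_image_of_mem _ (Finset.mem_univ _)⟩, Subtype.ext ((h _ _).1 (hr _))⟩
    refine ⟨Equiv.ofBijective f hbij, fun i hi => ?_⟩
    exact (h _ _).1 (hr ⟨x i, hi⟩)
  obtain ⟨f, hf⟩ := hb
  set σ := f.extendSubtype with hσ
  have hσx : ∀ i, σ (x i) = y i := fun i => by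
    rw [hσ, Equiv.extendSubtype_apply_of_mem _ _ (Finset.mem_image_of_mem x (Finset.mem_univ i)), hf]
  rcases Int.units_eq_one_or (Equiv.Perm.sign σ) with hs | hs
  · exact ⟨σ, hs, hσx⟩
  · have hlt : 1 < (Finset.univ.image y)ᶜ.card := by
      have := Finset.card_image_le (s := (Finset.univ : Finset (Fin k))) (f := y)
      rw [Finset.card_univ, Fintype.card_fin] at this
      rw [Finset.card_compl]
      omega
    obtain ⟨a, ha, b, hb, hab⟩ := Finset.one_lt_card.1 hlt
    rw [Finset.mem_compl] at ha hb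
    refine ⟨Equiv.swap a b * σ, by rw [map_mul, Equiv.Perm.sign_swap hab, hs]; rfl, fun i => ?_⟩
    rw [Equiv.Perm.mul_apply, hσx, Equiv.swap_apply_of_ne_of_ne]
    · exact fun e => ha (e ▸ Finset.mem_image_of_mem y (Finset.mem_univ i))
    · exact fun e => hb (e ▸ Finset.mem_image_of_mem y (Finset.mem_univ i))

theorem tupleTrans_perm {n : ℕ} (hn : 6 ≤ n) : TupleTrans (Equiv.Perm (Fin n)) (Fin n) := by
  intro k hk x y h
  obtain ⟨σ, -, hσ⟩ := exists_even_perm (by rw [Fintype.card_fin]; omega) x y h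
  exact ⟨σ, hσ⟩

theorem tupleTrans_alt {n : ℕ} (hn : 6 ≤ n) : TupleTrans (alternatingGroup (Fin n)) (Fin n) := by
  intro k hk x y h
  obtain ⟨σ, hs, hσ⟩ := exists_even_perm (by rw [Fintype.card_fin]; omega) x y h
  exact ⟨⟨σ, Equiv.Perm.mem_alternatingGroup.2 hs⟩, hσ⟩

/-- Orbits are counted by a complete invariant. -/
theorem card_orbits {G Z β : Type*} [Group G] [MulAction G Z] (inv : Z → β)
    (hinv : ∀ (g : G) z, inv (g • z) = inv z) (hsep : ∀ z z', inv z = inv z' → ∃ g : G, g • z = z')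
    (hsur : Function.Surjective inv) :
    Nat.card (Quotient (MulAction.orbitRel G Z)) = Nat.card β := by
  refine Nat.card_congr (Equiv.ofBijective (Quotient.lift inv ?_) ⟨?_, ?_⟩)
  · rintro a b ⟨g, rfl⟩
    exact hinv g b
  · rintro ⟨a⟩ ⟨b⟩ e
    obtain ⟨g, hg⟩ := hsep b a (e : inv a = inv b).symm
    exact Quotient.sound ⟨g, hg⟩
  · intro b
    obtain ⟨z, hz⟩ := hsur b
    exact ⟨Quotient.mk _ z, hz⟩

/-- The two-element subsets. -/
def TwoSet (α : Type*) := {s : Finset α // s.card = 2}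

instance {G α : Type*} [Group G] [MulAction G α] : MulAction G (TwoSet α) where
  smul g s := ⟨s.1.map (MulAction.toPerm g).toEmbedding, by rw [Finset.card_map]; exact s.2⟩
  one_smul s := Subtype.ext (Finset.ext fun a => by
    show a ∈ s.1.map _ ↔ _
    simp)
  mul_smul g h s := Subtype.ext (Finset.ext fun a => by
    show a ∈ s.1.map _ ↔ a ∈ (s.1.map _).map _
    simp [Finset.mem_map, mul_smul])

instance {α : Type*} [Finite α] : Finite (TwoSet α) :=
  haveI := Fintype.ofFinite α
  inferInstanceAs (Finite {s : Finset α // s.card = 2})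

variable {G : Type*} [Group G] {α : Type*} [MulAction G α]

theorem mem_smul_twoSet (g : G) (s : TwoSet α) (a : α) : g • a ∈ (g • s).1 ↔ a ∈ s.1 := by
  show g • a ∈ s.1.map _ ↔ _
  simp [Finset.mem_map]

theorem smul_twoSet_eq [DecidableEq α] (g : G) {a b c d : α} (s t : TwoSet α) (hs : s.1 = {a, b})
    (ht : t.1 = {c, d}) (h1 : g • a = c) (h2 : g • b = d) : g • s = t := by
  refine Subtype.ext (Finset.ext fun z => ?_)
  show z ∈ s.1.map _ ↔ _
  rw [hs, ht]
  simp [Finset.mem_map, h1, h2, eq_comm]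

theorem exists_other [DecidableEq α] (s : TwoSet α) {a : α} (h : a ∈ s.1) :
    ∃ b, a ≠ b ∧ s.1 = {a, b} := by
  obtain ⟨u, v, huv, e⟩ := Finset.card_eq_two.1 s.2
  rw [e] at h
  rcases Finset.mem_insert.1 h with rfl | h
  · exact ⟨v, huv, e⟩
  · rw [Finset.mem_singleton] at h
    subst h
    exact ⟨u, huv.symm, by rw [e, Finset.pair_comm]⟩

/-- The number of fixed points. -/
noncomputable def fix1 (G α : Type*) [Group G] [MulAction G α] : G → ℂ :=
  fun g => (Nat.card (MulAction.fixedBy α g) : ℂ)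

/-- The number of fixed two-element subsets. -/
noncomputable def fix2 (G α : Type*) [Group G] [MulAction G α] : G → ℂ :=
  fun g => (Nat.card (MulAction.fixedBy (TwoSet α) g) : ℂ)

/-- The character of the partition `(n-1,1)`. -/
noncomputable def chi1 (G α : Type*) [Group G] [MulAction G α] : G → ℂ := fix1 G α - 1

/-- The character of the partition `(n-2,2)`. -/
noncomputable def chi22 (G α : Type*) [Group G] [MulAction G α] : G → ℂ := fix2 G α - fix1 G α

/-- The character of the partition `(n-2,1,1)`. -/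
noncomputable def chi211 (G α : Type*) [Group G] [MulAction G α] : G → ℂ :=
  fix1 G α * fix1 G α - fix2 G α - (fix1 G α + fix1 G α) + 1

variable [Fintype G]

theorem classInner_fix (X Y : Type*) [MulAction G X] [MulAction G Y] [Finite X] [Finite Y] :
    classInner (fun g : G => (Nat.card (MulAction.fixedBy X g) : ℂ))
      (fun g : G => (Nat.card (MulAction.fixedBy Y g) : ℂ)) =
      (Nat.card (Quotient (MulAction.orbitRel G (X × Y))) : ℂ) := by
  rw [← classInner_permChar_one (X × Y)]
  have : ∀ g : G, Nat.card (MulAction.fixedBy (X × Y) g) =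
      Nat.card (MulAction.fixedBy X g) * Nat.card (MulAction.fixedBy Y g) := by
    intro g
    rw [← Nat.card_prod]
    exact Nat.card_congr
      { toFun := fun q => (⟨q.1.1, congrArg Prod.fst q.2⟩, ⟨q.1.2, congrArg Prod.snd q.2⟩)
        invFun := fun q => ⟨(q.1.1, q.2.1), Prod.ext q.1.2 q.2.2⟩
        left_inv := fun q => rfl
        right_inv := fun q => rfl }
  unfold classInner
  simp [this, map_natCast]

theorem fix1_sq_eq [Finite α] :
    fix1 G α * fix1 G α = fun g : G => (Nat.card (MulAction.fixedBy (α × α) g) : ℂ) := by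
  funext g
  show (Nat.card (MulAction.fixedBy α g) : ℂ) * (Nat.card (MulAction.fixedBy α g) : ℂ) = _
  rw [← Nat.cast_mul, ← Nat.card_prod]
  congr 1
  exact (Nat.card_congr
      { toFun := fun q : MulAction.fixedBy (α × α) g => ((⟨q.1.1, congrArg Prod.fst q.2⟩, ⟨q.1.2, congrArg Prod.snd q.2⟩) :
          MulAction.fixedBy α g × MulAction.fixedBy α g)
        invFun := fun q => ⟨(q.1.1, q.2.1), Prod.ext q.1.2 q.2.2⟩
        left_inv := fun q => rfl
        right_inv := fun q => rfl }).symm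

variable {n : ℕ} [MulAction G (Fin n)]

theorem orbits_one (hT : TupleTrans G (Fin n)) (hn : 1 ≤ n) :
    Nat.card (Quotient (MulAction.orbitRel G (Fin n))) = 1 := by
  rw [card_orbits (fun _ : Fin n => ()) (fun _ _ => rfl) (fun a b _ => ?_) (fun _ => ⟨⟨0, hn⟩, rfl⟩),
    Nat.card_unique]
  obtain ⟨g, hg⟩ := hT 1 (by omega) ![a] ![b] fun i j => by simp [Subsingleton.elim i j]
  exact ⟨g, by simpa using hg 0⟩

theorem orbits_two (hT : TupleTrans G (Fin n)) (hn : 2 ≤ n) :
    Nat.card (Quotient (MulAction.orbitRel G (Fin n × Fin n))) = 2 := by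
  rw [card_orbits (fun q : Fin n × Fin n => decide (q.1 = q.2)) (fun g q => by simp) (fun q q' h => ?sep) ?sur,
    Nat.card_eq_fintype_card, Fintype.card_bool]
  case sep =>
    have h' : q.1 = q.2 ↔ q'.1 = q'.2 := by simpa using h
    obtain ⟨g, hg⟩ := hT 2 (by omega) ![q.1, q.2] ![q'.1, q'.2] fun i j => by
      fin_cases i <;> fin_cases j <;> simp [h', @eq_comm _ q.2, @eq_comm _ q'.2]
    exact ⟨g, Prod.ext (by simpa using hg 0) (by simpa using hg 1)⟩
  case sur =>
    intro b
    cases b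
    · exact ⟨(⟨0, by omega⟩, ⟨1, by omega⟩), by simp⟩
    · exact ⟨(⟨0, by omega⟩, ⟨0, by omega⟩), by simp⟩

theorem orbits_three (hT : TupleTrans G (Fin n)) (hn : 3 ≤ n) :
    Nat.card (Quotient (MulAction.orbitRel G ((Fin n × Fin n) × Fin n))) = 5 := by
  let I : (Fin n × Fin n) × Fin n → {v : Bool × Bool × Bool //
      ((v.1 ∧ v.2.1) → v.2.2) ∧ ((v.1 ∧ v.2.2) → v.2.1) ∧ ((v.2.1 ∧ v.2.2) → v.1)} :=
    fun q => ⟨(decide (q.1.1 = q.1.2), decide (q.1.1 = q.2), decide (q.1.2 = q.2)),
      by simp; refine ⟨?_, ?_, ?_⟩ <;> intro a b <;> simp [← a, ← b] at * <;> simp_all⟩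
  rw [card_orbits I (fun g q => Subtype.ext (by simp [I])) (fun q q' h => ?sep) ?sur]
  · rw [Nat.card_eq_fintype_card]; decide
  case sep =>
    have h' := congrArg Subtype.val h
    simp only [I, Prod.mk.injEq, decide_eq_decide] at h'
    obtain ⟨h1, h2, h3⟩ := h'
    obtain ⟨g, hg⟩ := hT 3 (by omega) ![q.1.1, q.1.2, q.2] ![q'.1.1, q'.1.2, q'.2] fun i j => by
      fin_cases i <;> fin_cases j <;>
        simp [h1, h2, h3, @eq_comm _ q.1.2 q.1.1, @eq_comm _ q.2, @eq_comm _ q'.1.2 q'.1.1, @eq_comm _ q'.2]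
    exact ⟨g, Prod.ext (Prod.ext (by simpa using hg 0) (by simpa using hg 1)) (by simpa using hg 2)⟩
  case sur =>
    rintro ⟨⟨u, v, w⟩, h⟩
    refine ⟨((⟨0, by omega⟩, ⟨if u then 0 else 1, by split <;> omega⟩),
      ⟨if v then 0 else if w then 1 else 2, by split <;> [omega; (split <;> omega)]⟩), Subtype.ext ?_⟩
    cases u <;> cases v <;> cases w <;> first | (simp at h; done) | simp_all [I]

theorem orbits_four (hT : TupleTrans G (Fin n)) (hn : 4 ≤ n) :
    Nat.card (Quotient (MulAction.orbitRel G ((Fin n × Fin n) × (Fin n × Fin n)))) = 15 := by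
  let z : (Fin n × Fin n) × (Fin n × Fin n) → Fin 4 → Fin n :=
    fun q => ![q.1.1, q.1.2, q.2.1, q.2.2]
  let P : (Fin n × Fin n) × (Fin n × Fin n) → Fin 4 → Fin 4 :=
    fun q i => (Finset.univ.filter fun j => z q j = z q i).min' ⟨i, by simp⟩
  have hP1 : ∀ q i, z q (P q i) = z q i := fun q i =>
    (Finset.mem_filter.1 (Finset.min'_mem (Finset.univ.filter fun j => z q j = z q i) ⟨i, by simp⟩)).2
  have hP : ∀ q i, (P q i).1 ≤ i.1 ∧ P q (P q i) = P q i := by
    intro q i
    refine ⟨Finset.min'_le (Finset.univ.filter fun j => z q j = z q i) i (Finset.mem_filter.2 ⟨Finset.mem_univ _, rfl⟩), ?_⟩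
    simp only [P]
    congr 1
    ext j
    simp only [Finset.mem_filter, Finset.mem_univ, true_and]
    exact ⟨fun e => e.trans (hP1 q i), fun e => e.trans (hP1 q i).symm⟩
  let I : (Fin n × Fin n) × (Fin n × Fin n) →
      {v : Fin 4 → Fin 4 // ∀ i, (v i).1 ≤ i.1 ∧ v (v i) = v i} := fun q => ⟨P q, hP q⟩
  have hzsmul : ∀ (g : G) q i, z (g • q) i = g • z q i := fun g q i => by fin_cases i <;> rfl
  have hPeq : ∀ q i j, z q i = z q j ↔ P q i = P q j := by
    intro q i j
    constructor
    · intro e; simp only [P, e]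
    · intro e; rw [← hP1 q i, e, hP1]
  rw [card_orbits I (fun g q => Subtype.ext ?inv) (fun q q' h => ?sep) ?sur]
  · rw [Nat.card_eq_fintype_card]; decide
  case inv =>
    funext i
    show P (g • q) i = P q i
    simp only [P, hzsmul, MulAction.injective g |>.eq_iff]
  case sep =>
    have h' : P q = P q' := congrArg Subtype.val h
    obtain ⟨g, hg⟩ := hT 4 le_rfl (z q) (z q') fun i j => by rw [hPeq, hPeq, h']
    exact ⟨g, Prod.ext (Prod.ext (hg 0) (hg 1)) (Prod.ext (hg 2) (hg 3))⟩
  case sur =>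
    rintro ⟨v, hv⟩
    let e : Fin 4 → Fin n := fun i => ⟨(v i).1, by omega⟩
    refine ⟨((e 0, e 1), (e 2, e 3)), Subtype.ext (funext fun i => ?_)⟩
    have hz : ∀ j, z ((e 0, e 1), (e 2, e 3)) j = e j := fun j => by fin_cases j <;> rfl
    show P _ i = v i
    simp only [P, hz, e, Fin.mk.injEq, ← Fin.ext_iff]
    refine le_antisymm (Finset.min'_le _ _ (by simp [(hv i).2])) (Finset.le_min' _ _ _ fun j hj => ?_)
    rw [Finset.mem_filter] at hj
    rw [← hj.2]
    exact (hv j).1

theorem orbits_pair (hT : TupleTrans G (Fin n)) (hn : 2 ≤ n) :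
    Nat.card (Quotient (MulAction.orbitRel G (TwoSet (Fin n)))) = 1 := by
  rw [card_orbits (fun _ : TwoSet (Fin n) => ()) (fun _ _ => rfl) (fun s t _ => ?sep)
    (fun _ => ⟨⟨{⟨0, by omega⟩, ⟨1, by omega⟩}, Finset.card_pair (by simp [Fin.ext_iff])⟩, rfl⟩), Nat.card_unique]
  obtain ⟨a, b, hab, hs⟩ := Finset.card_eq_two.1 s.2
  obtain ⟨c, d, hcd, ht⟩ := Finset.card_eq_two.1 t.2
  obtain ⟨g, hg⟩ := hT 2 (by omega) ![a, b] ![c, d] fun i j => by
    fin_cases i <;> fin_cases j <;> simp [hab, hcd, hab.symm, hcd.symm]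
  exact ⟨g, smul_twoSet_eq g s t hs ht (by simpa using hg 0) (by simpa using hg 1)⟩

theorem orbits_pair_point (hT : TupleTrans G (Fin n)) (hn : 3 ≤ n) :
    Nat.card (Quotient (MulAction.orbitRel G (TwoSet (Fin n) × Fin n))) = 2 := by
  rw [card_orbits (fun q : TwoSet (Fin n) × Fin n => decide (q.2 ∈ q.1.1))
    (fun g q => by simp [mem_smul_twoSet]) (fun q q' h => ?sep) ?sur, Nat.card_eq_fintype_card, Fintype.card_bool]
  case sep =>
    obtain ⟨s, x⟩ := q
    obtain ⟨t, y⟩ := q'
    have h' : x ∈ s.1 ↔ y ∈ t.1 := by simpa using h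
    by_cases hx : x ∈ s.1
    · obtain ⟨b, hb, hs⟩ := exists_other s hx
      obtain ⟨d, hd, ht⟩ := exists_other t (h'.1 hx)
      obtain ⟨g, hg⟩ := hT 2 (by omega) ![x, b] ![y, d] fun i j => by
        fin_cases i <;> fin_cases j <;> simp [hb, hd, hb.symm, hd.symm]
      exact ⟨g, Prod.ext (smul_twoSet_eq g s t hs ht (by simpa using hg 0) (by simpa using hg 1))
        (by simpa using hg 0)⟩
    · obtain ⟨a, b, hab, hs⟩ := Finset.card_eq_two.1 s.2
      obtain ⟨c, d, hcd, ht⟩ := Finset.card_eq_two.1 t.2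
      have hy : y ∉ t.1 := mt h'.2 hx
      simp only [hs, Finset.mem_insert, Finset.mem_singleton, not_or] at hx
      simp only [ht, Finset.mem_insert, Finset.mem_singleton, not_or] at hy
      obtain ⟨g, hg⟩ := hT 3 (by omega) ![a, b, x] ![c, d, y] fun i j => by
        fin_cases i <;> fin_cases j <;> simp [hab, hcd, hab.symm, hcd.symm, hx.1, hx.2, hy.1, hy.2,
          Ne.symm hx.1, Ne.symm hx.2, Ne.symm hy.1, Ne.symm hy.2]
      exact ⟨g, Prod.ext (smul_twoSet_eq g s t hs ht (by simpa using hg 0) (by simpa using hg 1))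
        (by simpa using hg 2)⟩
  case sur =>
    intro b
    cases b
    · exact ⟨(⟨{⟨0, by omega⟩, ⟨1, by omega⟩}, Finset.card_pair (by simp [Fin.ext_iff])⟩, ⟨2, by omega⟩), by simp [Fin.ext_iff]⟩
    · exact ⟨(⟨{⟨0, by omega⟩, ⟨1, by omega⟩}, Finset.card_pair (by simp [Fin.ext_iff])⟩, ⟨0, by omega⟩), by simp⟩

theorem orbits_pair_pair (hT : TupleTrans G (Fin n)) (hn : 4 ≤ n) :
    Nat.card (Quotient (MulAction.orbitRel G (TwoSet (Fin n) × TwoSet (Fin n)))) = 3 := by
  let I : TwoSet (Fin n) × TwoSet (Fin n) → Fin 3 := fun q => ⟨(q.1.1 ∩ q.2.1).card, by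
    have := Finset.card_le_card (Finset.inter_subset_left (s₁ := q.1.1) (s₂ := q.2.1))
    have := q.1.2
    omega⟩
  rw [card_orbits I (fun g q => Fin.ext ?inv) (fun q q' h => ?sep) ?sur, Nat.card_eq_fintype_card, Fintype.card_fin]
  case inv =>
    show ((q.1.1.map _) ∩ (q.2.1.map _)).card = _
    rw [← Finset.map_inter, Finset.card_map]
  case sep =>
    obtain ⟨s, t⟩ := q
    obtain ⟨s', t'⟩ := q'
    have h' : (s.1 ∩ t.1).card = (s'.1 ∩ t'.1).card := congrArg Fin.val h
    by_cases he : s = t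
    · subst he
      have : s' = t' := by
        rw [Finset.inter_self, s.2] at h'
        refine Subtype.ext (Finset.eq_of_subset_of_card_le ?_ (by rw [s'.2, t'.2]))
        exact (Finset.inter_eq_left.1 (Finset.eq_of_subset_of_card_le Finset.inter_subset_left (by rw [← h', s'.2])))
      subst this
      obtain ⟨g, hg⟩ : ∃ g : G, g • s = s' := by
        obtain ⟨a, b, hab, hs⟩ := Finset.card_eq_two.1 s.2
        obtain ⟨c, d, hcd, ht⟩ := Finset.card_eq_two.1 s'.2
        obtain ⟨g, hg⟩ := hT 2 (by omega) ![a, b] ![c, d] fun i j => by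
          fin_cases i <;> fin_cases j <;> simp [hab, hcd, hab.symm, hcd.symm]
        exact ⟨g, smul_twoSet_eq g s s' hs ht (by simpa using hg 0) (by simpa using hg 1)⟩
      exact ⟨g, Prod.ext hg hg⟩
    · by_cases hd : Disjoint s.1 t.1
      · have hd' : Disjoint s'.1 t'.1 := by
          rw [Finset.disjoint_iff_inter_eq_empty, ← Finset.card_eq_zero] at hd ⊢
          omega
        obtain ⟨a, b, hab, hs⟩ := Finset.card_eq_two.1 s.2
        obtain ⟨c, d, hcd, ht⟩ := Finset.card_eq_two.1 t.2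
        obtain ⟨a', b', hab', hs'⟩ := Finset.card_eq_two.1 s'.2
        obtain ⟨c', d', hcd', ht'⟩ := Finset.card_eq_two.1 t'.2
        rw [hs, ht] at hd
        rw [hs', ht'] at hd'
        simp only [Finset.disjoint_insert_left, Finset.disjoint_singleton_left, Finset.mem_insert,
          Finset.mem_singleton, not_or] at hd hd'
        obtain ⟨g, hg⟩ := hT 4 le_rfl ![a, b, c, d] ![a', b', c', d'] fun i j => by
          fin_cases i <;> fin_cases j <;> simp [hab, hcd, hab', hcd', hd.1.1, hd.1.2, hd.2.1, hd.2.2,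
            hd'.1.1, hd'.1.2, hd'.2.1, hd'.2.2, hab.symm, hcd.symm, hab'.symm, hcd'.symm, Ne.symm hd.1.1,
            Ne.symm hd.1.2, Ne.symm hd.2.1, Ne.symm hd.2.2, Ne.symm hd'.1.1, Ne.symm hd'.1.2, Ne.symm hd'.2.1,
            Ne.symm hd'.2.2]
        exact ⟨g, Prod.ext (smul_twoSet_eq g s s' hs hs' (by simpa using hg 0) (by simpa using hg 1))
          (smul_twoSet_eq g t t' ht ht' (by simpa using hg 2) (by simpa using hg 3))⟩
      · obtain ⟨a, has, hat⟩ := Finset.not_disjoint_iff.1 hd
        obtain ⟨b, hab, hs⟩ := exists_other s has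
        obtain ⟨c, hac, ht⟩ := exists_other t hat
        have hbc : b ≠ c := fun e => he (Subtype.ext (by rw [hs, ht, e]))
        have hd' : ¬ Disjoint s'.1 t'.1 := by
          rw [Finset.disjoint_iff_inter_eq_empty, ← Finset.card_eq_zero] at hd ⊢
          omega
        obtain ⟨a', has', hat'⟩ := Finset.not_disjoint_iff.1 hd'
        obtain ⟨b', hab', hs'⟩ := exists_other s' has'
        obtain ⟨c', hac', ht'⟩ := exists_other t' hat'
        have hbc' : b' ≠ c' := fun e => by
          have e' : s'.1 ∩ t'.1 = s'.1 := by rw [hs', ht', e, Finset.inter_self]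
          rw [e', s'.2] at h'
          have e2 : s.1 ∩ t.1 = s.1 := Finset.eq_of_subset_of_card_le Finset.inter_subset_left (by rw [h', s.2])
          exact he (Subtype.ext (Finset.eq_of_subset_of_card_le (Finset.inter_eq_left.1 e2) (by rw [s.2, t.2])))
        obtain ⟨g, hg⟩ := hT 3 (by omega) ![a, b, c] ![a', b', c'] fun i j => by
          fin_cases i <;> fin_cases j <;> simp [hab, hac, hbc, hab', hac', hbc', hab.symm, hac.symm,
            hbc.symm, hab'.symm, hac'.symm, hbc'.symm]
        exact ⟨g, Prod.ext (smul_twoSet_eq g s s' hs hs' (by simpa using hg 0) (by simpa using hg 1))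
          (smul_twoSet_eq g t t' ht ht' (by simpa using hg 0) (by simpa using hg 2))⟩
  case sur =>
    let e : Fin 4 → Fin n := fun i => ⟨i.1, by omega⟩
    have he : Function.Injective e := fun i j h => Fin.ext (congrArg (Fin.val : Fin n → ℕ) h :)
    intro k
    fin_cases k
    · exact ⟨(⟨{e 0, e 1}, Finset.card_pair (he.ne (by decide))⟩, ⟨{e 2, e 3}, Finset.card_pair (he.ne (by decide))⟩),
        Fin.ext (by simp [I, he.eq_iff])⟩
    · exact ⟨(⟨{e 0, e 1}, Finset.card_pair (he.ne (by decide))⟩, ⟨{e 1, e 2}, Finset.card_pair (he.ne (by decide))⟩),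
        Fin.ext (by simp [I, he.eq_iff, Finset.inter_insert_of_mem, Finset.inter_insert_of_notMem])⟩
    · exact ⟨(⟨{e 0, e 1}, Finset.card_pair (he.ne (by decide))⟩, ⟨{e 0, e 1}, Finset.card_pair (he.ne (by decide))⟩),
        Fin.ext (by simp [I, Finset.card_pair (he.ne (show (0 : Fin 4) ≠ 1 by decide))])⟩

theorem orbits_pair_two (hT : TupleTrans G (Fin n)) (hn : 4 ≤ n) :
    Nat.card (Quotient (MulAction.orbitRel G (TwoSet (Fin n) × (Fin n × Fin n)))) = 6 := by
  let I : TwoSet (Fin n) × (Fin n × Fin n) →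
      {v : Bool × Bool × Bool // v.2.2 → v.1 = v.2.1} :=
    fun q => ⟨(decide (q.2.1 ∈ q.1.1), decide (q.2.2 ∈ q.1.1), decide (q.2.1 = q.2.2)), by
      intro h
      simp only [decide_eq_true_eq] at h
      simp [h]⟩
  rw [card_orbits I (fun g q => Subtype.ext (by simp [I, mem_smul_twoSet])) (fun q q' h => ?sep) ?sur]
  · rw [Nat.card_eq_fintype_card]; decide
  case sep =>
    obtain ⟨s, x, y⟩ := q
    obtain ⟨t, u, v⟩ := q'
    have h' := congrArg Subtype.val h
    simp only [I, Prod.mk.injEq, decide_eq_decide] at h'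
    obtain ⟨h1, h2, h3⟩ := h'
    suffices hk : ∃ a b c d : Fin n, s.1 = {a, b} ∧ t.1 = {c, d} ∧
        ∀ i j, ![a, b, x, y] i = ![a, b, x, y] j ↔ ![c, d, u, v] i = ![c, d, u, v] j by
      obtain ⟨a, b, c, d, hs, ht, hpat⟩ := hk
      obtain ⟨g, hg⟩ := hT 4 le_rfl _ _ hpat
      exact ⟨g, Prod.ext (smul_twoSet_eq g s t hs ht (hg 0) (hg 1)) (Prod.ext (hg 2) (hg 3))⟩
    by_cases hx : x ∈ s.1
    · obtain ⟨b, hb, hs⟩ := exists_other s hx
      obtain ⟨d, hd, ht⟩ := exists_other t (h1.1 hx)
      refine ⟨x, b, u, d, hs, ht, fun i j => ?_⟩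
      have hyb : y = b ↔ v = d := by
        constructor
        · intro e
          have hv : v ∈ t.1 := h2.1 (by rw [hs, e]; simp)
          rw [ht, Finset.mem_insert, Finset.mem_singleton] at hv
          exact hv.resolve_left fun e' => hb ((h3.2 e'.symm).trans e)
        · intro e
          have hy : y ∈ s.1 := h2.2 (by rw [ht, e]; simp)
          rw [hs, Finset.mem_insert, Finset.mem_singleton] at hy
          exact hy.resolve_left fun e' => hd ((h3.1 e'.symm).trans e)
      fin_cases i <;> fin_cases j <;> simp [hb, hd, hb.symm, hd.symm, hyb, h3, @eq_comm _ b y, @eq_comm _ d v,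
        @eq_comm _ y x, @eq_comm _ v u]
    · have hu : u ∉ t.1 := mt h1.2 hx
      by_cases hy : y ∈ s.1
      · obtain ⟨b, hb, hs⟩ := exists_other s hy
        obtain ⟨d, hd, ht⟩ := exists_other t (h2.1 hy)
        rw [hs, Finset.mem_insert, Finset.mem_singleton, not_or] at hx
        rw [ht, Finset.mem_insert, Finset.mem_singleton, not_or] at hu
        refine ⟨y, b, v, d, hs, ht, fun i j => ?_⟩
        fin_cases i <;> fin_cases j <;> simp [hb, hd, hb.symm, hd.symm, hx.1, hx.2, hu.1, hu.2,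
          Ne.symm hx.1, Ne.symm hx.2, Ne.symm hu.1, Ne.symm hu.2]
      · have hv : v ∉ t.1 := mt h2.2 hy
        obtain ⟨a, b, hab, hs⟩ := Finset.card_eq_two.1 s.2
        obtain ⟨c, d, hcd, ht⟩ := Finset.card_eq_two.1 t.2
        rw [hs, Finset.mem_insert, Finset.mem_singleton, not_or] at hx hy
        rw [ht, Finset.mem_insert, Finset.mem_singleton, not_or] at hu hv
        refine ⟨a, b, c, d, hs, ht, fun i j => ?_⟩
        fin_cases i <;> fin_cases j <;> simp [hab, hcd, hab.symm, hcd.symm, hx.1, hx.2, hy.1, hy.2, hu.1, hu.2,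
          hv.1, hv.2, Ne.symm hx.1, Ne.symm hx.2, Ne.symm hy.1, Ne.symm hy.2, Ne.symm hu.1, Ne.symm hu.2,
          Ne.symm hv.1, Ne.symm hv.2, h3, @eq_comm _ y x, @eq_comm _ v u]
  case sur =>
    let e : Fin 4 → Fin n := fun i => ⟨i.1, by omega⟩
    have he : Function.Injective e := fun i j h => Fin.ext (congrArg (Fin.val : Fin n → ℕ) h :)
    rintro ⟨⟨u, v, w⟩, hw⟩
    refine ⟨(⟨{e 0, e 1}, Finset.card_pair (he.ne (by decide))⟩,
      (e (if u then 0 else 2), e (if w then (if u then 0 else 2) else if v then 1 else 3))), Subtype.ext ?_⟩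
    cases u <;> cases v <;> cases w <;> first | (simp at hw; done) | simp_all [I, he.eq_iff]

theorem classInner_fix_one (X : Type*) [MulAction G X] [Finite X] :
    classInner (fun g : G => (Nat.card (MulAction.fixedBy X g) : ℂ)) 1 =
      (Nat.card (Quotient (MulAction.orbitRel G X)) : ℂ) := classInner_permChar_one X

theorem classInner_symm_nat {φ ψ : G → ℂ} {k : ℕ} (h : classInner φ ψ = k) : classInner ψ φ = k := by
  have h' := congrArg (starRingEnd ℂ) h
  rw [map_natCast] at h'
  rw [← h']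
  simp only [classInner, map_mul, map_inv₀, map_natCast, map_sum, Complex.conj_conj]
  exact congrArg _ (Finset.sum_congr rfl fun g _ => mul_comm _ _)

theorem norms (hT : TupleTrans G (Fin n)) (hn : 4 ≤ n) :
    classInner (chi1 G (Fin n)) (chi1 G (Fin n)) = 1 ∧
    classInner (chi22 G (Fin n)) (chi22 G (Fin n)) = 1 ∧
    classInner (chi211 G (Fin n)) (chi211 G (Fin n)) = 1 := by
  have a11 : classInner (1 : G → ℂ) 1 = ((1 : ℕ) : ℂ) := by
    simp [classInner, Nat.card_eq_fintype_card]
  have af1 : classInner (fix1 G (Fin n)) 1 = ((1 : ℕ) : ℂ) := by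
    unfold fix1; rw [classInner_fix_one, orbits_one hT (by omega)]
  have ap1 : classInner (fix2 G (Fin n)) 1 = ((1 : ℕ) : ℂ) := by
    unfold fix2; rw [classInner_fix_one, orbits_pair hT (by omega)]
  have aq1 : classInner (fix1 G (Fin n) * fix1 G (Fin n)) 1 = ((2 : ℕ) : ℂ) := by
    rw [fix1_sq_eq, classInner_fix_one, orbits_two hT (by omega)]
  have aff : classInner (fix1 G (Fin n)) (fix1 G (Fin n)) = ((2 : ℕ) : ℂ) := by
    unfold fix1; rw [classInner_fix, orbits_two hT (by omega)]
  have app : classInner (fix2 G (Fin n)) (fix2 G (Fin n)) = ((3 : ℕ) : ℂ) := by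
    unfold fix2; rw [classInner_fix, orbits_pair_pair hT hn]
  have aqq : classInner (fix1 G (Fin n) * fix1 G (Fin n)) (fix1 G (Fin n) * fix1 G (Fin n)) = ((15 : ℕ) : ℂ) := by
    rw [fix1_sq_eq, classInner_fix, orbits_four hT hn]
  have apf : classInner (fix2 G (Fin n)) (fix1 G (Fin n)) = ((2 : ℕ) : ℂ) := by
    unfold fix2 fix1; rw [classInner_fix, orbits_pair_point hT (by omega)]
  have aqf : classInner (fix1 G (Fin n) * fix1 G (Fin n)) (fix1 G (Fin n)) = ((5 : ℕ) : ℂ) := by
    rw [fix1_sq_eq]; unfold fix1; rw [classInner_fix, orbits_three hT (by omega)]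
  have apq : classInner (fix2 G (Fin n)) (fix1 G (Fin n) * fix1 G (Fin n)) = ((6 : ℕ) : ℂ) := by
    rw [fix1_sq_eq]; unfold fix2; rw [classInner_fix, orbits_pair_two hT hn]
  have b1f := classInner_symm_nat af1
  have b1p := classInner_symm_nat ap1
  have b1q := classInner_symm_nat aq1
  have bfp := classInner_symm_nat apf
  have bfq := classInner_symm_nat aqf
  have bqp := classInner_symm_nat apq
  refine ⟨?_, ?_, ?_⟩
  · simp only [chi1, classInner_sub_left, classInner_sub_right, aff, af1, b1f, a11]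
    norm_num
  · simp only [chi22, classInner_sub_left, classInner_sub_right, app, apf, bfp, aff]
    norm_num
  · simp only [chi211, classInner_sub_left, classInner_sub_right, classInner_add_left, classInner_add_right,
      aqq, app, aff, a11, apq, bqp, aqf, bfq, aq1, b1q, apf, bfp, ap1, b1p, af1, b1f]
    norm_num

theorem isGeneralized (G : Type*) [Group G] [Fintype G] [MulAction G (Fin n)] :
    IsGeneralizedCharacter G (chi1 G (Fin n)) ∧ IsGeneralizedCharacter G (chi22 G (Fin n)) ∧
      IsGeneralizedCharacter G (chi211 G (Fin n)) := by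
  have h1 : IsGeneralizedCharacter G (fix1 G (Fin n)) :=
    IsCharacter.isGeneralizedCharacter (isCharacter_permChar (G := G) (Fin n))
  have h2 : IsGeneralizedCharacter G (fix2 G (Fin n)) :=
    IsCharacter.isGeneralizedCharacter (isCharacter_permChar (G := G) (TwoSet (Fin n)))
  have h0 : IsGeneralizedCharacter G (1 : G → ℂ) :=
    IsCharacter.isGeneralizedCharacter (irr_isCharacter (trivIrr G))
  exact ⟨IsGeneralizedCharacter.sub h1 h0, IsGeneralizedCharacter.sub h2 h1,
    IsGeneralizedCharacter.add (IsGeneralizedCharacter.sub (IsGeneralizedCharacter.sub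
      (IsGeneralizedCharacter.mul h1 h1) h2) (IsGeneralizedCharacter.add h1 h1)) h0⟩

/-- A generalized character of norm one and positive degree is irreducible. -/
theorem isIrr_of_norm {θ : G → ℂ} (hθ : IsGeneralizedCharacter G θ) (h : classInner θ θ = 1)
    {k : ℕ} (hk : 0 < k) (h1 : θ 1 = k) : IsIrrCharacter G θ := by
  obtain ⟨χ, rfl | rfl⟩ := IsGeneralizedCharacter.eq_pm_irr hθ h
  · exact χ.2
  · exfalso
    obtain ⟨m, hm⟩ := IsCharacter.exists_apply_one (irr_isCharacter χ)
    rw [Pi.neg_apply, hm] at h1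
    have : ((k + m : ℕ) : ℂ) = 0 := by push_cast; rw [← h1]; ring
    rw [Nat.cast_eq_zero] at this
    omega

omit [Fintype G] in
/-- Without two-cycles the fixed pairs are the pairs of fixed points. -/
theorem card_fixed_pairs {g : G} (h : ∀ a : Fin n, g • g • a = a → g • a = a) :
    Nat.card (MulAction.fixedBy (TwoSet (Fin n)) g) =
      (Nat.card (MulAction.fixedBy (Fin n) g)).choose 2 := by
  classical
  haveI := Fintype.ofFinite (MulAction.fixedBy (Fin n) g)
  have hfix : ∀ s : TwoSet (Fin n), g • s = s → ∀ a ∈ s.1, g • a = a := by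
    intro s hs a ha
    obtain ⟨b, hab, hse⟩ := exists_other s ha
    have hga : g • a ∈ s.1 := hs ▸ (mem_smul_twoSet g s a).2 ha
    have hgb : g • b ∈ s.1 := hs ▸ (mem_smul_twoSet g s b).2 (by rw [hse]; simp)
    rw [hse, Finset.mem_insert, Finset.mem_singleton] at hga hgb
    rcases hga with e | e
    · exact e
    · rcases hgb with e' | e'
      · exact h a (by rw [e, e'])
      · exact absurd (MulAction.injective g (e.trans e'.symm)) hab
  set F := Finset.univ.filter fun a : Fin n => g • a = a with hF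
  have hFc : F.card = Nat.card (MulAction.fixedBy (Fin n) g) := by
    rw [hF, ← Fintype.card_subtype, ← Nat.card_eq_fintype_card]
    rfl
  rw [← hFc, ← Finset.card_powersetCard, ← Nat.card_eq_finsetCard]
  refine Nat.card_congr
    { toFun := fun s => ⟨s.1.1, Finset.mem_powersetCard.2 ⟨fun a ha => Finset.mem_filter.2
        ⟨Finset.mem_univ a, hfix s.1 s.2 a ha⟩, s.1.2⟩⟩
      invFun := fun t => ⟨⟨t.1, (Finset.mem_powersetCard.1 t.2).2⟩, ?_⟩
      left_inv := fun s => rfl
      right_inv := fun t => rfl }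
  refine Subtype.ext (Finset.eq_of_subset_of_card_le (fun a ha => ?_) ?_)
  · obtain ⟨b, hb, rfl⟩ := Finset.mem_map.1 (show a ∈ t.1.map _ from ha)
    have := (Finset.mem_filter.1 ((Finset.mem_powersetCard.1 t.2).1 hb)).2
    show MulAction.toPerm g b ∈ t.1
    rw [MulAction.toPerm_apply, this]
    exact hb
  · show t.1.card ≤ (t.1.map _).card
    rw [Finset.card_map]

end Cfsg.Agent.Lib.Perm.TwoRowChars
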