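import Cfsg.Agent.Lib.Perm.ZassenhausShape
import Cfsg.Agent.Lib.SylowCounting.RegularLinear
import Mathlib.RingTheory.LittleWedderburn

/-!
Linear groups over the prime field regular on the non-zero vectors: the exceptional cases.
-/

set_option autoImplicit false
set_option linter.style.haveILetI false
set_option linter.unusedSectionVars false

namespace Cfsg.Agent.Lib.Perm.Zassenhaus

open Cfsg.Agent.Lib.Frobenius.Zassenhaus
open Cfsg.Agent.Lib.SylowCounting.RegularLinear (Inv)

variable {p : ℕ} [Fact p.Prime] {V : Type*} [AddCommGroup V] [Module (ZMod p) V] [Finite V]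
  {H : Subgroup (V ≃ₗ[ZMod p] V)}

/-- Regular on non-zero vectors. -/
abbrev Reg (H : Subgroup (V ≃ₗ[ZMod p] V)) : Prop :=
  ∀ v w : V, v ≠ 0 → w ≠ 0 → ∃! h : H, (h : V ≃ₗ[ZMod p] V) v = w

/-- No irreducible cyclic normal subgroup. -/
abbrev Red (H : Subgroup (V ≃ₗ[ZMod p] V)) : Prop :=
  ∀ A : Subgroup H, A.Normal → IsCyclic A →
    ∃ W : Submodule (ZMod p) V, W ≠ ⊥ ∧ W ≠ ⊤ ∧ Inv H A W

theorem finite_of (H : Subgroup (V ≃ₗ[ZMod p] V)) : Finite H :=
  Finite.of_injective (fun e => ((e : V ≃ₗ[ZMod p] V) : V → V))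
    (DFunLike.coe_injective.comp Subtype.val_injective)

theorem fix_eq_one (hreg : Reg H) {h : H} {v : V} (hv : v ≠ 0) (e : (h : V ≃ₗ[ZMod p] V) v = v) : h = 1 :=
  (hreg v v hv hv).unique e rfl

theorem nontrivial_of_red (hI : Red H) : Nontrivial V := by
  obtain ⟨W, h0, h1, -⟩ := hI ⊥ inferInstance inferInstance
  by_contra h
  rw [not_nontrivial_iff_subsingleton] at h
  exact h0 (Subsingleton.elim _ _)

theorem card_add_one (hreg : Reg H) [Nontrivial V] :
    Nat.card H + 1 = p ^ Module.finrank (ZMod p) V := by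
  classical
  obtain ⟨v, hv⟩ := exists_ne (0 : V)
  haveI := Fintype.ofFinite V
  have e : Nat.card H = Nat.card {w : V // w ≠ 0} := by
    refine Nat.card_eq_of_bijective
      (fun h => ⟨(h : V ≃ₗ[ZMod p] V) v, fun e => hv ((h : V ≃ₗ[ZMod p] V).map_eq_zero_iff.mp e)⟩)
      ⟨fun a b e => (hreg v _ hv ?_).unique (congrArg Subtype.val e) rfl, fun w => ?_⟩
    · exact fun e' => hv ((b : V ≃ₗ[ZMod p] V).map_eq_zero_iff.mp e')
    · obtain ⟨h, hh, -⟩ := hreg v w.1 hv w.2
      exact ⟨h, Subtype.ext hh⟩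
  rw [e, Nat.card_eq_fintype_card, Fintype.card_subtype_compl, Fintype.card_subtype_eq,
    ← Nat.card_eq_fintype_card, Module.natCard_eq_pow_finrank (K := ZMod p), Nat.card_zmod]
  have := Nat.one_le_pow (Module.finrank (ZMod p) V) p (Fact.out : p.Prime).pos
  omega

theorem not_dvd_card (hreg : Reg H) [Nontrivial V] : ¬ p ∣ Nat.card H := fun h => by
  have hd : p ∣ p ^ Module.finrank (ZMod p) V := dvd_pow_self _ Module.finrank_pos.ne'
  rw [← card_add_one hreg] at hd
  exact (Fact.out : p.Prime).not_dvd_one ((Nat.dvd_add_right h).mp hd)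

theorem isFPF (hreg : Reg H) [Nontrivial V] : IsFPF H := by
  haveI := finite_of H
  exact IsFPF.of_linear p
    ((LinearEquiv.automorphismGroup.toLinearMapMonoidHom (R := ZMod p) (M := V)).comp H.subtype)
    (fun g hg v e => by_contra fun hv => hg (fix_eq_one hreg hv e)) (not_dvd_card hreg)

/-- The centraliser of an irreducible subgroup is commutative. -/
theorem comm_centralizer (N : Subgroup H)
    (hirr : ∀ W : Submodule (ZMod p) V, Inv H N W → W = ⊥ ∨ W = ⊤) :
    IsMulCommutative (Subgroup.centralizer (N : Set H)) := by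
  rcases subsingleton_or_nontrivial V with hs | hs
  · exact ⟨⟨fun a b => Subtype.ext (Subtype.ext (LinearEquiv.ext fun v => Subsingleton.elim _ _))⟩⟩
  set S : Set (Module.End (ZMod p) V) :=
    Set.range fun n : N => ((n : H) : V ≃ₗ[ZMod p] V).toLinearMap
  set R := Subalgebra.centralizer (ZMod p) S
  have hz : ∀ r : Module.End (ZMod p) V, r ∈ R → r ≠ 0 → Function.Injective r := by
    intro r hr hr0
    rw [← LinearMap.ker_eq_bot]
    refine (hirr _ fun n hn v hv => ?_).resolve_right fun e => hr0 (LinearMap.ext fun v => ?_)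
    · rw [LinearMap.mem_ker] at hv ⊢
      have := DFunLike.congr_fun ((Subalgebra.mem_centralizer_iff _).mp hr _ ⟨⟨n, hn⟩, rfl⟩) v
      simp only [Module.End.mul_apply, LinearEquiv.coe_coe, hv, map_zero] at this
      exact this.symm
    · exact LinearMap.mem_ker.mp (e ▸ Submodule.mem_top)
  haveI : NoZeroDivisors R := ⟨fun {a b} e => by
    by_contra h
    rw [not_or] at h
    refine h.2 (Subtype.ext (LinearMap.ext fun v => ?_))
    apply hz a a.2 (fun e' => h.1 (Subtype.ext e'))
    have := DFunLike.congr_fun (congrArg Subtype.val e) v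
    simpa using this⟩
  haveI : Nontrivial R := ⟨⟨0, 1, fun e => by
    obtain ⟨v, hv⟩ := exists_ne (0 : V)
    exact hv (DFunLike.congr_fun (congrArg Subtype.val e) v).symm⟩⟩
  haveI : IsDomain R := NoZeroDivisors.to_isDomain R
  haveI : Finite (Module.End (ZMod p) V) := Finite.of_injective _ DFunLike.coe_injective
  have hF := Finite.isDomain_to_isField R
  have hmem : ∀ e : H, e ∈ Subgroup.centralizer (N : Set H) →
      ((e : V ≃ₗ[ZMod p] V).toLinearMap : Module.End (ZMod p) V) ∈ R := by
    intro e he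
    rw [Subalgebra.mem_centralizer_iff]
    rintro _ ⟨n, rfl⟩
    exact LinearMap.ext fun v => DFunLike.congr_fun (congrArg Subtype.val (he n n.2)) v
  refine ⟨⟨fun a b => Subtype.ext (Subtype.ext (LinearEquiv.ext fun v => ?_))⟩⟩
  exact DFunLike.congr_fun (congrArg Subtype.val
    (hF.mul_comm (⟨_, hmem a a.2⟩ : R) ⟨_, hmem b b.2⟩)) v

theorem red_of_not_solvable (hreg : Reg H) (hns : ¬ Group.IsSolvable H) : Red H := by
  intro A hAn hAc
  by_contra hno
  simp only [not_exists, not_and] at hno
  haveI := finite_of H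
  haveI := hAn
  haveI := hAc
  haveI := comm_centralizer A fun W hW => by
    by_contra h
    rw [not_or] at h
    exact hno W h.1 h.2 hW
  haveI : Group.IsSolvable (Subgroup.centralizer (A : Set H)) := Group.isSolvable_of_comm fun a b => mul_comm' a b
  haveI : Group.IsSolvable (MulAut A) := Group.isSolvable_of_surjective
    (f := (IsCyclic.mulAutMulEquiv A).symm.toMonoidHom) (IsCyclic.mulAutMulEquiv A).symm.surjective
  refine hns (Group.isSolvable_of_ker_le_range (f := (Subgroup.centralizer (A : Set H)).subtype)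
    (g := MulAut.conjNormal (H := A)) ?_)
  intro g hg
  rw [Subgroup.range_subtype, Subgroup.mem_centralizer_iff]
  intro a ha
  have := congrArg Subtype.val (DFunLike.congr_fun (MonoidHom.mem_ker.mp hg) ⟨a, ha⟩)
  rw [MulAut.conjNormal_apply] at this
  exact (mul_inv_eq_iff_eq_mul.mp this).symm

end Cfsg.Agent.Lib.Perm.Zassenhaus
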