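import Cfsg.Agent.Lib.Frobenius.Zassenhaus.Structure
import Mathlib.GroupTheory.Nilpotent
import Mathlib.GroupTheory.SpecificGroups.Quaternion

/-!
Minimal non-abelian normal subgroups centralising a maximal abelian normal subgroup of a
fixed-point-free group.
-/

set_option autoImplicit false
set_option linter.style.haveILetI false
set_option linter.unusedSectionVars false

namespace Cfsg.Agent.Lib.Perm.Zassenhaus

open Cfsg.Agent.Lib.Frobenius.Zassenhaus

variable {G : Type*} [Group G] [Finite G]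

/-- Quaternion of order eight or `SL(2,5)`. -/
def Shape (N : Type*) [Group N] : Prop :=
  Nonempty (N ≃* QuaternionGroup 2) ∨ Nonempty (N ≃* Matrix.SpecialLinearGroup (Fin 2) (ZMod 5))

theorem exists_four {N : Type*} [Group N] (h : Shape N) :
    ∃ x y : N, x ^ 4 = 1 ∧ x ^ 2 ≠ 1 ∧ x * y ≠ y * x := by
  rcases h with ⟨⟨e⟩⟩ | ⟨⟨e⟩⟩
  · refine ⟨e.symm (.a 1), e.symm (.xa 0), ?_, ?_, ?_⟩
    · rw [← map_pow, show (QuaternionGroup.a 1 : QuaternionGroup 2) ^ 4 = 1 by decide, map_one]
    · rw [← map_pow, Ne, map_eq_one_iff _ e.symm.injective]; decide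
    · rw [← map_mul, ← map_mul, e.symm.injective.eq_iff.ne]; decide
  · let s : Matrix.SpecialLinearGroup (Fin 2) (ZMod 5) := ⟨!![0, -1; 1, 0], by decide⟩
    let t : Matrix.SpecialLinearGroup (Fin 2) (ZMod 5) := ⟨!![1, 1; 0, 1], by decide⟩
    refine ⟨e.symm s, e.symm t, ?_, ?_, ?_⟩
    · rw [← map_pow, show s ^ 4 = 1 by decide, map_one]
    · rw [← map_pow, Ne, map_eq_one_iff _ e.symm.injective]; decide
    · rw [← map_mul, ← map_mul, e.symm.injective.eq_iff.ne]; decide

theorem perfect_sl25 (hG : IsFPF G) [Nontrivial G] (hperf : commutator G = ⊤) :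
    Nonempty (G ≃* Matrix.SpecialLinearGroup (Fin 2) (ZMod 5)) := by
  have hns : ¬ Group.IsSolvable G := fun h => by
    have := Group.IsSolvable.commutator_lt_top_of_nontrivial G
    rw [hperf] at this
    exact lt_irrefl _ this
  obtain ⟨U, M, hUn, hMn, hU, -, -, hMZ, hd, -, hi, -⟩ := hG.nonsolvable hns
  haveI := hUn
  haveI := hMn
  have hUM : U ⊔ M = ⊤ := by
    rcases hi with hi | hi
    · exact Subgroup.index_eq_one.mp hi
    · exfalso
      haveI := Subgroup.normal_of_index_eq_two hi
      haveI : IsCyclic (G ⧸ (U ⊔ M)) := by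
        haveI : Fact (Nat.Prime 2) := ⟨Nat.prime_two⟩
        exact isCyclic_of_prime_card (p := 2) hi
      have hle : commutator G ≤ U ⊔ M :=
        (Subgroup.Normal.quotient_commutative_iff_commutator_le (N := U ⊔ M)).mp IsCyclic.isMulCommutative
      rw [hperf, top_le_iff] at hle
      rw [hle, Subgroup.index_top] at hi
      norm_num at hi
  have hUtop : U = ⊤ := by
    haveI := hMZ
    haveI : Group.IsSolvable (G ⧸ U) :=
      Group.isSolvable_of_surjective (f := (QuotientGroup.mk' U).comp M.subtype) fun y => by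
        obtain ⟨x, rfl⟩ := QuotientGroup.mk'_surjective U y
        have hx : x ∈ U ⊔ M := hUM ▸ Subgroup.mem_top x
        rw [← SetLike.mem_coe, Subgroup.normal_mul] at hx
        obtain ⟨u, hu, m, hm, rfl⟩ := Set.mem_mul.mp hx
        refine ⟨⟨m, hm⟩, ?_⟩
        show QuotientGroup.mk' U m = QuotientGroup.mk' U (u * m)
        rw [map_mul, show QuotientGroup.mk' U u = 1 from (QuotientGroup.eq_one_iff _).mpr hu, one_mul]
    by_contra hne'
    haveI : Nontrivial (G ⧸ U) := QuotientGroup.nontrivial_iff.mpr hne'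
    have hlt := Group.IsSolvable.commutator_lt_top_of_nontrivial (G ⧸ U)
    have h1 : commutator (G ⧸ U) = ⊤ := by
      rw [commutator_def, ← MonoidHom.range_eq_top.mpr (QuotientGroup.mk'_surjective U), MonoidHom.range_eq_map,
        ← Subgroup.map_commutator, ← commutator_def, hperf]
    rw [h1] at hlt
    exact lt_irrefl _ hlt
  obtain ⟨e⟩ := ico_mulEquiv_sl25 hU
  exact ⟨((MulEquiv.subgroupCongr hUtop).trans Subgroup.topEquiv).symm.trans e⟩

/-- A fixed-point-free group all of whose proper characteristic subgroups are central. -/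
theorem shape_of_char_central (hG : IsFPF G) (hna : ¬ IsMulCommutative G)
    (h : ∀ M : Subgroup G, M.Characteristic → M ≠ ⊤ → M ≤ Subgroup.center G) : Shape G := by
  haveI : Nontrivial G := by
    by_contra hn
    rw [not_nontrivial_iff_subsingleton] at hn
    exact hna ⟨⟨fun a b => Subsingleton.elim _ _⟩⟩
  by_cases hp : commutator G = ⊤
  · exact Or.inr (perfect_sl25 hG hp)
  have hZ := h _ inferInstance hp
  haveI hnil : Group.IsNilpotent G := by
    rw [Subgroup.nilpotent_iff_lowerCentralSeries]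
    refine ⟨2, ?_⟩
    rw [eq_bot_iff, Subgroup.lowerCentralSeries_succ, Subgroup.top_lowerCentralSeries_one, Subgroup.commutator_le]
    intro a ha b _
    rw [Subgroup.mem_bot, commutatorElement_eq_one_iff_mul_comm]
    exact ((Subgroup.mem_center_iff.mp (hZ ha)) b).symm
  have hsyl : ∃ (p : ℕ) (_ : Fact p.Prime) (P : Sylow p G), (P : Subgroup G) = ⊤ := by
    by_contra hno
    simp only [not_exists] at hno
    have hall : ∀ (p : ℕ) [Fact p.Prime] (P : Sylow p G), (P : Subgroup G) ≤ Subgroup.center G := by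
      intro p hp P
      haveI := hp
      have hn : (P : Subgroup G).Normal :=
        P.normal_of_normalizerCondition normalizerCondition_of_isNilpotent
      exact h _ (P.characteristic_of_normal hn) (hno p hp P)
    have hd : Nat.card G ∣ Nat.card (Subgroup.center G) := by
      rw [← Nat.factorization_prime_le_iff_dvd Nat.card_pos.ne' Nat.card_pos.ne']
      intro q hq
      haveI := Fact.mk hq
      have := Subgroup.card_dvd_of_le (hall q (Classical.arbitrary (Sylow q G)))
      rw [Sylow.card_eq_multiplicity] at this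
      exact (hq.pow_dvd_iff_le_factorization Nat.card_pos.ne').mp this
    have htop : Subgroup.center G = ⊤ := Subgroup.eq_top_of_card_eq _
      (Nat.dvd_antisymm (Subgroup.card_subgroup_dvd_card _) hd)
    exact hna ⟨⟨fun a b => (Subgroup.mem_center_iff.mp (htop ▸ Subgroup.mem_top b) a)⟩⟩
  obtain ⟨p, hp', P, hP⟩ := hsyl
  haveI := hp'
  have hpG : IsPGroup p (⊤ : Subgroup G) := hP ▸ P.isPGroup'
  rcases hG.sylow_shape ⊤ hpG with hc | ⟨-, m, ⟨e⟩⟩
  · exfalso
    haveI : IsCyclic G := isCyclic_of_surjective Subgroup.topEquiv.toMonoidHom Subgroup.topEquiv.surjective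
    exact hna IsCyclic.isMulCommutative
  let e' : G ≃* QuaternionGroup (2 ^ (m + 1)) := Subgroup.topEquiv.symm.trans e
  have hm : m = 0 := by
    set A := e'.symm (.a 1)
    set X := e'.symm (.xa 0)
    have hc : (A * X * A⁻¹ * X⁻¹) ∈ Subgroup.center G :=
      hZ (by rw [commutator_def, ← commutatorElement_def]
             exact Subgroup.commutator_mem_commutator (Subgroup.mem_top _) (Subgroup.mem_top _))
    have h1 := congrArg e' (Subgroup.mem_center_iff.mp hc X)
    simp only [map_mul, map_inv, A, X, MulEquiv.apply_symm_apply] at h1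
    simp only [show ∀ i, (QuaternionGroup.a i : QuaternionGroup (2 ^ (m + 1)))⁻¹ = .a (-i) from fun i => rfl,
      show ∀ i, (QuaternionGroup.xa i : QuaternionGroup (2 ^ (m + 1)))⁻¹ = .xa (((2 ^ (m + 1) : ℕ) : ZMod (2 * 2 ^ (m + 1))) + i) from fun i => rfl,
      QuaternionGroup.a_mul_xa, QuaternionGroup.xa_mul_a, QuaternionGroup.xa_mul_xa, QuaternionGroup.a_mul_a,
      QuaternionGroup.xa.injEq] at h1
    ring_nf at h1
    have hz : ((2 * 2 ^ (m + 1) : ℕ) : ZMod (2 * 2 ^ (m + 1))) = 0 := ZMod.natCast_self _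
    push_cast at hz h1
    have h4 : ((4 : ℕ) : ZMod (2 * 2 ^ (m + 1))) = 0 := by push_cast; linear_combination h1 - 2 * hz
    have h5 : 2 ^ (m + 2) ∣ 2 ^ 2 := by
      rw [ZMod.natCast_eq_zero_iff] at h4
      rwa [show 2 * 2 ^ (m + 1) = 2 ^ (m + 2) by ring] at h4
    have := (Nat.pow_dvd_pow_iff_le_right (by norm_num)).mp h5
    omega
  subst hm
  exact Or.inl ⟨e'⟩

/-- The minimal non-abelian normal subgroups centralising a maximal abelian normal subgroup. -/
theorem shape_of_minimal (hG : IsFPF G) (A : Subgroup G) (hAn : A.Normal) (hAc : IsMulCommutative A)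
    (hAmax : ∀ B : Subgroup G, B.Normal → IsMulCommutative B → A ≤ B → B = A)
    (N : Subgroup G) (hNn : N.Normal) (hNle : N ≤ Subgroup.centralizer (A : Set G))
    (hNna : ¬ IsMulCommutative N)
    (hNmin : ∀ M : Subgroup G, M.Normal → M ≤ N → ¬ IsMulCommutative M → M = N) : Shape N := by
  refine shape_of_char_central (hG.subgroup N) hNna fun M hM hMt => ?_
  haveI := hM
  haveI := hAn
  haveI := hNn
  set M' := M.map N.subtype with hM'
  have hle : M' ≤ N := Subgroup.map_subtype_le M
  haveI hM'n : M'.Normal := ConjAct.normal_of_characteristic_of_normal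
  have hM'c : IsMulCommutative M' := by
    by_contra hc
    refine hMt (Subgroup.map_injective N.subtype_injective ?_)
    rw [← hM', hNmin _ hM'n hle hc, ← MonoidHom.range_eq_map, Subgroup.range_subtype]
  have h1 : M' ≤ Subgroup.centralizer (A : Set G) := hle.trans hNle
  have h2 : A ≤ Subgroup.centralizer (M' : Set G) := Subgroup.le_centralizer_iff.mp h1
  have hB : IsMulCommutative (M' ⊔ A : Subgroup G) := by
    rw [← Subgroup.le_centralizer_iff_isMulCommutative]
    refine sup_le ?_ ?_ <;> rw [Subgroup.le_centralizer_iff]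
    · exact sup_le (Subgroup.le_centralizer_iff_isMulCommutative.mpr hM'c) h2
    · exact sup_le h1 (Subgroup.le_centralizer_iff_isMulCommutative.mpr hAc)
  have hMA : M' ≤ A := le_sup_left.trans (hAmax _ inferInstance hB le_sup_right).le
  intro x hx
  rw [Subgroup.mem_center_iff]
  intro y
  exact Subtype.ext ((hNle y.2 _ (hMA ⟨x, hx, rfl⟩)).symm)

/-- Nothing outside the centre of `N` commutes with all of `N` and has order four. -/
theorem no_four (hG : IsFPF G) {N : Subgroup G} (hN : Shape N) {c : G}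
    (hc : c ∈ Subgroup.centralizer (N : Set G)) (h4 : c ^ 4 = 1) : c ^ 2 = 1 := by
  by_contra h2
  obtain ⟨x, y, hx4, hx2, hxy⟩ := exists_four hN
  haveI : Fact (Nat.Prime 2) := ⟨Nat.prime_two⟩
  have hoc : orderOf c = 4 := orderOf_eq_prime_pow (p := 2) (n := 1) (by simpa using h2) (by simpa using h4)
  have hox : orderOf (x : G) = 4 := by
    rw [Subgroup.orderOf_coe]
    exact orderOf_eq_prime_pow (p := 2) (n := 1) (by simpa using hx2) (by simpa using hx4)
  have hmem := hG.mem_zpowers_of_commute (a := c) (b := (x : G)) (hc _ x.2).symm (by rw [hoc, hox])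
  refine hxy (Subtype.ext ?_)
  exact ((Subgroup.zpowers_le.mpr hc) hmem y y.2).symm

/-- The centraliser of `N` within the centraliser of `A` is `A`. -/
theorem centralizer_inf_eq (hG : IsFPF G) (A : Subgroup G) (hAn : A.Normal) (hAc : IsMulCommutative A)
    (hAmax : ∀ B : Subgroup G, B.Normal → IsMulCommutative B → A ≤ B → B = A)
    (N : Subgroup G) (hNn : N.Normal) (hNle : N ≤ Subgroup.centralizer (A : Set G)) (hN : Shape N) :
    Subgroup.centralizer (N : Set G) ⊓ Subgroup.centralizer (A : Set G) = A := by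
  haveI := hAn
  haveI := hNn
  set D := Subgroup.centralizer (N : Set G) ⊓ Subgroup.centralizer (A : Set G)
  have hAD : A ≤ D := le_inf (Subgroup.le_centralizer_iff.mp hNle)
    (Subgroup.le_centralizer_iff_isMulCommutative.mpr hAc)
  by_cases hD : IsMulCommutative D
  · exact hAmax D inferInstance hD hAD
  exfalso
  classical
  obtain ⟨M, ⟨hMn, hMD, hMna⟩, hmin⟩ := (Set.toFinite {M : Subgroup G | M.Normal ∧ M ≤ D ∧ ¬ IsMulCommutative M}).exists_minimal ⟨D, ⟨inferInstance, le_rfl, hD⟩⟩
  have hMs : Shape M := shape_of_minimal hG A hAn hAc hAmax M hMn (hMD.trans inf_le_right) hMna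
    fun K hK hKM hKna => le_antisymm hKM (hmin ⟨hK, hKM.trans hMD, hKna⟩ hKM)
  obtain ⟨x, y, hx4, hx2, -⟩ := exists_four hMs
  exact hx2 (Subtype.ext (by
    simpa using no_four hG hN (hMD x.2).1 (by simpa using congrArg Subtype.val hx4)))

theorem exists_minimal_nonabelian {C : Subgroup G} [C.Normal] (hC : ¬ IsMulCommutative C) :
    ∃ N : Subgroup G, N.Normal ∧ N ≤ C ∧ ¬ IsMulCommutative N ∧
      ∀ M : Subgroup G, M.Normal → M ≤ N → ¬ IsMulCommutative M → M = N := by
  classical
  obtain ⟨M, ⟨hMn, hMD, hMna⟩, hmin⟩ := (Set.toFinite {M : Subgroup G | M.Normal ∧ M ≤ C ∧ ¬ IsMulCommutative M}).exists_minimal ⟨C, ⟨inferInstance, le_rfl, hC⟩⟩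
  exact ⟨M, hMn, hMD, hMna,
    fun K hK hKM hKna => le_antisymm hKM (hmin ⟨hK, hKM.trans hMD, hKna⟩ hKM)⟩

theorem exists_maximal_abelian :
    ∃ A : Subgroup G, A.Normal ∧ IsMulCommutative A ∧
      ∀ B : Subgroup G, B.Normal → IsMulCommutative B → A ≤ B → B = A := by
  classical
  obtain ⟨A, ⟨hAn, hAc⟩, hmax⟩ := (Set.toFinite {M : Subgroup G | M.Normal ∧ IsMulCommutative M}).exists_maximal ⟨⊥, ⟨inferInstance, inferInstance⟩⟩
  exact ⟨A, hAn, hAc, fun B hB hBc hAB => le_antisymm (hmax ⟨hB, hBc⟩ hAB) hAB⟩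

end Cfsg.Agent.Lib.Perm.Zassenhaus
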